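import Cfsg.Agent.H2.Mix2
import Cfsg.Agent.FT.PF14c

set_option autoImplicit false
open Cfsg Subgroup CfsgFT CfsgH1
open scoped commutatorElement

namespace CfsgH2
variable {G : Type*} [Group G] [Finite G] {π : Set ℕ}

theorem solv_or {A K : Subgroup G} (h : (Nat.card A).Coprime (Nat.card K)) :
    Group.IsSolvable A ∨ Group.IsSolvable K := by
  rcases Nat.even_or_odd (Nat.card A) with h1 | h1
  · right
    apply CfsgPF.feit_thompson
    rw [← Nat.not_even_iff_odd]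
    intro h2
    have := Nat.dvd_gcd h1.two_dvd h2.two_dvd
    rw [h] at this
    omega
  · exact Or.inl (CfsgPF.feit_thompson h1)

/-- `M` satisfies Hall's condition `D_π` -/
def DP (π : Set ℕ) (M : Subgroup G) : Prop :=
  ∃ H, Hall π H M ∧ ∀ U ≤ M, IsPi π U → ∃ g ∈ M, cj g U ≤ H

theorem DP.of_compl {A M : Subgroup G} (hA : IsPi πᶜ A) (hAM : A ≤ M) (hn : M ≤ N(A))
    (hi : IsPiNum π (A.relIndex M)) : DP π M := by
  have h1 : Hall πᶜ A M := ⟨hAM, hA, by rwa [compl_compl]⟩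
  obtain ⟨H, hH⟩ := h1.exists_compl hn
  rw [compl_compl] at hH
  refine ⟨H, hH, fun U hU hU' => ?_⟩
  have hc := hU'.coprime hA
  obtain ⟨n, hn', h⟩ := sz_le (hH.le.trans hn) (disjoint_iff.2 (by rw [inf_comm]; exact hH.inf_eq h1))
    (B := U) (by rw [sup_comm, hH.sup_eq h1]; exact hU) hc (solv_or hc)
  exact ⟨n, hAM hn', by rwa [cj_eq_smul]⟩

theorem DP.conj {M H K : Subgroup G} (h : DP π M) (hH : Hall π H M) (hK : Hall π K M) :
    ∃ g ∈ M, cj g H = K := by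
  obtain ⟨L, hL, h⟩ := h
  obtain ⟨a, ha, h1⟩ := h H hH.le hH.isPi
  obtain ⟨b, hb, h2⟩ := h K hK.le hK.isPi
  have e1 := ((hH.cj_mem ha).eq_of_le hL.isPi h1 hL.le)
  have e2 := ((hK.cj_mem hb).eq_of_le hL.isPi h2 hL.le)
  exact ⟨b⁻¹ * a, mul_mem (inv_mem hb) ha, by rw [← cj_cj, ← e1, e2, cj_inv_cj]⟩

theorem DP.of_quo {K M : Subgroup G} (hK : IsPi π K ∨ IsPi πᶜ K) (hKM : K ≤ M) (hn : M ≤ N(K))
    (h : DP π (quo K M)) : DP π M := by
  obtain ⟨H, hH, h⟩ := h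
  have key : ∀ U ≤ M, IsPi π U → ∃ g ∈ M, cj g U ≤ unq K H := by
    intro U hU hU'
    obtain ⟨g, hg, h1⟩ := h _ (quo_mono hU) (hU'.quo K)
    obtain ⟨x, hx, rfl⟩ := mem_quo.1 hg
    rw [← quo_cj] at h1
    exact ⟨x, hx, (quo_le_iff ((cj_le_of_norm (le_normalizer hx) hU).trans hn)).1 h1⟩
  rcases hK with hK | hK
  · exact ⟨_, hH.unq hn hKM hK, key⟩
  · have hLM : unq K H ≤ M := unq_le_of_le_quo hn hKM hH.le
    obtain ⟨L, hL, h2⟩ := DP.of_compl hK (le_unq H) (unq_le_norm H) (by rw [relIndex_unq]; exact hH.isPi)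
    refine ⟨L, hL.trans_idx hLM (by rw [relIndex_unq_left hn hKM]; exact hH.idx), fun U hU hU' => ?_⟩
    obtain ⟨g, hg, h3⟩ := key U hU hU'
    obtain ⟨g', hg', h4⟩ := h2 _ h3 (hU'.cj g)
    exact ⟨g' * g, mul_mem (hLM hg') hg, by rwa [← cj_cj]⟩

theorem DP.bot : DP π (⊥ : Subgroup G) :=
  ⟨⊥, Hall.self isPi_bot, fun U hU _ => ⟨1, one_mem _, by rwa [cj_one]⟩⟩

theorem dp_of_series (n : ℕ) : ∀ {G : Type*} [Group G] [Finite G] (M : Subgroup G) (H : ℕ → Subgroup G), H 0 = ⊥ →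
    H n = M → (∀ i < n, H i ≤ H (i + 1)) → (∀ i ≤ n, H i ≤ M ∧ M ≤ N(H i)) →
    (∀ i < n, IsPiNum π ((H i).relIndex (H (i + 1))) ∨ IsPiNum πᶜ ((H i).relIndex (H (i + 1)))) → DP π M := by
  induction n with
  | zero => intro G _ _ M H h0 h1 _ _ _; rw [← h1, h0]; exact DP.bot
  | succ n ih =>
    intro G _ _ M H h0 h1 h2 h3 h4
    have h5 := h4 0 (by omega)
    rw [h0, relIndex_bot_left] at h5
    have hn := (h3 1 (by omega)).2
    have hle : ∀ i ≤ n, H 1 ≤ H (i + 1) := by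
      intro i hi
      induction i with
      | zero => exact le_rfl
      | succ i ih => exact (ih (by omega)).trans (h2 _ (by omega))
    refine DP.of_quo h5 (h3 1 (by omega)).1 hn (ih _ (fun i => quo (H 1) (H (i + 1))) quo_self
      (by rw [h1]) (fun i hi => quo_mono (h2 _ (by omega)))
      (fun i hi => ⟨quo_mono (h3 _ (by omega)).1, quo_le_norm (h3 _ (by omega)).2⟩) fun i hi => ?_)
    rw [relIndex_quo ((h3 _ (by omega)).1.trans hn) ((h3 _ (by omega)).1.trans hn),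
      sup_eq_right.2 (hle i hi.le), sup_eq_right.2 (hle (i + 1) hi)]
    exact h4 _ (by omega)

/-- two-step case used in Čunihin's theorem -/
theorem dp_norm {A L K : Subgroup G} (hK : Hall π K A) (hn : L ≤ N(A)) (hAL : A ≤ L)
    (hi : IsPiNum π (A.relIndex L)) : DP π (L ⊓ N(K)) := by
  have h1 : K ≤ A ⊓ N(K) := le_inf hK.le le_normalizer
  have h2 : A ⊓ N(K) ≤ L ⊓ N(K) := inf_le_inf_right _ hAL
  refine DP.of_quo (Or.inl hK.isPi) (h1.trans h2) inf_le_right (DP.of_compl (A := quo K (A ⊓ N(K)))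
    ((isPi_quo_iff inf_le_right).2 (hK.mono h1 inf_le_left).idx) (quo_mono h2)
    (quo_le_norm (CfsgH1.le_normalizer_inf (inf_le_left.trans hn) (inf_le_right.trans le_normalizer))) ?_)
  rw [relIndex_quo inf_le_right inf_le_right, sup_eq_right.2 h1, sup_eq_right.2 (h1.trans h2)]
  have : (A ⊓ N(K)).relIndex (L ⊓ N(K)) = A.relIndex (L ⊓ N(K)) := by
    rw [← inf_relIndex_right A, ← inf_assoc, inf_eq_left.2 hAL]
  rw [this]
  exact fun q hq hd => hi q hq (hd.trans (relIndex_dvd_of_normal hn inf_le_left))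

/-- Čunihin's theorem -/
theorem cunihin {A M : Subgroup G} (hAM : A ≤ M) (hn : M ≤ N(A)) (h1 : ∃ K, Hall π K A)
    (h2 : ∀ K L, Hall π K A → Hall π L A → ∃ g ∈ A, cj g K = L) (h3 : ∃ K, Hall π K (quo A M))
    (h4 : ∀ K L, Hall π K (quo A M) → Hall π L (quo A M) → ∃ g ∈ quo A M, cj g K = L) :
    (∃ K, Hall π K M) ∧ ∀ K L, Hall π K M → Hall π L M → ∃ g ∈ M, cj g K = L := by
  obtain ⟨K, hK⟩ := h1
  obtain ⟨H, hH⟩ := h3
  have hLM : unq A H ≤ M := unq_le_of_le_quo hn hAM hH.le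
  have hD := dp_norm hK (unq_le_norm H) (le_unq H) (by rw [relIndex_unq]; exact hH.isPi)
  have key : ∀ X, Hall π X M → ∃ g ∈ M, Hall π (cj g X) (unq A H ⊓ N(K)) := by
    intro X hX
    obtain ⟨g, hg, e⟩ := h4 _ _ (hX.quo hn) hH
    obtain ⟨x, hx, rfl⟩ := mem_quo.1 hg
    rw [← quo_cj] at e
    have hX' := hX.cj_mem hx
    obtain ⟨a, ha, e'⟩ := h2 _ _ (hX'.inf_normal hAM hn) hK
    have hX'' := hX'.cj_mem (hAM ha)
    refine ⟨a * x, mul_mem (hAM ha) hx, ?_⟩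
    rw [← cj_cj]
    refine hX''.mono (le_inf ?_ ?_) (inf_le_left.trans hLM)
    · exact cj_le_of_norm (le_normalizer (le_unq H ha)) ((quo_le_iff (hX'.le.trans hn)).1 e.le)
    · rw [← e', cj_inf, cj_eq_of_mem ha]
      exact CfsgH1.le_normalizer_inf le_normalizer (hX''.le.trans hn)
  constructor
  · obtain ⟨X, hX, -⟩ := hD
    refine ⟨X, (hX.trans_idx inf_le_left ?_).trans_idx hLM (by rw [relIndex_unq_left hn hAM]; exact hH.idx)⟩
    have e : A ⊔ (unq A H ⊓ N(K)) = unq A H := by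
      refine le_antisymm (sup_le (le_unq H) inf_le_left) fun g hg => ?_
      obtain ⟨a, ha, e⟩ := h2 _ _ (hK.cj_norm (unq_le_norm H hg)) hK
      rw [cj_cj, cj_eq_iff_mem_normalizer] at e
      rw [show g = a⁻¹ * (a * g) by group]
      exact mul_mem (mem_sup_left (inv_mem ha)) (mem_sup_right (mem_inf.2 ⟨mul_mem (le_unq H ha) hg, e⟩))
    nth_rw 2 [← e]
    rw [relIndex_sup_norm' (inf_le_left.trans (unq_le_norm H))]
    exact fun q hq hd => hK.idx q hq (hd.trans (relIndex_dvd_of_le_left _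
      (le_inf (hK.le.trans (le_unq H)) le_normalizer)))
  · intro X Y hX hY
    obtain ⟨a, ha, h5⟩ := key X hX
    obtain ⟨b, hb, h6⟩ := key Y hY
    obtain ⟨c, hc, e⟩ := hD.conj h5 h6
    exact ⟨b⁻¹ * c * a, mul_mem (mul_mem (inv_mem hb) (hLM hc.1)) ha, by rw [← cj_cj, ← cj_cj, e, cj_inv_cj]⟩

theorem cpi_iff_of_equiv {G' : Type*} [Group G'] [Finite G'] {M : Subgroup G'} (e : G ≃* M) (h : IsCPiGroup π G) :
    (∃ K, Hall π K M) ∧ ∀ K L, Hall π K M → Hall π L M → ∃ g ∈ M, cj g K = L := by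
  let f : G →* G' := M.subtype.comp e.toMonoidHom
  have hf : Function.Injective f := Subtype.val_injective.comp e.injective
  have hM : (⊤ : Subgroup G).map f = M := by
    rw [← Subgroup.map_map, map_top_of_surjective _ e.surjective, ← MonoidHom.range_eq_map, range_subtype]
  have hc : ∀ K, Hall π K M → ∃ K', IsPiHall π K' ∧ K'.map f = K := by
    intro K hK
    have e1 : (K.comap f).map f = K := map_comap_eq_self (by rw [MonoidHom.range_eq_map, hM]; exact hK.le)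
    refine ⟨K.comap f, hall_top_iff.1 ⟨le_top, ?_, ?_⟩, e1⟩
    · have := hK.isPi
      rwa [← e1, IsPi, card_map_of_injective hf] at this
    · have := hK.idx
      rwa [← e1, ← hM, relIndex_map_map_of_injective _ _ hf] at this
  obtain ⟨⟨K, hK⟩, h2⟩ := h
  refine ⟨⟨K.map f, hM ▸ (hall_top_iff.2 hK).map f⟩, fun K L hK hL => ?_⟩
  obtain ⟨K, hK', rfl⟩ := hc K hK
  obtain ⟨L, hL', rfl⟩ := hc L hL
  obtain ⟨g, rfl⟩ := h2 K L hK' hL'
  exact ⟨f g, hM ▸ mem_map_of_mem f (mem_top g), by rw [cj_def, cj_eq_smul, cj_eq_smul, CfsgH1.map_conj_smul]⟩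

end CfsgH2
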