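import Cfsg.Agent.H2.Kreknin
import Cfsg.Agent.H2.Regular

set_option autoImplicit false

/-! The Lie ring attached to the lower central series of a group. -/
open Subgroup
open scoped commutatorElement DirectSum

namespace CfsgH2.Kre

variable {G : Type*} [Group G]

variable (G) in
abbrev γ (i : ℕ) : Subgroup G := (⊤ : Subgroup G).lowerCentralSeries i

theorem comm_mem_γ {i j : ℕ} {g h : G} (hg : g ∈ γ G i) (hh : h ∈ γ G j) : ⁅g, h⁆ ∈ γ G (i + j + 1) :=
  lcs_commutator_le j i (commutator_mem_commutator hg hh)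

theorem comm_mem_γ' {i : ℕ} {g : G} (hg : g ∈ γ G i) (h : G) : ⁅h, g⁆ ∈ γ G (i + 1) := by
  simpa using comm_mem_γ (i := 0) (mem_top h) hg

theorem γ_succ_le (i : ℕ) : γ G (i + 1) ≤ γ G i := Subgroup.lowerCentralSeries_antitone _ (Nat.le_succ i)

variable (G) in
def Q (i : ℕ) : Type _ := γ G i ⧸ (γ G (i + 1)).subgroupOf (γ G i)

instance (i : ℕ) : CommGroup (Q G i) :=
  { (inferInstance : Group (γ G i ⧸ (γ G (i + 1)).subgroupOf (γ G i))) with
    mul_comm := fun a b => by
      induction a using QuotientGroup.induction_on with | _ a => ?_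
      induction b using QuotientGroup.induction_on with | _ b => ?_
      refine QuotientGroup.eq.2 ?_
      have := comm_mem_γ' (inv_mem a.2) (b : G)⁻¹
      simpa [mem_subgroupOf, commutatorElement_def, mul_assoc] using this }

def mkQ (i : ℕ) : γ G i →* Q G i := QuotientGroup.mk' _

variable (G) in
def LG : Type _ := ⨁ i, Additive (Q G i)

instance : AddCommGroup (LG G) := inferInstanceAs (AddCommGroup (⨁ i, Additive (Q G i)))

open Classical in
noncomputable def e (i : ℕ) (g : G) : LG G :=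
  if h : g ∈ γ G i then DirectSum.of (fun i => Additive (Q G i)) i (Additive.ofMul (mkQ i ⟨g, h⟩)) else 0

theorem e_def {i : ℕ} {g : G} (h : g ∈ γ G i) :
    e i g = DirectSum.of (fun i => Additive (Q G i)) i (Additive.ofMul (mkQ i ⟨g, h⟩)) := dif_pos h

theorem e_mul {i : ℕ} {g h : G} (hg : g ∈ γ G i) (hh : h ∈ γ G i) : e i (g * h) = e i g + e i h := by
  rw [e_def hg, e_def hh, e_def (mul_mem hg hh)]
  erw [← map_add]
  rw [← ofMul_mul, ← map_mul]; rfl

theorem e_eq_zero {i : ℕ} {g : G} (hg : g ∈ γ G i) : e i g = 0 ↔ g ∈ γ G (i + 1) := by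
  rw [e_def hg]
  erw [map_eq_zero_iff _ (DirectSum.of_injective i)]
  exact (QuotientGroup.eq_one_iff _).trans mem_subgroupOf

theorem e_zero {i : ℕ} {g : G} (hg : g ∈ γ G (i + 1)) : e i g = 0 := (e_eq_zero (γ_succ_le i hg)).2 hg

theorem e_one (i : ℕ) : e i (1 : G) = 0 := e_zero (one_mem _)

theorem e_inv {i : ℕ} {g : G} (hg : g ∈ γ G i) : e i g⁻¹ = - e i g := by
  rw [eq_neg_iff_add_eq_zero, ← e_mul (inv_mem hg) hg, inv_mul_cancel, e_one]

theorem e_pow {i : ℕ} {g : G} (hg : g ∈ γ G i) (n : ℕ) : e i (g ^ n) = n • e i g := by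
  induction n with
  | zero => simp [e_one]
  | succ n ih => rw [pow_succ, e_mul (pow_mem hg n) hg, ih, succ_nsmul]

theorem e_conj {i : ℕ} {g : G} (hg : g ∈ γ G i) (h : G) : e i (h * g * h⁻¹) = e i g := by
  have : h * g * h⁻¹ = ⁅h, g⁆ * g := by simp [commutatorElement_def]
  rw [this, e_mul (γ_succ_le i (comm_mem_γ' hg h)) hg, e_zero (comm_mem_γ' hg h), zero_add]

@[elab_as_elim]
theorem LG_induction {P : LG G → Prop} (x : LG G) (he : ∀ i, ∀ g ∈ γ G i, P (e i g))
    (hadd : ∀ x y, P x → P y → P (x + y)) : P x := by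
  induction x using DirectSum.induction_on with
  | zero => exact e_one (G := G) 0 ▸ he 0 1 (one_mem _)
  | of i x =>
    obtain ⟨g, hg⟩ := QuotientGroup.mk'_surjective _ (Additive.toMul x)
    have := he i g g.2
    rw [e_def g.2] at this
    obtain rfl : x = Additive.ofMul (mkQ i g) := congrArg Additive.ofMul hg.symm
    exact this
  | add x y hx hy => exact hadd x y hx hy

theorem LG_ext {T : Type*} [AddCommGroup T] {f f' : LG G →+ T} (h : ∀ i, ∀ g ∈ γ G i, f (e i g) = f' (e i g)) :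
    f = f' := by
  ext x
  induction x using LG_induction with
  | he i g hg => exact h i g hg
  | hadd x y hx hy => rw [map_add, map_add, hx, hy]

theorem exists_lift {T : Type*} [AddCommGroup T] (F : ℕ → G → T)
    (hadd : ∀ i, ∀ g ∈ γ G i, ∀ h ∈ γ G i, F i (g * h) = F i g + F i h)
    (h0 : ∀ i, ∀ g ∈ γ G (i + 1), F i g = 0) : ∃ f : LG G →+ T, ∀ i, ∀ g ∈ γ G i, f (e i g) = F i g := by
  let f0 : ∀ i, γ G i →* Multiplicative T := fun i => MonoidHom.mk' (fun g => Multiplicative.ofAdd (F i g))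
    fun a b => by rw [← ofAdd_add, ← hadd i _ a.2 _ b.2]; rfl
  let f1 : ∀ i, Q G i →* Multiplicative T := fun i => QuotientGroup.lift _ (f0 i) fun g hg =>
    congrArg Multiplicative.ofAdd (h0 i g hg)
  refine ⟨DirectSum.toAddMonoid fun i => MonoidHom.toAdditiveLeft (f1 i), fun i g hg => ?_⟩
  rw [e_def hg]
  erw [DirectSum.toAddMonoid_of]
  rfl

theorem e_comm_mul_right {i j : ℕ} {g h k : G} (hg : g ∈ γ G i) (hh : h ∈ γ G j) (hk : k ∈ γ G j) :
    e (i + j + 1) ⁅g, h * k⁆ = e (i + j + 1) ⁅g, h⁆ + e (i + j + 1) ⁅g, k⁆ := by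
  have : ⁅g, h * k⁆ = ⁅g, h⁆ * (h * ⁅g, k⁆ * h⁻¹) := by simp only [commutatorElement_def]; group
  rw [this, e_mul (comm_mem_γ hg hh) (Normal.conj_mem inferInstance _ (comm_mem_γ hg hk) h),
    e_conj (comm_mem_γ hg hk)]

theorem e_comm_mul_left {i j : ℕ} {g h k : G} (hg : g ∈ γ G i) (hh : h ∈ γ G i) (hk : k ∈ γ G j) :
    e (i + j + 1) ⁅g * h, k⁆ = e (i + j + 1) ⁅g, k⁆ + e (i + j + 1) ⁅h, k⁆ := by
  have : ⁅g * h, k⁆ = (g * ⁅h, k⁆ * g⁻¹) * ⁅g, k⁆ := by simp only [commutatorElement_def]; group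
  rw [this, e_mul (Normal.conj_mem inferInstance _ (comm_mem_γ hh hk) g) (comm_mem_γ hg hk),
    e_conj (comm_mem_γ hh hk), add_comm]

variable (G) in
theorem exists_brk : ∃ B : LG G →+ LG G →+ LG G, ∀ i, ∀ g ∈ γ G i, ∀ j, ∀ h ∈ γ G j,
    B (e i g) (e j h) = e (i + j + 1) ⁅g, h⁆ := by
  have h1 : ∀ i g, ∃ f : LG G →+ LG G, g ∈ γ G i → ∀ j, ∀ h ∈ γ G j, f (e j h) = e (i + j + 1) ⁅g, h⁆ := by
    intro i g
    by_cases hg : g ∈ γ G i
    · obtain ⟨f, hf⟩ := exists_lift (fun j h => e (i + j + 1) ⁅g, h⁆)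
        (fun j h hh k hk => e_comm_mul_right hg hh hk) (fun j h hh => e_zero (comm_mem_γ (j := j + 1) hg hh))
      exact ⟨f, fun _ => hf⟩
    · exact ⟨0, fun h => absurd h hg⟩
  choose F hF using h1
  obtain ⟨B, hB⟩ := exists_lift F (fun i g hg h hh => LG_ext fun j k hk => by
      rw [AddMonoidHom.add_apply, hF _ _ hg _ _ hk, hF _ _ hh _ _ hk, hF _ _ (mul_mem hg hh) _ _ hk,
        e_comm_mul_left hg hh hk])
    (fun i g hg => LG_ext fun j k hk => by
      rw [hF _ _ (γ_succ_le i hg) _ _ hk, AddMonoidHom.zero_apply]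
      exact e_zero (by have := comm_mem_γ hg hk; rwa [add_right_comm i 1 j] at this))
  exact ⟨B, fun i g hg j h hh => by rw [hB i g hg, hF _ _ hg _ _ hh]⟩

noncomputable def brk : LG G →+ LG G →+ LG G := (exists_brk G).choose

theorem brk_e {i j : ℕ} {g h : G} (hg : g ∈ γ G i) (hh : h ∈ γ G j) :
    brk (e i g) (e j h) = e (i + j + 1) ⁅g, h⁆ := (exists_brk G).choose_spec i g hg j h hh

theorem brk_skew (x y : LG G) : brk x y = - brk y x := by
  induction x using LG_induction with
  | hadd x x' h1 h2 => simp only [map_add, AddMonoidHom.add_apply, h1, h2, neg_add]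
  | he i g hg =>
  induction y using LG_induction with
  | hadd y y' h1 h2 => simp only [map_add, AddMonoidHom.add_apply, h1, h2, neg_add]
  | he j h hh =>
    rw [brk_e hg hh, brk_e hh hg, ← e_inv (comm_mem_γ hh hg), commutatorElement_inv, add_comm i j]

theorem brk_self (x : LG G) : brk x x = 0 := by
  induction x using LG_induction with
  | hadd x y h1 h2 =>
    simp only [map_add, AddMonoidHom.add_apply, h1, h2, brk_skew x y]; abel
  | he i g hg => rw [brk_e hg hg, commutatorElement_self, e_one]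

theorem brk_jacobi (x y z : LG G) : brk (brk x y) z + brk (brk y z) x + brk (brk z x) y = 0 := by
  induction x using LG_induction with
  | hadd x x' h1 h2 =>
    simp only [map_add, AddMonoidHom.add_apply]
    rw [← add_zero 0]; nth_rw 1 [← h1]; rw [← h2]; abel
  | he i g hg =>
  induction y using LG_induction with
  | hadd x x' h1 h2 =>
    simp only [map_add, AddMonoidHom.add_apply]
    rw [← add_zero 0]; nth_rw 1 [← h1]; rw [← h2]; abel
  | he j h hh =>
  induction z using LG_induction with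
  | hadd x x' h1 h2 =>
    simp only [map_add, AddMonoidHom.add_apply]
    rw [← add_zero 0]; nth_rw 1 [← h1]; rw [← h2]; abel
  | he k l hl =>
    have c : ∀ {i} {g : G}, g ∈ γ G i → ∀ h, h * g * h⁻¹ ∈ γ G i := fun hg h =>
      Normal.conj_mem inferInstance _ hg h
    have a1 := comm_mem_γ (comm_mem_γ hg hh) (c hl h)
    have a2 := comm_mem_γ (comm_mem_γ hh hl) (c hg l)
    have a3 := comm_mem_γ (comm_mem_γ hl hg) (c hh g)
    rw [brk_e hg hh, brk_e hh hl, brk_e hl hg, ← e_conj hl h, ← e_conj hg l, ← e_conj hh g,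
      brk_e (comm_mem_γ hg hh) (c hl h), brk_e (comm_mem_γ hh hl) (c hg l), brk_e (comm_mem_γ hl hg) (c hh g)]
    rw [show j + k + 1 + i + 1 = i + j + 1 + k + 1 by ring] at a2 ⊢
    rw [show k + i + 1 + j + 1 = i + j + 1 + k + 1 by ring] at a3 ⊢
    rw [← e_mul a1 a2, ← e_mul (mul_mem a1 a2) a3, ← e_one (G := G)]
    congr 1
    simp only [commutatorElement_def]; group

noncomputable instance : LieRing (LG G) where
  bracket x y := brk x y
  add_lie x y z := by show brk (x + y) z = brk x z + brk y z; simp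
  lie_add x y z := by show brk x (y + z) = brk x y + brk x z; simp
  lie_self := brk_self
  leibniz_lie x y z := by
    show brk x (brk y z) = brk (brk x y) z + brk y (brk x z)
    have := brk_jacobi x y z
    rw [brk_skew x (brk y z), brk_skew y (brk x z), brk_skew x z, map_neg, AddMonoidHom.neg_apply, neg_neg,
      neg_eq_iff_add_eq_zero, ← this]
    abel

theorem lie_e {i j : ℕ} {g h : G} (hg : g ∈ γ G i) (hh : h ∈ γ G j) :
    ⁅e i g, e j h⁆ = e (i + j + 1) ⁅g, h⁆ := brk_e hg hh

theorem aut_mem_γ (α : MulAut G) {i : ℕ} {g : G} (hg : g ∈ γ G i) : α g ∈ γ G i :=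
  (characteristic_iff_le_comap.1 (inferInstance : (γ G i).Characteristic) α) hg

theorem exists_aut (α : MulAut G) : ∃ f : LG G →+ LG G, (∀ i, ∀ g ∈ γ G i, f (e i g) = e i (α g)) ∧
    ∀ x y, f ⁅x, y⁆ = ⁅f x, f y⁆ := by
  obtain ⟨f, hf⟩ := exists_lift (fun i g => e i (α g))
    (fun i g hg h hh => by rw [map_mul, e_mul (aut_mem_γ α hg) (aut_mem_γ α hh)])
    (fun i g hg => e_zero (aut_mem_γ α hg))
  refine ⟨f, hf, fun x y => ?_⟩
  induction x using LG_induction with
  | hadd x x' h1 h2 => simp only [map_add, add_lie, h1, h2]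
  | he i g hg =>
  induction y using LG_induction with
  | hadd y y' h1 h2 => simp only [map_add, lie_add, h1, h2]
  | he j h hh =>
    rw [lie_e hg hh, hf _ _ hg, hf _ _ hh, hf _ _ (comm_mem_γ hg hh), lie_e (aut_mem_γ α hg) (aut_mem_γ α hh),
      map_commutatorElement]

open TensorProduct in
/-- eigenspace decomposition after extending scalars -/
theorem lie_bound {L : Type*} [LieRing L] {p : ℕ} [NeZero p] (hp : p.Prime) {R : Type*} [CommRing R] (T : ZMod p → R)
    (hT : ∀ i j, T i * T j = T (i + j)) (hT0 : T 0 = 1) (lam : R →ₗ[ℤ] ℤ) (h3 : lam (p - ∑ i, T i) = -1)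
    (f : L →+ L) (hf : ∀ x y, f ⁅x, y⁆ = ⁅f x, f y⁆)
    (hfp : ∀ x, f^[p] x = x) (hN : ∀ x, ∑ k ∈ Finset.range p, f^[k] x = 0) {n : ℕ} (hn : n.Coprime p)
    (hL : ∀ x : L, n • x = 0) (c : ℕ)
    (H : ∀ A : ZMod p → AddSubgroup (R ⊗[ℤ] L), br A A ≤ A → A 0 = ⊥ → lcs A c = ⊥)
    (W : ℕ → AddSubgroup L) (hW : ∀ m, W (m + 1) ≤ AddSubgroup.closure {z | ∃ x ∈ W m, ∃ y, ⁅x, y⁆ = z}) :
    W c = ⊥ := by
  classical
  haveI := Fact.mk hp
  have la : ∀ u v w : R ⊗[ℤ] L, ⁅u, v + w⁆ = ⁅u, v⁆ + ⁅u, w⁆ := fun u v w => LieRing.lie_add u v w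
  have lz : ∀ u : R ⊗[ℤ] L, ⁅u, (0 : R ⊗[ℤ] L)⁆ = 0 := fun u => by simpa using la u 0 0
  have ls : ∀ (r : R) (u v : R ⊗[ℤ] L), ⁅u, r • v⁆ = r • ⁅u, v⁆ := fun r u v => LieAlgebra.lie_smul r u v
  have sl : ∀ (r : R) (u v : R ⊗[ℤ] L), ⁅r • u, v⁆ = r • ⁅u, v⁆ := fun r u v => by
    have h1 : ∀ u v : R ⊗[ℤ] L, ⁅u, v⁆ = -⁅v, u⁆ := fun u v => (lie_skew u v).symm
    rw [h1, ls, h1 u v, smul_neg]
  let Φ : R ⊗[ℤ] L →ₗ[R] R ⊗[ℤ] L := f.toIntLinearMap.baseChange R
  have hΦ : ∀ r x, Φ (r ⊗ₜ x) = r ⊗ₜ f x := fun r x => rfl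
  have hΦl : ∀ u v, Φ ⁅u, v⁆ = ⁅Φ u, Φ v⁆ := by
    intro u v
    induction u with
    | zero => simp
    | add u u' h1 h2 => simp only [add_lie, map_add, h1, h2]
    | tmul r x =>
    induction v with
    | zero => simp [lz]
    | add u u' h1 h2 => simp only [la, map_add, h1, h2]
    | tmul s y => simp only [LieAlgebra.ExtendScalars.bracket_tmul, hΦ, hf]
  let A : ZMod p → AddSubgroup (R ⊗[ℤ] L) := fun i =>
    { carrier := {v | Φ v = T i • v}
      add_mem' := fun {a b} h1 h2 => by
        show Φ (a + b) = T i • (a + b)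
        rw [map_add, smul_add, h1, h2]
      zero_mem' := by simp
      neg_mem' := fun {a} h1 => by
        show Φ (-a) = T i • (-a)
        rw [map_neg, smul_neg, h1] }
  have hA : br A A ≤ A := br_le fun i j a ha b hb => by
    show Φ _ = _
    rw [hΦl, ha, hb, sl, ls, smul_smul, hT]
  have hit : ∀ k r x, Φ^[k] (r ⊗ₜ x) = r ⊗ₜ f^[k] x := by
    intro k r x
    induction k with
    | zero => rfl
    | succ k ih => rw [Function.iterate_succ_apply', Function.iterate_succ_apply', ih, hΦ]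
  have h0 : A 0 = ⊥ := by
    rw [eq_bot_iff]
    intro v hv
    have hv : Φ v = v := by
      have : Φ v = T 0 • v := hv
      rwa [hT0, one_smul] at this
    have h1 : ∀ v, ∑ k ∈ Finset.range p, Φ^[k] v = 0 := by
      intro v
      induction v with
      | zero => simp
      | add u u' h1 h2 => simp only [iterate_map_add, Finset.sum_add_distrib, h1, h2, add_zero]
      | tmul r x => simp only [hit, ← tmul_sum, hN, tmul_zero]
    have h2 : ∀ v : R ⊗[ℤ] L, n • v = 0 := by
      intro v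
      induction v with
      | zero => simp
      | add u u' h1 h2 => rw [smul_add, h1, h2, add_zero]
      | tmul r x => rw [← tmul_smul, hL, tmul_zero]
    refine (nsmul_eq_zero_iff_of_coprime hn).1 ⟨h2 v, ?_⟩
    have := h1 v
    simpa [Function.iterate_fixed hv] using this
  have hc := H A hA h0
  obtain ⟨N, hNd⟩ : ∃ N, N = ∑ i, T i := ⟨_, rfl⟩
  rw [← hNd] at h3
  have hNT : ∀ i, N * T i = N := fun i => by
    simp only [hNd, Finset.sum_mul, hT]
    exact Fintype.sum_equiv (Equiv.addRight i) _ _ fun _ => rfl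
  have hθ : ((p : R) - N) * (p - N) = p • (p - N) := by
    have : N * N = p * N := by
      nth_rw 2 [hNd]
      rw [Finset.mul_sum]; simp [hNT]
    rw [nsmul_eq_mul]; linear_combination this
  have hgen : ∀ x : L, ((p : R) - N) ⊗ₜ[ℤ] x ∈ ⨆ i, A i := by
    intro x
    obtain ⟨q, rfl⟩ : ∃ q, p = q + 1 := ⟨p - 1, by have := hp.pos; omega⟩
    have h1 : ∀ i, ∑ k ∈ Finset.range (q + 1), T (-(i * k)) ⊗ₜ[ℤ] f^[k] x ∈ A i := by
      intro i
      show Φ _ = _
      have e1 := Finset.sum_range_succ (fun k : ℕ => T (-(i * k)) ⊗ₜ[ℤ] f^[k] x) (q + 1)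
      rw [Finset.sum_range_succ' _ (q + 1), hfp, ZMod.natCast_self] at e1
      simp only [Nat.cast_zero, Function.iterate_zero, id_eq, add_left_inj] at e1
      nth_rw 2 [← e1]
      rw [map_sum, Finset.smul_sum]
      refine Finset.sum_congr rfl fun k _ => ?_
      rw [hΦ, smul_tmul', smul_eq_mul, hT, Function.iterate_succ_apply']
      congr 2
      push_cast; ring
    have h2 : ∑ i, ∑ k ∈ Finset.range (q + 1), T (-(i * k)) ⊗ₜ[ℤ] f^[k] x = (((q + 1 : ℕ) : R) - N) ⊗ₜ[ℤ] x := by
      rw [Finset.sum_comm, Finset.sum_range_succ']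
      have e1 : ∀ k ∈ Finset.range q, ∑ i : ZMod (q + 1), T (-(i * (k + 1 : ℕ))) ⊗ₜ[ℤ] f^[k + 1] x =
          N ⊗ₜ[ℤ] f^[k + 1] x := by
        intro k hk
        rw [← sum_tmul, hNd]
        congr 1
        have : ((k + 1 : ℕ) : ZMod (q + 1)) ≠ 0 := by
          rw [Ne, ZMod.natCast_eq_zero_iff]
          exact Nat.not_dvd_of_pos_of_lt (by omega) (by have := Finset.mem_range.1 hk; omega)
        exact Fintype.sum_equiv ((Equiv.mulRight₀ _ this).trans (Equiv.neg _)) _ _ fun _ => rfl
      have e2 := hN x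
      rw [Finset.sum_range_succ', ← eq_neg_iff_add_eq_zero] at e2
      rw [Finset.sum_congr rfl e1, ← tmul_sum, e2]
      simp only [Nat.cast_zero, mul_zero, neg_zero, hT0, Function.iterate_zero, id_eq, ← sum_tmul, Finset.sum_const,
        Finset.card_univ, ZMod.card, sub_tmul, tmul_neg]
      rw [smul_tmul', nsmul_eq_mul, mul_one]
      abel
    rw [← h2]
    exact sum_mem fun i _ => AddSubgroup.mem_iSup_of_mem i (h1 i)
  have key : ∀ m, ∀ x ∈ W m, p ^ m • (((p : R) - N) ⊗ₜ[ℤ] x) ∈ ⨆ i, lcs A m i := by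
    intro m
    induction m with
    | zero => intro x _; rw [pow_zero, one_smul]; exact hgen x
    | succ m ih =>
      intro x hx
      replace hx := hW m hx
      induction hx using AddSubgroup.closure_induction with
      | zero => simp
      | add x y _ _ h1 h2 => rw [tmul_add, smul_add]; exact add_mem h1 h2
      | neg x _ h1 => rw [tmul_neg, smul_neg]; exact neg_mem h1
      | mem z hz =>
        obtain ⟨x, hx, y, rfl⟩ := hz
        have : p ^ (m + 1) • (((p : R) - N) ⊗ₜ[ℤ] ⁅x, y⁆) =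
            ⁅p ^ m • (((p : R) - N) ⊗ₜ[ℤ] x), ((p : R) - N) ⊗ₜ[ℤ] y⁆ := by
          rw [nsmul_lie, LieAlgebra.ExtendScalars.bracket_tmul, hθ, pow_succ, mul_smul, smul_tmul']
        rw [this]
        generalize p ^ m • (((p : R) - N) ⊗ₜ[ℤ] x) = u, ih x hx = hu, ((p : R) - N) ⊗ₜ[ℤ] y = v, hgen y = hv
        induction hu using AddSubgroup.iSup_induction' with
        | hp i u hu =>
          induction hv using AddSubgroup.iSup_induction' with
          | hp j v hv => exact AddSubgroup.mem_iSup_of_mem (i + j) (lie_mem_br hu hv)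
          | h1 => rw [lz]; exact zero_mem _
          | hadd a b _ _ h1 h2 => rw [la]; exact add_mem h1 h2
        | h1 => simp
        | hadd a b _ _ h1 h2 => rw [add_lie]; exact add_mem h1 h2
  rw [eq_bot_iff]
  intro x hx
  have h1 := key c x hx
  simp only [hc, Pi.bot_apply, iSup_bot, AddSubgroup.mem_bot] at h1
  have h2 := congrArg (fun v => TensorProduct.lid ℤ L (TensorProduct.map lam LinearMap.id v)) h1
  simp only [map_nsmul, map_tmul, h3, LinearMap.id_apply, lid_tmul, map_zero, neg_smul, one_smul, smul_neg,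
    neg_eq_zero] at h2
  exact (nsmul_eq_zero_iff_of_coprime (hn.pow_right c)).1 ⟨hL x, h2⟩

universe u

theorem group_bound {G : Type u} [Group G] [Finite G] {p : ℕ} (hp : p.Prime) (α : MulAut G) (hα : α ^ p = 1)
    (hfpf : ∀ g : G, α g = g → g = 1) (hnil : Group.IsNilpotent G) (c : ℕ)
    (H : ∀ (M : Type u) [LieRing M] (A : ZMod p → AddSubgroup M), br A A ≤ A → A 0 = ⊥ → lcs A c = ⊥) :
    γ G c = ⊥ := by
  classical
  haveI := Fact.mk hp
  obtain ⟨f, hf, hf'⟩ := exists_aut α
  have hit : ∀ k i, ∀ g ∈ γ G i, f^[k] (e i g) = e i ((α ^ k) g) := by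
    intro k i g hg
    induction k with
    | zero => rfl
    | succ k ih => rw [Function.iterate_succ_apply', ih, hf _ _ (aut_mem_γ _ hg), pow_succ', MulAut.mul_apply]
  have e0 : ∀ n g, α^[n] g = (α ^ n) g := by
    intro n g
    induction n with
    | zero => rfl
    | succ k ih => rw [pow_succ', MulAut.mul_apply, ← ih, Function.iterate_succ_apply']
  have hcop : (Nat.card G).Coprime p := by
    haveI := Fintype.ofFinite G
    have h1 := Equiv.Perm.card_fixedPoints_modEq (f := (α : G → G)) (p := p) (n := 1) (by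
      rw [pow_one]; funext x
      have : ∀ k, ((show Function.End G from (α : G → G)) ^ k) x = (α ^ k) x := by
        intro k
        induction k with
        | zero => rfl
        | succ k ih => rw [pow_succ', pow_succ', MulAut.mul_apply, ← ih]; rfl
      rw [this, hα]; rfl)
    have h2 : Fintype.card (Function.fixedPoints (α : G → G)) = 1 :=
      Fintype.card_eq_one_iff.2 ⟨⟨1, map_one α⟩, fun x => Subtype.ext (hfpf _ x.2)⟩
    rw [h2, ← Nat.card_eq_fintype_card] at h1
    rw [Nat.coprime_comm, hp.coprime_iff_not_dvd]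
    intro h
    exact hp.not_dvd_one ((h1.dvd_iff dvd_rfl).1 h)
  have := lie_bound (R := AddMonoidAlgebra ℤ (ZMod p)) hp (fun i => AddMonoidAlgebra.single i 1)
    (fun i j => by simp only [AddMonoidAlgebra.single_mul_single, mul_one]) rfl
    ((Finsupp.lapply 1).comp (AddMonoidAlgebra.coeffLinearEquiv ℤ).toLinearMap) ?_ f hf' ?_ ?_ hcop ?_ c (H _)
    (fun m => AddSubgroup.closure (e m '' γ G m)) ?_
  · obtain ⟨n, hn⟩ := Subgroup.nilpotent_iff_lowerCentralSeries.1 hnil
    have h1 : γ G c ≤ γ G (c + 1) := fun g hg => (e_eq_zero hg).1 (by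
      rw [← AddSubgroup.mem_bot, ← this]; exact AddSubgroup.subset_closure ⟨g, hg, rfl⟩)
    have h2 : ∀ m, γ G c ≤ γ G (c + m) := by
      intro m
      induction m with
      | zero => exact le_rfl
      | succ m ih => exact h1.trans (commutator_mono ih le_rfl)
    exact le_bot_iff.1 ((h2 n).trans (hn ▸ Subgroup.lowerCentralSeries_antitone _ (Nat.le_add_left n c)))
  · simp [AddMonoidAlgebra.natCast_def, Finsupp.single_apply]
  · intro x
    induction x using LG_induction with
    | hadd x y h1 h2 => rw [iterate_map_add, h1, h2]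
    | he i g hg => rw [hit _ _ _ hg, hα]; rfl
  · intro x
    induction x using LG_induction with
    | hadd x y h1 h2 => simp only [iterate_map_add, Finset.sum_add_distrib, h1, h2, add_zero]
    | he i g hg =>
      have h1 : ∀ n, ((List.range n).map fun k => α^[k] g).prod ∈ γ G i ∧
          ∑ k ∈ Finset.range n, f^[k] (e i g) = e i ((List.range n).map fun k => α^[k] g).prod := by
        intro n
        induction n with
        | zero => simp [e_one]
        | succ n ih =>
          rw [List.range_succ, List.map_append, List.prod_append, Finset.sum_range_succ, ih.2, hit _ _ _ hg]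
          simp only [List.map_cons, List.map_nil, List.prod_cons, List.prod_nil, mul_one, e0 n]
          exact ⟨mul_mem ih.1 (aut_mem_γ _ hg), (e_mul ih.1 (aut_mem_γ _ hg)).symm⟩
      rw [(h1 p).2, MonoidHom.FixedPointFree.prod_pow_eq_one (φ := α) hfpf (funext fun x => by rw [e0, hα]; rfl), e_one]
  · intro x
    induction x using LG_induction with
    | hadd x y h1 h2 => rw [smul_add, h1, h2, add_zero]
    | he i g hg => rw [← e_pow hg, pow_card_eq_one', e_one]
  · intro m
    refine (AddSubgroup.closure_le _).2 ?_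
    rintro _ ⟨g, hg, rfl⟩
    replace hg : g ∈ Subgroup.closure _ := hg
    induction hg using Subgroup.closure_induction with
    | mem x hx =>
      obtain ⟨a, ha, b, hb, rfl⟩ := hx
      exact AddSubgroup.subset_closure ⟨e m a, AddSubgroup.subset_closure ⟨a, ha, rfl⟩, e 0 b, lie_e ha hb⟩
    | one => rw [e_one]; exact zero_mem _
    | mul x y hx hy h1 h2 => rw [e_mul hx hy]; exact add_mem h1 h2
    | inv x hx h1 => rw [e_inv hx]; exact neg_mem h1

end CfsgH2.Kre
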