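import Cfsg.Agent.H2.JC1
import Cfsg.Agent.H2.Transfer
import Cfsg.Agent.H8.BSW7

/-! An abelian Sylow 3-subgroup with a TI centralizer of order `2|P|`. -/

set_option autoImplicit false
set_option linter.unusedSectionVars false
set_option linter.style.haveILetI false

namespace CfsgH2

open Subgroup Cfsg CfsgFT CfsgH8
open scoped commutatorElement Pointwise

theorem ab3_not_simple {G : Type*} [Group G] [Finite G] {P : Subgroup G} (hP : IsSylowIn 3 P ⊤)
    (hab : P ≤ C(P)) (hN : Nat.card N(P) = 4 * Nat.card P) (hC : Nat.card C(P) = 2 * Nat.card P)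
    (hTI : IsTISubset (C(P) : Set G))
    (heven : ∀ H : Subgroup G, H ≠ ⊤ → 2 ∣ Nat.card H → Nat.card H ∣ 4 * Nat.card P) :
    ¬ IsSimpleGroup G := fun hs => by
  classical
  have := Fintype.ofFinite G
  have m0 : 0 < Nat.card P := Nat.card_pos
  have mo : (Nat.card P).Coprime 2 := by
    obtain ⟨k, hk⟩ := IsPGroup.iff_card.1 hP.pgroup
    exact hk ▸ Nat.Coprime.pow_left k (by decide)
  have nt : C(P) ≠ ⊤ := fun e => by
    have := card_le_of_le (le_top.trans e.ge : N(P) ≤ C(P))
    omega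
  obtain ⟨t, tC, ht⟩ := exists_orderOf_eq_prime Nat.prime_two (hC ▸ Dvd.intro _ rfl : 2 ∣ Nat.card C(P))
  have t2 := mul_self_of_orderOf_two ht
  have t1 := ne_one_of_orderOf_two ht
  have od : ∀ x ∈ P, x * x = 1 → x = 1 := fun x hx x2 => eq_one_of_mem_pgroup_of_coprime hP.pgroup hx
    (Nat.Coprime.coprime_dvd_left (orderOf_dvd_of_pow_eq_one ((sq x).trans x2)) (by decide))
  have i1 : P.relIndex C(P) = 2 := by
    have := CfsgH2.card_mul_relIndex hab
    rw [hC, mul_comm] at this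
    exact Nat.eq_of_mul_eq_mul_right m0 this
  have i2 : C(P).relIndex N(P) = 2 := by
    have := CfsgH2.card_mul_relIndex (cent_le_norm P)
    rw [hC, hN] at this
    exact Nat.eq_of_mul_eq_mul_left (by omega : 0 < 2 * Nat.card P) (by omega)
  have dec : ∀ x ∈ C(P), x ∈ P ∨ x * t ∈ P := fun x hx => by
    have := mul_mem_iff_of_index_two (H := P.subgroupOf C(P)) i1 (a := ⟨x, hx⟩) (b := ⟨t, tC⟩)
    have a : t ∉ P := fun c => t1 (od t c t2)
    simp only [mem_subgroupOf, MulMemClass.mk_mul_mk, a, iff_false] at this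
    tauto
  have tt : ∀ x : G, x = x * t * t := fun x => by rw [mul_assoc, t2, mul_one]
  have CC : C(P) ≤ C1(t) := fun x hx => mem_cent1.2 (by
    rcases dec x hx with a | a
    · exact (tC x a).symm
    · rw [tt x, ← mul_assoc, ← tC _ a])
  have ab : ∀ x ∈ C(P), ∀ y ∈ C(P), x * y = y * x := fun x hx y hy => by
    rcases dec x hx with a | a
    · exact hy x a
    · rw [tt x, mul_assoc, mem_cent1.1 (CC hy), ← mul_assoc, hy _ a, mul_assoc]
  have uq : ∀ x ∈ C(P), orderOf x = 2 → x = t := fun x hx x2 => by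
    rcases dec x hx with a | a
    · exact absurd (od x a (mul_self_of_orderOf_two x2)) (ne_one_of_orderOf_two x2)
    · rw [tt x, od _ a (mul_self_of_commute (mul_self_of_orderOf_two x2) t2 (ab x hx t tC)), one_mul]
  have NP : N(C(P)) ≤ N(P) := fun g hg => mem_normalizer_of_cj_le ((hP.mono hab le_top).le_of_le_normalizer
    (IsPGroup_cj hP.pgroup g) (cj_le_of_norm hg hab) ((cj_le_of_norm hg hab).trans (cent_le_norm P)))
  have ti : ∀ x ∈ C(P), x ≠ 1 → ∀ g, g * x * g⁻¹ ∈ C(P) → g ∈ N(P) := fun x hx x1 g hg =>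
    NP (by_contra fun c => x1 (hTI g c x hx hg))
  have E : C1(t) = N(P) := le_antisymm (fun g hg => ti t tC t1 g (by rw [← mem_cent1.1 hg]; simpa using tC))
    fun g hg => mem_cent1.2 (mul_inv_eq_iff_eq_mul.1 (uq _ (CfsgH2.conj_mem_of_mem_normalizer
      (normalizer_le_normalizer_centralizer P hg) tC) ((orderOf_conj' g t).trans ht))).symm
  have na : ¬ Group.IsSolvable G := fun c => nt (eq_top_iff.2 fun x _ => mem_cent.2 fun a _ =>
    IsSimpleGroup.comm_iff_isSolvable.2 c a x)
  obtain ⟨T, hT, l⟩ := IsSylowIn.exists_le (isPGroup_zpowers_of_mul_self t2)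
    ((zpowers_le.2 tC).trans (cent_le_norm P))
  have d4 : ∀ U : Subgroup G, IsPGroup 2 U → t ∈ U → Nat.card U ∣ 4 := fun U hU tU =>
    (Nat.Coprime.dvd_mul_right (by
      obtain ⟨k, hk⟩ := IsPGroup.iff_card.1 hU
      exact hk ▸ Nat.Coprime.pow_left k mo.symm)).1 (heven U (fun e => na (by
        have := CfsgH1.isSolvable_of_isPGroup (e ▸ hU : IsPGroup 2 (⊤ : Subgroup G))
        exact Group.isSolvable_of_isSolvable_injective (f := (topEquiv (G := G)).symm.toMonoidHom)
          (MulEquiv.injective _))) (ht ▸ U.orderOf_dvd_natCard tU))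
  have T4 : Nat.card T = 4 := by
    have a := CfsgH2.card_mul_relIndex hT.le
    refine Nat.dvd_antisymm (d4 T hT.pgroup (l (mem_zpowers t))) ((Nat.Coprime.dvd_mul_right
      (Nat.Coprime.pow_left 2 ((Nat.prime_two.coprime_iff_not_dvd).2 hT.not_dvd))).1 ?_)
    rw [a, hN]
    exact Dvd.intro _ rfl
  have hT' : IsSylowIn 2 T ⊤ := IsSylowIn.of_maximal le_top hT.pgroup fun Q hQ a _ =>
    (eq_of_le_of_card_le a (T4 ▸ Nat.le_of_dvd (by norm_num) (d4 Q hQ (a (l (mem_zpowers t)))))).ge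
  have i3 : (zpowers t).relIndex T = 2 := by
    have := CfsgH2.card_mul_relIndex l
    rw [Nat.card_zpowers, ht, T4] at this
    omega
  have one : ∀ x, orderOf x = 2 → IsConj t x := fun x hx => by
    obtain ⟨g, -, hg⟩ := exists_conj_mem_sylowIn hT' (mem_top x) (k := 1) hx
    rcases thompson_transfer' hT' l i3 ((orderOf_conj' g x).trans hx) hg with ⟨M, _, a, -⟩ | ⟨h, a⟩
    · exact absurd a (index_ne_two_of_simple (fun e => by
        have := card_le_of_le (le_top : N(P) ≤ ⊤)
        rw [card_top] at this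
        omega) M)
    · rcases (mem_zpowers_of_mul_self t2).1 a with e | e
      · exact absurd (by simpa using e) (ne_one_of_orderOf_two hx)
      · exact isConj_iff.2 ⟨(h * g)⁻¹, by rw [← e]; group⟩
  obtain ⟨s, sT, hs, st⟩ : ∃ s ∈ T, orderOf s = 2 ∧ s ≠ t := by
    by_contra c
    push Not at c
    rcases cyclic_or_quat hT.pgroup (fun a ha b hb a2 b2 => (c a ha a2).trans (c b hb b2).symm) with
      e | ⟨a, b, r, hr, e1, e2⟩
    · exact na (solv_of_cyclic_two hT' e)
    · have := e2.card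
      rw [T4, e1, pow_succ] at this
      have := Nat.pow_le_pow_right (by norm_num : 0 < 2) hr
      omega
  have s2 := mul_self_of_orderOf_two hs
  have sC : s ∉ C(P) := fun c => st (uq s c hs)
  have sN := hT.le sT
  have fx : ∀ y ∈ P, y ∈ C1(s) → y = 1 := fun y hy ys => by_contra fun y1 => by
    obtain ⟨g, rfl⟩ := isConj_iff.1 (one s hs)
    rw [← cj_centralizer_singleton, E, mem_cj] at ys
    have a : g⁻¹ * y * g⁻¹⁻¹ ∈ P := (hP.mono le_normalizer le_top).le_of_le_normalizer
      (IsPGroup_cj (hP.pgroup.to_le (zpowers_le.2 hy)) g⁻¹) (by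
        rw [cj_zpowers, inv_inv]; exact zpowers_le.2 ys) (by
        rw [cj_zpowers, inv_inv]; exact zpowers_le.2 ys) (conj_mem_cj _ (mem_zpowers y))
    have b := E.ge (inv_mem (ti y (hab hy) y1 _ (hab a)))
    rw [inv_inv] at b
    exact st (by rw [← mem_cent1.1 b]; group)
  have iv : ∀ y ∈ P, s * y * s⁻¹ = y⁻¹ := fun y hy => by
    have a := CfsgH2.conj_mem_of_mem_normalizer sN hy
    refine eq_inv_of_mul_eq_one_right (fx _ (mul_mem hy a) (mem_cent1.2 ?_))
    rw [inv_eq_of_mul_self s2] at a ⊢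
    nth_rewrite 2 [hab a y hy]
    simp only [mul_assoc, s2, mul_one]
  have bw : BW t s C(P) := ⟨ht, ab, tC, hs, sC, fun g => ⟨fun hg => ?_, fun hg => ?_⟩, uq, fun x hx => ?_,
    fun x hx x1 g hg => E.ge (ti x hx x1 g hg), one⟩
  rotate_left
  · have := mul_mem_iff_of_index_two (H := C(P).subgroupOf N(P)) i2 (a := ⟨g, E.le hg⟩) (b := ⟨s, sN⟩)
    simp only [mem_subgroupOf, MulMemClass.mk_mul_mk, sC, iff_false] at this
    tauto
  · exact hg.elim (fun a => CC a) fun a => (mul_mem_cancel_right (E.ge sN)).1 (CC a)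
  · rcases dec x hx with a | a
    · exact iv x a
    · have b := mem_cent1.1 (E.ge sN)
      rw [tt x, show s * (x * t * t) * s⁻¹ = s * (x * t) * s⁻¹ * (s * t * s⁻¹) by group, iv _ a, ← b,
        mul_inv_cancel_right, mul_inv_rev (x * t), inv_eq_of_mul_self t2]
      exact tC _ (inv_mem a)
  have e1 := bw.split (f := fun y => (CfsgH8.nI y : ℤ)) (c := Nat.card C(P)) fun x a b => by rw [bw.nI_K a b]
  rw [Finset.sum_eq_zero (s := Finset.filter _ _) fun y hy => ?_] at e1
  · obtain ⟨-, e, -, -, -, -, he, -, e2⟩ := bw.exists_a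
    have e3 : ∑ y : G, (CfsgH8.nI y : ℤ) = ((C1(t)).index : ℤ) ^ 2 := by exact_mod_cast sum_nI ht one
    rw [e3, nI_one ht one] at e1
    have i0 : ((C1(t)).index : ℤ) ≠ 0 := by exact_mod_cast index_ne_zero_of_finite
    have e4 : ((C1(t)).index : ℤ) = 1 + (Nat.card C(P) - 1) * Nat.card C(P) :=
      mul_left_cancel₀ i0 (by linarith)
    have m1 : Nat.card P ≠ 1 := fun e => nt (by rw [card_eq_one.1 e]; simp)
    have : (4 : ℤ) ≤ Nat.card C(P) := by omega
    rcases he with rfl | rfl <;> nlinarith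
  · have c := (Finset.mem_filter.1 hy).2
    by_contra k
    obtain ⟨u, hu⟩ := Finset.card_ne_zero.1 (Nat.cast_ne_zero.1 k)
    obtain ⟨u1, u2⟩ := (Finset.mem_filter.1 hu).2
    have y1 : y ≠ 1 := fun e => c (e ▸ CI.of_mem (one_mem _))
    have uN : u ∈ N(zpowers y) := mem_normalizer_of_cj_le (by
      rw [cj_zpowers, inv_of_pair u1 u2, zpowers_inv])
    have a := heven N(zpowers y) (fun e => ?_) (u1 ▸ Subgroup.orderOf_dvd_natCard _ uN)
    · obtain ⟨r, hr, b⟩ := Nat.exists_prime_and_dvd (mt orderOf_eq_one_iff.1 y1)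
      refine c (bw.ci_prime hr ?_ b)
      rw [hC]
      rcases (Nat.Prime.dvd_mul hr).1 (b.trans ((Subgroup.orderOf_dvd_natCard _
        (le_normalizer (mem_zpowers y))).trans a)) with d | d
      · exact (hr.dvd_of_dvd_pow (show r ∣ 2 ^ 2 from d)).mul_right _
      · exact d.mul_left _
    · rcases (normalizer_eq_top_iff.1 e).eq_bot_or_eq_top with b | b
      · exact y1 (zpowers_eq_bot.1 b)
      · refine nt (eq_top_iff.2 fun x _ => mem_cent.2 fun a _ => ?_)
        obtain ⟨i, rfl⟩ := b.ge (mem_top x)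
        obtain ⟨j, rfl⟩ := b.ge (mem_top a)
        exact zpow_mul_comm y j i

end CfsgH2
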