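import Cfsg.Agent.H2.CharP2
import Cfsg.Agent.H2.Focal
import Cfsg.Agent.H9.Thompson
import Cfsg.Prelude.Def_BaumannBlocks

/-! Blocks relative to the Baumann subgroup: first properties. -/

set_option autoImplicit false

namespace CfsgH2
open Subgroup Cfsg CfsgFT CfsgH9
open scoped commutatorElement

/-! ### The natural modules are irreducible -/

section mod
open Matrix

variable {F : Type*} [Field F]

local notation "SL2" => Matrix.SpecialLinearGroup (Fin 2)

def upT (s : F) : SL2 F := ⟨!![1, s; 0, 1], by simp [det_fin_two]⟩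
def loT (s : F) : SL2 F := ⟨!![1, 0; s, 1], by simp [det_fin_two]⟩
def weyl : SL2 F := ⟨!![0, 1; -1, 0], by simp [det_fin_two]⟩

theorem slmul (a b : SL2 F) : (a * b).1 = a.1 * b.1 := rfl
theorem upT_val (s : F) : (upT s).1 = !![1, s; 0, 1] := rfl
theorem loT_val (s : F) : (loT s).1 = !![1, 0; s, 1] := rfl
theorem weyl_val : (weyl : SL2 F).1 = !![0, 1; -1, 0] := rfl

theorem upT_mul (s t : F) : upT s * upT t = upT (s + t) := by
  apply Subtype.ext
  rw [slmul, upT_val, upT_val, upT_val]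
  simp [add_comm]

theorem upT_zero : (upT 0 : SL2 F) = 1 := by
  apply Subtype.ext
  rw [upT_val]
  exact one_fin_two.symm

theorem weyl_upT (s : F) : weyl * upT (-s) = loT s * weyl := by
  apply Subtype.ext
  rw [slmul, slmul, upT_val, loT_val, weyl_val]
  simp

theorem ab_loT (s : F) : Abelianization.of (loT s) = Abelianization.of (upT (-s)) := by
  have := congrArg Abelianization.of (weyl_upT s)
  rw [map_mul, map_mul, mul_comm] at this
  exact (mul_right_cancel this).symm

theorem exists_der_e1 {v : Fin 2 → F} (hv : v ≠ 0) :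
    ∃ r ∈ _root_.commutator (SL2 F), r.1 *ᵥ ![1, 0] = v := by
  have key : ∀ (g : SL2 F) (s : F), Abelianization.of g = Abelianization.of (upT s) →
      g.1 *ᵥ ![1, 0] = v → ∃ r ∈ _root_.commutator (SL2 F), r.1 *ᵥ ![1, 0] = v := by
    intro g s h1 h2
    refine ⟨g * upT (-s), ?_, ?_⟩
    · rw [← Abelianization.ker_of, MonoidHom.mem_ker, map_mul, h1, ← map_mul, upT_mul, add_neg_cancel,
        upT_zero, map_one]
    · rw [slmul, ← mulVec_mulVec, ← h2, upT_val]
      congr 1
      ext i; fin_cases i <;> simp [mulVec, dotProduct, Fin.sum_univ_two]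
  by_cases h : v 1 = 0
  · have h0 : v 0 ≠ 0 := fun e => hv (by ext i; fin_cases i <;> simp [e, h])
    refine key (loT (-(v 0)⁻¹) * upT (v 0 - 1) * loT 1) _
      (by rw [map_mul, map_mul, ab_loT, ab_loT, ← map_mul, ← map_mul, upT_mul, upT_mul]) ?_
    rw [slmul, slmul, upT_val, loT_val, loT_val]
    ext i; fin_cases i <;> simp [mulVec, dotProduct, Fin.sum_univ_two, h]
    field_simp; ring
  · refine key (upT ((v 0 - 1) / v 1) * loT (v 1)) _
      (by rw [map_mul, ab_loT, ← map_mul, upT_mul]) ?_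
    rw [slmul, upT_val, loT_val]
    ext i; fin_cases i <;> simp [mulVec, dotProduct, Fin.sum_univ_two, h]

theorem exists_der {v w : Fin 2 → F} (hv : v ≠ 0) (hw : w ≠ 0) :
    ∃ r ∈ _root_.commutator (SL2 F), r.1 *ᵥ v = w := by
  obtain ⟨r, hr, e⟩ := exists_der_e1 hv
  obtain ⟨s, hs, e'⟩ := exists_der_e1 hw
  refine ⟨s * r⁻¹, mul_mem hs (inv_mem hr), ?_⟩
  rw [← e, mulVec_mulVec, ← slmul, inv_mul_cancel_right, e']

theorem cyc_mem {n : ℕ} {i j k : Fin n} (h1 : i ≠ j) (h2 : j ≠ k) :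
    Equiv.swap i j * Equiv.swap j k ∈ alternatingGroup (Fin n) := by
  simp [Equiv.Perm.mem_alternatingGroup, h1, h2]

theorem even_irr {m : ℕ} (hm : m ≠ 0) (U : AddSubgroup (Fin (2 * m + 1) → ZMod 2))
    (hU : ∀ σ ∈ alternatingGroup (Fin (2 * m + 1)), ∀ v ∈ U, (fun i => v (σ i)) ∈ U)
    {v : Fin (2 * m + 1) → ZMod 2} (hv : v ∈ U) (h0 : v ≠ 0) (hs : ∑ i, v i = 0)
    {w : Fin (2 * m + 1) → ZMod 2} (hw : ∑ i, w i = 0) : w ∈ U := by
  have z2 : ∀ x : ZMod 2, x = 0 ∨ x = 1 := by decide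
  obtain ⟨i, hi⟩ : ∃ i, v i = 1 := by
    by_contra hn; push Not at hn
    exact h0 (funext fun i => (z2 _).resolve_right (hn i))
  obtain ⟨j, hj⟩ : ∃ j, v j = 0 := by
    by_contra hn; push Not at hn
    rw [Finset.sum_congr rfl fun i _ => (z2 _).resolve_left (hn i)] at hs
    simp only [Finset.sum_const, Finset.card_univ, Fintype.card_fin, nsmul_eq_mul, mul_one] at hs
    push_cast at hs
    rw [show (2 : ZMod 2) = 0 from rfl] at hs
    simp at hs
  have hij : i ≠ j := fun e => by rw [e, hj] at hi; exact zero_ne_one hi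
  obtain ⟨k, hki, hkj⟩ : ∃ k, k ≠ i ∧ k ≠ j := by
    by_contra hn; push Not at hn
    have : (Finset.univ : Finset (Fin (2 * m + 1))) ⊆ {i, j} := fun k _ => by
      by_cases e : k = i
      · simp [e]
      · simp [hn k e]
    have h2 := (Finset.card_le_card this).trans Finset.card_le_two
    simp at h2; omega
  obtain ⟨a, b, hab, h1⟩ : ∃ a b, a ≠ b ∧ (Pi.single a 1 + Pi.single b 1 : _ → ZMod 2) ∈ U := by
    have h2 := U.add_mem hv (hU _ (cyc_mem hij hkj.symm) v hv)
    rcases z2 (v k) with e | e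
    · refine ⟨i, k, hki.symm, ?_⟩
      convert h2 using 1
      funext x
      by_cases e1 : x = i
      · subst e1; simp [Equiv.swap_apply_def, hij, hki.symm, hi, hj]
      by_cases e2 : x = j
      · subst e2; simp [Equiv.swap_apply_def, hij.symm, hkj.symm, hki, hkj, hj, e]
      by_cases e3 : x = k
      · subst e3; simp [Equiv.swap_apply_def, hki, hkj, hi, e, hij.symm]
      simp [Equiv.swap_apply_def, e1, e2, e3, CharTwo.add_self_eq_zero]
    · refine ⟨i, j, hij, ?_⟩
      convert h2 using 1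
      funext x
      by_cases e1 : x = i
      · subst e1; simp [Equiv.swap_apply_def, hij, hki.symm, hi, hj]
      by_cases e2 : x = j
      · subst e2; simp [Equiv.swap_apply_def, hij.symm, hkj.symm, hki, hkj, hj, e]
      by_cases e3 : x = k
      · subst e3; simp [Equiv.swap_apply_def, hki, hkj, hi, e, hij.symm, CharTwo.add_self_eq_zero]
      simp [Equiv.swap_apply_def, e1, e2, e3, CharTwo.add_self_eq_zero]
  have h2 : ∀ c, (Pi.single a 1 + Pi.single c 1 : _ → ZMod 2) ∈ U := fun c => by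
    by_cases e1 : c = a
    · rw [e1, CharTwo.add_self_eq_zero]; exact U.zero_mem
    by_cases e2 : c = b
    · rwa [e2]
    convert hU _ (cyc_mem hab (Ne.symm e2)) _ h1 using 1
    funext x
    by_cases e3 : x = a
    · subst e3; simp [Equiv.swap_apply_def, hab, hab.symm, Ne.symm e1]
    by_cases e4 : x = b
    · subst e4; simp [Equiv.swap_apply_def, e3, e1, e2, Ne.symm e2]
    by_cases e5 : x = c
    · subst e5; simp [Equiv.swap_apply_def, e3, e4, hab]
    simp [Equiv.swap_apply_def, e3, e4, e5]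
  have h3 : w = ∑ c, w c • (Pi.single a 1 + Pi.single c 1 : _ → ZMod 2) := by
    simp only [smul_add, Finset.sum_add_distrib, ← Finset.sum_smul, hw, zero_smul, zero_add]
    funext x
    simp [Finset.sum_apply, Pi.single_apply]
  rw [h3]
  refine U.sum_mem fun c _ => ?_
  rcases z2 (w c) with e | e <;> rw [e]
  · rw [zero_smul]; exact U.zero_mem
  · rw [one_smul]; exact h2 c

end mod

variable {G : Type*} [Group G]

/-- `E` acts irreducibly and nontrivially-sized on the section `W / Z`. -/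
def IrrSec (E W Z : Subgroup G) : Prop :=
  ¬ W ≤ Z ∧ ∀ U, Z ≤ U → U ≤ W → E ≤ N(U) → U = Z ∨ U = W

theorem irr_of_sl2 {F : Type*} [Field F] {E W Z : Subgroup G}
    (h : ActsAsSL2OnSection F (commutator (Matrix.SpecialLinearGroup (Fin 2) F)) E W Z) : IrrSec E W Z := by
  obtain ⟨-, -, ρ, ψ, h1, h2, h3, h4⟩ := h
  refine ⟨fun e => ?_, fun U hZ hU hn => (em _).imp_right fun hne => le_antisymm hU fun w hw => ?_⟩
  · obtain ⟨u, hu⟩ := h2 (Multiplicative.ofAdd 1)
    rw [(h3 u).2 (e u.2)] at hu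
    exact one_ne_zero (congrFun (congrArg Multiplicative.toAdd hu) 0).symm
  obtain ⟨u, hu, hu'⟩ := SetLike.exists_of_lt (lt_of_le_of_ne hZ (Ne.symm hne))
  by_cases e : w ∈ Z
  · exact hZ e
  obtain ⟨r, hr, er⟩ := exists_der (v := (ψ ⟨u, hU hu⟩).toAdd) (w := (ψ ⟨w, hw⟩).toAdd)
    (fun e' => hu' ((h3 ⟨u, hU hu⟩).1 e')) fun e' => e ((h3 ⟨w, hw⟩).1 e')
  rw [← h1] at hr
  obtain ⟨x, rfl⟩ := hr
  obtain ⟨y, hy, ey⟩ := h4 x ⟨u, hU hu⟩
  have h5 : ψ (y⁻¹ * ⟨w, hw⟩) = 1 := by
    rw [map_mul, map_inv, inv_mul_eq_one]; exact Multiplicative.toAdd.injective (ey.trans er)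
  have h6 : (y : G) ∈ U := hy ▸ CfsgH2.conj_mem_of_mem_normalizer (hn x.2) hu
  exact (mul_mem_cancel_left (inv_mem h6)).1 (hZ ((h3 _).1 h5))

theorem irr_of_alt {m : ℕ} (hm : m ≠ 0) {E W Z : Subgroup G}
    (h : ActsAsOddPermModuleOnSection (2 * m + 1) (alternatingGroup (Fin (2 * m + 1))) E W Z) :
    IrrSec E W Z := by
  obtain ⟨-, -, ρ, ψ, h1, h0, h2, h3, h4⟩ := h
  refine ⟨fun e => ?_, fun U hZ hU hn => (em _).imp_right fun hne => le_antisymm hU fun w hw => ?_⟩
  · obtain ⟨u, hu⟩ := h2 (Pi.single 0 1 + Pi.single (Fin.last _) 1) (by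
      simp [Finset.sum_add_distrib, CharTwo.add_self_eq_zero])
    rw [(h3 u).2 (e u.2)] at hu
    have := congrFun hu 0
    rw [Pi.add_apply, Pi.single_eq_same, Pi.single_eq_of_ne (fun e' => by
      have := congrArg Fin.val e'; simp at this; omega), add_zero] at this
    exact zero_ne_one this
  obtain ⟨u, hu, hu'⟩ := SetLike.exists_of_lt (lt_of_le_of_ne hZ (Ne.symm hne))
  have h5 := even_irr hm (Subgroup.toAddSubgroup' ((U.subgroupOf W).map ψ)) (fun σ hσ v hv => by
      obtain ⟨a, ha, rfl⟩ : ∃ a ∈ U.subgroupOf W, (ψ a).toAdd = v := hv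
      have h6 := inv_mem hσ
      rw [← h1] at h6
      obtain ⟨x, hx⟩ := h6
      obtain ⟨y, hy, ey⟩ := h4 x a
      refine (⟨y, mem_subgroupOf.2 (hy ▸ CfsgH2.conj_mem_of_mem_normalizer (hn x.2) ha), ?_⟩ :
        ∃ a ∈ U.subgroupOf W, (ψ a).toAdd = _)
      funext i
      rw [ey, hx, inv_inv]; rfl)
    (v := (ψ ⟨u, hU hu⟩).toAdd) (⟨⟨u, hU hu⟩, hu, rfl⟩ : ∃ a ∈ U.subgroupOf W, (ψ a).toAdd = _)
    (fun e' => hu' ((h3 ⟨u, hU hu⟩).1 e')) (h0 _) (h0 ⟨w, hw⟩)
  obtain ⟨y, hy, ey⟩ : ∃ a ∈ U.subgroupOf W, (ψ a).toAdd = _ := h5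
  have h7 : ψ (y⁻¹ * ⟨w, hw⟩) = 1 := by
    rw [map_mul, map_inv, inv_mul_eq_one]; exact Multiplicative.toAdd.injective ey
  exact (mul_mem_cancel_left (inv_mem (mem_subgroupOf.1 hy))).1 (hZ ((h3 _).1 h7))

/-! ### The Baumann subgroup -/

variable [Finite G] {p : ℕ} [hp : Fact p.Prime] {T S E Q : Subgroup G}

omit [Finite G] hp in
theorem cj_Bau (g : G) (T : Subgroup G) : cj g (baumannSubgroupOf p T) = baumannSubgroupOf p (cj g T) := by
  unfold baumannSubgroupOf
  rw [cj_inf, cj_centralizer, ← cj_ZJ, ← cj_def g (omegaOne _ _),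
    map_omegaOne_of_injective _ (MulAut.conj g).injective, cj_def]

omit [Finite G] hp in
theorem Bau_le : baumannSubgroupOf p T ≤ T := inf_le_left

omit [Finite G] hp in
theorem J_le_Bau : thompsonSubgroupOf p T ≤ baumannSubgroupOf p T :=
  le_inf J_le (le_centralizer_iff.1 ((omegaOne_le _).trans inf_le_right))

omit hp in
theorem J_eq_cj' {g : G} (h : thompsonSubgroupOf p T ≤ cj g T) :
    thompsonSubgroupOf p T = thompsonSubgroupOf p (cj g T) := by
  refine eq_of_le_of_card_le (J_le_iff.2 fun A hA => ?_) (by rw [← cj_J, card_cj])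
  exact ((hA.cj g).of_card (hA.le_J.trans h) hA.ea (card_cj g A).le).le_J

omit hp in
theorem Bau_eq_cj {g : G} (h : baumannSubgroupOf p T ≤ cj g T) :
    baumannSubgroupOf p T = baumannSubgroupOf p (cj g T) := by
  refine eq_of_le_of_card_le (le_inf h ?_) (by rw [← cj_Bau, card_cj])
  unfold centerThompsonOf
  rw [← J_eq_cj' (J_le_Bau.trans h)]
  exact inf_le_right

omit [Finite G] hp in
theorem le_norm_Bau {A : Subgroup G} (h : A ≤ N(T)) : A ≤ N(baumannSubgroupOf p T) := fun a ha =>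
  cj_eq_iff_mem_normalizer.1 (by rw [cj_Bau, cj_eq_iff_mem_normalizer.2 (h ha)])

/-- The Baumann subgroup of a Sylow subgroup is normal in every `p`-subgroup containing it. -/
theorem le_norm_Bau_of_le (hT : IsSylowIn p T ⊤) (hS : IsPGroup p S) (h : baumannSubgroupOf p T ≤ S) :
    S ≤ N(baumannSubgroupOf p T) := by
  obtain ⟨g, -, hg⟩ := hT.exists_cj_le hS le_top
  rw [cj_le_iff_le_cj_inv] at hg
  rw [Bau_eq_cj (h.trans hg)]
  exact le_norm_Bau (hg.trans le_normalizer)

/-- The part of the definition of a block used in the elementary lemmas. -/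
structure Blk (p : ℕ) (T E : Subgroup G) : Prop where
  res : resIn p E = E
  comm : ⁅E, baumannSubgroupOf p T⁆ = E
  commQ : ⁅pCoreOf p E, E⁆ = pCoreOf p E
  nz : ⁅E, omegaOne p Z(T)⁆ ≠ ⊥
  irr : IrrSec E (omegaOne p Z(pCoreOf p E)) (omegaOne p Z(pCoreOf p E) ⊓ C(E))

theorem blk_of (h : IsBaumannBlock p T E) : Blk p T E := by
  obtain ⟨h1, h2, h3, h4, h5⟩ := h
  have h1' : resIn p E = E := by rw [← map_pResidual]; exact h1
  refine ⟨h1', h2, h3, h4, ?_⟩
  rcases h5 with ⟨F, _, _, n, -, -, h5, -⟩ | ⟨-, m, ⟨e⟩, h5, -⟩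
  · exact irr_of_sl2 h5
  · refine irr_of_alt (fun hm => h4 ?_) h5
    subst hm
    have h6 : pCore p E = ⊤ := by
      rw [← index_eq_one, index, Nat.card_congr e.toEquiv]
      haveI : Subsingleton (Equiv.Perm (Fin (2 * 0 + 1))) := inferInstanceAs (Subsingleton (Equiv.Perm (Fin 1)))
      exact Nat.card_unique
    have h7 : IsPGroup p E := by
      have := CfsgH1.isPGroup_pCore p E
      rw [h6] at this
      exact this.of_equiv topEquiv
    rw [← h1', resIn_eq_bot_iff.2 h7, commutator_bot_left]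

namespace Blk
variable (hT : IsSylowIn p T ⊤) (h : Blk p T E)
include h

omit [Finite G] hp in
theorem nB : baumannSubgroupOf p T ≤ N(E) := by
  have := normalizer_commutator_ge_right E (baumannSubgroupOf p T)
  rwa [h.comm] at this

omit [Finite G] hp in
theorem le_of_le {X : Subgroup G} (h1 : baumannSubgroupOf p T ≤ X) (h2 : E ≤ N(X)) : E ≤ X :=
  h.comm.symm.le.trans ((commutator_mono le_rfl h1).trans (CfsgLead.commutator_le_of_le_normalizer_right h2))

include hT

theorem le_norm (hQ : IsPGroup p Q) (h1 : baumannSubgroupOf p T ≤ N(Q)) (h2 : E ≤ N(Q)) : Q ≤ N(E) := by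
  have hB : IsPGroup p (baumannSubgroupOf p T) := hT.pgroup.to_le Bau_le
  have h3 : Q ≤ N(baumannSubgroupOf p T) :=
    le_sup_left.trans (le_norm_Bau_of_le hT (pg_sup hQ hB h1) le_sup_right)
  have h4 : ncl (E ⊔ Q) (baumannSubgroupOf p T) = baumannSubgroupOf p T ⊔ E := by
    rw [sup_comm _ E, ← h.comm, ← ncl_eq_sup, h.comm]
    refine le_antisymm (ncl_le_iff.2 fun g hg => ?_) (ncl_mono le_sup_left le_rfl)
    obtain ⟨e, he, q, hq, rfl⟩ := (mem_sup_of_normalizer' h2).1 hg
    rw [← cj_cj, cj_eq_iff_mem_normalizer.2 (h3 hq)]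
    exact cj_le_ncl _ he
  have h5 := (le_sup_right.trans (le_norm_ncl (E ⊔ Q) (baumannSubgroupOf p T))).trans
    (normalizer_le_normalizer_resIn (p := p) _)
  rwa [h4, resIn_sup_of_isPGroup hB h.nB, h.res] at h5

theorem O_le_norm : pCore p G ≤ N(E) :=
  h.le_norm hT (CfsgH1.isPGroup_pCore p G) (by rw [normalizer_eq_top]; exact le_top)
    (by rw [normalizer_eq_top]; exact le_top)

/-- A `p`-subgroup normalizing and normalized by `E` centralizes `W_E`. -/
theorem W_le_cent {P : Subgroup G} (hP : IsPGroup p P) (h1 : P ≤ N(E)) (h2 : E ≤ N(P)) :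
    ⁅omegaOne p Z(pCoreOf p E), E⁆ ≤ C(P) := by
  set W := omegaOne p Z(pCoreOf p E) with hW
  have hPW : P ≤ N(W) := le_norm_oz (le_norm_Op h1)
  have hEW : E ≤ N(W) := le_norm_oz (le_norm_Op_self E)
  have hWp : IsPGroup p W := (Op_pg E).to_le (oz_le _)
  have hWc : W ≤ C(W) := (oz_le_cent _).trans (centralizer_le (by exact_mod_cast oz_le _))
  have h3 : ⁅W, P⁆ ≤ C(E) := by
    rcases h.irr.2 (⁅W, P⁆ ⊔ W ⊓ C(E)) le_sup_right
      (sup_le (commutator_le_left_of_normalizer hPW) inf_le_left)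
      (le_normalizer_sup' (le_normalizer_commutator' hEW h2)
        (le_normalizer_inf' hEW (le_normalizer_centralizer' le_normalizer))) with e | e
    · exact (le_sup_left.trans e.le).trans inf_le_right
    · refine (h.irr.1 (le_of_le_commutator_sup (p := p) (le_sup_left : W ≤ W ⊔ P) (sup_le
        ((le_centralizer_iff.1 (inf_le_left.trans hWc)).trans (centralizer_le_normalizer _))
        (le_normalizer_inf' hPW (le_normalizer_centralizer' h1))) (fun x hx => ?_)
        (e.symm.le.trans (sup_le_sup_right (commutator_mono le_rfl le_sup_right) _)))).elim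
      obtain ⟨k, hk⟩ := pg_sup hWp hP hPW ⟨x, hx⟩
      exact ⟨k, by rw [show x ^ p ^ k = 1 from congrArg Subtype.val hk]; exact one_mem _⟩
  have h4 : ⁅P, E⁆ ≤ pCoreOf p E := le_Op (CfsgLead.commutator_le_of_le_normalizer_right h1)
    (normalizer_commutator_ge_right P E) (hP.to_le (commutator_le_left_of_normalizer h2))
  rw [commutator_comm]
  exact le_centralizer_of_commutator_eq_bot (three_subgroups_bot (commutator_eq_bot_of_le_centralizer h3)
    (commutator_eq_bot_of_le_centralizer (h4.trans (le_cent_oz _))))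

theorem W_le_oz (hG : centralizer (pCore p G : Set G) ≤ pCore p G) :
    ⁅omegaOne p Z(pCoreOf p E), E⁆ ≤ omegaOne p Z(pCore p G) := by
  have h1 := h.W_le_cent hT (CfsgH1.isPGroup_pCore p G) (h.O_le_norm hT)
    (by rw [normalizer_eq_top]; exact le_top)
  exact le_oz (ea_mono (oz_ea _) (commutator_le_left_of_normalizer (le_norm_oz (le_norm_Op_self E))))
    (h1.trans hG) h1

omit hT in
theorem not_cent : ¬ E ≤ C(⁅omegaOne p Z(pCoreOf p E), E⁆) := fun h1 => by
  have h2 := comm_comm_res ((Op_pg (p := p) E).to_le (oz_le (p := p) _)) (le_norm_oz (le_norm_Op_self E))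
  rw [h.res, commutator_eq_bot_of_le_centralizer (le_centralizer_iff.1 h1)] at h2
  exact h.irr.1 (le_inf le_rfl (le_centralizer_of_commutator_eq_bot h2.symm))

theorem J_not_cent (hG : centralizer (pCore p G : Set G) ≤ pCore p G) :
    ⁅⁅omegaOne p Z(pCoreOf p E), E⁆, thompsonSubgroupOf p T⁆ ≠ ⊥ := fun h1 => by
  have h2 := le_centralizer_of_commutator_eq_bot h1
  have h3 := h.W_le_oz hT hG
  have h4 : ⁅omegaOne p Z(pCoreOf p E), E⁆ ≤ omegaOne p (centerThompsonOf p T) := fun x hx => by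
    have h5 := (mem_oz.1 (h3 hx))
    have h6 : x ∈ T := by rw [← Op_top] at h5; exact Op_le_sylow hT h5.1.1
    exact mem_omegaOne ⟨mem_J_of_comm h6 (h2 hx) h5.2, h2 hx⟩ h5.2
  exact h.not_cent (h.le_of_le (inf_le_right.trans (centralizer_le (by exact_mod_cast h4)))
    (le_normalizer_centralizer' (normalizer_commutator_ge_right _ _)))

end Blk

end CfsgH2
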