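import Cfsg.Agent.H2.Blackburn

/-! BG 5.3 in the form used in BG 10 - 16. -/

set_option autoImplicit false

namespace CfsgH2
open Subgroup Cfsg CfsgFT

variable {G : Type*} [Group G] {p : ℕ} [Finite G] [hp : Fact p.Prime]

theorem rk_cent_le_of_maxElem {R A : Subgroup G} {k : ℕ} (hA : Elem p k R A) (hM : MaxElem p R A) :
    rk p (R ⊓ C(A)) ≤ k := by
  obtain ⟨B, hB⟩ := exists_elem_rk (p := p) (R ⊓ C(A))
  have : B ≤ A := fun x hx => hM.mem (hB.le hx).1 (hB.le hx).2 (hB.ea.2 x hx)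
  have := card_le_of_le this
  rwa [hB.card, hA.card, Nat.pow_le_pow_iff_right hp.out.one_lt] at this

theorem exists_maxElem_of_narrow {R S : Subgroup G} (hR : IsPGroup p R) (hr : 3 ≤ rk p R)
    (hS : S ≤ R) (hc : Nat.card S = p) (hrS : rk p (R ⊓ C(S)) ≤ 2) :
    ∃ A, S ≤ A ∧ Elem p 2 R A ∧ MaxElem p R A := by
  have hR0 : R ≠ ⊥ := by
    rintro rfl
    rw [le_bot_iff.1 hS, card_bot] at hc
    exact hp.out.one_lt.ne hc
  obtain ⟨z, hz, hz1, hzp, hzc⟩ := exists_central_of_ne_bot hR le_rfl le_normalizer hR0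
  have hSc : ¬ S ≤ C(R) := fun h => by
    rw [inf_eq_left.2 (cent_symm h)] at hrS; omega
  have hzS : z ∉ S := fun h => hSc (by
    rw [← eq_of_le_of_card_le (zpowers_le.2 h) (by
      rw [hc, Nat.card_zpowers, orderOf_eq_prime hzp hz1])]
    exact zpowers_le.2 hzc)
  have hzn : z ∈ N(S) := cent_le_norm S (cent_anti hS hzc)
  have hE : Elem p 2 (R ⊓ C(S)) (S ⊔ zpowers z) :=
    ⟨sup_le (le_inf hS (ea_le_centralizer (ea_of_card_prime hc)))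
      (zpowers_le.2 ⟨hz, cent_anti hS hzc⟩),
      ea_sup (ea_of_card_prime hc) (ea_zpowers hzp) (zpowers_le.2 (cent_anti hS hzc)),
      by rw [card_sup_zpowers hzn hzS (by rw [hzp]; exact one_mem _), hc, sq]⟩
  exact ⟨_, le_sup_left, hE.mono inf_le_left, maxElem_of_forall (hE.le.trans inf_le_left) hE.ea
    fun x hx h1 h2 => (hE.maxElem_of_rk hrS).mem ⟨hx, cent_anti le_sup_left h1⟩ h1 h2⟩

/-- BG 5.4 -/
theorem isNarrow_iff_cent (hp2 : p ≠ 2) {R : Subgroup G} (hR : IsPGroup p R) (hr : 3 ≤ rk p R) :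
    IsNarrow p R ↔ ∃ S, S ≤ R ∧ Nat.card S = p ∧ rk p (R ⊓ C(S)) ≤ 2 :=
  ⟨fun h => (narrow_of_isNarrow hp2 h).resolve_left (by omega),
    fun h => isNarrow_of_narrow hp2 hR (Or.inr h)⟩

/-- BG 5.3 -/
theorem isNarrow_iff_maxElem (hp2 : p ≠ 2) {R : Subgroup G} (hR : IsPGroup p R)
    (hr : 3 ≤ rk p R) : IsNarrow p R ↔ ∃ A, Elem p 2 R A ∧ MaxElem p R A := by
  constructor
  · intro h
    obtain ⟨S, h1, h2, h3⟩ := (isNarrow_iff_cent hp2 hR hr).1 h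
    obtain ⟨A, -, h4⟩ := exists_maxElem_of_narrow hR hr h1 h2 h3
    exact ⟨A, h4⟩
  · rintro ⟨A, h1, h2⟩
    exact isNarrow_of_narrow hp2 hR (narrow_of_ea hR h1.ea h1.le (rk_cent_le_of_maxElem h1 h2))

/-- BG 5.3(d) -/
theorem bg5_3d' (hp2 : p ≠ 2) {R S : Subgroup G} (hR : IsPGroup p R) (hr : 3 ≤ rk p R)
    (hS : S ≤ R) (hc : Nat.card S = p) (hrS : rk p (R ⊓ C(S)) ≤ 2) :
    S ⊓ ⁅R, R⁆ = ⊥ ∧ ∃ Y : Subgroup G, IsCyclic Y ∧ Y ≤ R ⊓ C(S) ∧ S ⊓ Y = ⊥ ∧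
      S ⊔ Y = R ⊓ C(S) ∧ omegaOne p (R ⊓ C(R)) ≤ Y := by
  obtain ⟨-, h2, -, h4, h5, h6, h7⟩ := bg5_3d hp2 hR hr hS hc hrS
  refine ⟨h5, _, h6, inf_le_inf_right _ inf_le_left, ?_, h7, (omegaOne_le _).trans ?_⟩
  · rw [eq_bot_iff, ← h4]
    exact inf_le_inf_left _ (inf_le_left.trans inf_le_right)
  · exact le_inf (inf_le_inf_left _ (cent_anti h2.le)) (inf_le_right.trans (cent_anti hS))

end CfsgH2
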