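import Cfsg.Agent.H2.Transfer
import Cfsg.Agent.H2.PGroup

/-! Carmichael's presentation of the alternating groups and their central extensions. -/

set_option autoImplicit false

namespace CfsgH2
open Subgroup Cfsg Equiv Equiv.Perm
open scoped commutatorElement

section Pres
variable {G : Type*} [Group G]

theorem carm_rel {u v : G} (h : (u * v) ^ 2 = 1) : u * v = v⁻¹ * u⁻¹ := by
  rw [← mul_inv_rev]; exact eq_inv_of_mul_eq_one_left (by rw [← sq, h])

theorem carm_sq {u : G} (h : u ^ 3 = 1) : u * u = u⁻¹ :=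
  eq_inv_of_mul_eq_one_left (by rw [← h, pow_three, mul_assoc])

theorem carm (m : ℕ) : ∀ X : Fin m → G, (∀ i, X i ^ 3 = 1) → (∀ i j, i ≠ j → (X i * X j) ^ 2 = 1) →
    Finite (closure (Set.range X)) ∧ 2 * Nat.card (closure (Set.range X)) ≤ (m + 2).factorial := by
  induction m with
  | zero =>
    intro X _ _
    rw [Set.range_eq_empty, Subgroup.closure_empty, card_bot]
    exact ⟨inferInstance, by decide⟩
  | succ m ih =>
    intro X h3 h2
    obtain ⟨hf, hc⟩ := ih (fun i => X i.castSucc) (fun i => h3 _)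
      (fun i j hij => h2 _ _ fun e => hij (Fin.castSucc_injective _ e))
    set H := closure (Set.range fun i : Fin m => X i.castSucc) with hH
    set Y := X (Fin.last m) with hY
    have hm : ∀ i : Fin m, X i.castSucc ∈ H := fun i => subset_closure ⟨i, rfl⟩
    have y2 : Y * Y = Y⁻¹ := carm_sq (h3 _)
    have r1 : ∀ i : Fin m, Y * X i.castSucc = (X i.castSucc)⁻¹ * Y⁻¹ := fun i =>
      carm_rel (h2 _ _ (Fin.castSucc_lt_last i).ne')
    have r2 : ∀ i : Fin m, X i.castSucc * Y = Y⁻¹ * (X i.castSucc)⁻¹ := fun i =>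
      carm_rel (h2 _ _ (Fin.castSucc_lt_last i).ne)
    let r : Option (Option (Option (Fin m))) → G := fun k => match k with
      | none => 1
      | some none => Y
      | some (some none) => Y⁻¹
      | some (some (some i)) => Y⁻¹ * X i.castSucc
    have step : ∀ k j, ∃ h ∈ H, ∃ k', r k * X j = h * r k' := by
      intro k j
      induction j using Fin.lastCases with
      | last =>
        rcases k with _ | _ | _ | i
        · exact ⟨1, one_mem _, some none, rfl⟩
        · exact ⟨1, one_mem _, some (some none), by simp only [r, one_mul]; exact y2⟩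
        · exact ⟨1, one_mem _, none, by simp only [r, one_mul]; exact inv_mul_cancel Y⟩
        · refine ⟨(X i.castSucc)⁻¹, inv_mem (hm i), some (some (some i)), ?_⟩
          simp only [r, ← hY]
          calc Y⁻¹ * X i.castSucc * Y = (Y * Y)⁻¹ * (X i.castSucc)⁻¹ := by rw [mul_assoc, r2]; group
            _ = Y * (X i.castSucc * X i.castSucc) := by rw [y2, carm_sq (h3 _), inv_inv]
            _ = _ := by rw [← mul_assoc, r1, mul_assoc]
      | cast j =>
        rcases k with _ | _ | _ | i
        · exact ⟨_, hm j, none, by simp only [r, one_mul, mul_one]⟩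
        · exact ⟨_, inv_mem (hm j), some (some none), r1 j⟩
        · exact ⟨1, one_mem _, some (some (some j)), by simp only [r, one_mul]⟩
        · by_cases hij : i = j
          · subst hij
            refine ⟨_, hm i, some none, ?_⟩
            simp only [r]
            rw [mul_assoc, carm_sq (h3 _), r2]
          · refine ⟨_, mul_mem (hm j) (inv_mem (hm i)), some (some (some i)), ?_⟩
            simp only [r]
            have r3 := carm_rel (h2 i.castSucc j.castSucc fun e => hij (Fin.castSucc_injective _ e))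
            calc Y⁻¹ * X i.castSucc * X j.castSucc
                = Y⁻¹ * (X j.castSucc)⁻¹ * (X i.castSucc)⁻¹ := by rw [mul_assoc, r3, mul_assoc]
              _ = X j.castSucc * (Y * X i.castSucc) * X i.castSucc := by
                rw [← r2, ← carm_sq (h3 i.castSucc)]; group
              _ = _ := by rw [r1]; group
    have step' : ∀ g j, (∃ h ∈ H, ∃ k, g = h * r k) → ∃ h ∈ H, ∃ k, g * X j = h * r k := by
      rintro _ j ⟨h, hh, k, rfl⟩
      obtain ⟨h', hh', k', e⟩ := step k j
      exact ⟨h * h', mul_mem hh hh', k', by rw [mul_assoc, e, mul_assoc]⟩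
    have all : ∀ g ∈ closure (Set.range X), ∃ h ∈ H, ∃ k, g = h * r k := by
      intro g hg
      induction hg using closure_induction_right with
      | one => exact ⟨1, one_mem _, none, by simp only [r, one_mul]⟩
      | mul_right x _ y hy ih' =>
        obtain ⟨j, rfl⟩ := hy
        exact step' x j ih'
      | mul_inv_cancel x _ y hy ih' =>
        obtain ⟨j, rfl⟩ := hy
        rw [← carm_sq (h3 j), ← mul_assoc]
        exact step' _ j (step' x j ih')
    choose φ hφ ψ hψ using all
    let F : closure (Set.range X) → H × Option (Option (Option (Fin m))) :=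
      fun g => (⟨φ g g.2, hφ g g.2⟩, ψ g g.2)
    have hF : Function.Injective F := by
      intro a b e
      have e1 : φ a a.2 = φ b b.2 := congrArg (fun x => (x.1 : G)) e
      have e2 : ψ a a.2 = ψ b b.2 := congrArg Prod.snd e
      exact Subtype.ext (by rw [hψ a a.2, hψ b b.2, e1, e2])
    refine ⟨Finite.of_injective F hF, ?_⟩
    have := Nat.card_le_card_of_injective F hF
    rw [Nat.card_prod, Finite.card_option, Finite.card_option, Finite.card_option, Nat.card_eq_fintype_card (α := Fin m),
      Fintype.card_fin] at this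
    rw [show m + 1 + 2 = m + 2 + 1 from rfl, Nat.factorial_succ]
    nlinarith

theorem carm_index {m : ℕ} (X : Fin m → G) (N : Subgroup G) [N.Normal] (h3 : ∀ i, X i ^ 3 = 1)
    (h2 : ∀ i j, i ≠ j → (X i * X j) ^ 2 ∈ N) (ht : closure (Set.range X) = ⊤) :
    Finite (G ⧸ N) ∧ 2 * N.index ≤ (m + 2).factorial := by
  have := carm m (fun i => QuotientGroup.mk' N (X i)) (fun i => by rw [← map_pow, h3, map_one])
    (fun i j hij => by
      rw [← map_mul, ← map_pow]; exact (QuotientGroup.eq_one_iff _).2 (h2 i j hij))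
  have e : closure (Set.range fun i => QuotientGroup.mk' N (X i)) = ⊤ := by
    rw [show (fun i => QuotientGroup.mk' N (X i)) = QuotientGroup.mk' N ∘ X from rfl, Set.range_comp,
      ← MonoidHom.map_closure, ht, map_top_of_surjective _ (QuotientGroup.mk'_surjective N)]
  rw [e, card_top] at this
  obtain ⟨k1, k2⟩ := this
  exact ⟨Finite.of_equiv _ topEquiv.toEquiv, k2⟩

end Pres

/-- the first of the two distinguished points -/
def pa (m : ℕ) : Fin (m + 2) := ⟨m, by omega⟩
/-- the second of the two distinguished points -/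
def pb (m : ℕ) : Fin (m + 2) := ⟨m + 1, by omega⟩
/-- the remaining points -/
def pi' {m : ℕ} (i : Fin m) : Fin (m + 2) := ⟨i, by omega⟩

theorem pa_ne_pb (m : ℕ) : pa m ≠ pb m := fun e => by have := congrArg Fin.val e; simp [pa, pb] at this
theorem pi_ne_pa {m : ℕ} (i : Fin m) : pi' i ≠ pa m := fun e => by
  have := congrArg Fin.val e; simp [pa, pi'] at this; omega
theorem pi_ne_pb {m : ℕ} (i : Fin m) : pi' i ≠ pb m := fun e => by
  have := congrArg Fin.val e; simp [pb, pi'] at this; omega
theorem pi_ne {m : ℕ} {i j : Fin m} (h : i ≠ j) : pi' i ≠ pi' j := fun e =>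
  h (Fin.ext (by simpa [pi'] using congrArg Fin.val e))
theorem pt_cases {m : ℕ} (x : Fin (m + 2)) : x = pa m ∨ x = pb m ∨ ∃ i, x = pi' i := by
  by_cases h : (x : ℕ) < m
  · exact Or.inr (Or.inr ⟨⟨x, h⟩, rfl⟩)
  · by_cases h' : (x : ℕ) = m
    · exact Or.inl (Fin.ext h')
    · exact Or.inr (Or.inl (Fin.ext (by have := x.2; simp only [pb]; omega)))

/-- Carmichael's generators -/
def tc {m : ℕ} (i : Fin m) : Perm (Fin (m + 2)) := swap (pi' i) (pa m) * swap (pa m) (pb m)

section Sw
variable {α : Type*} [DecidableEq α]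

theorem swap_commute {a b c d : α} (h1 : a ≠ c) (h2 : a ≠ d) (h3 : b ≠ c) (h4 : b ≠ d) :
    Commute (swap a b) (swap c d) := by
  have := swap_apply_apply (swap a b) c d
  rw [swap_apply_of_ne_of_ne h1.symm h3.symm, swap_apply_of_ne_of_ne h2.symm h4.symm] at this
  show swap a b * swap c d = swap c d * swap a b
  conv_rhs => rw [this]
  group

theorem swap_braid {i a b : α} (h1 : i ≠ a) (h2 : i ≠ b) :
    swap a b * swap i a * swap a b = swap i b := by
  have := swap_apply_apply (swap a b) i a
  rw [swap_apply_of_ne_of_ne h1 h2, swap_apply_left, swap_inv] at this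
  exact this.symm

end Sw

theorem tc_eq {m : ℕ} (i : Fin m) : tc i = swap (pa m) (pb m) * swap (pi' i) (pb m) := by
  rw [← swap_braid (pi_ne_pa i) (pi_ne_pb i), tc, ← mul_assoc, ← mul_assoc, swap_mul_self, one_mul]

theorem tc_mul {m : ℕ} (i j : Fin m) : tc i * tc j = swap (pi' i) (pa m) * swap (pi' j) (pb m) := by
  rw [tc_eq j, tc, mul_assoc, ← mul_assoc (swap (pa m) (pb m)), swap_mul_self, one_mul]

theorem tc_cube {m : ℕ} (i : Fin m) : tc i ^ 3 = 1 := by
  have h : (tc i).IsThreeCycle := by
    rw [tc, swap_comm]; exact isThreeCycle_swap_mul_swap_same (pi_ne_pa i).symm (pa_ne_pb m) (pi_ne_pb i)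
  rw [← h.orderOf, pow_orderOf_eq_one]

theorem tc_rel {m : ℕ} {i j : Fin m} (h : i ≠ j) : (tc i * tc j) ^ 2 = 1 := by
  rw [tc_mul, (swap_commute (pi_ne h) (pi_ne_pb i) (pi_ne_pa j).symm (pa_ne_pb m)).mul_pow, sq, sq,
    swap_mul_self, swap_mul_self, one_mul]

theorem sign_tc {m : ℕ} (i : Fin m) : sign (tc i) = 1 := by
  rw [tc, map_mul, sign_swap (pi_ne_pa i), sign_swap (pa_ne_pb m)]; simp

theorem closure_tc (m : ℕ) : closure (Set.range (tc (m := m))) = alternatingGroup (Fin (m + 2)) := by
  set K := closure (Set.range (tc (m := m))) with hK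
  have hle : K ≤ alternatingGroup _ := (closure_le _).2 (by rintro _ ⟨i, rfl⟩; exact sign_tc i)
  set s := swap (pa m) (pb m) with hs
  have hm : ∀ i, tc i ∈ K := fun i => subset_closure ⟨i, rfl⟩
  have hn : s ∈ normalizer (K : Set (Perm (Fin (m + 2)))) := by
    refine mem_normalizer_of_cj_le ?_
    rw [cj_le_iff_le_cj_inv, hK, closure_le]
    rintro _ ⟨i, rfl⟩
    rw [SetLike.mem_coe, mem_cj, inv_inv]
    have : s * tc i * s⁻¹ = (tc i)⁻¹ := by
      rw [tc, mul_inv_rev, swap_inv, swap_inv, mul_assoc, mul_assoc, swap_mul_self, mul_one]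
    rw [this]; exact inv_mem (hm i)
  have ha : ∀ x, swap x (pa m) ∈ K ⊔ zpowers s := by
    intro x
    rcases pt_cases x with rfl | rfl | ⟨i, rfl⟩
    · rw [swap_self]; exact one_mem _
    · rw [swap_comm]; exact mem_sup_right (mem_zpowers s)
    · have : swap (pi' i) (pa m) = tc i * s := by rw [tc, mul_assoc, swap_mul_self, mul_one]
      rw [this]; exact mul_mem (mem_sup_left (hm i)) (mem_sup_right (mem_zpowers s))
  have ht : K ⊔ zpowers s = ⊤ := by
    rw [eq_top_iff, ← closure_isSwap, closure_le]
    rintro _ ⟨x, y, hxy, rfl⟩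
    by_cases hx : x = pa m
    · rw [hx, swap_comm]; exact ha y
    · rw [← swap_braid hx hxy, swap_comm (pa m)]
      exact mul_mem (mul_mem (ha y) (ha x)) (ha y)
  refine le_antisymm hle fun g hg => ?_
  obtain ⟨k, hk, n, rfl⟩ := (mem_sup_zpowers hn).1 (ht.ge (mem_top g))
  rcases Int.even_or_odd' n with ⟨l, rfl | rfl⟩
  · rw [zpow_mul, zpow_two, swap_mul_self, one_zpow, mul_one]; exact hk
  · rw [zpow_add, zpow_mul, zpow_two, swap_mul_self, one_zpow, one_mul, zpow_one, mem_alternatingGroup,
      map_mul, mem_alternatingGroup.1 (hle hk), sign_swap (pa_ne_pb m)] at hg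
    exact absurd hg (by decide)

theorem two_mul_card_alt (m : ℕ) : 2 * Nat.card (alternatingGroup (Fin (m + 2))) = (m + 2).factorial := by
  rw [Nat.card_eq_fintype_card, two_mul_card_alternatingGroup, Fintype.card_perm, Fintype.card_fin]

end CfsgH2
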