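import Cfsg.Agent.H2.Carm
import Cfsg.Agent.H2.Extra

/-! Central extensions of the alternating groups. -/

set_option autoImplicit false

namespace CfsgH2
open Subgroup Cfsg Equiv Equiv.Perm
open scoped commutatorElement

variable {Γ : Type*} [Group Γ] {m : ℕ}

/-- `f` exhibits `Γ` as a central extension of the alternating group -/
structure CE (f : Γ →* Perm (Fin (m + 2))) : Prop where
  cen : ∀ g, f g = 1 → ∀ x, Commute g x
  rng : f.range = alternatingGroup (Fin (m + 2))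

theorem commutator_le_of_sup_central {K Z : Subgroup Γ} (hZ : ∀ z ∈ Z, ∀ x, Commute z x)
    (h : K ⊔ Z = ⊤) : _root_.commutator Γ ≤ K := by
  have hn : Z ≤ normalizer (K : Set Γ) := fun z hz => by
    rw [mem_normalizer_iff]
    intro x
    rw [(hZ z hz x).eq, mul_inv_cancel_right]
  rw [_root_.commutator, commutator_le]
  intro a _ b _
  obtain ⟨u, hu, z, hz, rfl⟩ := (mem_sup_of_normalizer hn).1 (h.ge (mem_top a))
  obtain ⟨v, hv, w, hw, rfl⟩ := (mem_sup_of_normalizer hn).1 (h.ge (mem_top b))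
  have e : ⁅u * z, v * w⁆ = u * v * u⁻¹ * v⁻¹ := by
    rw [commutatorElement_def]
    calc u * z * (v * w) * (u * z)⁻¹ * (v * w)⁻¹ = u * (z * (v * w) * z⁻¹) * (u⁻¹ * w⁻¹) * v⁻¹ := by group
      _ = u * (v * w) * (w⁻¹ * u⁻¹) * v⁻¹ := by
        rw [(hZ z hz _).eq, mul_inv_cancel_right, ((hZ w hw u).inv_inv).eq]
      _ = _ := by group
  rw [e]
  exact mul_mem (mul_mem (mul_mem hu hv) (inv_mem hu)) (inv_mem hv)

namespace CE
variable {f : Γ →* Perm (Fin (m + 2))} (h : CE f)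
include h

theorem lift {σ : Perm (Fin (m + 2))} (hσ : sign σ = 1) : ∃ g, f g = σ :=
  h.rng.ge (mem_alternatingGroup.2 hσ)

theorem sign_eq (g : Γ) : sign (f g) = 1 := mem_alternatingGroup.1 (h.rng.le ⟨g, rfl⟩)

theorem two_mul_index : 2 * f.ker.index = (m + 2).factorial := by
  rw [index_ker, h.rng, two_mul_card_alt]

theorem sup_ker {X : Fin m → Γ} (hX : ∀ i, f (X i) = tc i) : closure (Set.range X) ⊔ f.ker = ⊤ := by
  rw [← comap_map_eq, MonoidHom.map_closure, ← Set.range_comp, show f ∘ X = tc from funext hX,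
    closure_tc, ← h.rng, MonoidHom.comap_range_self]

theorem closure_top (hd : f.ker ≤ _root_.commutator Γ) {X : Fin m → Γ} (hX : ∀ i, f (X i) = tc i) :
    closure (Set.range X) = ⊤ := by
  have := h.sup_ker hX
  rwa [sup_eq_left.2 (hd.trans (commutator_le_of_sup_central h.cen this))] at this

theorem eq_mul {u v : Γ} (e : f u = f v) : ∃ w, f w = 1 ∧ u = v * w :=
  ⟨v⁻¹ * u, by rw [map_mul, map_inv, e, inv_mul_cancel], by group⟩

theorem conj_eq {u v : Γ} (e : f u = f v) (x : Γ) : u * x * u⁻¹ = v * x * v⁻¹ := by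
  obtain ⟨w, hw, rfl⟩ := h.eq_mul e
  rw [mul_assoc v, (h.cen w hw x).eq]; group

variable [Finite Γ]

theorem card_ker_le (hd : f.ker ≤ _root_.commutator Γ) {X : Fin m → Γ} (hX : ∀ i, f (X i) = tc i)
    (N : Subgroup Γ) [N.Normal] (h3 : ∀ i, X i ^ 3 = 1) (h2 : ∀ i j, i ≠ j → (X i * X j) ^ 2 ∈ N) :
    Nat.card f.ker ≤ Nat.card N := by
  have e1 := (carm_index X N h3 h2 (h.closure_top hd hX)).2
  have e2 := h.two_mul_index
  have e3 := N.card_mul_index
  have e4 := f.ker.card_mul_index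
  have e5 : 0 < f.ker.index := Nat.pos_of_ne_zero index_ne_zero_of_finite
  refine Nat.le_of_mul_le_mul_right ?_ e5
  rw [e4, ← e3]
  exact Nat.mul_le_mul_left _ (by omega)

omit h in
theorem eq_one_of_pow {w : Γ} (hw : f w = 1) {k : ℕ} (hk : k.Coprime (Nat.card f.ker)) (e : w ^ k = 1) :
    w = 1 := by
  have h1 : orderOf w ∣ Nat.card f.ker := Subgroup.orderOf_dvd_natCard _ hw
  exact orderOf_eq_one_iff.1 (Nat.eq_one_of_dvd_coprimes hk (orderOf_dvd_of_pow_eq_one e) h1)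

omit h in
theorem pow_card {w : Γ} (hw : f w = 1) : w ^ Nat.card f.ker = 1 :=
  orderOf_dvd_iff_pow_eq_one.1 (Subgroup.orderOf_dvd_natCard _ hw)

theorem uniq3 (h3 : Nat.Coprime 3 (Nat.card f.ker)) {u v : Γ} (e : f u = f v) (hu : u ^ 3 = 1)
    (hv : v ^ 3 = 1) : u = v := by
  obtain ⟨w, hw, rfl⟩ := h.eq_mul e
  rw [(h.cen w hw v).symm.mul_pow, hv, one_mul] at hu
  rw [eq_one_of_pow hw h3 hu, mul_one]

theorem lift3 (h3 : Nat.Coprime 3 (Nat.card f.ker)) :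
    ∃ X : Fin m → Γ, (∀ i, f (X i) = tc i) ∧ ∀ i, X i ^ 3 = 1 := by
  choose Y hY using fun i : Fin m => h.lift (sign_tc i)
  refine ⟨fun i => Y i ^ (Nat.card f.ker * Nat.card f.ker), fun i => ?_, fun i => ?_⟩
  · obtain ⟨k, hk⟩ : ∃ k, Nat.card f.ker * Nat.card f.ker = 3 * k + 1 := by
      have h1 : ¬ 3 ∣ Nat.card f.ker := (Nat.Prime.coprime_iff_not_dvd Nat.prime_three).1 h3
      generalize Nat.card f.ker = a at h1
      obtain ⟨b, rfl | rfl⟩ : ∃ b, a = 3 * b + 1 ∨ a = 3 * b + 2 := ⟨a / 3, by omega⟩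
      · exact ⟨3 * b * b + 2 * b, by ring⟩
      · exact ⟨3 * b * b + 4 * b + 1, by ring⟩
    simp only
    rw [map_pow, hY, hk, pow_succ, pow_mul, tc_cube, one_pow, one_mul]
  · simp only
    rw [← pow_mul, mul_comm, pow_mul, pow_mul, pow_card (w := Y i ^ 3) (by rw [map_pow, hY, tc_cube]),
      one_pow]

theorem exists_c (h3 : Nat.Coprime 3 (Nat.card f.ker)) {X : Fin m → Γ} (hX : ∀ i, f (X i) = tc i)
    (hX3 : ∀ i, X i ^ 3 = 1) : ∃ c, f c = 1 ∧ c ^ 2 = 1 ∧ ∀ i j, i ≠ j → (X i * X j) ^ 2 = c := by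
  have k0 : ∀ i j, i ≠ j → f ((X i * X j) ^ 2) = 1 := fun i j hij => by
    rw [map_pow, map_mul, hX, hX, tc_rel hij]
  have cj : ∀ (g y : Γ), f (y ^ 2) = 1 → (g * y * g⁻¹) ^ 2 = y ^ 2 := fun g y hy => by
    rw [conj_pow, ← (h.cen _ hy g).eq, mul_inv_cancel_right]
  have k1 : ∀ i j k, i ≠ j → j ≠ k → (X i * X j) ^ 2 = (X j * X k) ^ 2 := by
    intro i j k hij hjk
    by_cases hik : i = k
    · subst hik
      rw [← cj (X j) _ (k0 i j hij)]; congr 1; group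
    · obtain ⟨g, hg⟩ := h.lift (σ := swap (pi' i) (pi' j) * swap (pi' j) (pi' k))
        (by rw [map_mul, sign_swap (pi_ne hij), sign_swap (pi_ne hjk)]; simp)
      have ea : f g (pa m) = pa m := by
        rw [hg, Perm.mul_apply, swap_apply_of_ne_of_ne (pi_ne_pa j).symm (pi_ne_pa k).symm,
          swap_apply_of_ne_of_ne (pi_ne_pa i).symm (pi_ne_pa j).symm]
      have eb : f g (pb m) = pb m := by
        rw [hg, Perm.mul_apply, swap_apply_of_ne_of_ne (pi_ne_pb j).symm (pi_ne_pb k).symm,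
          swap_apply_of_ne_of_ne (pi_ne_pb i).symm (pi_ne_pb j).symm]
      have mv : ∀ a b : Fin m, f g (pi' a) = pi' b → g * X a * g⁻¹ = X b := fun a b hab =>
        h.uniq3 h3 (by
          rw [map_mul, map_mul, map_inv, hX, hX, tc, tc, ← hab]
          conv_rhs => rw [← ea, ← eb, swap_apply_apply, swap_apply_apply]
          group) (by rw [conj_pow, hX3]; group) (hX3 b)
      have e1 := mv i j (by
        rw [hg, Perm.mul_apply, swap_apply_of_ne_of_ne (pi_ne hij) (pi_ne hik), swap_apply_left])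
      have e2 := mv j k (by
        rw [hg, Perm.mul_apply, swap_apply_left,
          swap_apply_of_ne_of_ne (pi_ne (Ne.symm hik)) (pi_ne hjk.symm)])
      rw [← cj g _ (k0 i j hij), ← e2, ← e1]; congr 1; group
  by_cases hm : ∃ i j : Fin m, i ≠ j
  · obtain ⟨i, j, hij⟩ := hm
    refine ⟨(X i * X j) ^ 2, k0 i j hij, ?_, fun k l hkl => ?_⟩
    · set Y := X i * X j with hY
      set c := Y ^ 2 with hc
      have hcc := h.cen c (k0 i j hij)
      have e1 : ((X i)⁻¹ * Y * (X i)⁻¹⁻¹) ^ 2 = c := cj _ _ (k0 i j hij)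
      have e2 : ((X i) * Y * (X i)⁻¹) ^ 2 = c := cj _ _ (k0 i j hij)
      have e3 : ((X i)⁻¹ * Y * (X i)⁻¹⁻¹) * ((X i) * Y * (X i)⁻¹) = Y⁻¹ := by
        rw [hY, inv_inv, mul_inv_rev, ← carm_sq (hX3 j)]
        calc (X i)⁻¹ * (X i * X j) * X i * (X i * (X i * X j) * (X i)⁻¹)
            = X j * X i ^ 3 * X j * (X i)⁻¹ := by rw [pow_three]; group
          _ = _ := by rw [hX3, mul_one]
      generalize (X i)⁻¹ * Y * (X i)⁻¹⁻¹ = A at e1 e3
      generalize (X i) * Y * (X i)⁻¹ = B at e2 e3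
      have e4 : (A * B) ^ 2 = c⁻¹ := by rw [e3, inv_pow]
      have e5 : (B * A) ^ 2 = c⁻¹ := by
        rw [← e4, ← cj B (A * B) (by rw [e4, map_inv, k0 i j hij, inv_one])]; congr 1; group
      have e6 : B * A = Y * c ^ 2 := by
        have a1 : A = A⁻¹ * c := by rw [← e1, sq]; group
        have a2 : B = B⁻¹ * c := by rw [← e2, sq]; group
        rw [← inv_inv Y, ← e3, mul_inv_rev]
        conv_lhs => rw [a1, a2]
        rw [mul_assoc, ← mul_assoc c, (hcc _).eq, sq]; group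
      rw [e6, ((hcc Y).pow_left 2).symm.mul_pow, ← hc] at e5
      refine eq_one_of_pow (f := f) (by rw [map_pow, k0 i j hij, one_pow]) h3 ?_
      have := mul_eq_one_iff_eq_inv.2 e5
      rw [← this]; group
    · by_cases e : l = i
      · subst e; exact k1 k l j hkl hij
      · exact (k1 k l i hkl e).trans (k1 l i j e hij)
  · exact ⟨1, map_one f, one_pow _, fun i j hij => absurd ⟨i, j, hij⟩ hm⟩

theorem card_ker_le_two (hd : f.ker ≤ _root_.commutator Γ) (h3 : Nat.Coprime 3 (Nat.card f.ker)) :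
    Nat.card f.ker ≤ 2 := by
  obtain ⟨X, hX, hX3⟩ := h.lift3 h3
  obtain ⟨c, h1, h2, h4⟩ := h.exists_c h3 hX hX3
  haveI : (zpowers c).Normal := ⟨fun w hw g => by
    rw [← (commute_of_mem_zpowers (h.cen c h1 g) hw).eq, mul_inv_cancel_right]; exact hw⟩
  refine (h.card_ker_le hd hX (zpowers c) hX3 fun i j hij => h4 i j hij ▸ mem_zpowers c).trans ?_
  rw [Nat.card_zpowers]
  exact orderOf_le_of_pow_eq_one (by norm_num) h2

theorem card_ker_le_one (hm : 6 ≤ m) (hd : f.ker ≤ _root_.commutator Γ) (ho : Odd (Nat.card f.ker)) :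
    Nat.card f.ker ≤ 1 := by
  have h2 : Nat.Coprime 2 (Nat.card f.ker) := Nat.coprime_two_left.2 ho
  have lift2 : ∀ σ : Perm (Fin (m + 2)), sign σ = 1 → σ * σ = 1 → ∃ T, f T = σ ∧ T * T = 1 := by
    intro σ h1 h3
    obtain ⟨T, hT⟩ := h.lift h1
    obtain ⟨k, hk⟩ := ho
    refine ⟨T ^ Nat.card f.ker, ?_, ?_⟩
    · rw [map_pow, hT, hk, pow_succ, pow_mul, sq, h3, one_pow, one_mul]
    · rw [← (Commute.refl T).mul_pow, pow_card (by rw [map_mul, hT, h3])]
  have fresh : ∀ s : Finset (Fin m), s.card ≤ 4 → ∃ u v, u ≠ v ∧ u ∉ s ∧ v ∉ s := by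
    intro s hs
    have : 1 < sᶜ.card := by rw [Finset.card_compl, Fintype.card_fin]; omega
    obtain ⟨u, hu, v, hv, huv⟩ := Finset.one_lt_card.1 this
    exact ⟨u, v, huv, Finset.mem_compl.1 hu, Finset.mem_compl.1 hv⟩
  have dbl : ∀ (x y : Fin (m + 2)) (k l : Fin m), x ≠ y → k ≠ l → x ≠ pi' k → x ≠ pi' l → y ≠ pi' k →
      y ≠ pi' l → ∃ T, f T = swap x y * swap (pi' k) (pi' l) ∧ T * T = 1 := by
    intro x y k l h1 h3 h4 h5 h6 h7
    refine lift2 _ (by rw [map_mul, sign_swap h1, sign_swap (pi_ne h3)]; simp) ?_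
    rw [← sq, (swap_commute h4 h5 h6 h7).mul_pow, sq, sq, swap_mul_self, swap_mul_self, one_mul]
  let Inv : Γ → Fin m → Fin m → Prop := fun X k l =>
    ∀ T, f T = swap (pa m) (pb m) * swap (pi' k) (pi' l) → T * X * T⁻¹ = X⁻¹
  have uniq : ∀ (X X' T : Γ), f X = f X' → T * X * T⁻¹ = X⁻¹ → T * X' * T⁻¹ = X'⁻¹ → X = X' := by
    intro X X' T e h1 h3
    obtain ⟨w, hw, rfl⟩ := h.eq_mul e
    have h4 : T * (X' * w) * T⁻¹ = X'⁻¹ * w := by
      rw [← h3, mul_assoc (T * X'), ← (h.cen w hw T⁻¹).eq]; group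
    rw [h4, mul_inv_rev, ((h.cen w hw X').inv_inv).eq, mul_right_inj] at h1
    rw [eq_one_of_pow hw h2 (by rw [sq]; nth_rewrite 2 [h1]; simp), mul_one]
  have step : ∀ (i : Fin m) (X : Γ) (k l u v : Fin m), f X = tc i → k ≠ l → u ≠ v → i ≠ k → i ≠ l →
      i ≠ u → i ≠ v → k ≠ u → k ≠ v → l ≠ u → l ≠ v → Inv X k l → Inv X u v := by
    intro i X k l u v hX kl uv ik il iu iv ku kv lu lv hI T hT
    obtain ⟨S, hS, S2⟩ := dbl (pa m) (pb m) k l (pa_ne_pb m) kl (pi_ne_pa k).symm (pi_ne_pa l).symm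
      (pi_ne_pb k).symm (pi_ne_pb l).symm
    have c1 := swap_commute (pi_ne_pa k) (pi_ne_pb k) (pi_ne_pa l) (pi_ne_pb l)
    have e1 : f (S * T) = swap (pi' k) (pi' l) * swap (pi' u) (pi' v) := by
      rw [map_mul, hS, hT, ← c1.eq, mul_assoc, ← mul_assoc (swap (pa m) (pb m)), swap_mul_self, one_mul]
    have c2 : ∀ k l : Fin m, i ≠ k → i ≠ l → Commute (swap (pi' k) (pi' l)) (tc i) := fun k l a b =>
      (swap_commute (pi_ne a.symm) (pi_ne_pa k) (pi_ne b.symm) (pi_ne_pa l)).mul_right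
        (swap_commute (pi_ne_pa k) (pi_ne_pb k) (pi_ne_pa l) (pi_ne_pb l))
    obtain ⟨w, hw, e2⟩ := h.eq_mul (u := S * T * X * (S * T)⁻¹) (v := X) (by
      rw [map_mul, map_mul, map_inv, e1, hX, ((c2 k l ik il).mul_left (c2 u v iu iv)).eq,
        mul_inv_cancel_right])
    have e3 : f (S * T * (S * T)) = 1 := by
      rw [map_mul, e1, ← sq, (swap_commute (pi_ne ku) (pi_ne kv) (pi_ne lu) (pi_ne lv)).mul_pow, sq, sq,
        swap_mul_self, swap_mul_self, one_mul]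
    have e4 : X * w ^ 2 = X := by
      calc X * w ^ 2 = S * T * X * (S * T)⁻¹ * w := by rw [e2, sq, mul_assoc]
        _ = S * T * (X * w) * (S * T)⁻¹ := by
          rw [mul_assoc (S * T * X), ← (h.cen w hw _).eq]; group
        _ = S * T * (S * T) * X * (S * T * (S * T))⁻¹ := by rw [← e2]; group
        _ = X := by rw [(h.cen _ e3 X).eq, mul_inv_cancel_right]
    rw [eq_one_of_pow hw h2 (by simpa using e4), mul_one] at e2
    have e5 := hI S hS
    have e6 : S⁻¹ = S := inv_eq_of_mul_eq_one_left S2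
    calc T * X * T⁻¹ = S⁻¹ * (S * T * X * (S * T)⁻¹) * S := by group
      _ = X⁻¹ := by rw [e2, ← e5, e6]
  have all : ∀ i : Fin m, ∃ X, f X = tc i ∧ X ^ 3 = 1 ∧ ∀ k l, k ≠ l → i ≠ k → i ≠ l → Inv X k l := by
    intro i
    obtain ⟨k, l, kl, hk, hl⟩ := fresh {i} (by simp)
    rw [Finset.mem_singleton] at hk hl
    obtain ⟨S, hS, S2⟩ := dbl (pa m) (pb m) k l (pa_ne_pb m) kl (pi_ne_pa k).symm (pi_ne_pa l).symm
      (pi_ne_pb k).symm (pi_ne_pb l).symm
    obtain ⟨R, hR, R2⟩ := dbl (pi' i) (pa m) k l (pi_ne_pa i) kl (pi_ne (Ne.symm hk)) (pi_ne (Ne.symm hl))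
      (pi_ne_pa k).symm (pi_ne_pa l).symm
    have c1 := swap_commute (pi_ne_pa k) (pi_ne_pb k) (pi_ne_pa l) (pi_ne_pb l)
    have e0 : f (R * S) = tc i := by
      rw [map_mul, hR, hS, ← c1.eq, mul_assoc, ← mul_assoc (swap (pi' k) (pi' l)), swap_mul_self,
        one_mul, tc]
    have e1 : S * (R * S) * S⁻¹ = (R * S)⁻¹ := by
      rw [mul_inv_rev, inv_eq_of_mul_eq_one_left R2, inv_eq_of_mul_eq_one_left S2, ← mul_assoc,
        mul_assoc (S * R), S2, mul_one]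
    have e2 : Inv (R * S) k l := fun T hT => by rw [h.conj_eq (hT.trans hS.symm), e1]
    refine ⟨R * S, e0, ?_, fun u v uv iu iv => ?_⟩
    · have e3 : f ((R * S) ^ 3) = 1 := by rw [map_pow, e0, tc_cube]
      refine eq_one_of_pow e3 h2 ?_
      have e4 : (R * S) ^ 3 = ((R * S) ^ 3)⁻¹ := by
        rw [← inv_pow, ← e1, conj_pow, ← (h.cen _ e3 S).eq, mul_inv_cancel_right]
      rw [sq]; nth_rewrite 2 [e4]; simp
    · by_cases hd : k ≠ u ∧ k ≠ v ∧ l ≠ u ∧ l ≠ v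
      · exact step i _ k l u v e0 kl uv (Ne.symm hk) (Ne.symm hl) iu iv hd.1 hd.2.1 hd.2.2.1 hd.2.2.2 e2
      · obtain ⟨s, hs, h1, h3, h4, h5, h6⟩ : ∃ s : Finset (Fin m), s.card ≤ 4 ∧ i ∈ s ∧ k ∈ s ∧ l ∈ s ∧
            u ∈ s ∧ v ∈ s := by
          by_cases a1 : k = u
          · exact ⟨{i, l, u, v}, Finset.card_le_four, by simp [a1]⟩
          by_cases a2 : k = v
          · exact ⟨{i, l, u, v}, Finset.card_le_four, by simp [a2]⟩
          by_cases a3 : l = u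
          · exact ⟨{i, k, u, v}, Finset.card_le_four, by simp [a3]⟩
          by_cases a4 : l = v
          · exact ⟨{i, k, u, v}, Finset.card_le_four, by simp [a4]⟩
          exact absurd ⟨a1, a2, a3, a4⟩ hd
        obtain ⟨x, y, xy, hx, hy⟩ := fresh s hs
        have n1 : ∀ a ∈ s, a ≠ x := fun a ha e => hx (e ▸ ha)
        have n2 : ∀ a ∈ s, a ≠ y := fun a ha e => hy (e ▸ ha)
        exact step i _ x y u v e0 xy uv (n1 i h1) (n2 i h1) iu iv (n1 u h5).symm (n1 v h6).symm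
          (n2 u h5).symm (n2 v h6).symm (step i _ k l x y e0 kl xy (Ne.symm hk) (Ne.symm hl) (n1 i h1)
            (n2 i h1) (n1 k h3) (n2 k h3) (n1 l h4) (n2 l h4) e2)
  choose X hX hX3 hXI using all
  refine (h.card_ker_le hd hX ⊥ hX3 fun i j hij => ?_).trans card_bot.le
  obtain ⟨k, l, kl, hk, hl⟩ := fresh {i, j} (Finset.card_le_two.trans (by norm_num))
  simp only [Finset.mem_insert, Finset.mem_singleton, not_or] at hk hl
  obtain ⟨S, hS, S2⟩ := dbl (pa m) (pb m) k l (pa_ne_pb m) kl (pi_ne_pa k).symm (pi_ne_pa l).symm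
    (pi_ne_pb k).symm (pi_ne_pb l).symm
  obtain ⟨R, hR, R2⟩ := dbl (pi' i) (pa m) k l (pi_ne_pa i) kl (pi_ne (Ne.symm hk.1))
    (pi_ne (Ne.symm hl.1)) (pi_ne_pa k).symm (pi_ne_pa l).symm
  obtain ⟨Q, hQ, Q2⟩ := dbl (pi' j) (pb m) k l (pi_ne_pb j) kl (pi_ne (Ne.symm hk.2))
    (pi_ne (Ne.symm hl.2)) (pi_ne_pb k).symm (pi_ne_pb l).symm
  have c1 := swap_commute (pi_ne_pa k) (pi_ne_pb k) (pi_ne_pa l) (pi_ne_pb l)
  have c2 := swap_commute (pi_ne hk.2) (pi_ne_pb k) (pi_ne hl.2) (pi_ne_pb l)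
  have iS := inv_eq_of_mul_eq_one_left S2
  have iR := inv_eq_of_mul_eq_one_left R2
  have iQ := inv_eq_of_mul_eq_one_left Q2
  have e1 : X i = R * S := uniq _ _ S (by
      rw [hX, map_mul, hR, hS, ← c1.eq, mul_assoc, ← mul_assoc (swap (pi' k) (pi' l)), swap_mul_self,
        one_mul, tc]) (hXI i k l kl (Ne.symm hk.1) (Ne.symm hl.1) S hS)
      (by rw [mul_inv_rev, iR, iS, ← mul_assoc, mul_assoc (S * R), S2, mul_one])
  have e2 : X j = S * Q := uniq _ _ S (by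
      rw [hX, map_mul, hQ, hS, ← c2.eq, mul_assoc, ← mul_assoc (swap (pi' k) (pi' l)), swap_mul_self,
        one_mul, tc_eq]) (hXI j k l kl (Ne.symm hk.2) (Ne.symm hl.2) S hS)
      (by rw [mul_inv_rev, iQ, iS, ← mul_assoc, S2, one_mul])
  have e3 : f ((X i * X j) ^ 2) = 1 := by rw [map_pow, map_mul, hX, hX, tc_rel hij]
  have e4 : X i * X j = R * Q := by rw [e1, e2, mul_assoc, ← mul_assoc S, S2, one_mul]
  rw [mem_bot]
  refine eq_one_of_pow e3 h2 ?_
  rw [e4] at e3 ⊢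
  have e5 : (R * Q) ^ 2 = ((R * Q) ^ 2)⁻¹ := by
    calc (R * Q) ^ 2 = R * (R * Q) ^ 2 * R⁻¹ := by rw [← (h.cen _ e3 R).eq, mul_inv_cancel_right]
      _ = (R * R) * (Q * R) * Q * R⁻¹ := by rw [sq]; group
      _ = _ := by rw [R2, one_mul, ← inv_pow, mul_inv_rev, iR, iQ, sq, mul_assoc (Q * R)]
  rw [sq]; nth_rewrite 2 [e5]; simp

end CE

end CfsgH2
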