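import Cfsg.Agent.H2.Carm2

/-! The double covers of the alternating groups. -/

set_option autoImplicit false

namespace CfsgH2
open Subgroup Cfsg Equiv Equiv.Perm
open scoped commutatorElement

theorem cl_cube {R : Type*} [Ring R] [Algebra ℚ R] {a : R} (ha : a * a = -3) :
    ((1 / 2 : ℚ) • (a - 1)) ^ 3 = 1 := by
  have h : (a - 1) ^ 3 = 8 := by
    calc (a - 1) ^ 3 = a * a * a - 3 * (a * a) + 3 * a - 1 := by noncomm_ring
      _ = 8 := by rw [ha]; noncomm_ring; norm_num
  rw [smul_pow, h, show (8 : R) = (8 : ℚ) • (1 : R) by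
    rw [Algebra.smul_def, mul_one, map_ofNat], smul_smul]
  norm_num

theorem cl_sq {R : Type*} [Ring R] [Algebra ℚ R] {a b : R} (ha : a * a = -3) (hb : b * b = -3)
    (hab : a * b + b * a = -2) :
    (((1 / 2 : ℚ) • (a - 1)) * ((1 / 2 : ℚ) • (b - 1))) ^ 2 = -1 := by
  have hba : b * a = -2 - a * b := by rw [← hab]; noncomm_ring
  have h : ((a - 1) * (b - 1)) ^ 2 = -16 := by
    calc ((a - 1) * (b - 1)) ^ 2 = a * (b * a) * b - a * (b * a) - a * (b * b) + a * b - a * a * b +
          a * a + a * b - a - b * a * b + b * a + b * b - b + a * b - a - b + 1 := by noncomm_ring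
      _ = -(a * a * (b * b)) + a * a * b - a * (b * b) - a * a * b + a * a + a * (b * b) + b * b - 1 := by
        rw [hba, show (2 : R) = 1 + 1 by norm_num]; noncomm_ring
      _ = -16 := by rw [ha, hb]; noncomm_ring; norm_num
  rw [smul_mul_smul_comm, smul_pow, h, show (-16 : R) = (-16 : ℚ) • (1 : R) by
    rw [Algebra.smul_def, mul_one, map_neg, map_ofNat],
    smul_smul, show ((1 / 2 * (1 / 2) : ℚ) ^ 2 * -16) = -1 by norm_num, neg_smul, one_smul]

theorem exists_spin (m : ℕ) : ∃ (T : Type) (_ : Group T) (c : T) (X : Fin m → T), c ≠ 1 ∧ c * c = 1 ∧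
    (∀ t, Commute c t) ∧ (∀ i, X i ^ 3 = 1) ∧ ∀ i j, i ≠ j → (X i * X j) ^ 2 = c := by
  let M : Matrix (Fin m) (Fin m) ℚ := Matrix.of fun i j => if i = j then -3 else -1
  let Q : QuadraticForm ℚ (Fin m → ℚ) := LinearMap.BilinMap.toQuadraticMap (Matrix.toBilin' M)
  let v : Fin m → CliffordAlgebra Q := fun i => CliffordAlgebra.ι Q (Pi.single i 1)
  have h1 : ∀ i, v i * v i = -3 := fun i => by
    simp only [v]
    rw [CliffordAlgebra.ι_sq_scalar, LinearMap.BilinMap.toQuadraticMap_apply, Matrix.toBilin'_single]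
    simp only [M, Matrix.of_apply, if_true, map_neg, map_ofNat]
  have h2 : ∀ i j, i ≠ j → v i * v j + v j * v i = -2 := fun i j hij => by
    simp only [v]
    rw [CliffordAlgebra.ι_mul_ι_add_swap, LinearMap.BilinMap.polar_toQuadraticMap, Matrix.toBilin'_single,
      Matrix.toBilin'_single]
    simp only [M, Matrix.of_apply, hij, hij.symm, if_false]
    rw [show (-1 + -1 : ℚ) = -2 by norm_num, map_neg, map_ofNat]
  haveI : CharZero (CliffordAlgebra Q) := algebraRat.charZero _
  refine ⟨(CliffordAlgebra Q)ˣ, inferInstance, -1,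
    fun i => Units.ofPowEqOne _ 3 (cl_cube (h1 i)) (by norm_num), fun e => ?_, by simp,
    fun t => Commute.neg_one_left t, fun i => Units.ext (by simpa using cl_cube (h1 i)),
    fun i j hij => Units.ext (by simpa using cl_sq (h1 i) (h1 j) (h2 i j hij))⟩
  have : (-1 : CliffordAlgebra Q) = 1 := by simpa using congrArg Units.val e
  exact absurd this (by norm_num)

theorem mem_commutator_of_gen3 {Γ : Type*} [Group Γ] {ι : Type*} {X : ι → Γ}
    (ht : closure (Set.range X) = ⊤) (h3 : ∀ i, X i ^ 3 = 1) {z : Γ} (hz : z * z = 1) :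
    z ∈ _root_.commutator Γ := by
  have key : ∀ g : Γ, Abelianization.of g ^ 3 = 1 := by
    intro g
    have hg := ht.ge (mem_top g)
    induction hg using closure_induction with
    | mem x hx => obtain ⟨i, rfl⟩ := hx; rw [← map_pow, h3, map_one]
    | one => simp
    | mul x y _ _ h1 h2 => rw [map_mul, mul_pow, h1, h2, one_mul]
    | inv x _ h1 => rw [map_inv, inv_pow, h1, inv_one]
  have := key z
  rw [← map_pow, pow_three, hz, mul_one] at this
  rwa [← Abelianization.ker_of]

theorem exists_cover (m : ℕ) (hm : 2 ≤ m) : ∃ (Γ : Type) (_ : Group Γ) (_ : Finite Γ)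
    (f : Γ →* Perm (Fin (m + 2))) (z : Γ), CE f ∧ orderOf z = 2 ∧ f.ker = zpowers z ∧
      z ∈ _root_.commutator Γ := by
  obtain ⟨T, _, c, X, c1, cc, cz, X3, X2⟩ := exists_spin m
  let Y : Fin m → T × Perm (Fin (m + 2)) := fun i => (X i, tc i)
  let K := closure (Set.range Y)
  let X' : Fin m → K := fun i => ⟨Y i, subset_closure ⟨i, rfl⟩⟩
  let f : K →* Perm (Fin (m + 2)) := (MonoidHom.snd _ _).comp K.subtype
  have Y2 : ∀ i j, i ≠ j → (Y i * Y j) ^ 2 = (c, 1) := fun i j hij =>
    Prod.ext (X2 i j hij) (tc_rel hij)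
  have i01 : (⟨0, by omega⟩ : Fin m) ≠ ⟨1, by omega⟩ := by simp
  let z : K := (X' ⟨0, by omega⟩ * X' ⟨1, by omega⟩) ^ 2
  have hz : (z : T × Perm (Fin (m + 2))) = (c, 1) := Y2 _ _ i01
  have zc : ∀ g : K, Commute z g := fun g => Subtype.ext (by
    show (z : T × Perm (Fin (m + 2))) * g = g * z
    rw [hz]; exact Prod.ext (cz _) (by simp))
  have zz : z * z = 1 := Subtype.ext (by
    show (z : T × Perm (Fin (m + 2))) * z = 1
    rw [hz]; exact Prod.ext cc (by simp))
  have zo : orderOf z = 2 := orderOf_eq_prime (by rw [sq, zz]) fun e =>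
    c1 (congrArg Prod.fst (hz.symm.trans (congrArg Subtype.val e)))
  haveI : (zpowers z).Normal := ⟨fun w hw g => by
    rw [← (commute_of_mem_zpowers (zc g) hw).eq, mul_inv_cancel_right]; exact hw⟩
  have ht : closure (Set.range X') = ⊤ := by
    apply map_injective K.subtype_injective
    rw [MonoidHom.map_closure, ← Set.range_comp, ← MonoidHom.range_eq_map, range_subtype]; rfl
  have h3 : ∀ i, X' i ^ 3 = 1 := fun i => Subtype.ext (Prod.ext (X3 i) (tc_cube i))
  obtain ⟨hf, hi⟩ := carm_index X' (zpowers z) h3 (fun i j hij => by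
    have : (X' i * X' j) ^ 2 = z := Subtype.ext ((Y2 i j hij).trans hz.symm)
    rw [this]; exact mem_zpowers z) ht
  haveI : Finite (zpowers z) := Nat.finite_of_card_ne_zero (by rw [Nat.card_zpowers, zo]; norm_num)
  haveI : Finite K := Finite.of_equiv _ (groupEquivQuotientProdSubgroup (s := zpowers z)).symm
  have hr : f.range = alternatingGroup _ := by
    rw [MonoidHom.range_eq_map, ← ht, MonoidHom.map_closure, ← Set.range_comp, ← closure_tc]; rfl
  have hle : zpowers z ≤ f.ker := zpowers_le.2 (congrArg Prod.snd hz)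
  have hk : f.ker = zpowers z := by
    refine (eq_of_le_of_card_le hle ?_).symm
    have e2 : 2 * f.ker.index = (m + 2).factorial := by rw [index_ker, hr, two_mul_card_alt]
    have e3 := (zpowers z).card_mul_index
    have e4 := f.ker.card_mul_index
    have e5 : 0 < f.ker.index := Nat.pos_of_ne_zero index_ne_zero_of_finite
    refine Nat.le_of_mul_le_mul_right ?_ e5
    rw [e4, ← e3]
    exact Nat.mul_le_mul_left _ (by omega)
  exact ⟨K, inferInstance, inferInstance, f, z,
    ⟨fun g hg x => commute_of_mem_zpowers (zc x) (hk.le hg), hr⟩, zo, hk, mem_commutator_of_gen3 ht h3 zz⟩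

variable {Γ : Type*} [Group Γ] {m : ℕ}

theorem CE.of_quot (Z : Subgroup Γ) [Z.Normal] (hZ : Z ≤ center Γ)
    (e : Γ ⧸ Z ≃* alternatingGroup (Fin (m + 2))) :
    ∃ f : Γ →* Perm (Fin (m + 2)), CE f ∧ f.ker = Z := by
  let f : Γ →* Perm (Fin (m + 2)) :=
    (alternatingGroup _).subtype.comp (e.toMonoidHom.comp (QuotientGroup.mk' Z))
  have hk : f.ker = Z := by
    ext g
    rw [MonoidHom.mem_ker, ← QuotientGroup.eq_one_iff]
    simp [f]
  refine ⟨f, ⟨fun g hg x => (mem_center_iff.1 (hZ (hk.le hg)) x).symm, ?_⟩, hk⟩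
  ext σ
  constructor
  · rintro ⟨g, rfl⟩; exact (e g).2
  · intro h
    obtain ⟨g, hg⟩ := QuotientGroup.mk'_surjective Z (e.symm ⟨σ, h⟩)
    exact ⟨g, by simp only [f, MonoidHom.comp_apply, hg]; simp⟩

theorem CE.quot_equiv {f : Γ →* Perm (Fin (m + 2))} (h : CE f) (N : Subgroup Γ) [N.Normal]
    (hN : f.ker = N) : Nonempty (Γ ⧸ N ≃* alternatingGroup (Fin (m + 2))) :=
  ⟨((QuotientGroup.quotientMulEquivOfEq hN.symm).trans (QuotientGroup.quotientKerEquivRange f)).trans
    (MulEquiv.subgroupCongr h.rng)⟩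

end CfsgH2
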