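import Cfsg.Agent.H2.Extra
import Cfsg.Agent.H1.Bridge

/-! Degrees of representations of an extraspecial group extended by a semiregular group. -/

set_option autoImplicit false

namespace CfsgH2
open Subgroup Cfsg Module
open scoped commutatorElement

variable {G : Type*} [Group G] [Finite G] {q : ℕ} [hq : Fact q.Prime]

omit [Finite G] hq in
theorem ES.subgroupOf {E L : Subgroup G} {z : G} (h : ES q E z) (hE : E ≤ L) :
    ES q (E.subgroupOf L) ⟨z, hE h.mem⟩ := by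
  have hz : ∀ w : L, (w : G) ∈ zpowers z → w ∈ zpowers (⟨z, hE h.mem⟩ : L) := by
    rintro w ⟨i, hi⟩
    exact ⟨i, Subtype.ext hi⟩
  exact
    { mem := h.mem
      ord := by rw [← Subgroup.orderOf_coe]; exact h.ord
      cent := fun x hx => Subtype.ext (h.cent x hx)
      comm := fun x hx y hy => hz _ (h.comm x hx y hy)
      pow := fun x hx => hz _ (h.pow x hx)
      nondeg := fun x hx hc => hz _ (h.nondeg x hx fun y hy =>
        congrArg Subtype.val (hc ⟨y, hE hy⟩ hy)) }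

variable {F V : Type*} [Field F] [IsAlgClosed F] [AddCommGroup V] [Module F V] [FiniteDimensional F V]

theorem es_dim_top {Q X : Subgroup G} {z : G} (h : ES q Q z) (ρ : Representation F G V)
    (hz : z ∉ MonoidHom.ker ρ) [IsMulCommutative X] (hXQ : X ≤ normalizer (Q : Set G))
    (htop : Q ⊔ X = ⊤) (hcop : (Nat.card X).Coprime (Nat.card Q))
    (hQ : (Nat.card Q : F) ≠ 0) (hX : (Nat.card X : F) ≠ 0) (hzX : ∀ x ∈ X, Commute z x)
    (hfree : ∀ x ∈ X, x ≠ 1 → Q ⊓ centralizer {x} ≤ zpowers z) {n : ℕ}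
    (hn : Nat.card Q = q ^ (2 * n + 1)) :
    (Nat.card X = 1 ∨ Nat.card X ∣ q ^ n + 1 ∨ Nat.card X ∣ q ^ n - 1) ∧
      (CfsgH1.fixS ρ X = ⊥ → q ^ n = 1 ∨ q ^ n + 1 = Nat.card X) := by
  have hzc : ∀ g, Commute z g := fun g => by
    obtain ⟨a, ha, x, hx, rfl⟩ := (mem_sup_of_normalizer hXQ).1 (htop.ge (mem_top g))
    exact (h.cent a ha).mul_right (hzX x hx)
  haveI : (zpowers z).Normal := ⟨fun w hw g => by
    rw [← (commute_of_mem_zpowers (hzc g) hw).eq, mul_inv_cancel_right]; exact hw⟩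
  have hZc : (Nat.card (zpowers z) : F) ≠ 0 := CfsgH1.natCast_card_ne_zero_of_le hQ h.toPES.toCZ.zle
  obtain ⟨W, hW, hnt, h1, h2⟩ := CfsgH1.exists_schur_sub (ρ := ρ) (zpowers z) hZc
    (fun e => hz (e (mem_zpowers z)))
  have key := CfsgH1.symplectic_type_dim (ρ := ρ.subrepresentation W hW) (Z := zpowers z) hXQ hcop hQ hX
    (fun T hT => h2 T fun g => hT g (htop.ge (mem_top g)))
    (fun w hw => h2 _ fun g => (commute_of_mem_zpowers (hzc g) hw).map _)
    h.toPES.toCZ.commutator_le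
    (fun a ha hc => h.nondeg a ha fun y hy => by
      by_contra hn
      have e : zpowers (a * y * a⁻¹ * y⁻¹) = zpowers z :=
        zpowers_eq_of_prime h.ord (h.comm a ha y hy) fun e => hn (commute_of_comm_eq_one e)
      have k : zpowers z ≤ MonoidHom.ker (ρ.subrepresentation W hW) := by
        rw [← e, zpowers_le, MonoidHom.mem_ker, map_mul, map_mul, map_mul, (hc y hy).eq, ← map_mul,
          ← map_mul, ← map_mul, show y * a * a⁻¹ * y⁻¹ = 1 by group, map_one]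
      rw [CfsgH1.fixS_eq_top_iff.2 k] at h1
      exact top_ne_bot h1)
    hfree
  rw [h.relIndex_z hn] at key
  have e : ∀ d : ℕ, d ^ 2 = q ^ (2 * n) → d = q ^ n := fun d hd =>
    Nat.pow_left_injective two_ne_zero (by simp only; rw [hd, ← pow_mul, mul_comm])
  refine ⟨key.1.imp id fun k => by rw [← e _ k.1]; exact k.2, fun hf => ?_⟩
  have k := key.2 (by
    rw [← Submodule.finrank_eq_zero, CfsgH1.finrank_fixS_sub, hf, inf_bot_eq, finrank_bot])
  rw [← e _ k.1]; exact k.2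

theorem es_dim {Q X : Subgroup G} {z : G} (h : ES q Q z) (ρ : Representation F ↥(Q ⊔ X) V)
    (hz : (⟨z, mem_sup_left h.mem⟩ : ↥(Q ⊔ X)) ∉ MonoidHom.ker ρ) [IsMulCommutative X]
    (hXQ : X ≤ normalizer (Q : Set G)) (hcop : (Nat.card X).Coprime (Nat.card Q))
    (hQ : (Nat.card Q : F) ≠ 0) (hX : (Nat.card X : F) ≠ 0) (hzX : ∀ x ∈ X, Commute z x)
    (hfree : ∀ x ∈ X, x ≠ 1 → Q ⊓ centralizer {x} ≤ zpowers z) {n : ℕ}
    (hn : Nat.card Q = q ^ (2 * n + 1)) :
    (Nat.card X = 1 ∨ Nat.card X ∣ q ^ n + 1 ∨ Nat.card X ∣ q ^ n - 1) ∧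
      (CfsgH1.fixS ρ (X.subgroupOf (Q ⊔ X)) = ⊥ → q ^ n = 1 ∨ q ^ n + 1 = Nat.card X) := by
  have c1 := CfsgH1.card_subgroupOf_of_le (le_sup_left : Q ≤ Q ⊔ X)
  have c2 := CfsgH1.card_subgroupOf_of_le (le_sup_right : X ≤ Q ⊔ X)
  have := es_dim_top (X := X.subgroupOf (Q ⊔ X)) (h.subgroupOf le_sup_left) ρ hz
    (CfsgH1.subgroupOf_le_normalizer hXQ)
    (by rw [← subgroupOf_sup le_sup_left le_sup_right, subgroupOf_self])
    (by rwa [c1, c2]) (by rwa [c1]) (by rwa [c2]) (fun x hx => Subtype.ext (hzX x hx))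
    (fun x hx h1 w hw => by
      obtain ⟨i, hi⟩ := hfree x hx (fun e => h1 (Subtype.ext e)) (show (w : G) ∈ _ from
        ⟨hw.1, mem_centralizer_singleton_iff.2
          (congrArg Subtype.val (mem_centralizer_singleton_iff.1 hw.2))⟩)
      exact ⟨i, Subtype.ext hi⟩) (n := n) (by rwa [c1])
  rwa [c2] at this

end CfsgH2
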