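import Cfsg.Agent.H2.GL2
import Cfsg.Agent.H2.Focal
import Cfsg.Agent.H2.CharP
import Cfsg.Agent.H1.Wielandt
import Cfsg.Agent.H8.Prim1

/-! Extremely primitive groups: Manning's faithfulness theorem. -/

set_option autoImplicit false

namespace CfsgH2
open Subgroup Cfsg CfsgFT MulAction
open scoped commutatorElement Pointwise

variable {G Ω : Type*} [Group G] [Finite G] [MulAction G Ω]

omit [Finite G] in
theorem ncard_orbit_sub (X : Subgroup G) (a : Ω) :
    (orbit X a).ncard = (stabilizer G a).relIndex X := by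
  rw [← index_stabilizer]; rfl

omit [Finite G] in
theorem stab_smul (g : G) (a : Ω) : stabilizer G (g • a) = cj g (stabilizer G a) :=
  stabilizer_smul_eq_stabilizer_map_conj g a

theorem relIndex_stab_symm [IsPretransitive G Ω] (a b : Ω) :
    (stabilizer G a).relIndex (stabilizer G b) = (stabilizer G b).relIndex (stabilizer G a) := by
  obtain ⟨g, hg⟩ := exists_smul_eq G a b
  have h1 := CfsgH2.card_mul_relIndex (inf_le_right : stabilizer G a ⊓ stabilizer G b ≤ _)
  have h2 := CfsgH2.card_mul_relIndex (inf_le_left : stabilizer G a ⊓ stabilizer G b ≤ _)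
  rw [inf_relIndex_right] at h1
  rw [inf_relIndex_left] at h2
  have h3 : Nat.card (stabilizer G b) = Nat.card (stabilizer G a) := by rw [← hg, stab_smul, card_cj]
  exact Nat.eq_of_mul_eq_mul_left Nat.card_pos (by rw [h1, h2, h3])

/-- An extremely primitive action, seen from the point `α`. -/
structure ExP (G : Type*) [Group G] [MulAction G Ω] (α : Ω) : Prop where
  prim : IsPreprimitive G Ω
  ep : ∀ ω : Ω, IsPreprimitive (stabilizer G α) (orbit (stabilizer G α) ω)
  ne : stabilizer G α ≠ ⊥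

namespace ExP
variable [Finite Ω] [FaithfulSMul G Ω] {α : Ω} (h : ExP G α)
include h

omit [Finite G] [Finite Ω] [FaithfulSMul G Ω] in
theorem sup_eq {γ : Ω} {K : Subgroup G} (hK : K ≤ stabilizer G α) (hn : ¬ K ≤ stabilizer G γ) :
    K ⊔ stabilizer G α ⊓ stabilizer G γ = stabilizer G α := by
  obtain ⟨k, hk, hk'⟩ := SetLike.not_le_iff_exists.1 hn
  haveI := h.ep γ
  haveI : Nontrivial (orbit (stabilizer G α) γ) := ⟨⟨⟨(⟨k, hK hk⟩ : stabilizer G α) • γ, mem_orbit γ _⟩, ⟨γ, mem_orbit_self γ⟩,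
    fun e => hk' (mem_stabilizer_iff.2 (congrArg Subtype.val e))⟩⟩
  have h1 := IsPreprimitive.isCoatom_stabilizer_of_isPreprimitive (stabilizer G α)
    (⟨γ, mem_orbit_self γ⟩ : orbit (stabilizer G α) γ)
  have h2 := h1.2 ((K ⊔ stabilizer G α ⊓ stabilizer G γ).subgroupOf (stabilizer G α)) (lt_of_le_of_ne
    (fun x hx => mem_sup_right ⟨x.2, congrArg Subtype.val hx⟩) fun e => hk' (by
      have : (⟨k, hK hk⟩ : stabilizer G α) ∈ stabilizer (stabilizer G α)
        (⟨γ, mem_orbit_self γ⟩ : orbit (stabilizer G α) γ) := e ▸ mem_sup_left hk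
      exact congrArg Subtype.val this))
  exact le_antisymm (sup_le hK inf_le_left) (subgroupOf_eq_top.1 h2)

omit [Finite G] in
theorem not_le {β : Ω} (hb : β ≠ α) : ¬ stabilizer G α ≤ stabilizer G β := fun e =>
  h.ne (CfsgH8.prim_stabilizer_le h.prim hb.symm e).1

theorem not_le' {β : Ω} (hb : β ≠ α) : ¬ stabilizer G β ≤ stabilizer G α := fun e => by
  haveI := h.prim.toIsPretransitive
  obtain ⟨g, hg⟩ := exists_smul_eq G β α
  exact h.not_le hb (eq_of_le_of_card_le e (by rw [← hg, stab_smul, card_cj])).ge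

omit [Finite G] [FaithfulSMul G Ω] in
theorem strict {X : Subgroup G} (hX : ¬ X ≤ stabilizer G α) {a : Ω} (ha : a ≠ α)
    (hle : orbit (stabilizer G α) a ⊆ orbit X a) :
    (stabilizer G a).relIndex (stabilizer G α) < (stabilizer G a).relIndex X := by
  rw [← ncard_orbit_sub, ← ncard_orbit_sub]
  refine Set.ncard_lt_ncard (hle.ssubset_of_ne fun e => ?_) (Set.toFinite _)
  haveI := h.prim
  haveI : Nontrivial Ω := ⟨⟨a, α, ha⟩⟩
  have h1 : stabilizer G α ≤ stabilizer G (orbit (stabilizer G α) a) := fun x hx =>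
    smul_orbit (⟨x, hx⟩ : stabilizer G α) a
  have h2 : X ≤ stabilizer G (orbit (stabilizer G α) a) := fun x hx => by
    rw [e]; exact smul_orbit (⟨x, hx⟩ : X) a
  have h3 := (IsPreprimitive.isCoatom_stabilizer_of_isPreprimitive G α).2 _
    (lt_of_le_of_ne h1 fun e' => hX (e' ▸ h2))
  obtain ⟨g, hg⟩ := exists_smul_eq G a α
  have h4 : g • orbit (stabilizer G α) a = orbit (stabilizer G α) a :=
    (h3 ▸ mem_top g : g ∈ stabilizer G (orbit (stabilizer G α) a))
  obtain ⟨x, hx⟩ : α ∈ orbit (stabilizer G α) a := h4 ▸ ⟨a, mem_orbit_self a, hg⟩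
  have h5 : (x : G) • a = (x : G) • α := hx.trans (mem_stabilizer_iff.1 x.2).symm
  exact ha (smul_left_cancel _ h5)

/-- Manning: a nontrivial normal subgroup of the stabilizer fixes no further point. -/
theorem manning {K : Subgroup G} (hK : K ≤ stabilizer G α) (hn : stabilizer G α ≤ N(K)) (h0 : K ≠ ⊥)
    {b : Ω} (hb : b ≠ α) : ¬ K ≤ stabilizer G b := fun hb' => by
  haveI := h.prim.toIsPretransitive
  obtain ⟨β, ⟨b1, b2⟩, b3⟩ := Set.exists_max_image {β | β ≠ α ∧ K ≤ stabilizer G β}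
    (fun β => (stabilizer G β).relIndex (stabilizer G α)) (Set.toFinite _) ⟨b, hb, hb'⟩
  obtain ⟨γ, c1, c2⟩ := Set.exists_max_image {γ | ¬ K ≤ stabilizer G γ}
    (fun β => (stabilizer G β).relIndex (stabilizer G α)) (Set.toFinite _) (by
      by_contra hn'
      rw [Set.not_nonempty_iff_eq_empty, Set.eq_empty_iff_forall_notMem] at hn'
      exact h0 (eq_bot_iff.2 fun x hx => mem_bot.2 (eq_of_smul_eq_smul (α := Ω) fun a => by
        rw [one_smul]; exact not_not.1 (hn' a) hx)))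
  have c3 : γ ≠ α := fun e => c1 (e ▸ hK)
  have h1 := h.sup_eq hK c1
  have h2 := h.strict (h.not_le' b1) c3 (by
    rintro _ ⟨x, rfl⟩
    obtain ⟨k, hk, m, hm, e⟩ := (mem_sup_of_normalizer (inf_le_left.trans hn)).1 (h1.ge x.2)
    refine ⟨⟨k, b2 hk⟩, ?_⟩
    show k • γ = (x : G) • γ
    rw [← e, mul_smul, mem_stabilizer_iff.1 hm.2])
  have h3 := h.strict (h.not_le' c3) b1 (by
    rintro _ ⟨x, rfl⟩
    obtain ⟨m, hm, k, hk, e⟩ := (mem_sup_of_normalizer' (inf_le_left.trans hn)).1 ((h1.ge.trans (sup_comm _ _).le) x.2)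
    refine ⟨⟨m, hm.2⟩, ?_⟩
    show m • β = (x : G) • β
    rw [← e, mul_smul, mem_stabilizer_iff.1 (b2 hk)])
  rw [relIndex_stab_symm β γ] at h3
  obtain ⟨g, hg⟩ := exists_smul_eq G β α
  have h4 : (stabilizer G (g • γ)).relIndex (stabilizer G α) = (stabilizer G γ).relIndex (stabilizer G β) := by
    rw [← hg, stab_smul, stab_smul, relIndex_cj]
  by_cases e : K ≤ stabilizer G (g • γ)
  · have := b3 (g • γ) ⟨fun e' => c1 (by rw [smul_left_cancel g (e'.trans hg.symm)]; exact b2), e⟩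
    omega
  · have := c2 _ e
    omega

theorem eq_bot_of {K X : Subgroup G} (hK : K ≤ stabilizer G α) (hn : stabilizer G α ≤ N(K)) (h0 : K ≠ ⊥)
    {b : Ω} (hb : b ≠ α) (h1 : X ≤ stabilizer G α ⊓ stabilizer G b) (h2 : K ≤ N(X))
    (h3 : stabilizer G α ⊓ stabilizer G b ≤ N(X)) : X = ⊥ := by
  by_contra hX
  exact h.manning (h1.trans inf_le_left) ((h.sup_eq hK (h.manning hK hn h0 hb)).ge.trans (sup_le h2 h3)) hX hb
    (h1.trans inf_le_right)

theorem exists_ne : ∃ b : Ω, b ≠ α := by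
  by_contra hn
  push Not at hn
  exact h.ne (eq_bot_iff.2 fun x _ => mem_bot.2 (eq_of_smul_eq_smul (α := Ω) fun a => by
    rw [hn (x • a), hn (1 • a)]))

theorem cent_le {V : Subgroup G} (hV : V ≤ stabilizer G α) (hn : stabilizer G α ≤ N(V)) (h0 : V ≠ ⊥)
    (hc : V ≤ C(V)) : stabilizer G α ⊓ C(V) ≤ V := fun x hx => by
  obtain ⟨b, hb⟩ := h.exists_ne
  have h1 := h.eq_bot_of hV hn h0 hb (inf_le_left : stabilizer G α ⊓ stabilizer G b ⊓ C(V) ≤ _)
    ((le_centralizer_iff.1 inf_le_right).trans (centralizer_le_normalizer _))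
    (le_normalizer_inf' le_normalizer (le_normalizer_centralizer' (inf_le_left.trans hn)))
  obtain ⟨k, hk, m, hm, rfl⟩ := (mem_sup_of_normalizer (inf_le_left.trans hn)).1
    ((h.sup_eq hV (h.manning hV hn h0 hb)).symm ▸ hx.1)
  have h2 : m ∈ stabilizer G α ⊓ stabilizer G b ⊓ C(V) := ⟨hm, (mul_mem_cancel_left (hc hk)).1 hx.2⟩
  rw [h1, mem_bot] at h2
  rwa [h2, mul_one]

theorem dvd_card {V : Subgroup G} (hV : V ≤ stabilizer G α) (hn : stabilizer G α ≤ N(V)) (h0 : V ≠ ⊥)
    (hc : V ≤ C(V)) : Nat.card V ∣ Nat.card Ω - 1 := by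
  let S : SubMulAction V Ω := ⟨{b | b ≠ α}, fun v b hb e => hb (smul_left_cancel (v : G)
    (e.trans (mem_stabilizer_iff.1 (hV v.2)).symm))⟩
  have e := selfEquivOrbitsQuotientProd (G := V) (X := S) fun b => eq_bot_iff.2 fun v hv => by
    have h1 := h.eq_bot_of hV hn h0 b.2 (inf_le_left : stabilizer G α ⊓ stabilizer G b.1 ⊓ V ≤ _)
      ((le_centralizer_iff.1 (inf_le_right.trans hc)).trans (centralizer_le_normalizer _))
      (le_normalizer_inf' le_normalizer (inf_le_left.trans hn))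
    have h2 : (v : G) ∈ stabilizer G α ⊓ stabilizer G b.1 ⊓ V := ⟨⟨hV v.2, congrArg Subtype.val hv⟩, v.2⟩
    rw [h1, mem_bot] at h2
    exact mem_bot.2 (Subtype.ext h2)
  have h1 : Nat.card S = Nat.card Ω - 1 := by
    rw [show Nat.card S = ({α}ᶜ : Set Ω).ncard from rfl, Set.ncard_compl, Set.ncard_singleton]
  rw [← h1, Nat.card_congr e, Nat.card_prod]
  exact dvd_mul_left _ _

theorem center_eq (hp : ¬ (Nat.card (stabilizer G α)).Prime) : stabilizer G α ⊓ C(stabilizer G α) = ⊥ := by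
  by_contra hn
  obtain ⟨x, hx, x1⟩ := (bot_or_exists_ne_one _).resolve_left hn
  obtain ⟨q, hq, hd⟩ := Nat.exists_prime_and_dvd (n := Nat.card (zpowers x)) (by
    rw [Nat.card_zpowers]; simpa using x1)
  haveI := Fact.mk hq
  obtain ⟨y, hy⟩ := exists_prime_orderOf_dvd_card' q hd
  have h1 : zpowers (y : G) ≤ stabilizer G α ⊓ C(stabilizer G α) :=
    zpowers_le_of_mem (zpowers_le_of_mem hx y.2)
  have h2 : Nat.card (zpowers (y : G)) = q := by rw [Nat.card_zpowers, Subgroup.orderOf_coe, hy]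
  have h3 : stabilizer G α ≤ C(zpowers (y : G)) := le_centralizer_iff.1 (h1.trans inf_le_right)
  have h4 := h.cent_le (h1.trans inf_le_left) (h3.trans (centralizer_le_normalizer _)) (fun e => by
    rw [e, card_bot] at h2; exact hq.one_lt.ne h2) ((h1.trans inf_le_left).trans h3)
  rw [inf_eq_left.2 h3] at h4
  exact hp (by rw [le_antisymm h4 (h1.trans inf_le_left), h2]; exact hq)

theorem fitting (h0 : (fittingSubgroup (stabilizer G α)).map (stabilizer G α).subtype ≠ ⊥) :
    ∃ p, p.Prime ∧ IsElementaryAbelian p ((fittingSubgroup (stabilizer G α)).map (stabilizer G α).subtype) := by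
  have h1 := CfsgH1.isNilpotent_map_fitting (stabilizer G α)
  haveI := CfsgH1.fittingSubgroup_characteristic (stabilizer G α)
  have h2 : stabilizer G α ≤ N((fittingSubgroup (stabilizer G α)).map (stabilizer G α).subtype) :=
    le_normalizer.trans (CfsgH1.normalizer_le_normalizer_map_of_characteristic _)
  have h3 := map_subtype_le (fittingSubgroup (stabilizer G α))
  generalize (fittingSubgroup (stabilizer G α)).map (stabilizer G α).subtype = F at h0 h1 h2 h3
  obtain ⟨V, p, hp, a1, a2, a3, a4, a5⟩ := CfsgH1.exists_ea_normalized inferInstance h0 h3 h2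
  have h4 := (a5 ⁅V, F⁆ (commutator_le_left_of_normalizer (h3.trans a4))
    (le_normalizer_commutator' a4 h2)).resolve_right fun e => a2 (eq_bot_of_le_commutator h1 a1 e.ge)
  have h5 := h.cent_le (a1.trans h3) a4 a2 (isMulCommutative_iff_le_centralizer.1 a3.1)
  exact ⟨p, hp, ea_mono a3 ((le_inf h3 (le_centralizer_iff.1 (le_centralizer_of_commutator_eq_bot h4))).trans h5)⟩

end ExP

end CfsgH2
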