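import Cfsg.Agent.H2.ExPrim
import Cfsg.Agent.H8.Aff1

/-! Soluble extremely primitive groups. -/

set_option autoImplicit false

namespace CfsgH2
open Subgroup Cfsg CfsgFT MulAction
open scoped commutatorElement Pointwise

variable {G Ω : Type*} [Group G] [Finite G] [MulAction G Ω]

omit [Finite G] in
theorem trans_of_normal [FaithfulSMul G Ω] (h : IsPreprimitive G Ω) {N : Subgroup G} [N.Normal]
    (h0 : N ≠ ⊥) : IsPretransitive N Ω :=
  IsQuasiPreprimitive.isPretransitive_of_normal fun e => h0 (eq_bot_iff.2 fun x hx =>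
    mem_bot.2 (eq_of_smul_eq_smul (α := Ω) fun a => by
      rw [one_smul]; exact (e.ge (Set.mem_univ a)) ⟨x, hx⟩))

theorem gal_of_fix {p d : ℕ} [Fact p.Prime] (hd : d ≠ 0) {C : Type*} [Group C]
    (φ : C →* Equiv.Perm (GaloisField p d)) (hi : Function.Injective φ)
    (h : ∀ c, ∃ σ : GaloisField p d ≃+* GaloisField p d, ∀ x, φ c x = σ x) :
    IsCyclic C ∧ Nat.card C ∣ d := by
  let ι := MulAction.toPermHom (GaloisField p d ≃ₐ[ZMod p] GaloisField p d) (GaloisField p d)
  have h1 : ∀ c, φ c ∈ ι.range := fun c => by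
    obtain ⟨σ, hσ⟩ := h c
    refine ⟨AlgEquiv.ofRingEquiv (f := σ) fun r => RingHom.congr_fun (Subsingleton.elim
      (σ.toRingHom.comp (algebraMap (ZMod p) _)) (algebraMap (ZMod p) _)) r, Equiv.ext fun x => (hσ x).symm⟩
  have h2 : Function.Injective (φ.codRestrict _ h1) := fun a b e => hi (congrArg Subtype.val e)
  haveI : IsCyclic ι.range := isCyclic_of_surjective _ ι.rangeRestrict_surjective
  refine ⟨isCyclic_of_injective _ h2, (card_dvd_of_injective _ h2).trans
    ((card_dvd_of_surjective _ ι.rangeRestrict_surjective).trans ?_)⟩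
  rw [IsGalois.card_aut_eq_finrank, GaloisField.finrank p hd]

namespace ExP
variable [Finite Ω] [FaithfulSMul G Ω] {α : Ω} (h : ExP G α)
include h

theorem semireg {V : Subgroup G} (hV : V ≤ stabilizer G α) (hn : stabilizer G α ≤ N(V)) (h0 : V ≠ ⊥)
    (hc : V ≤ C(V)) {b : Ω} (hb : b ≠ α) : V ⊓ (stabilizer G α ⊓ stabilizer G b) = ⊥ := by
  rw [inf_comm]
  exact h.eq_bot_of hV hn h0 hb (inf_le_left : stabilizer G α ⊓ stabilizer G b ⊓ V ≤ _)
      ((le_centralizer_iff.1 (inf_le_right.trans hc)).trans (centralizer_le_normalizer _))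
      (le_normalizer_inf' le_normalizer (inf_le_left.trans hn))

theorem card_stab {V : Subgroup G} (hV : V ≤ stabilizer G α) (hn : stabilizer G α ≤ N(V)) (h0 : V ≠ ⊥)
    (hc : V ≤ C(V)) {b : Ω} (hb : b ≠ α) : Nat.card (stabilizer G α) =
      Nat.card V * Nat.card (stabilizer G α ⊓ stabilizer G b : Subgroup G) := by
  rw [← CfsgH1.card_sup_of_disjoint (inf_le_left.trans hn) (disjoint_iff.2 (h.semireg hV hn h0 hc hb)),
    h.sup_eq hV (h.manning hV hn h0 hb)]

theorem card_orbit {V : Subgroup G} (hV : V ≤ stabilizer G α) (hn : stabilizer G α ≤ N(V)) (h0 : V ≠ ⊥)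
    (hc : V ≤ C(V)) {b : Ω} (hb : b ≠ α) : Nat.card (orbit (stabilizer G α) b) = Nat.card V := by
  have h1 := CfsgH2.card_mul_relIndex (inf_le_left : stabilizer G α ⊓ stabilizer G b ≤ _)
  rw [inf_relIndex_left, ← ncard_orbit_sub, h.card_stab hV hn h0 hc hb, mul_comm (Nat.card V)] at h1
  exact Nat.eq_of_mul_eq_mul_left Nat.card_pos h1

theorem irr {V N : Subgroup G} [N.Normal] (hV : V ≤ stabilizer G α) (hn : stabilizer G α ≤ N(V))
    (h0 : V ≠ ⊥) (hN : N ≤ C(N)) {W : Subgroup G} (hW : W ≤ N) (hW0 : W ≠ ⊥)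
    (hi : ∀ u ∈ V, ∀ w ∈ W, u * w * u⁻¹ ∈ W) : W = N := by
  haveI := trans_of_normal h.prim (N := N) fun e => hW0 (le_bot_iff.1 (e ▸ hW))
  have reg : ∀ x ∈ N, ∀ y ∈ N, x • α = y • α → x = y := fun x hx y hy e =>
    (inv_mul_eq_one.1 (CfsgH8.centralizer_semiregular N (a := α) (hN (mul_mem (inv_mem hy) hx))
      (by rw [mul_smul, e, inv_smul_smul]))).symm
  have h1 : stabilizer G α ≤ N(W) := by
    refine fun x hx => CfsgH2.mem_normalizer_of_conj_mem fun w hw => ?_
    by_cases e : w • α = α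
    · rw [reg w (hW hw) 1 (one_mem _) (by rw [e, one_smul])]; simp
    obtain ⟨k, hk, m, hm, rfl⟩ := (mem_sup_of_normalizer (inf_le_left.trans hn)).1
      ((h.sup_eq hV (h.manning hV hn h0 e)).ge hx)
    have h2 : m * w * m⁻¹ = w := reg _ (Normal.conj_mem inferInstance w (hW hw) m) w (hW hw) (by
      rw [mul_smul, mul_smul, mem_stabilizer_iff.1 (inv_mem hm.1), mem_stabilizer_iff.1 hm.2])
    have := hi k hk _ (h2.symm ▸ hw : m * w * m⁻¹ ∈ W)
    simpa [mul_assoc] using this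
  haveI : W.Normal := normalizer_eq_top_iff.1 (eq_top_iff.2 fun g _ => by
    obtain ⟨n, hn⟩ := exists_smul_eq N α (g • α)
    have h3 : (n : G)⁻¹ * g ∈ stabilizer G α := by
      rw [mem_stabilizer_iff, mul_smul, ← hn]; exact inv_smul_smul (n : G) α
    have h4 := mul_mem (centralizer_le_normalizer _ (centralizer_le hW (hN n.2))) (h1 h3)
    rwa [mul_inv_cancel_left] at h4)
  haveI := trans_of_normal h.prim hW0
  refine le_antisymm hW fun n hn => ?_
  obtain ⟨w, hw⟩ := exists_smul_eq W α (n • α)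
  rw [← reg w (hW w.2) n hn hw]; exact w.2

theorem solvable [Group.IsSolvable G] {p d : ℕ} (hp : p.Prime) (hcard : Nat.card Ω = p ^ d) :
    ∃ q : ℕ, q.Prime ∧ (∀ ω : Ω, ω ≠ α → Nat.card (orbit (stabilizer G α) ω) = q) ∧
      q ∣ p ^ d - 1 ∧ (∀ i : ℕ, 0 < i → i < d → ¬ q ∣ p ^ i - 1) ∧
      ∃ T : Subgroup G, T ≤ stabilizer G α ∧ stabilizer G α ≤ N(T) ∧ Nat.card T = q ∧
        (∃ h : G, stabilizer G α = T ⊔ zpowers h) ∧ Nat.card (stabilizer G α) ∣ q * d := by
  haveI := Fact.mk hp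
  obtain ⟨b0, hb0⟩ := h.exists_ne
  haveI : Nontrivial Ω := ⟨⟨b0, α, hb0⟩⟩
  have hd : d ≠ 0 := fun e => by
    rw [e, pow_zero] at hcard; exact Finite.one_lt_card.ne' hcard
  obtain ⟨N, r, -, -, n0, n1, n2, -⟩ := CfsgH1.exists_ea_normalized (H := (⊤ : Subgroup G)) (L := ⊤)
    inferInstance (fun e => h.ne (le_bot_iff.1 (e ▸ le_top))) le_rfl le_normalizer
  haveI : N.Normal := normalizer_eq_top_iff.1 (top_le_iff.1 n2)
  haveI := trans_of_normal h.prim n0
  obtain ⟨T, q, hq, t1, t0, t2, t3, -⟩ := CfsgH1.exists_ea_normalized (H := stabilizer G α)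
    (L := stabilizer G α) inferInstance h.ne le_rfl le_normalizer
  haveI := Fact.mk hq
  have tc := ea_le_centralizer t2
  have reg : ∀ x ∈ N, x • α = α → x = 1 := fun x hx e =>
    CfsgH8.centralizer_semiregular N (ea_le_centralizer n1 hx) e
  obtain ⟨e, ψ, e0, e1, e2, e3⟩ := CfsgH8.exists_aff_mdl N α (eq_bot_iff.2 fun x hx =>
    mem_bot.2 (Subtype.ext (reg x x.2 hx))) (ea_iff.1 n1).1 t1 (ea_iff.1 t2).1
    (fun W hW hW0 hi => h.irr t1 t3 t0 (ea_le_centralizer n1) hW hW0 hi) (GaloisField p d)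
    (by rw [GaloisField.card p d hd, hcard])
  have e4 : ∀ u ∈ T, ψ u = e (u • e.symm 1) := fun u hu => by rw [e3 u hu]; simp
  let χ : T →* GaloisField p d := 
    { toFun := fun u => ψ u
      map_one' := by rw [e4 _ (1 : T).2, coe_one, one_smul, Equiv.apply_symm_apply]
      map_mul' := fun u v => by rw [e4 _ (u * v).2, coe_mul, mul_smul, e3 _ u.2, ← e4 _ v.2] }
  have hχ : Function.Injective χ := fun u v huv => Subtype.ext (eq_of_smul_eq_smul (α := Ω) fun a =>
    e.injective (by rw [e3 _ u.2, e3 _ v.2]; exact congrArg (· * e a) huv))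
  have tq : Nat.card T = q := by
    obtain ⟨g, hg⟩ := isCyclic_iff_zpowers.1 (isCyclic_of_injective_ringHom χ hχ)
    rw [← hg, Nat.card_zpowers]
    exact orderOf_eq_of_mem_ea t2 (hg.le (mem_zpowers g)) fun e => t0 (by rw [← hg, e, zpowers_one_eq_bot])
  have hcl : AddSubgroup.closure (ψ '' T) = ⊤ := by
    let W : Subgroup G :=
      { carrier := {n | n ∈ N ∧ e (n • α) ∈ AddSubgroup.closure (ψ '' T)}
        mul_mem' := fun {x y} hx hy => ⟨mul_mem hx.1 hy.1, by
          rw [mul_smul, e1 x hx.1]; exact add_mem hy.2 hx.2⟩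
        one_mem' := ⟨one_mem _, by rw [one_smul, e0]; exact zero_mem _⟩
        inv_mem' := fun {x} hx => ⟨inv_mem hx.1, by
          have := e1 x hx.1 (x⁻¹ • α)
          rw [smul_inv_smul, e0, eq_comm, add_eq_zero_iff_eq_neg] at this
          rw [this]; exact neg_mem hx.2⟩ }
    have hW : W = N := h.irr t1 t3 t0 (ea_le_centralizer n1) (fun _ hx => hx.1) (fun hb => by
      obtain ⟨n, hn⟩ := exists_smul_eq N α (e.symm 1)
      have h1 : (n : G) ∈ W := ⟨n.2, by
        rw [show (n : G) • α = e.symm 1 from hn, Equiv.apply_symm_apply]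
        exact AddSubgroup.subset_closure ⟨1, one_mem _, map_one χ⟩⟩
      rw [hb, mem_bot] at h1
      have h2 : (n : G) • α = e.symm 1 := hn
      rw [h1, one_smul, Equiv.eq_symm_apply, e0] at h2
      exact zero_ne_one h2) fun u hu w hw => ⟨Normal.conj_mem inferInstance w hw.1 u, by
        rw [mul_smul, mul_smul, mem_stabilizer_iff.1 (inv_mem (t1 hu)), e3 u hu]
        refine AddSubgroup.closure_induction (p := fun x _ => ψ u * x ∈ AddSubgroup.closure (ψ '' T))
          ?_ (by simp) (fun x y _ _ a b => by rw [mul_add]; exact add_mem a b)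
          (fun x _ a => by rw [mul_neg]; exact neg_mem a) hw.2
        rintro _ ⟨v, hv, rfl⟩
        exact AddSubgroup.subset_closure ⟨u * v, mul_mem hu hv, map_mul χ ⟨u, hu⟩ ⟨v, hv⟩⟩⟩
    refine eq_top_iff.2 fun x _ => ?_
    obtain ⟨n, hn⟩ := exists_smul_eq N α (e.symm x)
    have := (hW.ge n.2).2
    rwa [show (n : G) • α = e.symm x from hn, Equiv.apply_symm_apply] at this
  have hb : e.symm 1 ≠ α := fun h1 => by
    rw [Equiv.symm_apply_eq, e0] at h1; exact one_ne_zero h1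
  obtain ⟨c1, c2⟩ := gal_of_fix hd (C := (stabilizer G α ⊓ stabilizer G (e.symm 1) : Subgroup G))
    (e.permCongrHom.toMonoidHom.comp ((MulAction.toPermHom G Ω).comp (Subgroup.subtype _)))
    (e.permCongrHom.injective.comp (MulAction.toPerm_injective.comp Subtype.val_injective)) fun m => by
      obtain ⟨a, ha⟩ := e2 m m.2.1
      obtain ⟨c, σ, hσ⟩ := CfsgH8.semilin_of a (fun x y hxy => by
        rw [← e.apply_symm_apply x, ← e.apply_symm_apply y, ← ha, ← ha] at hxy
        exact e.symm.injective (smul_left_cancel _ (e.injective hxy))) _ hcl (by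
          rintro _ ⟨u, hu, rfl⟩
          refine ⟨ψ (m * u * (m : G)⁻¹), fun y => ?_⟩
          rw [← e.apply_symm_apply y, ← e3 u hu, ← ha, ← ha,
            ← e3 _ (CfsgH2.conj_mem_of_mem_normalizer (t3 m.2.1) hu)]
          simp [mul_smul])
      have h1 := hσ 1
      rw [map_one σ, mul_one, ← e.apply_symm_apply 1, ← ha, mem_stabilizer_iff.1 m.2.2] at h1
      refine ⟨σ, fun x => ?_⟩
      have h2 := hσ x
      rw [← h1, Equiv.apply_symm_apply, one_mul, ← e.apply_symm_apply x, ← ha, Equiv.apply_symm_apply] at h2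
      exact h2
  obtain ⟨g, hg⟩ := isCyclic_iff_zpowers.1 c1
  refine ⟨q, hq, fun ω hω => by rw [h.card_orbit t1 t3 t0 tc hω, tq], by
    rw [← tq, ← hcard]; exact h.dvd_card t1 t3 t0 tc, fun i i0 i1 hi => ?_, T, t1, t3, tq,
    ⟨g, by rw [hg, h.sup_eq t1 (h.manning t1 t3 t0 hb)]⟩, by
      rw [h.card_stab t1 t3 t0 tc hb, tq]; exact mul_dvd_mul_left q c2⟩
  have h1 : FiniteField.frobeniusAlgHom (ZMod p) (GaloisField p d) ^ i = 1 := by
    refine AlgHom.ext fun x => ?_
    refine AddSubgroup.closure_induction (p := fun x _ =>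
      (FiniteField.frobeniusAlgHom (ZMod p) (GaloisField p d) ^ i) x = x) ?_ (map_zero _)
      (fun x y _ _ a b => by rw [map_add, a, b]) (fun x _ a => by rw [map_neg, a]) (hcl.ge (AddSubgroup.mem_top x))
    rintro _ ⟨u, hu, rfl⟩
    obtain ⟨k, hk⟩ := hi
    have h2 : χ ⟨u, hu⟩ ^ q = 1 := by rw [← map_pow, ← map_one χ]; exact congrArg χ (Subtype.ext (t2.2 u hu))
    rw [AlgHom.coe_pow, FiniteField.coe_frobeniusAlgHom, pow_iterate, ZMod.card,
      show p ^ i = q * k + 1 by have := Nat.one_le_pow i p hp.pos; omega]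
    show χ ⟨u, hu⟩ ^ (q * k + 1) = χ ⟨u, hu⟩
    rw [pow_succ, pow_mul, h2, one_pow, one_mul]
  have h2 := orderOf_dvd_of_pow_eq_one h1
  rw [FiniteField.orderOf_frobeniusAlgHom, GaloisField.finrank p hd] at h2
  exact (Nat.le_of_dvd i0 h2).not_gt i1

end ExP

end CfsgH2
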