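import Cfsg.Agent.H2.Transfer
import Cfsg.Agent.H2.WClosed
import Mathlib.Algebra.Group.ForwardDiff

/-! The Hall–Wielandt transfer theorem. -/

open Subgroup Cfsg CfsgFT Finset
open scoped commutatorElement

namespace CfsgH2

variable {G : Type*} [Group G] [Finite G] {p : ℕ} [hp : Fact p.Prime]

theorem cast_choose_pred (k : ℕ) (hk : k < p) : (((p - 1).choose k : ℕ) : ZMod p) = (-1) ^ k := by
  induction k with
  | zero => simp
  | succ k ih =>
    have := (ZMod.natCast_eq_zero_iff _ _).2 (hp.out.dvd_choose_self k.succ_ne_zero hk)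
    rw [← Nat.sub_add_cancel hp.out.one_le, Nat.choose_succ_succ', Nat.sub_add_cancel hp.out.one_le, Nat.cast_add,
      ih (by omega)] at this
    rw [pow_succ, mul_neg_one, eq_neg_iff_add_eq_zero, add_comm, this]

theorem sum_eq_fwdDiff (f : ℕ → ZMod p) : ∑ j ∈ range p, f j = (fwdDiff 1)^[p - 1] f 0 := by
  rw [fwdDiff_iter_eq_sum_shift, Nat.sub_add_cancel hp.out.one_le]
  refine sum_congr rfl fun k hk => ?_
  have := mem_range.1 hk
  rw [zsmul_eq_mul, Int.cast_mul, Int.cast_natCast, cast_choose_pred k this, Int.cast_pow, Int.cast_neg, Int.cast_one,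
    ← pow_add, Nat.sub_add_cancel (by omega), ZMod.pow_card_sub_one_eq_one (by simp)]
  simp

theorem exists_hom_zmod {M N : Subgroup G} (hn : N ≤ N(M)) (h : M.relIndex N = p) : ∃ l : G → ZMod p,
    (∀ x ∈ N, ∀ y ∈ N, l (x * y) = l x + l y) ∧ ∀ x ∈ N, l x = 0 ↔ x ∈ M := by
  classical
  haveI := CfsgFT.normal_subgroupOf hn
  let e : N ⧸ M.subgroupOf N ≃* Multiplicative (ZMod p) := mulEquivOfPrimeCardEq h (by simp)
  refine ⟨fun x => if a : x ∈ N then (e (QuotientGroup.mk ⟨x, a⟩)).toAdd else 0, fun x a y b => ?_, fun x a => ?_⟩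
  · simp only [dif_pos a, dif_pos b, dif_pos (mul_mem a b), ← toAdd_mul, ← map_mul]
    rfl
  · simp [dif_pos a, mem_subgroupOf]

theorem exists_lam {H K : Subgroup G} [K.Normal] (h : ¬ K ⊓ H ≤ resIn p H) : ∃ l : G → ZMod p,
    (∀ x ∈ K ⊓ H, ∀ y ∈ K ⊓ H, l (x * y) = l x + l y) ∧ (∀ h ∈ H, ∀ x ∈ K ⊓ H, l (h * x * h⁻¹) = l x) ∧
      ∃ x ∈ K ⊓ H, l x ≠ 0 := by
  classical
  let f := QuotientGroup.mk' (pResidual p H)
  have q := isPGroup_quotient_pResidual p H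
  haveI := q.isNilpotent
  haveI := Normal.map (inferInstance : (K.subgroupOf H).Normal) f (QuotientGroup.mk'_surjective _)
  obtain ⟨M, m1, m2, m3, m4⟩ := exists_relIndex_prime (q.to_subgroup ((K.subgroupOf H).map f))
    (lt_of_le_of_ne (commutator_le_left _ ⊤) fun e => h fun x a => by
      have := (eq_bot_of_le_commutator_top e.ge).le (mem_map_of_mem f (show ⟨x, a.2⟩ ∈ K.subgroupOf H from a.1))
      exact map_pResidual H ▸ mem_map_of_mem _ ((QuotientGroup.eq_one_iff _).1 this))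
  obtain ⟨l, l1, l2⟩ := exists_hom_zmod m4 m3
  have k : ∀ {x} (a : x ∈ K ⊓ H), f ⟨x, a.2⟩ ∈ (K.subgroupOf H).map f := fun a => mem_map_of_mem f a.1
  refine ⟨fun x => if a : x ∈ H then l (f ⟨x, a⟩) else 0, fun x a y b => ?_, fun g a x b => ?_, ?_⟩
  · simp only [dif_pos (mem_inf.1 a).2, dif_pos (mem_inf.1 b).2, dif_pos (mem_inf.1 (mul_mem a b)).2, ← l1 _ (k a) _ (k b), ← map_mul]
    rfl
  · have c := m1 (commutator_mem_commutator (k b) (mem_top (f ⟨g, a⟩)))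
    simp only [dif_pos (mem_inf.1 b).2, dif_pos (mul_mem (mul_mem a (mem_inf.1 b).2) (inv_mem a))]
    have := l1 _ (m2 c) _ (Normal.conj_mem this _ (k b) (f ⟨g, a⟩))
    rw [(l2 _ (m2 c)).2 c, zero_add, commutatorElement_def, ← map_inv, ← map_inv, ← map_mul, ← map_mul, ← map_mul,
      ← map_mul, ← map_mul, ← map_mul] at this
    exact this.symm.trans (congrArg (fun y => l (f y)) (Subtype.ext (by simp [mul_assoc])))
  · obtain ⟨_, ⟨x, a, rfl⟩, b⟩ := SetLike.exists_of_lt (lt_of_relIndex_prime m3 m2)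
    exact ⟨x, ⟨a, x.2⟩, by simpa using mt (l2 _ (mem_map_of_mem f a)).1 b⟩

theorem sum_cocycle_eq_zero {X A : Type*} [MulAction G X] [AddCommGroup A] {u : G} (w : G → X → A)
    (hw : ∀ a ∈ zpowers u, ∀ b ∈ zpowers u, ∀ q, w (a * b) q = w a (b • q) + w b q) (O : Finset X)
    (hO : ∀ q, q ∈ O ↔ u • q ∈ O) (h : ∀ q, ∀ a ∈ zpowers u, u • q ∈ O → a • q = q → w a q = 0)
    (hO' : ∀ a ∈ zpowers u, ∀ q, a • q ∈ O → q ∈ O) : ∑ q ∈ O, w u q = 0 := by
  let r : X → X := fun q => (Quotient.mk (MulAction.orbitRel (zpowers u) X) q).out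
  have k : ∀ q, ∃ a ∈ zpowers u, a • r q = q := fun q => by
    obtain ⟨a, b⟩ := (MulAction.orbitRel (zpowers u) X).symm (Quotient.mk_out q)
    exact ⟨a, a.2, b⟩
  choose a a1 a2 using k
  have e : ∀ q ∈ O, w u q = w (a (u • q)) (r (u • q)) - w (a q) (r q) := fun q hq => by
    have e1 : r (u • q) = r q := congrArg Quotient.out (Quotient.sound ⟨⟨u, mem_zpowers u⟩, rfl⟩)
    have m := mul_mem (inv_mem (a1 (u • q))) (mul_mem (mem_zpowers u) (a1 q))
    have f : ((a (u • q))⁻¹ * (u * a q)) • r q = r q := by rw [mul_smul, mul_smul, a2, inv_smul_eq_iff, ← e1, a2]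
    have := hw _ (a1 (u • q)) _ m (r q)
    rw [mul_inv_cancel_left, hw _ (mem_zpowers u) _ (a1 q), a2, f, h _ _ m ((hO _).1 (hO' _ (a1 q) _ ((a2 q).symm ▸ hq))) f,
      add_zero] at this
    rw [e1, ← this, add_sub_cancel_right]
  rw [sum_congr rfl e, sum_sub_distrib, sub_eq_zero]
  exact sum_equiv (MulAction.toPerm u) hO fun _ _ => rfl

theorem hall_wielandt (P : Sylow p G) {Q : Subgroup G} (hQ : IsWeaklyClosed Q P)
    (h : ∀ u ∈ (P : Subgroup G), ∀ z ∈ Q, (fun y : G => y⁻¹ * z⁻¹ * y * z)^[p - 1] u = 1) :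
    pResidual p G ⊓ N(Q) ≤ resIn p N(Q) := by
  classical
  by_contra hc
  obtain ⟨l, l1, l2, l3⟩ := exists_lam hc
  set H := N(Q)
  set K := pResidual p G
  have PH : (P : Subgroup G) ≤ H := fun g a => cj_eq_iff_mem_normalizer.1 (hQ.2 g (cj_le_iff.2 fun x b =>
    mul_mem (mul_mem a (hQ.1 b)) (inv_mem a)))
  have sy := IsSylowIn.of_sylow P PH
  have l0 : l 1 = 0 := by simpa using l1 1 (one_mem _) 1 (one_mem _)
  have li : ∀ x ∈ K ⊓ H, l x⁻¹ = -l x := fun x a => by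
    rw [eq_neg_iff_add_eq_zero, ← l1 _ (inv_mem a) _ a, inv_mul_cancel, l0]
  obtain ⟨u, u1, u2, u3, u4⟩ : ∃ u ∈ (P : Subgroup G), u ∈ K ∧ l u ≠ 0 ∧ ∀ v ∈ K ⊓ H, orderOf v < orderOf u → l v = 0 := by
    obtain ⟨x, ⟨x1, x2⟩, x3⟩ := exists_minimalFor_of_wellFoundedLT (fun x => x ∈ K ⊓ H ∧ l x ≠ 0) orderOf l3
    obtain ⟨a, b, a1, b1, ⟨k, a2⟩, b2, e⟩ := exists_p_part (p := p) x
    have a3 := zpowers_le.2 x1 a1
    have b3 := zpowers_le.2 x1 b1
    have pw : ∀ n : ℕ, l (b ^ n) = n * l b := fun n => by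
      induction n with
      | zero => simpa
      | succ n ih => rw [pow_succ, l1 _ (pow_mem b3 n) _ b3, ih]; push_cast; ring
    have := pw (orderOf b)
    rw [pow_orderOf_eq_one, l0, eq_comm, mul_eq_zero, ZMod.natCast_eq_zero_iff] at this
    rw [e, l1 _ a3 _ b3, this.resolve_left ((Nat.Prime.coprime_iff_not_dvd hp.out).1 b2.symm), add_zero] at x2
    obtain ⟨g, g1, g2⟩ := sy.exists_cj_le (isPGroup_zpowers_of_orderOf a2) (zpowers_le.2 a3.2)
    refine ⟨_, g2 (conj_mem_cj g (mem_zpowers a)), Normal.conj_mem inferInstance a a3.1 g, by rwa [l2 g g1 a a3],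
      fun v v1 v2 => by_contra fun v3 => ?_⟩
    have := (orderOf_conj' g a ▸ v2).trans_le (Nat.le_of_dvd (orderOf_pos x) (orderOf_dvd_of_mem_zpowers a1))
    exact this.not_ge (x3 ⟨v1, v3⟩ this.le)
  have s : ∀ q : G ⧸ H, ∃ k ∈ K, (k : G ⧸ H) = q := fun q => by
    obtain ⟨g, rfl⟩ := QuotientGroup.mk_surjective q
    have : g ∈ (P : Subgroup G) ⊔ K := by
      rw [show K = _ from resIn_top.symm, (IsSylowIn.of_sylow_top P).sup_resIn]; trivial
    rw [sup_comm] at this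
    obtain ⟨k, a, y, b, rfl⟩ := mem_sup_of_normal_left.1 this
    exact ⟨k, a, (QuotientGroup.mk_mul_of_mem k (PH b)).symm⟩
  choose σ s1 s2 using s
  let c : G → G ⧸ H → G := fun g q => (σ (g • q))⁻¹ * g * σ q
  have c1 : ∀ g q, c g q ∈ H := fun g q => by
    rw [show c g q = (σ (g • q))⁻¹ * (g * σ q) from mul_assoc _ _ _, ← QuotientGroup.eq, s2, ← smul_eq_mul,
      ← MulAction.Quotient.smul_mk, s2]
  have c2 : ∀ g ∈ K, ∀ q, c g q ∈ K ⊓ H := fun g a q => mem_inf.2 ⟨mul_mem (mul_mem (inv_mem (s1 _)) a) (s1 _), c1 g q⟩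
  let w : G → G ⧸ H → ZMod p := fun g q => l (c g q)
  have w1 : ∀ a ∈ K, ∀ b ∈ K, ∀ q, w (a * b) q = w a (b • q) + w b q := fun a ha b hb q => by
    simp only [w, ← l1 _ (c2 a ha _) _ (c2 b hb _)]
    simp [c, mul_assoc, mul_smul]
  letI := Fintype.ofFinite (G ⧸ H)
  have T : ∑ q, w u q = 0 := by
    let T : K →* Multiplicative (ZMod p) := MonoidHom.mk' (fun g => Multiplicative.ofAdd (∑ q, w g q)) fun a b => by
      simp only [Subgroup.coe_mul, w1 _ a.2 _ b.2, sum_add_distrib, ofAdd_add]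
      rw [← Equiv.sum_comp (MulAction.toPerm (b : G)) (w a)]
      rfl
    have := pResidual_le_ker (IsPGroup.of_card (p := p) (n := 1) (by simp)) T (x := ⟨u, u2⟩) (by
      rw [← resIn_subgroupOf]
      change u ∈ resIn p (pResidual p G)
      rwa [← resIn_top, resIn_resIn, resIn_top])
    exact this
  set R := zpowers u ⊔ Q
  have RP : R ≤ P := sup_le (zpowers_le.2 u1) hQ.1
  have uR : u ∈ R := mem_sup_left (mem_zpowers u)
  have fx : ∀ g ∈ H, g • ((1 : G) : G ⧸ H) = (1 : G) := fun g a => by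
    rw [MulAction.Quotient.smul_mk, QuotientGroup.eq]; simpa
  rw [← sum_fiberwise univ (Quotient.mk (MulAction.orbitRel R (G ⧸ H))), sum_eq_single_of_mem
    (Quotient.mk _ ((1 : G) : G ⧸ H)) (mem_univ _), sum_eq_single_of_mem ((1 : G) : G ⧸ H) (by simp)] at T
  · have a : σ (1 : G) ∈ H := by simpa using QuotientGroup.eq.1 (s2 (1 : G))
    refine u3 (((l2 _ (inv_mem a) u ⟨u2, PH u1⟩).symm.trans ?_).trans T)
    simp only [w, c, fx u (PH u1), inv_inv]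
  · intro q a b
    obtain ⟨r, rfl⟩ := Quotient.exact (mem_filter.1 a).2
    exact (b (fx r (PH (RP r.2)))).elim
  intro o _ ho
  obtain ⟨q, rfl⟩ := Quotient.exists_rep o
  have mo : ∀ (L : Subgroup G) a, a ∈ univ.filter (Quotient.mk (MulAction.orbitRel L (G ⧸ H)) · = Quotient.mk _ q) ↔
      ∃ r ∈ L, r • q = a := fun L a => by
    rw [mem_filter, Quotient.eq]
    exact ⟨fun ⟨_, r, b⟩ => ⟨r, r.2, b⟩, fun ⟨r, a, b⟩ => ⟨mem_univ _, ⟨r, a⟩, b⟩⟩
  have mo' : ∀ (L : Subgroup G), ∀ g ∈ L, ∀ a, a ∈ univ.filter (Quotient.mk (MulAction.orbitRel L (G ⧸ H)) · =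
      Quotient.mk _ q) ↔ g • a ∈ univ.filter (Quotient.mk (MulAction.orbitRel L (G ⧸ H)) · = Quotient.mk _ q) :=
    fun L g hg a => by
      rw [mo, mo]
      exact ⟨fun ⟨r, a, b⟩ => ⟨_, mul_mem hg a, by rw [mul_smul, b]⟩, fun ⟨r, a, b⟩ =>
        ⟨_, mul_mem (inv_mem hg) a, by rw [mul_smul, b, inv_smul_smul]⟩⟩
  obtain ⟨M, m1, m2, m3, m4⟩ := exists_relIndex_prime (P.2.to_le RP) (Q := R ⊓ MulAction.stabilizer G q)
    (lt_of_le_of_ne inf_le_left fun e => ho (congrArg _ (by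
      have a : cj (σ q)⁻¹ Q ≤ H := cj_le_iff.2 fun x b => by
        have := c1 x q
        simp only [c, show x • q = q from (e.ge (mem_sup_right b)).2] at this
        rwa [inv_inv]
      obtain ⟨g, g1, g2⟩ := sy.exists_cj_le (IsPGroup_cj (P.2.to_le hQ.1) _) a
      rw [cj_cj] at g2
      rw [← s2 q, QuotientGroup.eq, mul_one]
      exact (mul_mem_cancel_left g1).1 (cj_eq_iff_mem_normalizer.1 (hQ.2 _ g2)))))
  have key : ∀ r ∈ R, ∀ a ∈ M, ∀ b ∈ M, r • a • q = b • q → r ∈ M := fun r hr a ha b hb e =>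
    (mul_mem_cancel_right ha).1 ((mul_mem_cancel_left (inv_mem hb)).1 (m1 (mem_inf.2 ⟨mul_mem (inv_mem (m2 hb)) (mul_mem hr (m2 ha)),
      show _ • q = q by rw [mul_smul, mul_smul, e, inv_smul_smul]⟩)))
  by_cases uM : u ∈ M
  swap
  · have zK := zpowers_le.2 u2
    refine sum_cocycle_eq_zero w (fun a ha b hb => w1 a (zK ha) b (zK hb)) _ (mo' R u uR) (fun q' a ha e f => ?_)
      fun a ha q' => (mo' R a (mem_sup_left ha) q').2
    obtain ⟨r, r1, rfl⟩ := (mo R _).1 ((mo' R u uR _).2 e)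
    refine u4 _ (c2 a (zK ha) _) ?_
    simp only [c, f]
    rw [← inv_inv (σ (r • q)), inv_inv (σ (r • q))⁻¹, orderOf_conj', ← Nat.card_zpowers, ← Nat.card_zpowers]
    refine card_lt_of_lt (lt_of_le_of_ne (zpowers_le.2 ha) fun e => uM (zpowers_le.2 ?_ (e ▸ mem_zpowers u)))
    have := conj_mem_of_mem_normalizer (m4 r1) (key (r⁻¹ * a * r) (mul_mem (mul_mem (inv_mem r1) (mem_sup_left ha)) r1)
      1 (one_mem _) 1 (one_mem _) (by rw [one_smul, mul_smul, mul_smul, f, inv_smul_smul]))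
    simpa [mul_assoc] using this
  obtain ⟨z, z1, z2⟩ : ∃ z ∈ Q, z ∉ M := by
    by_contra! a
    exact (lt_of_relIndex_prime m3 m2).not_ge (sup_le (zpowers_le.2 uM) a)
  have zR : z ∈ R := mem_sup_right z1
  have zp : z ^ p ∈ M := m3 ▸ pow_relIndex_mem' m4 zR
  set O := univ.filter (Quotient.mk (MulAction.orbitRel M (G ⧸ H)) · = Quotient.mk _ q)
  let S : G → ℕ → ZMod p := fun v j => ∑ a ∈ O, w ((z ^ j)⁻¹ * v * z ^ j) a
  have cm : ∀ v ∈ M ⊓ K, ∀ j : ℕ, (z ^ j)⁻¹ * v * z ^ j ∈ M ⊓ K := fun v a j =>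
    ⟨conj_mem_of_mem_normalizer' (m4 (pow_mem zR j)) a.1, Normal.conj_mem' inferInstance v a.2 _⟩
  have ad : ∀ a ∈ M ⊓ K, ∀ b ∈ M ⊓ K, ∑ x ∈ O, w (a * b) x = ∑ x ∈ O, w a x + ∑ x ∈ O, w b x := fun a ha b hb => by
    simp only [w1 _ ha.2 _ hb.2, sum_add_distrib]
    exact congrArg (· + _) (sum_equiv (MulAction.toPerm b) (mo' M b hb.1) fun _ _ => rfl)
  have en : ∀ n, (fun y : G => y⁻¹ * z⁻¹ * y * z)^[n] u ∈ M ⊓ K ∧
      S ((fun y : G => y⁻¹ * z⁻¹ * y * z)^[n] u) = (fwdDiff 1)^[n] (S u) := fun n => by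
    induction n with
    | zero => exact ⟨⟨uM, u2⟩, rfl⟩
    | succ n ih =>
      rw [Function.iterate_succ_apply', Function.iterate_succ_apply', ← ih.2]
      have a := mul_mem (inv_mem ih.1) (cm _ ih.1 1)
      simp only [pow_one, ← mul_assoc] at a
      refine ⟨a, funext fun j => eq_sub_of_add_eq' (((ad _ (cm _ ih.1 j) _ (cm _ a j)).symm.trans ?_))⟩
      simp only [S, pow_succ', mul_inv_rev, mul_assoc, mul_inv_cancel_left]
  have e0 := congrFun (en (p - 1)).2 0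
  rw [h u u1 z z1, ← sum_eq_fwdDiff] at e0
  have e1 : ∀ j, S u j = ∑ a ∈ O, w u (z ^ j • a) := fun j => by
    have zH := PH (RP (pow_mem zR j))
    have m := cm u ⟨uM, u2⟩ j
    have b : ∀ a, c (z ^ j) a * (z ^ j)⁻¹ ∈ K ⊓ H := fun a => mem_inf.2 ⟨by
      simpa [c, mul_assoc] using mul_mem (inv_mem (s1 (z ^ j • a))) (Normal.conj_mem inferInstance _ (s1 a) (z ^ j)),
      mul_mem (c1 _ _) (inv_mem zH)⟩
    have e : ∀ a, w u (z ^ j • a) = l (c (z ^ j) (((z ^ j)⁻¹ * u * z ^ j) • a) * (z ^ j)⁻¹) + w ((z ^ j)⁻¹ * u * z ^ j) a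
        - l (c (z ^ j) a * (z ^ j)⁻¹) := fun a => by
      have d := mem_inf.2 ⟨Normal.conj_mem inferInstance _ (c2 _ m.2 a).1 (z ^ j),
        mul_mem (mul_mem zH (c1 ((z ^ j)⁻¹ * u * z ^ j) a)) (inv_mem zH)⟩
      simp only [w]
      rw [← l2 _ zH _ (c2 _ m.2 a), ← l1 _ (b _) _ d, sub_eq_add_neg, ← li _ (b a), ← l1 _ (mul_mem (b _) d) _ (inv_mem (b a))]
      simp [c, mul_assoc, mul_smul]
    simp only [e, sum_sub_distrib, sum_add_distrib]
    rw [sum_equiv (MulAction.toPerm ((z ^ j)⁻¹ * u * z ^ j)) (g := fun a => l (c (z ^ j) a * (z ^ j)⁻¹))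
      (f := fun a => l (c (z ^ j) (((z ^ j)⁻¹ * u * z ^ j) • a) * (z ^ j)⁻¹)) (mo' M _ m.1)
      fun _ _ => rfl, add_sub_cancel_left]
  have inj : ∀ i j, i ≤ j → j < p → ∀ a ∈ O, ∀ b ∈ O, z ^ i • a = z ^ j • b → i = j := fun i j e hj a ha b hb f => by
    obtain ⟨a, a1, rfl⟩ := (mo M _).1 ha
    obtain ⟨b, b1, rfl⟩ := (mo M _).1 hb
    obtain ⟨k, rfl⟩ := Nat.exists_eq_add_of_le e
    rw [pow_add, mul_smul, smul_left_cancel_iff] at f
    by_contra d
    exact z2 (mem_of_pow_mem_of_pow_mem ((Nat.coprime_of_lt_prime (by omega) (by omega) hp.out)) zp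
      (key _ (pow_mem zR k) b b1 a a1 f.symm))
  refine Eq.trans ?_ (e0.symm.trans (by simp [S, w, c, l0]))
  simp only [e1]
  rw [← sum_product']
  refine (sum_nbij (fun x : ℕ × (G ⧸ H) => z ^ x.1 • x.2) (fun x a => (mo' R _ (pow_mem zR _) _).1 ?_) ?_ (fun a ha => ?_) fun _ _ => rfl).symm
  · obtain ⟨r, r1, e⟩ := (mo M _).1 (mem_product.1 a).2
    exact (mo R _).2 ⟨r, m2 r1, e⟩
  · rintro ⟨i, a⟩ ha ⟨j, b⟩ hb e
    simp only [coe_product, Set.mem_prod, mem_coe, mem_range] at ha hb e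
    obtain rfl : i = j := (le_total i j).elim (fun d => inj i j d hb.1 a ha.2 b hb.2 e)
      fun d => (inj j i d ha.1 b hb.2 a ha.2 e.symm).symm
    rw [smul_left_cancel _ e]
  · obtain ⟨r, r1, rfl⟩ := (mo R _).1 ha
    rw [← sup_zpowers_eq_of_relIndex_prime m3 m2 zR z2, sup_comm] at r1
    obtain ⟨y, y1, m, hm, rfl⟩ := (mem_sup_of_normalizer' (zpowers_le.2 (m4 zR))).1 r1
    obtain ⟨k, rfl⟩ := (mem_powers_iff_mem_zpowers.2 y1)
    refine ⟨(k % p, ((z ^ p) ^ (k / p) * m) • q), mem_coe.2 (mem_product.2 ⟨mem_range.2 (Nat.mod_lt _ hp.out.pos),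
      (mo M _).2 ⟨_, mul_mem (pow_mem zp _) hm, rfl⟩⟩), ?_⟩
    simp only [smul_smul, ← mul_assoc, ← pow_mul, ← pow_add, Nat.mod_add_div]

end CfsgH2
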