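import Cfsg.Agent.S4721
import Cfsg.Agent.H2.Homo
import Cfsg.Agent.H2.BlockTools

/-! Brauer's theorem on groups with homocyclic Sylow 2-subgroups of rank two. -/

open Subgroup Cfsg CfsgH8 CfsgH4 CfsgH3 CfsgH3.IP Cfsg.Agent.S4721

namespace CfsgH2

universe u

theorem brauer_arith {q u v w : ℤ} (hq : 16 ≤ q) (hu : q ∣ u - 1) (hv : q ∣ v - 1) (hw : w = 1 + u + v)
    (h : (u * v + u + v) * w = 9 * (u * v)) : u = 1 ∨ v = 1 := by
  have k : ∀ a : ℤ, q ∣ a → a = 0 ∨ 16 ≤ a ∨ a ≤ -16 := fun a ha => by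
    rcases lt_trichotomy a 0 with e | e | e
    · have := Int.le_of_dvd (neg_pos.2 e) (dvd_neg.2 ha); omega
    · exact .inl e
    · have := Int.le_of_dvd e ha; omega
  have m : ∀ u v : ℤ, 17 ≤ u → v ≤ -15 → w = 1 + u + v → (u * v + u + v) * w = 9 * (u * v) → q ∣ w - 3 → False :=
    fun u v a b c d e => by
      rcases k _ e with f | f | f
      · have : u = 2 - v := by omega
        subst this
        rw [show w = 3 by omega] at d
        nlinarith
      · have h1 : 0 ≤ (w - 19) * (-(u * v + u + v)) := mul_nonneg (by omega) (by nlinarith)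
        have h2 : 0 ≤ u * (-15 - v) := mul_nonneg (by omega) (by omega)
        nlinarith
      · have h1 : 0 ≤ (-w) * (-(u * v + u + v)) := mul_nonneg (by omega) (by nlinarith)
        nlinarith
  have e : q ∣ w - 3 := by rw [show w - 3 = u - 1 + (v - 1) by omega]; exact dvd_add hu hv
  rcases k _ hu with a | a | a
  · omega
  all_goals rcases k _ hv with b | b | b
  · omega
  · have h1 : 0 ≤ (w - 35) * (u * v + u + v) := mul_nonneg (by omega) (by nlinarith)
    nlinarith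
  · exact (m u v (by omega) (by omega) hw h e).elim
  · omega
  · exact (m v u (by omega) (by omega) (by omega) (by linarith) e).elim
  · have h1 : 0 ≤ (-w) * (u * v + u + v) := mul_nonneg (by omega) (by nlinarith)
    nlinarith

theorem card_dvd_of_const {P : Type*} [Group P] [Fintype P] {χ : P → ℂ} (h : IsGeneralizedCharacter P χ) {a d : ℤ}
    (h1 : χ 1 = d) (h2 : ∀ y, y ≠ 1 → χ y = a) : (Nat.card P : ℤ) ∣ d - a := by
  classical
  obtain ⟨n, hn⟩ := h.inner_int isGen_one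
  have c : (Nat.card P : ℂ) ≠ 0 := by exact_mod_cast Nat.card_pos.ne'
  rw [classInner, inv_mul_eq_iff_eq_mul₀ c, ← Finset.add_sum_erase _ _ (Finset.mem_univ 1), Finset.sum_congr rfl
    fun y hy => by rw [h2 y (Finset.ne_of_mem_erase hy)], Finset.sum_const, Finset.card_erase_of_mem (Finset.mem_univ 1),
    Finset.card_univ, ← Nat.card_eq_fintype_card, h1, nsmul_eq_mul, Nat.cast_pred Nat.card_pos] at hn
  refine ⟨n - a, Int.cast_injective (α := ℂ) ?_⟩
  simp only [map_one, mul_one] at hn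
  push_cast
  linear_combination hn

theorem brauer_step {G : Type*} [Group G] [Finite G] (P : Sylow 2 G) (A : AF P) (h16 : 16 ≤ Nat.card P)
    (hCN : (centralizer ((P : Subgroup G) : Set G)).relIndex (normalizer ((P : Subgroup G) : Set G)) = 3) :
    ∃ K : Subgroup G, K.Normal ∧ (P : Subgroup G) ≤ K ∧ K ≠ ⊤ := by
  classical
  have := Fintype.ofFinite G
  obtain ⟨M, hM⟩ := CfsgH2.exists_isPModular 2 Nat.prime_two
  have := hM.2.1
  have := charP_of_isPModular hM
  have hP1 : Nat.card P ≠ 1 := by omega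
  have H := A.exc (M := M) hP1
  have hc := A.card_orb
  rw [hCN] at H hc
  have hr2 : 5 ≤ Fintype.card (OrbP P.1) := by change Nat.card P - 1 = _ at hc; omega
  have : Nontrivial (OrbP P.1) := Fintype.one_lt_card_iff_nontrivial.mp (by omega)
  obtain ⟨i₀⟩ : Nonempty (OrbP P.1) := inferInstance
  let χ₀ : IrrCharacter G := ⟨_, isIrr_one⟩
  obtain ⟨X, ζ, a, d, δ, S⟩ := H.exists_S
  have b1 : χ₀ ∈ X := S.mem_X one_mem_principal ip_alO_one
  have b2 : a χ₀ = 1 := by exact_mod_cast ((S.ipX _ b1).2 i₀).symm.trans (ip_alO_one i₀)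
  obtain rfl : d = 0 := by
    have hn := H.norm S i₀
    rw [← Finset.add_sum_erase _ _ b1, b2] at hn
    have h1 := Finset.sum_nonneg fun χ (_ : χ ∈ X.erase χ₀) => sq_nonneg (a χ)
    have h2 : (5 : ℤ) ≤ Fintype.card (OrbP P.1) := by exact_mod_cast hr2
    have h3 : 4 * d ^ 2 ≤ (Fintype.card (OrbP P.1) - 1) * d ^ 2 := mul_le_mul_of_nonneg_right (by omega) (sq_nonneg d)
    have h4 : d ^ 2 < 1 := by push_cast at hn; linarith [sq_nonneg (d - δ)]
    nlinarith
  have dd : δ ^ 2 = 1 := sq_eq_one_iff.mpr S.sign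
  have hn : ∑ χ ∈ X, a χ ^ 2 = 3 := by have := H.norm S i₀; simp [dd] at this; omega
  have ha : ∀ χ ∈ X, a χ = 1 ∨ a χ = -1 := fun χ hχ => by
    have h1 := Finset.single_le_sum (fun χ _ => sq_nonneg (a χ)) hχ
    have := (S.ipX χ hχ).1
    have : a χ ≤ 1 ∧ -1 ≤ a χ := by constructor <;> nlinarith
    omega
  have hX : X.card = 3 := by
    rw [Finset.sum_congr rfl fun χ hχ => sq_eq_one_iff.mpr (ha χ hχ)] at hn
    rw [Finset.sum_const, nsmul_eq_mul, mul_one] at hn
    exact_mod_cast hn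
  obtain ⟨t, htP, ht⟩ := exists_invol_of_ne_bot P.isPGroup' (fun e => hP1 (card_eq_one.2 e))
  obtain ⟨ψ, hψ, hψt⟩ := lemC A hCN (by omega) ht
  have tt : t * t = 1 := by rw [← pow_two, ← ht, pow_orderOf_eq_one]
  have van : ∀ x1 x2 : G, (IsConj t x1 ∨ x1 = 1) → (IsConj t x2 ∨ x2 = 1) → alO M P.1 (mkO ψ hψ) (x1 * x2) = 0 := by
    intro x1 x2 h1 h2
    by_cases h : 2 ∣ orderOf (x1 * x2)
    swap
    · exact H.reg _ _ h
    obtain ⟨c, y, hy, y1, h3⟩ := exists_conj_ppart P h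
    rw [← (H.gen _).classFun _ c]
    rw [← conj_mul] at h3 ⊢
    have cj : ∀ x : G, (IsConj t x ∨ x = 1) → (IsConj t (c * x * c⁻¹) ∨ c * x * c⁻¹ = 1) := fun x h =>
      h.imp (fun h => h.trans (isConj_iff.mpr ⟨c, rfl⟩)) (fun h => by simp [h])
    replace h1 := cj _ h1
    replace h2 := cj _ h2
    generalize c * x1 * c⁻¹ = x1, c * x2 * c⁻¹ = x2 at *
    have sq : ∀ x : G, (IsConj t x ∨ x = 1) → x⁻¹ = x := fun x h => inv_eq_of_mul_eq_one_right (by
      rcases h with h | rfl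
      · obtain ⟨c, rfl⟩ := isConj_iff.mp h
        simp [tt]
      · simp)
    obtain ⟨k, hk⟩ := isPPart_mem_zpowers h3
    have i1 : x1 * y * x1⁻¹ = y⁻¹ := by
      rw [← hk, ← conj_zpow, ← inv_zpow, mul_inv_rev, sq _ h2]; nth_rw 1 [← sq _ h1]; simp
    have i2 : x2 * y * x2⁻¹ = y⁻¹ := by
      rw [← hk, ← conj_zpow, ← inv_zpow, mul_inv_rev, sq _ h1, mul_assoc x2, mul_inv_cancel_right, sq _ h2]
    have i3 := lemA A hCN hy y1 i1
    have o : ∀ x : G, (IsConj t x ∨ x = 1) → ∃ k, orderOf x = 2 ^ k := fun x h =>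
      ((Nat.dvd_prime_pow Nat.prime_two).mp (orderOf_dvd_of_pow_eq_one (n := 2 ^ 1) (by
        rw [pow_one, pow_two]; nth_rw 1 [← sq x h]; simp))).imp fun _ h => h.2
    obtain ⟨s1, a1, s2, a2, d1, d2, j, hj⟩ := lemB A hy y1 (mem_centralizer_singleton_iff.mpr
      (mul_inv_eq_iff_eq_mul.mp (i1.trans i3))) (mem_centralizer_singleton_iff.mpr
      (mul_inv_eq_iff_eq_mul.mp (i2.trans i3))) (o _ h1) (o _ h2) h3
    have k2 : ∀ ψ' ∈ MulAction.orbit (normalizer (P.1 : Set G)) ψ, ψ' ⟨y, hy⟩ = 1 := by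
      rintro _ ⟨n, rfl⟩
      have k3 : ∀ x, (IsConj t x ∨ x = 1) → ∀ s : P.1, IsConj x s → (n • ψ) s = 1 := fun x h s hs => by
        rcases h with h | rfl
        · exact hψt _ ((h.trans hs).trans (isConj_iff.mpr ⟨(n⁻¹ : normalizer (P.1 : Set G)), rfl⟩))
        · rw [show s = 1 from Subtype.ext (isConj_one_right.mp hs), map_one]
      rw [show (⟨y, hy⟩ : P.1) = (⟨s1, a1⟩ * ⟨s2, a2⟩) ^ j from Subtype.ext hj.symm, map_zpow, map_mul]
      simp only
      rw [k3 _ h1 _ d1, k3 _ h2 _ d2]; simp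
    rw [H.apply S, A.valY S hψ (y := ⟨y, hy⟩) h3 y1, Finset.sum_congr rfl fun χ hχ => by rw [A.valX S hχ h3 hy y1],
      finsum_mem_congr rfl fun ψ' h => by rw [k2 ψ' h], Units.val_one, finsum_mem_eq_finite_toFinset_sum _ (Set.toFinite _),
      Finset.sum_const, ← Set.ncard_eq_toFinset_card, ← Nat.card_coe_set_eq, A.card_orbit hψ, hCN]
    have e1 := congrArg (Int.cast : ℤ → ℂ) hn
    have e2 := congrArg (Int.cast : ℤ → ℂ) dd
    push_cast at e1 e2
    simp only [pow_two] at e1 e2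
    simp only [e1, nsmul_eq_mul]; push_cast; linear_combination -3 * e2
  obtain ⟨χ₁, χ₂, h12, hX'⟩ := Finset.card_eq_two.mp (show (X.erase χ₀).card = 2 by rw [Finset.card_erase_of_mem b1, hX])
  have m1 : χ₁ ∈ X.erase χ₀ := by simp [hX']
  have m2 : χ₂ ∈ X.erase χ₀ := by simp [hX']
  set η := ζ (mkO ψ hψ)
  have m3 : η ∉ X := S.disj _
  let b := Function.update a η (-δ)
  have hs : ∀ f : IrrCharacter G → ℂ, ∑ χ ∈ insert η X, b χ * f χ = f χ₀ + a χ₁ * f χ₁ + a χ₂ * f χ₂ - δ * f η :=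
    fun f => by
      rw [Finset.sum_insert m3, Finset.sum_congr rfl fun χ hχ => by
        rw [show b χ = a χ from Function.update_of_ne (by rintro rfl; exact m3 hχ) _ _],
        ← Finset.add_sum_erase _ _ b1, hX', Finset.sum_pair h12, b2]
      simp [b]; ring
  have hv : ∀ g, ∑ χ ∈ insert η X, b χ * χ.1 g = alO M P.1 (mkO ψ hψ) g := fun g => by
    rw [hs fun χ => χ.1 g, H.apply S, ← Finset.add_sum_erase _ _ b1, hX', Finset.sum_pair h12, b2]; simp [η]; ring
  have r1 := (hv (1 * 1)).trans (van 1 1 (Or.inr rfl) (Or.inr rfl))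
  have r2 := (hv (t * 1)).trans (van t 1 (Or.inl (IsConj.refl t)) (Or.inr rfl))
  rw [mul_one] at r1 r2
  have r3 := sum_sq_div_eq_zero (a := fun χ => b χ) fun g => (hv (g * t * g⁻¹ * t)).trans
    (van _ t (Or.inl (isConj_iff.mpr ⟨g, rfl⟩)) (Or.inl (IsConj.refl t)))
  have val : ∀ χ ∈ X, ∀ y ∈ P.1, y ≠ 1 → χ.1 y = a χ := fun χ hχ y hy y1 =>
    A.valX S hχ (isPPart_self (exists_orderOf_eq_pow P.isPGroup' hy)) hy y1
  have aa : ∀ χ ∈ X, (a χ : ℂ) * a χ = 1 := fun χ hχ => by rcases ha χ hχ with e | e <;> simp [e]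
  have cong : ∀ χ ∈ X, (Nat.card P : ℤ) ∣ a χ * charDegree χ.1 - 1 := fun χ hχ => by
    have := (card_dvd_of_const (χ.2.isChar.restrict P.1).isGen (a := a χ) (d := charDegree χ.1)
      (by simpa using (coe_charDegree χ.2.isChar).symm) fun y y1 => val χ hχ y y.2 (by simpa using y1)).mul_left (a χ)
    rwa [mul_sub, show a χ * a χ = 1 by exact_mod_cast aa χ hχ] at this
  have fin : ∀ χ ∈ X.erase χ₀, a χ * charDegree χ.1 = 1 → ∃ K : Subgroup G, K.Normal ∧ (P : Subgroup G) ≤ K ∧ K ≠ ⊤ :=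
    fun χ hχ e => by
      have m := Finset.mem_of_mem_erase hχ
      refine ⟨χ.2.isChar.ker, inferInstance, fun y hy => χ.2.isChar.mem_ker.2 ?_, fun f => Finset.ne_of_mem_erase hχ
        (Subtype.ext (χ.2.eq_one_of_ker_top fun g => χ.2.isChar.mem_ker.mp (f ▸ mem_top g)))⟩
      rcases eq_or_ne y 1 with rfl | y1
      · rfl
      have e' : (a χ : ℂ) * charDegree χ.1 = 1 := by exact_mod_cast e
      rw [val χ m y hy y1, ← coe_charDegree χ.2.isChar]
      linear_combination (charDegree χ.1 : ℂ) * aa χ m - a χ * e'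
  have n1 := Finset.mem_of_mem_erase m1
  have n2 := Finset.mem_of_mem_erase m2
  simp only [mul_div_assoc] at r3
  rw [hs fun χ => χ.1 1] at r1
  rw [hs fun χ => χ.1 t] at r2
  rw [hs fun χ => χ.1 t ^ 2 / χ.1 1] at r3
  have t1 := ne_one_of_orderOf_two ht
  simp only [χ₀, val _ n1 t htP t1, val _ n2 t htP t1, ← coe_charDegree χ₁.2.isChar, ← coe_charDegree χ₂.2.isChar,
    ← coe_charDegree η.2.isChar, aa _ n1, aa _ n2] at r1 r2 r3
  have p1 : (charDegree χ₁.1 : ℂ) ≠ 0 := by exact_mod_cast (charDegree_pos χ₁.2).ne'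
  have p2 : (charDegree χ₂.1 : ℂ) ≠ 0 := by exact_mod_cast (charDegree_pos χ₂.2).ne'
  have p3 : (charDegree η.1 : ℂ) ≠ 0 := by exact_mod_cast (charDegree_pos η.2).ne'
  have d2 : (δ : ℂ) * δ = 1 := by rw [← pow_two]; exact_mod_cast dd
  have h9 : η.1 t ^ 2 = 9 := by linear_combination (-(η.1 t) ^ 2) * d2 - (δ * η.1 t + 3) * r2
  rw [h9, pow_two (a χ₁ : ℂ), pow_two (a χ₂ : ℂ), aa _ n1, aa _ n2] at r3
  refine (brauer_arith (w := δ * charDegree η.1) (by exact_mod_cast h16) (cong _ n1) (cong _ n2)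
    (Int.cast_injective (α := ℂ) (by push_cast; linear_combination -r1)) (Int.cast_injective (α := ℂ) ?_)).elim
      (fin _ m1) (fin _ m2)
  push_cast
  field_simp at r3
  have a1 := aa _ n1
  have a2 := aa _ n2
  generalize (a χ₁ : ℂ) = s₁, (a χ₂ : ℂ) = s₂, (charDegree χ₁.1 : ℂ) = x₁, (charDegree χ₂.1 : ℂ) = x₂,
    (charDegree η.1 : ℂ) = x, (δ : ℂ) = e at *
  linear_combination s₁ * s₂ * e * r3 - (s₂ * x₂ * e * x) * a1 - (s₁ * x₁ * e * x) * a2 + 9 * s₁ * s₂ * x₁ * x₂ * d2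

theorem AK.subgroupOf {G : Type*} [Group G] {P V K : Subgroup G} (h : AK P V) (hK : P ≤ K) :
    AK (P.subgroupOf K) (V.subgroupOf K) where
  pg := h.pg.comap_subtype
  ab := CfsgFT.subgroupOf_le_cent K h.ab
  kl := isKleinFour_of_equiv (subgroupOfEquivOfLe (fun x hx => hK ((h.mem x).1 hx).1)).symm h.kl
  mem x := by simp [mem_subgroupOf, h.mem, Subtype.ext_iff]

theorem AK.map {G G' : Type*} [Group G] [Group G'] {P V : Subgroup G} (h : AK P V) (f : G →* G')
    (hd : Disjoint P f.ker) : AK (P.map f) (V.map f) where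
  pg := h.pg.map f
  ab := CfsgFT.map_le_cent f h.ab
  kl := isKleinFour_iff.2 ⟨(CfsgH1.card_map_of_disjoint f (hd.mono_left fun x hx => ((h.mem x).1 hx).1)).trans
    (isKleinFour_iff.1 h.kl).1, fun _ ⟨x, a, b⟩ => by rw [← b, ← map_mul, ((h.mem x).1 a).2, map_one]⟩
  mem y := ⟨fun ⟨x, a, b⟩ => ⟨⟨x, ((h.mem x).1 a).1, b⟩, by rw [← b, ← map_mul, ((h.mem x).1 a).2, map_one]⟩,
    fun ⟨⟨x, a, b⟩, c⟩ => ⟨x, (h.mem x).2 ⟨a, disjoint_def.1 hd (mul_mem a a) (by
      rw [MonoidHom.mem_ker, map_mul, b, c])⟩, b⟩⟩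

/-- **Brauer**: an abelian Sylow `2`-subgroup of rank two and order at least `16` is normal modulo `O(G)` -/
theorem brauer_homocyclic (n : ℕ) : ∀ (G : Type u) [Group G] [Finite G], Nat.card G ≤ n → ∀ {P V : Subgroup G},
    IsSylowIn 2 P ⊤ → AK P V → 16 ≤ Nat.card P → pPrimeCore 2 G = ⊥ → P.Normal := by
  induction n with
  | zero => intro G _ _ h; have := Nat.card_pos (α := G); omega
  | succ n ih =>
    intro G _ _ hn P V hS h h16 hO
    rcases h.syl_index hS with e | e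
    · have := hasNPC_iff.1 (h.npc hS (not_oddAct_iff.2 ⟨0, e⟩))
      have h1 := hS.sup_resIn
      rw [resIn_top, le_bot_iff.1 ((CfsgH1.le_pPrimeCore ((Nat.Prime.coprime_iff_not_dvd Nat.prime_two).2
        this).symm).trans hO.le), sup_bot_eq] at h1
      rw [h1]; infer_instance
    obtain ⟨P, rfl⟩ := hS.of_top
    obtain ⟨K, a, b, c⟩ := brauer_step P ⟨CfsgFT.comm_iff.2 h.ab, fun y hy y1 => h.syl_fpf hS hy y1⟩ h16 e
    have hK := hS.mono b le_top
    have h2 : ((P : Subgroup G).subgroupOf K).Normal := ih K (by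
      have := card_lt_of_lt (lt_top_iff_ne_top.2 c); rw [Subgroup.card_top] at this; omega)
      (IsSylowIn.of_sylow_top hK.toSylow) (h.subgroupOf b) (by rwa [CfsgFT.card_subgroupOf b])
      ((map_eq_bot_iff_of_injective _ K.subtype_injective).1 (le_bot_iff.1
        ((CfsgH1.map_pPrimeCore_le_of_normal K).trans hO.le)))
    refine CfsgFT.normal_of_top_le fun g _ => ?_
    obtain ⟨x, d, f⟩ := hK.frattini (g := g) (by rw [normalizer_eq_top]; trivial)
    exact (mul_mem_cancel_left (CfsgFT.le_norm_of_normal_subgroupOf b h2 d)).1 f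

theorem brauer_index {G : Type*} [Group G] [Finite G] {P V : Subgroup G} (hS : IsSylowIn 2 P ⊤) (h : AK P V)
    (h16 : 16 ≤ Nat.card P) (hO : pPrimeCore 2 G = ⊥) :
    P.Normal ∧ centralizer (P : Set G) = P ∧ (P.index = 1 ∨ P.index = 3) := by
  haveI := brauer_homocyclic _ G le_rfl hS h h16 hO
  have c : centralizer (P : Set G) = P := by
    have h1 := hS.mono h.ab le_top
    have h2 := hasNPC_subgroup_iff.1 (burnside_hasNPC h1 inf_le_left)
    haveI := resIn_normal (p := 2) (centralizer (P : Set G))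
    have h3 := h1.sup_resIn
    rwa [le_bot_iff.1 ((CfsgH1.le_pPrimeCore ((Nat.Prime.coprime_iff_not_dvd Nat.prime_two).2
      h2).symm).trans hO.le), sup_bot_eq, eq_comm] at h3
  have := h.syl_index hS
  rw [c, normalizer_eq_top, relIndex_top_right] at this
  exact ⟨inferInstance, c, this⟩

theorem brauer_solvable {G : Type*} [Group G] [Finite G] {P V : Subgroup G} (hS : IsSylowIn 2 P ⊤) (h : AK P V)
    (h16 : 16 ≤ Nat.card P) : (pPrimeCore 2 G ⊔ P).Normal := by
  have hf := QuotientGroup.mk'_surjective (pPrimeCore 2 G)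
  have h1 := hS.map (QuotientGroup.mk' (pPrimeCore 2 G))
  rw [map_top_of_surjective _ hf] at h1
  have hd : Disjoint P (QuotientGroup.mk' (pPrimeCore 2 G)).ker := by
    rw [QuotientGroup.ker_mk']
    exact disjoint_of_coprime_natCard (CfsgH1.IsPGroup.coprime_card_of_coprime h.pg (CfsgH1.coprime_card_pPrimeCore 2 G))
  haveI := brauer_homocyclic _ _ le_rfl h1 (h.map _ hd) (by rwa [CfsgH1.card_map_of_disjoint _ hd])
    (CfsgH1.pPrimeCore_quotient_pPrimeCore 2 G)
  have := (inferInstance : (P.map (QuotientGroup.mk' (pPrimeCore 2 G))).Normal).comap (QuotientGroup.mk' _)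
  rwa [comap_map_eq, QuotientGroup.ker_mk', sup_comm] at this

end CfsgH2
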