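import Cfsg.Agent.H2.PGroup
import Cfsg.Agent.H2.Focal
import Cfsg.Agent.H1.RepExtra

/-! Representations of small degree of a `p'`-group extended by a `p`-element. -/

set_option autoImplicit false

namespace CfsgH2
open Subgroup Cfsg Module CfsgH1
open scoped commutatorElement

variable {F : Type*} [Field F] {G : Type*} [Group G] {V : Type*} [AddCommGroup V] [Module F V]
  {ρ : Representation F G V} [IsAlgClosed F] [FiniteDimensional F V] [Finite G]

theorem ito_core [Nontrivial V] {Q X : Subgroup G} [Q.Normal] (hQX : Q ⊔ X = ⊤)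
    (hr : (Nat.card X).Prime) (hcop : (Nat.card X).Coprime (Nat.card Q)) (hs : Group.IsSolvable Q)
    (hQ : (Nat.card Q : F) ≠ 0) (hX : (Nat.card X : F) ≠ 0) (hdim : finrank F V < Nat.card X)
    (hfixQ : fixS ρ Q = ⊥) (hschur : ∀ T : End F V, (∀ g, Commute T (ρ g)) → ∃ c : F, T = c • 1)
    (hcomm : ⁅Q, X⁆ = Q)
    (hmin : ∀ U : Subgroup G, U < Q → X ≤ normalizer (U : Set G) → ⁅U, X⁆ ≤ MonoidHom.ker ρ) :
    finrank F V + 1 = Nat.card X ∧ finrank F V ^ 2 ∣ Nat.card Q := by
  set K := MonoidHom.ker ρ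
  have hd : 0 < finrank F V := finrank_pos
  have hQb : Q ≠ ⊥ := by
    rintro rfl
    rw [fixS_bot] at hfixQ
    exact top_ne_bot hfixQ
  have hnc : ¬ ⁅Q, Q⁆ ≤ K := fun h => by
    have := wielandt_comm (commute_of_commutator_le_ker h) hQ (X := X) le_normalizer_of_normal
      fun x hx h1 => by rw [zpowers_eq_of_prime_card hr hx h1, hcomm]
    rw [fixS_sup, hfixQ, bot_inf_eq, finrank_bot, add_zero, mul_zero, add_zero] at this
    exact absurd (Nat.le_of_dvd hd ⟨_, this.symm⟩) (by omega)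
  have f1 : ⁅⁅Q, Q⁆, X⁆ ≤ K := hmin _ (commutator_lt_of_isSolvable hs hQb) le_normalizer_of_normal
  have rot : ∀ D : Subgroup G, D ≤ Q → ⁅D, X⁆ ≤ K → ⁅Q, D⁆ ≤ K := fun D hD h => by
    have := commutator_commutator_le_of_rotate (A := X) (B := Q) (C := D) (N := K)
      ((commutator_mono (commutator_mono le_rfl hD) le_rfl).trans f1)
      ((commutator_mono h le_rfl).trans (commutator_le_left K Q))
    rwa [commutator_comm X Q, hcomm] at this
  haveI := Normal.map ‹Q.Normal› _ (QuotientGroup.mk'_surjective K)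
  set Z := Q ⊓ (centralizer ((Q.map (QuotientGroup.mk' K) : Subgroup _) : Set _)).comap
      (QuotientGroup.mk' K) with hZd
  have hZm : ∀ q, q ∈ Z ↔ q ∈ Q ∧ ∀ y ∈ Q, Commute (ρ q) (ρ y) := fun q => by
    rw [hZd, mem_inf, mem_comap_centralizer_ker]
  have hDZ : ∀ D : Subgroup G, D ≤ Q → ⁅D, X⁆ ≤ K → D ≤ Z := fun D hD h q hq =>
    (hZm q).mpr ⟨hD hq, fun y hy => (commute_of_commutator_le_ker (rot D hD h) y hy q hq).symm⟩
  have hZQ : Z < Q := lt_of_le_of_ne inf_le_left fun h =>
    hnc (commutator_le_ker_iff.mpr fun a ha => ((hZm a).mp (h.ge ha)).2)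
  have hZX := commute_of_commutator_le_ker (hmin Z hZQ le_normalizer_of_normal)
  haveI : IsCyclic X := haveI := Fact.mk hr; isCyclic_of_prime_card rfl
  obtain ⟨h1, h2⟩ := (symplectic_type_dim (ρ := ρ) (Z := Z) le_normalizer_of_normal hcop hQ hX
    (fun T hT => hschur T fun g => hT g (hQX ▸ mem_top g))
    (fun z hz => hschur _ fun g => by
      obtain ⟨q, hq, x, hx, rfl⟩ := (mem_sup_of_le_normalizer le_normalizer_of_normal).mp
        (show g ∈ Q ⊔ X from hQX ▸ mem_top g)
      rw [map_mul]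
      exact (((hZm z).mp hz).2 q hq).mul_right (hZX z hz x hx))
    (hDZ _ (commutator_le_left Q Q) f1) (fun q hq h => (hZm q).mpr ⟨hq, h⟩)
    (fun x hx h1 => hDZ _ inf_le_left (by
      rw [← centralizer_zpowers_eq, zpowers_eq_of_prime_card hr hx h1,
        commutator_eq_bot_iff_le_centralizer.mpr inf_le_right]
      exact bot_le))).1.resolve_left hr.one_lt.ne'
  have h3 : finrank F V ≠ 1 := fun h => by
    rw [h, one_pow, eq_comm, relIndex_eq_one] at h1
    exact hZQ.not_ge h1
  refine ⟨?_, h1 ▸ relIndex_dvd_card Z Q⟩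
  rcases h2 with h2 | h2
  · have := Nat.le_of_dvd (by omega) h2
    omega
  · have := Nat.le_of_dvd (by omega) h2
    omega

theorem ito_rep {Q X : Subgroup G} (hXQ : X ≤ normalizer (Q : Set G))
    (hr : (Nat.card X).Prime) (hcop : (Nat.card X).Coprime (Nat.card Q)) (hs : Group.IsSolvable Q)
    (hQ : (Nat.card Q : F) ≠ 0) (hX : (Nat.card X : F) ≠ 0) (hdim : finrank F V < Nat.card X)
    (hne : ¬ ⁅Q, X⁆ ≤ MonoidHom.ker ρ) :
    finrank F V + 1 = Nat.card X ∧ finrank F V ^ 2 ∣ Nat.card Q := by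
  obtain ⟨P, ⟨hPQ, hXP, hP⟩, hmin⟩ := exists_minimal_of_wellFoundedLT
    (fun P : Subgroup G => P ≤ Q ∧ X ≤ normalizer (P : Set G) ∧ ¬ ⁅P, X⁆ ≤ MonoidHom.ker ρ)
    ⟨Q, le_rfl, hXQ, hne⟩
  have hmin' : ∀ U : Subgroup G, U < P → X ≤ normalizer (U : Set G) → ⁅U, X⁆ ≤ MonoidHom.ker ρ :=
    fun U hU hX => by
      by_contra h
      exact hU.not_ge (hmin ⟨hU.le.trans hPQ, hX, h⟩ hU.le)
  have hcop' := coprime_of_le_right hcop hPQ
  have hcomm : ⁅P, X⁆ = P := by
    by_contra h
    refine hP ?_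
    rw [← commutator_commutator_eq hXP hcop']
    exact hmin' _ (lt_of_le_of_ne (commutator_le_left_of_le_normalizer hXP) h)
      (normalizer_commutator_ge_right P X)
  set L := P ⊔ X
  have hPL : P ≤ L := le_sup_left
  have hXL : X ≤ L := le_sup_right
  haveI : (P.subgroupOf L).Normal := normal_subgroupOf_sup_left hXP
  let σ : Representation F L V := ρ.comp L.subtype
  have hker : ∀ U : Subgroup L, U ≤ MonoidHom.ker σ ↔ U.map L.subtype ≤ MonoidHom.ker ρ :=
    fun U => by rw [map_le_iff_le_comap]; rfl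
  have hPc : (Nat.card (P.subgroupOf L) : F) ≠ 0 := by
    rw [card_subgroupOf_of_le hPL]; exact natCast_card_ne_zero_of_le hQ hPQ
  obtain ⟨W, hW, hnt, h1, h2⟩ := exists_schur_sub (ρ := σ) (P.subgroupOf L) hPc (by
    rw [hker, map_subgroupOf_eq_of_le hPL, ← hcomm]; exact hP)
  have hWV := Submodule.finrank_le W
  have key := ito_core (ρ := σ.subrepresentation W hW) (Q := P.subgroupOf L)
    (X := X.subgroupOf L) (by rw [← subgroupOf_sup hPL hXL, subgroupOf_self])
    (by rwa [card_subgroupOf_of_le hXL])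
    (by rwa [card_subgroupOf_of_le hXL, card_subgroupOf_of_le hPL])
    (isSolvable_subgroupOf (isSolvable_of_le hs hPQ) L) hPc (by rwa [card_subgroupOf_of_le hXL])
    (by rw [card_subgroupOf_of_le hXL]; omega) h1 h2
    (by
      apply map_injective L.subtype_injective
      rw [Subgroup.map_commutator, map_subgroupOf_eq_of_le hPL, map_subgroupOf_eq_of_le hXL, hcomm])
    (fun U hU hXU => by
      rw [ker_sub_eq]
      refine le_trans ?_ (ker_le_kerOn W)
      rw [hker, Subgroup.map_commutator, map_subgroupOf_eq_of_le hXL]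
      refine hmin' _ ?_ ?_
      · rw [← map_subgroupOf_eq_of_le hPL]
        exact (map_lt_map_iff_of_injective L.subtype_injective).mpr hU
      · rw [← map_subgroupOf_eq_of_le hXL]
        exact map_le_normalizer _ hXU)
  rw [card_subgroupOf_of_le hXL, card_subgroupOf_of_le hPL] at key
  have e : finrank F W = finrank F V := by omega
  rw [e] at key
  exact ⟨key.1, key.2.trans (card_dvd_of_le hPQ)⟩

/-- the case where `x ^ p` acts as a scalar -/
theorem ito_scalar [CharZero F] {p : ℕ} [hp : Fact p.Prime] {Q : Subgroup G} {x : G}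
    (hx : x ∈ normalizer (Q : Set G)) (hcop : p.Coprime (Nat.card Q)) (hs : Group.IsSolvable Q)
    (hdim : finrank F V < p) {c : F} (hc : ρ (x ^ p) = c • 1) {q : G} (hq : q ∈ Q)
    (hne : ¬ Commute (ρ q) (ρ x)) : finrank F V + 1 = p ∧ finrank F V ^ 2 ∣ Nat.card Q := by
  have c0 : c ≠ 0 := by
    rintro rfl
    apply hne
    have h1 : (1 : End F V) = 0 := by
      rw [← map_one ρ, ← mul_inv_cancel (x ^ p), map_mul, hc, zero_smul, zero_mul]
    haveI := subsingleton_of_zero_eq_one h1.symm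
    exact Subsingleton.elim _ _
  obtain ⟨μ, hμ⟩ := IsAlgClosed.exists_pow_nat_eq c⁻¹ hp.out.pos
  have hy : (μ • ρ x) ^ p = 1 := by
    rw [smul_pow, hμ, ← map_pow, hc, smul_smul, inv_mul_cancel₀ c0, one_smul]
  have μ0 : μ ≠ 0 := by
    rintro rfl
    rw [zero_pow hp.out.ne_zero] at hμ
    exact inv_ne_zero c0 hμ.symm
  let f : G →* (End F V)ˣ := ρ.toHomUnits
  let y : (End F V)ˣ := Units.ofPowEqOne _ p hy hp.out.ne_zero
  have yv : (y : End F V) = μ • ρ x := rfl
  have yp : y ^ p = 1 := Units.ext (by rw [Units.val_pow_eq_pow_val, yv, hy]; rfl)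
  have yc : ∀ a, y * f a = f (x * a * x⁻¹) * y := fun a => Units.ext (by
    simp only [Units.val_mul, yv, f, MonoidHom.coe_toHomUnits, smul_mul_assoc, mul_smul_comm, ← map_mul,
      inv_mul_cancel_right])
  have ync : ¬ Commute (f q) y := fun h => hne (by
    have := congrArg Units.val h
    simp only [Units.val_mul, yv, f, MonoidHom.coe_toHomUnits, smul_mul_assoc, mul_smul_comm] at this
    exact smul_right_injective _ μ0 this)
  have yo : orderOf y = p := orderOf_eq_prime yp fun e => ync (e ▸ Commute.one_right _)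
  haveI : Finite (Q.map f) := Finite.of_surjective _ (f.subgroupMap_surjective Q)
  haveI : Finite (zpowers y) := Nat.finite_of_card_ne_zero (by rw [Nat.card_zpowers, yo]; exact hp.out.ne_zero)
  have yn : y ∈ normalizer (Q.map f : Set (End F V)ˣ) := by
    rw [mem_normalizer_iff]
    intro u
    constructor
    · rintro ⟨a, ha, rfl⟩
      exact ⟨_, conj_mem_of_mem_normalizer hx ha, by rw [yc, mul_inv_cancel_right]⟩
    · rintro ⟨a, ha, e⟩
      refine ⟨_, conj_mem_of_mem_normalizer' hx ha, ?_⟩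
      have := yc (x⁻¹ * a * x)
      rw [show x * (x⁻¹ * a * x) * x⁻¹ = a by group, e, inv_mul_cancel_right] at this
      exact mul_left_cancel this
  have yn' : zpowers y ≤ normalizer (Q.map f : Set (End F V)ˣ) := zpowers_le.2 yn
  set H := Q.map f ⊔ zpowers y with hH
  haveI : Finite H := Finite.of_surjective
    (fun t : Q.map f × zpowers y => (⟨t.1 * t.2, mul_mem (mem_sup_left t.1.2) (mem_sup_right t.2.2)⟩ : H))
    (by
      rintro ⟨u, hu⟩
      obtain ⟨a, ha, b, hb, rfl⟩ := (mem_sup_of_normalizer yn').1 hu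
      exact ⟨(⟨a, ha⟩, ⟨b, hb⟩), rfl⟩)
  let τ : Representation F H V := (Units.coeHom _).comp H.subtype
  have c1 : Nat.card ((zpowers y).subgroupOf H) = p := by
    rw [card_subgroupOf_of_le le_sup_right, Nat.card_zpowers, yo]
  have c2 : Nat.card ((Q.map f).subgroupOf H) ∣ Nat.card Q := by
    rw [card_subgroupOf_of_le le_sup_left]; exact card_map_dvd _ _
  have key := ito_rep (ρ := τ) (Q := (Q.map f).subgroupOf H) (X := (zpowers y).subgroupOf H)
    (subgroupOf_le_normalizer yn') (by rw [c1]; exact hp.out) (by rw [c1]; exact hcop.coprime_dvd_right c2)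
    (isSolvable_subgroupOf (Group.isSolvable_of_surjective (f.subgroupMap_surjective Q)) H)
    (Nat.cast_ne_zero.2 Nat.card_pos.ne') (Nat.cast_ne_zero.2 Nat.card_pos.ne') (by rwa [c1])
    (fun h => ync (Units.ext (commute_of_commutator_le_ker h ⟨f q, mem_sup_left ⟨q, hq, rfl⟩⟩ ⟨q, hq, rfl⟩
      ⟨y, mem_sup_right (mem_zpowers y)⟩ (mem_zpowers y))))
  rw [c1] at key
  exact ⟨key.1, key.2.trans c2⟩

theorem ito_gen [CharZero F] {p : ℕ} [hp : Fact p.Prime] {Q : Subgroup G} {x : G} {k : ℕ}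
    (hx : x ∈ normalizer (Q : Set G)) (hk : x ^ p ^ k = 1) (hcop : p.Coprime (Nat.card Q))
    (hs : Group.IsSolvable Q) (hdim : finrank F V < p) (hne : ¬ ∀ q ∈ Q, Commute (ρ q) (ρ x)) :
    finrank F V + 1 = p ∧ finrank F V ^ 2 ∣ Nat.card Q := by
  let M : Subgroup G := (centralizer ((Q.map (QuotientGroup.mk' (MonoidHom.ker ρ)) : Subgroup _) : Set _)).comap
    (QuotientGroup.mk' (MonoidHom.ker ρ))
  have hM : ∀ g, g ∈ M ↔ ∀ y ∈ Q, Commute (ρ g) (ρ y) := fun g => mem_comap_centralizer_ker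
  obtain ⟨j, h1, h2⟩ := exists_pow_not_mem (p := p) (M := M) (x := x)
    (fun h => hne fun q hq => ((hM x).1 h q hq).symm) (k := k) (by rw [hk]; exact one_mem _)
  have hx' : x ^ p ^ j ∈ normalizer (Q : Set G) := pow_mem hx _
  generalize x ^ p ^ j = y at h1 h2 hx'
  have hy : zpowers y ≤ normalizer (Q : Set G) := zpowers_le.2 hx'
  set L := Q ⊔ zpowers y
  have hQL : Q ≤ L := le_sup_left
  have hXL : zpowers y ≤ L := le_sup_right
  let σ : Representation F L V := ρ.comp L.subtype
  have hN : ⁅Q, zpowers y⁆ ≤ L := commutator_le_of_le hQL hXL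
  haveI : (⁅Q, zpowers y⁆.subgroupOf L).Normal := (normal_subgroupOf_iff_le_normalizer hN).2
    (sup_le (normalizer_commutator_ge_left _ _) (normalizer_commutator_ge_right _ _))
  obtain ⟨W, hW, hnt, e1, e2⟩ := exists_schur_sub (ρ := σ) (⁅Q, zpowers y⁆.subgroupOf L)
    (Nat.cast_ne_zero.2 Nat.card_pos.ne') (fun h => h1 ((hM y).2 fun q hq => by
      have : ⁅Q, zpowers y⁆ ≤ MonoidHom.ker ρ := fun g hg => h (x := ⟨g, hN hg⟩) hg
      exact (commute_of_commutator_le_ker this q hq y (mem_zpowers y)).symm))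
  have hWV := Submodule.finrank_le W
  let y' : L := ⟨y, hXL (mem_zpowers y)⟩
  obtain ⟨c, hc⟩ := e2 (σ.subrepresentation W hW (y' ^ p)) (fun g => by
    have : Commute (σ (y' ^ p)) (σ g) := by
      obtain ⟨a, ha, b, hb, e⟩ := (mem_sup_of_normalizer hy).1 g.2
      show Commute (ρ (y ^ p)) (ρ g)
      rw [← e, map_mul]
      obtain ⟨i, rfl⟩ := hb
      exact ((hM _).1 h2 a ha).mul_right (((Commute.refl y).pow_left p).zpow_right i |>.map ρ)
    rw [commute_rho_iff] at this ⊢
    rw [ker_sub_eq]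
    exact ker_le_kerOn W this)
  obtain ⟨q, hq, hqn⟩ : ∃ q ∈ Q.subgroupOf L,
      ¬ Commute (σ.subrepresentation W hW q) (σ.subrepresentation W hW y') := by
    by_contra hn
    push Not at hn
    have : ⁅Q, zpowers y⁆.subgroupOf L ≤ MonoidHom.ker (σ.subrepresentation W hW) := by
      have e : ⁅Q, zpowers y⁆.subgroupOf L = ⁅Q.subgroupOf L, zpowers y'⁆ := by
        apply map_injective L.subtype_injective
        rw [Subgroup.map_commutator, map_subgroupOf_eq_of_le hQL, map_subgroupOf_eq_of_le hN,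
          MonoidHom.map_zpowers]; rfl
      rw [e, commutator_le_ker_iff]
      rintro a ha _ ⟨i, rfl⟩
      have h3 : Commute ((σ.subrepresentation W hW).toHomUnits a) ((σ.subrepresentation W hW).toHomUnits y') :=
        Units.ext (hn a ha)
      have h4 := h3.zpow_right i
      rw [← map_zpow] at h4
      exact congrArg Units.val h4
    rw [fixS_eq_top_iff.2 this] at e1
    exact top_ne_bot e1
  have key := ito_scalar (ρ := σ.subrepresentation W hW) (Q := Q.subgroupOf L) (x := y')
    (subgroupOf_le_normalizer hy (mem_zpowers y)) (by rwa [card_subgroupOf_of_le hQL])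
    (isSolvable_subgroupOf hs L) (by omega) hc hq hqn
  rw [card_subgroupOf_of_le hQL] at key
  have e : finrank F W = finrank F V := by omega
  rwa [e] at key

end CfsgH2
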