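import Cfsg.Agent.H2.JC4

/-! A subnormal `SL₂(2)`-piece is normalized by the Thompson subgroup. -/

set_option autoImplicit false
set_option linter.unusedSectionVars false
set_option linter.style.haveILetI false

namespace CfsgH2

open Subgroup Cfsg CfsgFT
open CfsgH9 (MaxA J_le J_le_iff J_eq_of_le exists_maxA cj_J ps pb io Tv mm)
open CfsgLead (SN)
open scoped commutatorElement Pointwise

universe u

variable {G : Type u} [Group G] [Finite G] {T A B D U V K K' L : Subgroup G} {q : ℕ}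

theorem ps_res [Fact q.Prime] (hA : A ≤ N(V)) : ps V (resIn q A) = resIn q (ps V A) := by
  rw [ps, ps, ← map_resIn]
  congr 1
  have := map_resIn (p := q) (A.subgroupOf N(V)) N(V).subtype
  rw [map_subgroupOf_eq_of_le hA] at this
  rw [← this, subgroupOf, comap_map_eq_self_of_injective (subtype_injective _)]

theorem ps_eq_bot (hA : A ≤ N(V)) : ps V A = ⊥ ↔ A ≤ C(V) := by
  rw [← CfsgH9.ps_le_cent hA le_rfl]
  exact ⟨fun e => e.le.trans bot_le, fun e => eq_bot_iff.2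
    ((le_inf le_rfl e).trans CfsgH9.ps_faithful.le)⟩

theorem ps_pg_iff [Fact q.Prime] (hA : A ≤ N(V)) : IsPGroup q (ps V A) ↔ resIn q A ≤ C(V) := by
  rw [← resIn_eq_bot_iff, ← ps_res hA, ps_eq_bot ((resIn_le A).trans hA)]

theorem sn_ps (h : SN A D) : SN (ps V A) (ps V D) := (h.subgroupOf _).map _

namespace K4

theorem Op_cent_sn (k : K4 K) (h : SN K D) : O₂(D) ≤ C(wOf K) := by
  obtain ⟨x, x1, x3⟩ := k.exists_x
  exact k.cent_of x1 x3 (Op_pg D) (nW (k.res ▸ Op_le_norm_res h)) (le_norm_Op_self D (h.le x1))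

theorem W_le_oz_sn (k : K4 K) (h : SN K D) : wOf K ≤ Ω₂(O₂(D)) :=
  le_oz (W_ea K) ((W_le_Op K).trans (Op_le_Op_of_sn h)) (cent_symm (k.Op_cent_sn h))

theorem W_eq_sn (k : K4 K) (h : SN K D) (h1 : wOf K ≤ U) (h2 : U ≤ Ω₂(O₂(D))) (n2 : K ≤ N(U)) :
    ⁅U, K⁆ = wOf K := by
  refine le_antisymm ?_ (k.comm_W.ge.trans (commutator_mono h1 le_rfl))
  have ea := CfsgH2.ea_mono (oz_ea _) h2
  have n : U ≤ N(K) := (h2.trans (oz_le _)).trans (k.res ▸ Op_le_norm_res h)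
  rw [← k.comm_comm (ea_pgroup ea) n2]
  refine commutator_mono (le_oz (CfsgH2.ea_mono ea (comm_le_left n2)) (k.le_Op
    ((ea_pgroup ea).to_le (comm_le_left n2)) (comm_le_right n)) ?_) le_rfl
  exact cent_mono (h2.trans (oz_le_cent _)) (comm_le_left n2) (Op_le_Op_of_sn h)

theorem pred_sn (k : K4 K) (h : SN K D) : PRed 2 (ncl D (wOf K)) D := by
  have UO := ncl_le (k.W_le_oz_sn h) (nOz le_normalizer)
  have DU := le_norm_ncl D (wOf K)
  have eW := k.W_eq_sn h (le_ncl _ _) UO (h.le.trans DU)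
  have ea := CfsgH2.ea_mono (oz_ea _) UO
  refine ⟨ncl_le_of_le ((W_le K).trans h.le), DU, ea, red_of_normal (nC DU) fun R h1 h2 h3 => ?_⟩
  refine ncl_le_cent ?_ h2
  have WU := le_ncl D (wOf K)
  generalize ncl D (wOf K) = U at *
  have a1 := (CfsgH2.le_Op (CfsgH9.ps_mono h1) (CfsgH9.ps_le_norm h2)
    ((ps_pg_iff (h1.trans DU)).2 h3)).trans (Op_le_norm_res (sn_ps (V := U) h))
  rw [← ps_res (h.le.trans DU), k.res] at a1
  have a2 := CfsgH9.le_norm_pb (h1.trans DU) a1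
  rw [CfsgH9.pb_ps (h.le.trans DU)] at a2
  have a3 := nK (h1.trans DU) a2
  rw [CfsgH9.commutator_sup_eq (ea_comm ea) (h.le.trans DU) (cent_le_norm _), eW,
    comm_eq_bot (cent_symm le_rfl), sup_bot_eq] at a3
  obtain ⟨S, hS⟩ := IsSylowIn.exists_sylowIn 2 R
  refine cent_symm (inf_eq_left.1 ((k.irr' inf_le_left (nI (nW le_normalizer)
    (nC (h.le.trans h2)))).resolve_left (ne_bot_of_le (inf_cent_ne_bot_of_pgroup hS.pgroup (W_pg K)
    (hS.le.trans a3) k.ne_bot) (le_inf inf_le_left ?_))))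
  rw [← hS.sup_resIn, cent_sup]
  exact le_inf inf_le_right (inf_le_left.trans (WU.trans (cent_symm h3)))

theorem ps_le_sn (k : K4 K) (h : SN K D) (h2 : U ≤ Ω₂(O₂(D))) (n : D ≤ N(U)) :
    ps U K ≤ pCoreOf 3 (ps U D) :=
  le_Op_of_sn (sn_ps h) ((ps_pg_iff (h.le.trans n)).2 ((res_le_of_sn (Op_sn K) (k := 1) k.idx).trans
    ((Op_le_Op_of_sn h).trans (cent_symm (h2.trans (oz_le_cent _))))))

theorem eq_of_inf_sn (k : K4 K) (h : SN K D) (k' : K4 K') (h' : SN K' D) (hW : wOf K ⊓ wOf K' ≠ ⊥) :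
    wOf K = wOf K' := by
  by_contra c
  have n : D ≤ N(Ω₂(O₂(D))) := nOz le_normalizer
  have e := k.W_eq_sn h (k.W_le_oz_sn h) le_rfl (h.le.trans n)
  have e' := k'.W_eq_sn h' (k'.W_le_oz_sn h') le_rfl (h'.le.trans n)
  have p := sup_le (k.ps_le_sn h le_rfl n) (k'.ps_le_sn h' le_rfl n)
  have ea := oz_ea (p := 2) O₂(D)
  have l := k.W_le_oz_sn h
  have l' := k'.W_le_oz_sn h'
  generalize Ω₂(O₂(D)) = U at *
  have XU := (sup_le h.le h'.le).trans n
  rw [← CfsgH9.ps_sup (h.le.trans n) (h'.le.trans n)] at p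
  have r := (ps_pg_iff XU).1 ((Op_pg _).to_le p)
  obtain ⟨Y, hY⟩ := IsSylowIn.exists_sylowIn 3 (K ⊔ K')
  have e2 := CfsgH9.commutator_sup_eq (ea_comm ea) (h.le.trans n) (h'.le.trans n)
  rw [e, e', ← hY.sup_resIn, CfsgH9.commutator_sup_eq (ea_comm ea) (hY.le.trans XU)
    ((resIn_le _).trans XU), comm_eq_bot (cent_symm r), sup_bot_eq] at e2
  have m := card_modEq_card_inf_cent hY.pgroup (normalizer_commutator_ge_right U Y)
  haveI := comm_iff.2 (ea_comm ea)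
  have z := CfsgH1.centralizer_inf_commutator_eq_bot (hY.le.trans XU) (coprime_card_of_pgroup
    (ea_pgroup ea) (coprime_of_pgroup_ne hY.pgroup (by norm_num)))
  rw [inf_assoc, inf_comm C(Y), inf_eq_right.2 (inf_le_left.trans (comm_le_left (hY.le.trans XU)))] at z
  rw [z, card_bot, e2] at m
  have s := card_sup_mul ((l'.trans ((ea_comm ea).trans (cent_anti l))).trans (cent_le_norm _))
  rw [k.card, k'.card] at s
  rcases pow_two_cases ((W_pg K).to_le inf_le_left)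
    (k.card ▸ card_le_of_le (inf_le_left : wOf K ⊓ wOf K' ≤ _)) with f | f | f
  · exact hW f
  · rw [f] at s
    rw [show Nat.card (wOf K ⊔ wOf K' : Subgroup G) = 8 by omega] at m
    exact absurd m (by decide)
  · exact c (eq_of_le_of_card_le (inf_eq_left.1 (eq_of_le_of_card_le inf_le_left
      (by rw [f, k.card]))) (by rw [k.card, k'.card]))

theorem J_norm (k : K4 K) (h : SN K D) (hD : Group.IsSolvable D) : J₂(D) ≤ N(wOf K) := by
  have r := k.pred_sn h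
  have WU := le_ncl D (wOf K)
  generalize ncl D (wOf K) = U at *
  refine (CfsgH9.ps_norm_io (J_le.trans r.norm) WU).1 ((CfsgH9.gen_ps r
    CfsgH1.isPSolvable_of_isSolvable).trans (sSup_le ?_))
  rintro B ⟨b1, b2⟩
  have e := CfsgH9.ps_inf_pb b1
  have l : J₂(D) ⊓ pb U B ≤ D := inf_le_left.trans J_le
  generalize J₂(D) ⊓ pb U B = A at *
  subst e
  refine (CfsgH9.ps_norm_io (l.trans r.norm) WU).2 fun b hb => mem_norm_iff_cj.2 ?_
  rw [cj_W]
  refine (k.conj b).eq_of_inf_sn (h.conj (le_normalizer (l hb))) k h fun c => ?_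
  have m := b2.mm
  rw [mm, b2.card, ← CfsgH9.io_inf_cent (l.trans r.norm), CfsgH9.card_io inf_le_left,
    CfsgH9.card_io le_rfl] at m
  have m2 := CfsgH9.card_mul_card_le (wOf K) (U ⊓ C(A))
  have m3 := card_le_of_le (sup_le WU inf_le_left : wOf K ⊔ U ⊓ C(A) ≤ U)
  have m4 : wOf K ⊓ (U ⊓ C(A)) = ⊥ := by
    refine eq_bot_iff.2 (le_trans (le_inf (fun w hw => ?_) inf_le_left) c.le)
    rw [← cj_W]
    convert conj_mem_cj b hw.1 using 1
    rw [mem_cent.1 hw.2.2 b hb, mul_inv_cancel_right]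
  have : 0 < Nat.card U := Nat.card_pos
  rw [m4, card_bot, k.card] at m2
  omega

end K4

/-- 12.2.5 -/
theorem LO.jc_of_zero (h : LO T L) (hK : K ≤ L) (hs : SN K (K ⊔ J₂(T))) {g : G} (k : JC (cj g T) K)
    (h0 : ∀ S, J₂(cj g T) ≤ S → IsSylowIn 2 S N(wOf K) → J₂(S) = J₂(cj g T)) : JC T K := by
  have := (k.zero h.z h0).2 g⁻¹
  rw [cj_inv_cj] at this
  have l : K ⊔ J₂(T) ≤ L := sup_le hK (J_le.trans h.syl.le)
  obtain ⟨S, s1, s2⟩ := IsSylowIn.exists_le (pJ h.syl.pgroup) (le_sup_right : _ ≤ K ⊔ J₂(T))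
  exact this ((J_eq_of_syl h.syl s2 s1.pgroup (s1.le.trans l)).ge.trans ((J_le_J_syl s1).trans
    (k.J_norm hs (haveI := h.solv; CfsgLead.isSolvable_of_le l h.solv))))

end CfsgH2
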