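import Cfsg.Agent.H2.JC1
import Cfsg.Agent.H2.Coset

/-! Cores and point stabilizers of primitive groups. -/

set_option autoImplicit false
set_option linter.unusedSectionVars false
set_option linter.style.haveILetI false

namespace CfsgH2

open Subgroup Cfsg CfsgFT MulAction
open scoped commutatorElement Pointwise

universe u

variable {G : Type u} [Group G] {M M' B X A : Subgroup G} {g : G}

/-- the core of `B` in `M` -/
def cor (M B : Subgroup G) : Subgroup G := (B.subgroupOf M).normalCore.map M.subtype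

theorem cor_le_left (M B : Subgroup G) : cor M B ≤ M := map_subtype_le _

theorem cor_le (M B : Subgroup G) : cor M B ≤ B := map_le_iff_le_comap.2 (normalCore_le _)

theorem le_norm_cor (M B : Subgroup G) : M ≤ N(cor M B) := le_norm_map_subtype _

theorem mem_cor {x : G} : x ∈ cor M B ↔ x ∈ M ∧ ∀ m ∈ M, m * x * m⁻¹ ∈ B :=
  ⟨by rintro ⟨y, hy, rfl⟩; exact ⟨y.2, fun m hm => hy ⟨m, hm⟩⟩,
    fun h => ⟨⟨x, h.1⟩, fun m => h.2 m m.2, rfl⟩⟩

theorem le_cor (h1 : X ≤ B) (h2 : X ≤ M) (h3 : M ≤ N(X)) : X ≤ cor M B := fun _ hx =>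
  mem_cor.2 ⟨h2 hx, fun _ hm => h1 (CfsgH2.conj_mem_of_mem_normalizer (h3 hm) hx)⟩

theorem cor_subgroupOf (M B : Subgroup G) : (cor M B).subgroupOf M = (B.subgroupOf M).normalCore :=
  comap_map_eq_self_of_injective M.subtype_injective _

variable [Finite G]

theorem relIndex_cor_dvd (M B : Subgroup G) : (cor M B).relIndex M ∣ (B.relIndex M).factorial := by
  rw [relIndex, cor_subgroupOf, normalCore_eq_ker, index_ker, relIndex, index, ← Nat.card_perm]
  exact card_subgroup_dvd_card _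

theorem relIndex_cor_dvd' (h : B ≤ M) : (cor M B).relIndex B ∣ (B.relIndex M - 1).factorial := by
  have := relIndex_cor_dvd M B
  have h0 := CfsgH2.relIndex_ne_zero B M
  rwa [← relIndex_mul_relIndex _ _ _ (cor_le M B) h, ← Nat.mul_factorial_pred h0, mul_comm,
    Nat.mul_dvd_mul_iff_left (Nat.pos_of_ne_zero h0)] at this

/-- a core-free maximal subgroup -/
structure CFM (M : Subgroup G) : Prop where
  co : IsCoatom M
  cf : ∀ U ≤ M, ⊤ ≤ N(U) → U = ⊥

namespace CFM

theorem norm (h : CFM M) (h0 : X ≠ ⊥) (h1 : X ≤ M) (h2 : M ≤ N(X)) : N(X) = M :=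
  (h.co.le_iff.1 h2).resolve_left fun e => h0 (h.cf X h1 e.ge)

theorem bot (h : CFM M) (h1 : X ≤ M) (h2 : M ≤ N(X)) (h3 : A ≤ N(X)) (h4 : ¬ A ≤ M) : X = ⊥ :=
  by_contra fun c => h4 (h.norm c h1 h2 ▸ h3)

theorem conj (h : CFM M) (g : G) : CFM (cj g M) :=
  ⟨(OrderIso.isCoatom_iff (MulAut.conj g).mapSubgroup M).2 h.co, fun U a b => by
    rw [← cj_eq_bot_iff (g := g⁻¹)]
    exact h.cf _ (by rwa [cj_le_iff_le_cj_inv, inv_inv])
      (by rw [← cj_normalizer, top_le_iff.1 b, cj_top])⟩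

theorem not_le (h : CFM M) (h' : CFM M') (ne : M ≠ M') : ¬ M ≤ M' := fun k =>
  ne ((h.co.le_iff.1 k).resolve_left h'.co.1).symm

end CFM

theorem cfm_of_simple [IsSimpleGroup G] (h : IsCoatom M) : CFM M :=
  ⟨h, fun U a b => ((normal_of_top_le b).eq_bot_or_eq_top).resolve_right
    fun e => h.1 (top_le_iff.1 (e ▸ a))⟩

theorem prim_setup {Ω : Type*} [MulAction G Ω] [FaithfulSMul G Ω] (h : IsPreprimitive G Ω) {a b : Ω}
    {d : ℕ} (hd : Nat.card (orbit (stabilizer G a) b) = d) (h2 : 2 ≤ d) :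
    CFM (stabilizer G a) ∧ (∃ g, cj g (stabilizer G a) = stabilizer G b) ∧
      (stabilizer G a ⊓ stabilizer G b).relIndex (stabilizer G a) = d := by
  have e : (stabilizer G a ⊓ stabilizer G b).relIndex (stabilizer G a) = d := by
    rw [inf_relIndex_left, ← hd]
    exact (Nat.card_congr (orbitEquivQuotientStabilizer (stabilizer G a) b)).symm
  haveI : Nontrivial Ω := ⟨a, b, fun k => by rw [k, inf_idem, relIndex_self] at e; omega⟩
  obtain ⟨g, hg⟩ := exists_smul_eq G a b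
  refine ⟨⟨IsPreprimitive.isCoatom_stabilizer_of_isPreprimitive G a, fun U k1 k2 =>
    eq_bot_iff.2 fun u hu => mem_bot.2 (eq_of_smul_eq_smul (α := Ω) fun c => ?_)⟩,
    ⟨g, hg ▸ (stab_smul g a).symm⟩, e⟩
  obtain ⟨x, rfl⟩ := exists_smul_eq G a c
  have := k1 (conj_mem_of_mem_normalizer' (k2 (mem_top x)) hu)
  rw [mem_stabilizer_iff, mul_smul, mul_smul, inv_smul_eq_iff] at this
  rw [this, one_smul]

theorem relIndex_inf_cj (g : G) (M : Subgroup G) :
    (M ⊓ cj g M).relIndex (cj g M) = (M ⊓ cj g M).relIndex M :=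
  Nat.eq_of_mul_eq_mul_left (Nat.card_pos (α := (M ⊓ cj g M : Subgroup G))) (by
    rw [CfsgH2.card_mul_relIndex inf_le_left, CfsgH2.card_mul_relIndex inf_le_right, card_cj])

end CfsgH2
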