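import Cfsg.Agent.H2.JC7
import Cfsg.Agent.H2.TW1
import Cfsg.Agent.H9.Inv

/-! Sims' theorem on suborbits of length three. -/

set_option autoImplicit false
set_option linter.unusedSectionVars false
set_option linter.style.haveILetI false

namespace CfsgH2

open Subgroup Cfsg CfsgFT MulAction
open CfsgH9 (MaxA J_le J_eq_of_le)
open scoped commutatorElement Pointwise

universe u

variable {G : Type u} [Group G] [Finite G] {M P S T A V : Subgroup G} {g t x : G}

theorem SP.dihedral (h : SP P T) (ht : t ∈ P) (t2 : t * t = 1) (tQ : t ∉ O₂(P))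
    (hc : Nat.card O₂(P) ≤ 2) : Nonempty (P ≃* Equiv.Perm (Fin 3)) ∨ Nonempty (P ≃* DihedralGroup 6) := by
  obtain ⟨x, x1, x3, tx⟩ := h.exists_x ht t2 tQ
  have cP := CfsgH2.card_mul_relIndex (Op_le (p := 2) P)
  rw [h.idx6] at cP
  have k : ∀ z ∈ O₂(P), ∀ n, orderOf (z * x) = n → Nat.card P ≤ 2 * n → Nonempty (P ≃* DihedralGroup n) :=
    fun z hz n o c => by
    have cz := cent_symm ((le_norm_Op_self P).trans (cent_of_card_le_two hc)) hz
    have zz : z * z = 1 := by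
      rcases eq_or_ne z 1 with rfl | e
      · simp
      by_contra k
      have := Nat.card_pos (α := O₂(P))
      rcases (by omega : Nat.card O₂(P) = 1 ∨ Nat.card O₂(P) = 2) with f | f
      · exact e (mem_bot.1 (card_eq_one.1 f ▸ hz))
      · exact e (mul_left_cancel (a := z) ((eq_of_card_two f (O₂(P).mul_mem hz hz) hz k e).trans (mul_one z).symm))
    have zx : Commute x z := mem_cent.1 cz x x1
    have i : Idx2 (closure {z * x, t}) (z * x) t (-1) 0 := idx2_closure (by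
      rw [zpow_neg_one, mul_inv_rev, inv_eq_of_mul_self zz, zx.inv_left.eq, ← tx, ← mul_assoc,
        mem_cent.1 cz t ht]; group) (by rw [t2, zpow_zero]) fun k => by
      obtain ⟨j, rfl⟩ := mem_zpowers_iff.1 k
      rw [((zx.symm.mul_left (Commute.refl x)).zpow_left j).eq, mul_inv_cancel_right,
        eq_inv_iff_mul_eq_one, ← pow_two, ← orderOf_dvd_iff_pow_eq_one, x3] at tx
      exact absurd tx (by decide)
    have e : closure {z * x, t} = P := eq_of_le_of_card_le (i.le_iff.2 ⟨P.mul_mem (Op_le P hz) x1, ht⟩)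
      (by rw [i.card, o]; exact c)
    exact e ▸ i.dihedral o
  by_cases e : O₂(P) = ⊥
  · rw [e, card_bot] at cP
    exact Or.inl ⟨(k 1 (one_mem _) 3 (by rw [one_mul, x3]) (by omega)).some.trans
      CfsgH9.dihedral_three.some⟩
  obtain ⟨z, z1, z2⟩ := exists_mem_ne_one e
  have c2 : Nat.card O₂(P) = 2 := by
    have := (one_lt_card_iff_ne_bot _).2 e; omega
  have oz : orderOf z = 2 := ((Nat.dvd_prime Nat.prime_two).1 (c2 ▸ orderOf_dvd_natCard _ z1)).resolve_left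
    fun k => z2 (orderOf_eq_one_iff.1 k)
  have zx : Commute x z := mem_cent.1 (cent_symm ((le_norm_Op_self P).trans (cent_of_card_le_two hc)) z1) x x1
  exact Or.inr (k z z1 6 (by
    rw [zx.symm.orderOf_mul_eq_mul_orderOf_of_coprime (by rw [oz, x3]; norm_num), oz, x3]) (by omega))

theorem CFM.af (h : CFM M) (s : SP M T) (c : ChP 2 M) (hg : g ∈ N(T)) (hM : g ∉ M) :
    AF M (cj g M) T := by
  have b := fun U (k1 : U ≤ T) k2 (k3 : g ∈ N(U)) => h.bot (k1.trans s.syl.le) k2 (zpowers_le.2 k3)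
    fun k => hM (k (mem_zpowers g))
  have l : LP M T := ⟨s, c, fun k => oz_ne_bot s.syl.pgroup (fun e => s.nn (by
    rw [e, normalizer_eq_top]; exact le_top)) (b _ (oz_le T) (k.trans (cent_le_norm _))
    (le_norm_oz le_rfl hg))⟩
  refine ⟨l, by simpa only [cj_eq_of_norm hg] using l.conj g, fun U k1 k2 k3 =>
    h.bot (k1.trans s.syl.le) k2 k3 fun k => ?_⟩
  have := eq_of_le_of_card_le k (by rw [card_cj])
  exact l.Q_ne (b _ s.Qle (le_norm_Op_self _) (norm_le_norm_Op _ (mem_norm_iff_cj.2 this)))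

theorem CFM.sims (h : CFM M) (hi : (M ⊓ cj g M).relIndex M = 3) :
    Nonempty (M ≃* Multiplicative (ZMod 3)) ∨ Nonempty (M ≃* Equiv.Perm (Fin 3)) ∨
      Nonempty (M ≃* DihedralGroup 6) ∨ Nonempty (M ≃* Equiv.Perm (Fin 4)) ∨
      Nonempty (M ≃* Equiv.Perm (Fin 4) × Multiplicative (ZMod 2)) := by
  have hi' := (relIndex_inf_cj g M).trans hi
  have ne : cj g M ≠ M := fun e => by rw [e, inf_idem, relIndex_self] at hi; omega
  have nl := (h.conj g).not_le h ne
  have l1 : M ⊓ cj g M ≤ M := inf_le_left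
  have l2 : M ⊓ cj g M ≤ cj g M := inf_le_right
  generalize M ⊓ cj g M = B at *
  have r : ∀ {M : Subgroup G}, B ≤ M → B.relIndex M = 3 → M ≤ N(resIn 2 B) := fun {M} l i => by
    have := relIndex_cor_dvd' l
    rw [i] at this
    obtain ⟨k, -, hk⟩ := (Nat.dvd_prime_pow Nat.prime_two (m := 1)).1 this
    rw [← resIn_eq_of_le_of_le (resIn_le_of_relIndex (l.trans (le_norm_cor M B)) hk) (cor_le M B)]
    exact le_norm_resIn (le_norm_cor M B)
  have pB := resIn_eq_bot_iff.1 (h.bot ((resIn_le B).trans l1) (r l1 hi) (r l2 hi') nl)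
  have s1 : IsSylowIn 2 B M := ⟨l1, pB, by rw [hi]; norm_num⟩
  obtain ⟨m, m1, m2⟩ := (s1.cj g).exists_cj_eq (⟨l2, pB, by rw [hi']; norm_num⟩ : IsSylowIn 2 B _)
  have e : cj (m * g) M = cj g M := by rw [← cj_cj, cj_eq_of_mem m1]
  rw [cj_cj] at m2
  rw [← e] at ne nl l2
  generalize m * g = a at *
  by_cases n : M ≤ N(B)
  · have := h.bot l1 n (by rw [← m2, ← cj_normalizer]; exact cj_mono a n) nl
    rw [this, relIndex_bot_left] at hi
    exact Or.inl ⟨mulEquivOfPrimeCardEq (p := 3) hi (by simp)⟩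
  have s : SP M B := ⟨s1, hi, n⟩
  by_cases c : ChP 2 M
  · exact Or.inr (Or.inr (Or.inr ((h.af s c (mem_norm_iff_cj.2 m2) fun k =>
      ne (cj_eq_of_mem k)).iso2.imp And.left And.left)))
  have s' : SP (cj a M) B := m2 ▸ s.conj a
  have c1 : resIn 2 M ≤ C(O₂(M)) := (s.res_le_of_norm inf_le_left (nI le_normalizer
    (nC (le_norm_Op_self M))) c).trans inf_le_right
  have c2 : resIn 2 (cj a M) ≤ C(O₂(cj a M)) := by
    rw [← cj_resIn, Op_cj, ← cj_centralizer]; exact cj_mono a c1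
  have nB : B ≤ N(O₂(M) ⊓ O₂(cj a M)) :=
    nI (l1.trans (le_norm_Op_self _)) (l2.trans (le_norm_Op_self _))
  have z := h.bot (inf_le_left.trans (Op_le M)) (s1.sup_resIn.ge.trans (sup_le nB
    ((c1.trans (cent_anti inf_le_left)).trans (cent_le_norm _)))) (s'.syl.sup_resIn.ge.trans (sup_le nB
    ((c2.trans (cent_anti inf_le_right)).trans (cent_le_norm _)))) nl
  have cQ : Nat.card O₂(cj a M) = Nat.card O₂(M) := by rw [Op_cj, card_cj]
  obtain ⟨U, u1, u2, u3⟩ : ∃ U ≤ B, O₂(M) ⊓ U = ⊥ ∧ Nat.card U = 2 ∧ Nat.card O₂(M) ≤ 2 := by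
    by_cases q : O₂(cj a M) ≤ O₂(M)
    · rw [inf_eq_right.2 q] at z
      rw [z, card_bot, eq_comm, card_eq_one] at cQ
      have := s.idx2
      rw [cQ, relIndex_bot_left] at this
      exact ⟨B, le_rfl, by rw [cQ, bot_inf_eq], this, by rw [cQ, card_bot]; omega⟩
    · have := s.rel_two s'.Qle q
      rw [← inf_relIndex_right, z, relIndex_bot_left] at this
      exact ⟨_, s'.Qle, z, this, by omega⟩
  obtain ⟨t, t1, t2⟩ := exists_mem_ne_one ((one_lt_card_iff_ne_bot U).1 (by omega))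
  refine Or.inr ((s.dihedral (l1 (u1 t1)) ?_ (fun k => t2 (mem_bot.1 (u2 ▸ ⟨k, t1⟩))) u3.2).imp_right
    Or.inl)
  rw [← pow_two, ← orderOf_dvd_iff_pow_eq_one, ← u3.1]
  exact orderOf_dvd_natCard _ t1

theorem card_le_two_mul (hA : MaxA 2 S A) (hV : IsElementaryAbelian 2 V) (h1 : V ≤ S) (h2 : V ≤ C(T))
    (hi : T.relIndex A ≤ 2) : Nat.card V ≤ 2 * Nat.card (V ⊓ C(A) : Subgroup G) := by
  have a := maxA_mul_le hA hV h1 (inf_le_right : T ⊓ A ≤ A) (h2.trans (cent_anti inf_le_left))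
  have b := CfsgH2.card_mul_relIndex (inf_le_right : T ⊓ A ≤ A)
  rw [inf_relIndex_right] at b
  have c := card_le_of_le (le_inf inf_le_right (inf_le_left.trans (inf_le_right.trans
    (ea_comm hA.ea))) : T ⊓ A ⊓ V ≤ V ⊓ C(A))
  have : 0 < Nat.card (T ⊓ A : Subgroup G) := Nat.card_pos
  exact Nat.le_of_mul_le_mul_left (by nlinarith [Nat.mul_le_mul c hi]) this

theorem card_le_four_mul (hx : x ∈ N(V)) (xo : Odd (orderOf x)) (tx : t * x * t⁻¹ = x⁻¹)
    (h : Nat.card V ≤ 2 * Nat.card (V ⊓ C1(t) : Subgroup G)) :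
    Nat.card V ≤ 4 * Nat.card (V ⊓ C1(x) : Subgroup G) := by
  have a := CfsgH9.card_mul_card_le (V ⊓ C1(t)) (cj x (V ⊓ C1(t)))
  have l := cj_le_of_norm hx (inf_le_left : V ⊓ C1(t) ≤ V)
  have b := card_le_of_le (sup_le (inf_le_left : V ⊓ C1(t) ≤ V) l)
  have c : V ⊓ C1(t) ⊓ cj x (V ⊓ C1(t)) ≤ V ⊓ C1(x) := fun v hv => ⟨hv.1.1, by
    have := (mem_cj.1 hv.2).2
    refine mem_cent1.2 (mem_cent1.1 (x_mem_of (U := C1(v)) xo tx (mem_cent1.2 ?_)
      (mem_cent1.2 (mem_cent1.1 hv.1.2).symm))).symm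
    have := mem_cent1.1 this
    calc _ = x * (x⁻¹ * v * x * t) * x⁻¹ := by group
      _ = _ := by rw [← this]; group⟩
  have d := card_le_of_le c
  rw [card_cj] at a
  have : 0 < Nat.card V := Nat.card_pos
  exact Nat.le_of_mul_le_mul_left (by nlinarith [Nat.mul_le_mul d b, Nat.mul_le_mul h h]) this

theorem order_three (hV : IsPGroup 2 V) (hx : x ∈ N(V)) (xp : (orderOf x).Prime) (x2 : orderOf x ≠ 2)
    (h : Nat.card V ≤ 4 * Nat.card (V ⊓ C1(x) : Subgroup G)) (hc : x ∉ C(V)) : orderOf x = 3 := by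
  haveI := Fact.mk xp
  have m := card_modEq_card_inf_cent (isPGroup_zpowers_of_orderOf (k := 1) (pow_one _).symm)
    (zpowers_le.2 hx)
  rw [cent_zpowers] at m
  have e := CfsgH2.card_mul_relIndex (inf_le_left : V ⊓ C1(x) ≤ V)
  obtain ⟨k, hk⟩ := relIndex_eq_pow hV (V ⊓ C1(x))
  obtain ⟨j, hj⟩ := (hV.to_le (inf_le_left : V ⊓ C1(x) ≤ V)).exists_card_eq
  have c : (orderOf x).Coprime (Nat.card (V ⊓ C1(x) : Subgroup G)) :=
    hj ▸ Nat.Coprime.pow_right _ ((Nat.coprime_primes xp Nat.prime_two).2 x2)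
  have p : 0 < Nat.card (V ⊓ C1(x) : Subgroup G) := Nat.card_pos
  rw [← e, hk] at h m
  have m2 := Nat.ModEq.cancel_left_of_coprime c (m.trans (by rw [mul_one]) :
    _ ≡ _ * 1 [MOD _])
  have k2 : k ≤ 2 := (Nat.pow_le_pow_iff_right (by norm_num : 1 < 2)).1
    (Nat.le_of_mul_le_mul_left (by omega) p)
  have d := (Nat.modEq_iff_dvd' (Nat.one_le_two_pow)).1 m2.symm
  interval_cases k
  · exact absurd (le_cent1_iff.1 ((relIndex_eq_one.1 hk).trans inf_le_right)) hc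
  · exact absurd (Nat.dvd_one.1 d) xp.one_lt.ne'
  · exact (Nat.prime_dvd_prime_iff_eq xp Nat.prime_three).1 d

theorem CFM.sims_local (h : CFM M) (c : ChP 2 M) (s : IsSylowIn 2 S M) (hg : g ∈ N(S)) (hM : g ∉ M)
    {q : ℕ} (hq : q.Prime) (hi : O₂(M).relIndex M = 2 * q) : Nonempty (M ≃* Equiv.Perm (Fin 4)) ∨
      Nonempty (M ≃* Equiv.Perm (Fin 4) × Multiplicative (ZMod 2)) := by
  have b := fun U (k1 : U ≤ S) k2 (k3 : g ∈ N(U)) => h.bot (k1.trans s.le) k2 (zpowers_le.2 k3)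
    fun k => hM (k (mem_zpowers g))
  have QS := Op_le_sylow s
  have i := relIndex_mul_relIndex _ _ _ QS s.le
  obtain ⟨k, hk⟩ := relIndex_eq_pow s.pgroup O₂(M)
  have q2 : q ≠ 2 := fun e => by
    obtain ⟨j, hj⟩ := (Op_pg (p := 2) M).exists_card_eq
    have := CfsgH2.card_mul_relIndex (Op_le (p := 2) M)
    rw [hj, hi, e] at this
    rw [Op_eq_self (IsPGroup.of_card (n := j + 2) (by rw [← this, pow_add]; rfl)), relIndex_self] at hi
    omega
  have qo := hq.odd_of_ne_two q2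
  have i1 : S.relIndex M = q := by
    have d : q ∣ S.relIndex M := ((Nat.coprime_two_right.2 qo).pow_right k).dvd_of_dvd_mul_left
      (by rw [← hk, i, hi]; exact dvd_mul_left _ _)
    exact Nat.dvd_antisymm (((Nat.coprime_two_left.2 (Nat.odd_iff.2 (by
      have := s.not_dvd; omega))).symm).dvd_of_dvd_mul_left (by rw [← hi, ← i]; exact dvd_mul_left _ _)) d
  have i2 : O₂(M).relIndex S = 2 := Nat.eq_of_mul_eq_mul_right hq.pos (by rw [← hi, ← i, i1])
  have S0 : S ≠ ⊥ := fun e => by rw [e, relIndex_bot_right] at i2; omega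
  obtain ⟨A, a1, a2⟩ : ∃ A, MaxA 2 S A ∧ ¬ A ≤ O₂(M) := by
    by_contra k
    have := CfsgH9.J_le_iff.2 fun A a => by_contra fun d => k ⟨A, a, d⟩
    exact CfsgH9.J_ne_bot (n := 2) dvd_rfl s.pgroup S0 (b _ J_le (by
      rw [← J_eq_of_le this QS]; exact nJ (le_norm_Op_self M)) (nJ le_rfl hg))
  obtain ⟨t, t1, t2⟩ := SetLike.not_le_iff_exists.1 a2
  have tM := s.le (a1.le t1)
  obtain ⟨⟨x, xM⟩, x1, x2, x3⟩ := exists_inverted (G := M) (t := ⟨t, tM⟩) (by
    rw [← Subgroup.orderOf_coe]; exact orderOf_eq_prime (a1.ea.2 t t1) fun e =>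
      t2 ((show t = 1 from e) ▸ one_mem _)) fun k => t2 ⟨_, k, rfl⟩
  rw [← Subgroup.orderOf_coe] at x1 x2
  replace x3 : t * x * t⁻¹ = x⁻¹ := congrArg Subtype.val x3
  have xo := x1.odd_of_ne_two x2
  have r : PRed 2 (ncl M Ω₂(S)) M := (pred_oz S).ncl c s le_rfl s.le
  haveI := Fact.mk hq
  have xS : x ∉ S := fun k => x1.one_lt.ne' (orderOf_eq_one_iff.2
    (eq_one_of_mem_pgroup_of_coprime s.pgroup k (Nat.coprime_two_right.2 xo)))
  have x4 := order_three r.pg (r.norm xM) x1 x2 (card_le_four_mul (r.norm xM) xo x3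
    ((card_le_two_mul a1 r.ea (r.le_Op.trans QS) (cent_symm r.Op_le_cent) ((relIndex_le_of_le_right
    a1.le (by rw [i2]; norm_num)).trans i2.le)).trans (Nat.mul_le_mul_left 2 (card_le_of_le (inf_le_inf_left _
    (cent_le_cent1 t1)))))) fun k => oz_ne_bot s.pgroup S0 (b _ (oz_le S)
      ((sup_zpowers_eq_of_relIndex_prime i1 s.le xM xS).ge.trans (sup_le (le_norm_oz le_normalizer)
      (zpowers_le.2 (cent_le_norm _ (cent_anti (le_ncl _ _) k))))) (le_norm_oz le_rfl hg))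
  have q3 : q = 3 := by
    have d := orderOf_dvd_natCard _ xM
    obtain ⟨j, hj⟩ := s.pgroup.exists_card_eq
    rw [x4, ← CfsgH2.card_mul_relIndex s.le, hj, i1] at d
    exact ((Nat.prime_dvd_prime_iff_eq Nat.prime_three hq).1 (((by norm_num : Nat.Coprime 3 2).pow_right
      j).dvd_of_dvd_mul_left d)).symm
  exact (h.af (sp_of_six (by rw [hi, q3]) s) c hg hM).iso2.imp And.left And.left

end CfsgH2
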