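import Cfsg.Agent.H2.JC4

/-! The maximal straddling 2-subgroups. -/

set_option autoImplicit false
set_option linter.unusedSectionVars false
set_option linter.style.haveILetI false

namespace CfsgH2

open Subgroup Cfsg CfsgFT
open CfsgH9 (MaxA J_le J_le_iff J_eq_of_le exists_maxA cj_J)
open CfsgLead (SN)
open scoped commutatorElement Pointwise

universe u

variable {G : Type u} [Group G] [Finite G]
  {P P' T T' T₀ S A B U V W K K' K'' L L' M X Y : Subgroup G} {x t g : G}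

theorem mea_eq (hA : MaxA 2 T A) : maxElemAbelianOrder T = Nat.card A := by
  have : (fun A : Subgroup T => Nat.card A) '' maxElementaryAbelianSubgroups 2 T = {Nat.card A} := by
    ext n
    constructor
    · rintro ⟨B, hB, rfl⟩
      have := (CfsgH9.mem_image_maxEA.1 ⟨B, hB, rfl⟩).card_eq hA
      rwa [card_map_of_injective T.subtype_injective] at this
    · rintro rfl
      obtain ⟨B, hB, rfl⟩ := CfsgH9.mem_image_maxEA.2 hA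
      exact ⟨B, hB, (card_map_of_injective T.subtype_injective).symm⟩
  rw [maxElemAbelianOrder, this, csSup_singleton]

theorem exists_mx (h : (straddlingTwoSubgroups M).Nonempty) :
    ∃ T, T ∈ maxStraddlingTwoSubgroups M := by
  obtain ⟨T, h1, h2⟩ := Set.exists_max_image _ (fun T : Subgroup G => toLex (maxElemAbelianOrder T,
    toLex (Nat.card J₂(T), Nat.card T))) (Set.toFinite _) h
  refine ⟨T, h1, fun T' h3 => ?_⟩
  have := h2 T' h3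
  simp only [Prod.Lex.toLex_le_toLex] at this
  omega

theorem loc_cj (h : IsTwoLocal L) (g : G) : IsTwoLocal (cj g L) := by
  obtain ⟨U, h1, h2, rfl⟩ := h
  exact ⟨cj g U, IsPGroup_cj h1 g, by rwa [Ne, cj_eq_bot_iff], cj_normalizer g U⟩

theorem maxloc_cj (h : IsMaximalTwoLocal L) (g : G) : IsMaximalTwoLocal (cj g L) :=
  ⟨loc_cj h.1 g, fun N a b => by
    rw [← h.2 _ (loc_cj a g⁻¹) (cj_le_iff_le_cj_inv.1 b), cj_cj_inv]⟩

theorem exists_maxloc (h : IsTwoLocal L) : ∃ L', IsMaximalTwoLocal L' ∧ L ≤ L' := by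
  obtain ⟨B, h1, h2, h3⟩ := exists_maximal_subgroup h
  exact ⟨B, ⟨h2, h3⟩, h1⟩

theorem maxloc_eq (h : IsMaximalTwoLocal L) (hU : IsPGroup 2 U) (h0 : U ≠ ⊥) (hn : L ≤ N(U)) :
    N(U) = L := h.2 _ ⟨U, hU, h0, rfl⟩ hn

theorem loc_Op_ne (h : IsTwoLocal L) : O₂(L) ≠ ⊥ := by
  obtain ⟨U, h1, h2, rfl⟩ := h
  exact ne_bot_of_le h2 (le_Op le_normalizer le_rfl h1)

theorem maxloc_norm (h : IsMaximalTwoLocal L) (hX : L ≤ N(X)) (h0 : O₂(X) ≠ ⊥) : N(X) ≤ L :=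
  maxloc_eq h (Op_pg X) h0 (le_norm_Op hX) ▸ norm_le_norm_Op X

theorem loc_cent1 {d : G} (h1 : d ≠ 1) (h2 : d ^ 2 = 1) : ∃ L, IsTwoLocal L ∧ C1(d) ≤ L :=
  ⟨_, ⟨zpowers d, isPGroup_zpowers_of_orderOf (k := 1) (by
    rw [pow_one]; exact orderOf_eq_prime h2 h1), by rwa [Ne, zpowers_eq_bot], rfl⟩,
    cent1_le_norm_zpowers d⟩

/-- `T ∈ 𝒯*(M)` -/
structure MX (M T : Subgroup G) : Prop where
  z : ZN G
  hMJ : ∃ S, IsSylowIn 2 S ⊤ ∧ N(J₂(S)) ≤ M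
  st : T ∈ straddlingTwoSubgroups M
  max : ∀ T' ∈ straddlingTwoSubgroups M, J₂(T) ≤ T' → J₂(T') = J₂(T) ∧ Nat.card T' ≤ Nat.card T

theorem mx_of (z : ZN G) (hS : IsSylowIn 2 S ⊤) (hMJ : N(J₂(S)) ≤ M)
    (hT : T ∈ maxStraddlingTwoSubgroups M) : MX M T := by
  refine ⟨z, ⟨S, hS, hMJ⟩, hT.1, fun T' h1 h2 => ?_⟩
  obtain ⟨A, hA⟩ := exists_maxA (U := T) 2
  obtain ⟨B, hB⟩ := exists_maxA (U := T') 2
  obtain ⟨a, b⟩ := hT.2 T' h1
  rw [mea_eq hA, mea_eq hB] at a b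
  obtain ⟨c, d⟩ := b (le_antisymm a (hB.max A (hA.le_J.trans h2) hA.ea))
  have e := eq_of_le_of_card_le (J_le_J_of h2 hA hB a) c
  exact ⟨e.symm, d (by rw [e])⟩

/-- uniqueness of the maximal 2-local overgroup -/
def UQ (X L : Subgroup G) : Prop := IsMaximalTwoLocal L ∧ X ≤ L ∧ ∀ Y, IsTwoLocal Y → X ≤ Y → Y ≤ L

theorem UQ.eq (h : UQ X L) (h1 : IsMaximalTwoLocal L') (h2 : X ≤ L') : L' = L :=
  (h1.2 L h.1.1 (h.2.2 L' h1.1 h2)).symm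

theorem UQ.conj (h : UQ X L) (g : G) : UQ (cj g X) (cj g L) :=
  ⟨maxloc_cj h.1 g, cj_mono g h.2.1, fun Y a b => by
    rw [← cj_cj_inv g Y]
    exact cj_mono g (h.2.2 _ (loc_cj a g⁻¹) (cj_le_iff_le_cj_inv.1 b))⟩

theorem UQ.mono (h : UQ X L) (h1 : X ≤ Y) (h2 : Y ≤ L) : UQ Y L :=
  ⟨h.1, h2, fun _ a b => h.2.2 _ a (h1.trans b)⟩

theorem UQ.cent1 (h : UQ X L) {d : G} (h1 : d ≠ 1) (h2 : d ^ 2 = 1) (h3 : d ∈ C(X)) : C1(d) ≤ L := by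
  obtain ⟨Y, a, b⟩ := loc_cent1 h1 h2
  exact b.trans (h.2.2 Y a ((le_cent1_iff.2 h3).trans b))

namespace MX

theorem pg (h : MX M T) : IsPGroup 2 T := h.st.1

theorem J_ne (h : MX M T) : J₂(T) ≠ ⊥ := CfsgH9.J_ne_bot dvd_rfl h.pg h.st.2.1

theorem nJ_le (h : MX M T) : N(J₂(T)) ≤ M := by
  by_contra c
  obtain ⟨S, s1, s2⟩ := h.hMJ
  obtain ⟨S', a, b⟩ := IsSylowIn.exists_le h.pg h.st.2.2.1
  have e : S' ≤ T := by
    by_contra d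
    have l := lt_inf_normalizer a.pgroup (lt_of_le_not_ge b d)
    have := (h.max (S' ⊓ N(T)) ⟨a.pgroup.to_le inf_le_left, ne_bot_of_le h.st.2.1 l.le,
      inf_le_left.trans a.le, _, ⟨_, pJ h.pg, h.J_ne, rfl⟩, inf_le_right.trans (nJ le_rfl), c⟩
      (J_le.trans l.le)).2
    exact absurd (CfsgH2.card_lt_of_lt l) (not_lt.2 this)
  obtain ⟨m, m1, m2⟩ := (s1.mono ((nJ le_normalizer).trans s2) le_top).exists_cj_eq a
  rw [← le_antisymm e b, ← m2, ← cj_J, ← cj_normalizer] at c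
  exact c (cj_le_of_mem m1 s2)

theorem loc (h : MX M T) (hL : IsTwoLocal L) (hLM : ¬ L ≤ M) (h0 : IsSylowIn 2 T₀ L)
    (hJ : J₂(T) ≤ T₀) : J₂(T₀) = J₂(T) ∧ T₀ ∈ straddlingTwoSubgroups M ∧ LO T₀ L ∧
      ¬ J₂(T₀) ≤ O₂(L) := by
  have l : J₂(T) ≤ T₀ ⊓ M := le_inf hJ (J_le.trans h.st.2.2.1)
  have s : T₀ ⊓ M ∈ straddlingTwoSubgroups M := ⟨h0.pgroup.to_le inf_le_left,
    ne_bot_of_le h.J_ne l, inf_le_right, L, hL, inf_le_left.trans h0.le, hLM⟩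
  have e := (h.max _ s l).1
  have e2 : T₀ ⊓ M = T₀ := by
    by_contra c
    have := lt_inf_normalizer h0.pgroup (lt_of_le_of_ne inf_le_left c)
    exact this.not_ge (le_inf inf_le_left (inf_le_right.trans ((nJ le_rfl).trans (e ▸ h.nJ_le))))
  rw [e2] at s e
  refine ⟨e, s, ⟨h.z, h0, h.z.loc hL⟩, fun k => hLM (le_trans ?_ h.nJ_le)⟩
  rw [← e, ← J_eq_of_le k (Op_le_sylow h0)]
  exact nJ (le_norm_Op_self L)

theorem loc' (h : MX M T) (hL : IsTwoLocal L) (hLM : ¬ L ≤ M) (hT : T ≤ L) :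
    LO T L ∧ ¬ J₂(T) ≤ O₂(L) := by
  obtain ⟨S, a, b⟩ := IsSylowIn.exists_le h.pg hT
  obtain ⟨-, c, d, e⟩ := h.loc hL hLM a (J_le.trans b)
  rw [eq_of_le_of_card_le b (h.max S c (J_le.trans b)).2]
  exact ⟨d, e⟩

theorem lo (h : MX M T) (hL : IsTwoLocal L) (hLM : ¬ L ≤ M) (hJ : J₂(T) ≤ L) :
    ∃ T₀, LO T₀ L ∧ J₂(T₀) = J₂(T) := by
  obtain ⟨S, a, b⟩ := IsSylowIn.exists_le (pJ h.pg) hJ
  obtain ⟨c, -, d, -⟩ := h.loc hL hLM a b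
  exact ⟨S, d, c⟩

theorem zero (h : MX M T) (k : JC T K) (hK : ¬ K ≤ M) (S : Subgroup G) (h1 : J₂(T) ≤ S)
    (h2 : IsSylowIn 2 S N(wOf K)) : J₂(S) = J₂(T) :=
  (h.loc k.loc (fun c => hK ((nW le_normalizer).trans c)) h2 h1).1

theorem exists_K (h : MX M T) : ∃ K, JC T K ∧ ¬ K ≤ M ∧ O₂(K ⊔ T) ≠ ⊥ := by
  obtain ⟨L, a, b, c⟩ := h.st.2.2.2
  have l := (h.loc' a c b).1
  by_contra d
  refine c (l.le_of_jc (fun K k1 k2 => by_contra fun e => d ⟨K, k1, e, ne_bot_of_le (loc_Op_ne a)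
    (Op_le_Op_of_le (sup_le k2 b) (l.Qle.trans le_sup_right))⟩) (inf_le_right.trans h.nJ_le))

theorem norm_jc (h : MX M T) (hL : IsTwoLocal L) (hLM : ¬ L ≤ M) (hJ : J₂(T) ≤ L) (k : JC T K)
    (hK : K ≤ L) (k' : JC T K') (hK' : K' ≤ L) : K' ≤ N(K) := by
  obtain ⟨S, a, b⟩ := h.lo hL hLM hJ
  exact a.jc_norm (k.congr a.syl.pgroup b) hK (k'.congr a.syl.pgroup b) hK'

theorem norm_E (h : MX M T) (k : JC T K) (hK : ¬ K ≤ M) (hL : IsMaximalTwoLocal L)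
    (hle : K ⊔ J₂(T) ≤ L) : N(sSup {K | JC T K ∧ K ≤ L}) = L := by
  obtain ⟨S, a, b⟩ := h.lo hL.1 (fun c => hK (le_sup_left.trans (hle.trans c)))
    (le_sup_right.trans hle)
  have n : L ≤ N(sSup {K | JC T K ∧ K ≤ L}) := le_norm_sSup fun g hg X x =>
    ⟨(a.jc_cj (x.1.congr a.syl.pgroup b) x.2 (le_normalizer hg)).congr h.pg b.symm,
      cj_le_of_mem hg x.2⟩
  refine le_antisymm (maxloc_norm hL n (ne_bot_of_le k.ne_bot ((W_le_Op K).trans (Op_le_Op_of_sn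
    ((a.jc_sn (k.congr a.syl.pgroup b) (le_sup_left.trans hle)).mono
    (le_sSup ⟨k, le_sup_left.trans hle⟩) (sSup_le fun _ x => x.2)))))) n

theorem jc_le (h : MX M T) (k : JC T K) (hK : ¬ K ≤ M) (hL : IsMaximalTwoLocal L)
    (hle : K ⊔ J₂(T) ≤ L) (hL' : IsTwoLocal L') (hle' : K ⊔ J₂(T) ≤ L') (k' : JC T K')
    (hK' : K' ≤ L') : K' ≤ L := by
  have f : ∀ {X Y}, IsTwoLocal X → K ⊔ J₂(T) ≤ X → JC T Y → Y ≤ X → Y ≤ N(wOf K) :=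
    fun a b c d => nW (h.norm_jc a (fun c => hK (le_sup_left.trans (b.trans c)))
      (le_sup_right.trans b) k (le_sup_left.trans b) c d)
  rw [← h.norm_E k hK hL hle, sSup_eq_iSup']
  exact le_norm_iSup fun X => h.norm_jc k.loc (fun c => hK ((nW le_normalizer).trans c))
    (nW k.nK) X.2.1 (f hL.1 hle X.2.1 X.2.2) k' (f hL' hle' k' hK')

theorem uq (h : MX M T) (k : JC T K) (hK : ¬ K ≤ M) (hL : IsMaximalTwoLocal L)
    (hle : K ⊔ J₂(T) ≤ L) : UQ (K ⊔ J₂(T)) L := by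
  refine ⟨hL, hle, fun Y a b => ?_⟩
  obtain ⟨L', c, d⟩ := exists_maxloc a
  have e := b.trans d
  refine d.trans (le_of_eq ?_)
  rw [← h.norm_E k hK hL hle, ← h.norm_E k hK c e]
  congr 3
  ext X
  exact ⟨fun x => ⟨x.1, h.jc_le k hK hL hle c.1 e x.1 x.2⟩,
    fun x => ⟨x.1, h.jc_le k hK c e hL.1 hle x.1 x.2⟩⟩

theorem exists_L (h : MX M T) (k : JC T K) (hK : ¬ K ≤ M) (h0 : O₂(K ⊔ T) ≠ ⊥) :
    ∃ L, UQ (K ⊔ J₂(T)) L ∧ LO T L := by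
  obtain ⟨L, a, b⟩ := exists_maxloc (⟨_, Op_pg (K ⊔ T), h0, rfl⟩ : IsTwoLocal N(O₂(K ⊔ T)))
  have c := (le_norm_Op_self _).trans b
  exact ⟨L, h.uq k hK a ((sup_le_sup_left J_le _).trans c), (h.loc' a.1
    (fun d => hK (le_sup_left.trans (c.trans d))) (le_sup_right.trans c)).1⟩

theorem cj_not_le (h : MX M T) (hK : ¬ K ≤ M) (hg : g ∈ N(J₂(T))) : ¬ cj g K ≤ M := fun c =>
  hK (by rwa [← cj_eq_of_mem (h.nJ_le hg), cj_le_cj_iff] at c)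

end MX

theorem JC.cj_of (k : JC T K) (hg : g ∈ N(J₂(T))) : JC T (cj g K) :=
  (k.conj g).congr k.pg (by rw [← cj_J, cj_eq_of_norm hg])

theorem UQ.cj_of (h : UQ (K ⊔ J₂(T)) L) (hg : g ∈ N(J₂(T))) : UQ (cj g K ⊔ J₂(T)) (cj g L) := by
  have := h.conj g
  rwa [cj_sup, cj_eq_of_norm hg] at this

theorem UQ.disj (h : UQ (K ⊔ J₂(T)) L) (hK' : ¬ K' ≤ L) {d : G} (h1 : d ∈ Ω₂(J₂(T)))
    (h2 : d ∈ C(K)) (h3 : d ∈ C(K')) : d = 1 := by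
  by_contra c
  exact hK' ((le_cent1_iff.2 h3).trans (h.cent1 c ((oz_ea _).2 _ h1)
    (by rw [cent_sup]; exact ⟨h2, oz_le_cent _ h1⟩)))

theorem JC.card_Z_le (k : JC T K) :
    Nat.card Ω₂(J₂(T)) ≤ Nat.card (Ω₂(J₂(T)) ⊓ C(K) : Subgroup G) * 2 := by
  have a := card_sup_mul (A := Ω₂(J₂(T)) ⊓ C(K ⊔ J₂(T))) (B := Ω₂(J₂(T)) ⊓ wOf K)
    (inf_le_left.trans (le_norm_of_comm (ea_comm (oz_ea _)) inf_le_left))
  rw [k.Z_eq, k.card_ZW] at a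
  have b := card_le_of_le (inf_le_inf_left Ω₂(J₂(T)) (cent_anti (le_sup_left : K ≤ K ⊔ J₂(T))))
  have c : 0 < Nat.card (Ω₂(J₂(T)) ⊓ C(K ⊔ J₂(T)) ⊓ (Ω₂(J₂(T)) ⊓ wOf K) : Subgroup G) := Nat.card_pos
  nlinarith

theorem card_Z_le_four (k : JC T K) (k' : JC T K') (h : UQ (K ⊔ J₂(T)) L) (hK' : ¬ K' ≤ L) :
    Nat.card Ω₂(J₂(T)) ≤ 4 := by
  have a := card_mul_le (inf_le_left : Ω₂(J₂(T)) ⊓ C(K) ≤ _) (inf_le_left : Ω₂(J₂(T)) ⊓ C(K') ≤ _)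
  have b : Ω₂(J₂(T)) ⊓ C(K) ⊓ (Ω₂(J₂(T)) ⊓ C(K')) = ⊥ :=
    eq_bot_iff.2 fun d hd => h.disj hK' hd.1.1 hd.1.2 hd.2.2
  rw [b, card_bot] at a
  have c := k.card_Z_le
  have d := k'.card_Z_le
  have e : 0 < Nat.card Ω₂(J₂(T)) := Nat.card_pos
  nlinarith

theorem four_cases (h : Nat.card U ≤ 4) {a b c d : G} (ha : a ∈ U) (hb : b ∈ U) (hc : c ∈ U)
    (hd : d ∈ U) (a1 : a ≠ 1) (b1 : b ≠ 1) (c1 : c ≠ 1) (d1 : d ≠ 1) (ab : a ≠ b) (ac : a ≠ c)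
    (ad : a ≠ d) (bc : b ≠ c) (bd : b ≠ d) : c = d := by
  classical
  by_contra cd
  have : ({1, a, b, c, d} : Set G).ncard ≤ Nat.card U :=
    Set.ncard_le_ncard (by rintro _ (rfl | rfl | rfl | rfl | rfl) <;> first | assumption | exact one_mem _)
  rw [Set.ncard_insert_of_notMem (by simp [a1.symm, b1.symm, c1.symm, d1.symm]),
    Set.ncard_insert_of_notMem (by simp [ab, ac, ad]), Set.ncard_insert_of_notMem (by simp [bc, bd]),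
    Set.ncard_pair cd] at this
  omega

/-- a component moved by `T` gives two central involutions -/
theorem LO.moved (h : LO T L) (k : JC T K) (hK : K ≤ L) (hn : ¬ T ≤ N(K)) :
    ∃ t ∈ T, ∃ u ∈ Ω₂(J₂(T)), u ≠ 1 ∧ u ∈ C(cj t K) ∧ t * u * t⁻¹ ∈ C(K) ∧ u ≠ t * u * t⁻¹ := by
  obtain ⟨t, ht, hn⟩ := SetLike.not_le_iff_exists.1 hn
  obtain ⟨u, u1, u2⟩ := exists_mem_ne_one (X := Ω₂(J₂(T)) ⊓ wOf K) fun e => by
    have := k.card_ZW; rw [e, card_bot] at this; omega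
  have k' := k.cj_of (nJ le_normalizer ht)
  have l := cj_le_of_mem (h.syl.le ht) hK
  have ne : K ≠ cj t K := fun e => hn (mem_norm_iff_cj.2 e.symm)
  have m : t * u * t⁻¹ ∈ wOf (cj t K) := cj_W t K ▸ conj_mem_cj t u1.2
  exact ⟨t, ht, u, u1.1, u2, h.W_cent k hK k' l ne u1.2, h.W_cent k' l k hK ne.symm m,
    fun e => ne (h.eq_of_mem k hK k' l u1.2 (e ▸ m) u2)⟩

theorem JC.T_cent (k : JC T K) (hn : T ≤ N(K)) (h4 : Nat.card Ω₂(J₂(T)) ≤ 4) :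
    Ω₂(J₂(T)) = Ω₂(T) := by
  refine le_antisymm (le_oz (oz_ea _) ((oz_le _).trans J_le) (cent_symm ?_)) (oz_le_oz_J T)
  have n : T ≤ N(Ω₂(J₂(T))) := le_norm_oz (nJ le_normalizer)
  have a := card_mul_le (H := Ω₂(J₂(T))) (inf_le_left : Ω₂(J₂(T)) ⊓ C(K ⊔ J₂(T)) ≤ _)
    (inf_le_left : Ω₂(J₂(T)) ⊓ wOf K ≤ _)
  have b : Ω₂(J₂(T)) ⊓ C(K ⊔ J₂(T)) ⊓ (Ω₂(J₂(T)) ⊓ wOf K) = ⊥ := eq_bot_iff.2 (k.inf_cent ▸
    le_inf (inf_le_right.trans inf_le_right) (inf_le_left.trans (inf_le_right.trans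
      (cent_anti le_sup_left))))
  rw [b, card_bot, k.card_ZW] at a
  rw [← k.Z_eq]
  exact le_cent_sup ((nI n (nC (nS hn (nJ le_normalizer)))).trans (cent_of_card_le_two (by omega)))
    ((nI n (nW hn)).trans (cent_of_card_le_two k.card_ZW.le))

/-- the case `N(J(T)) ⊄ L` -/
theorem MX.case1 (h : MX M T) (k : JC T K) (hK : ¬ K ≤ M) (u : UQ (K ⊔ J₂(T)) L) (l : LO T L)
    (hn : ¬ N(J₂(T)) ≤ L) : T ≤ N(K) ∧ ∃ g ∈ N(T), g ∉ L := by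
  obtain ⟨g, g1, g2⟩ := SetLike.not_le_iff_exists.1 hn
  have KL := le_sup_left.trans u.2.1
  have f : ∀ X, JC T X → ¬ X ≤ M → X ≤ L → ¬ cj g X ≤ L := fun X a b c d => by
    have JL := le_sup_right.trans u.2.1
    refine g2 (maxloc_norm u.1 le_normalizer (loc_Op_ne u.1.1) (mem_norm_iff_cj.2 ?_))
    exact (((h.uq a b u.1 (sup_le c JL)).cj_of g1).eq u.1 (sup_le d JL)).symm
  have h4 := card_Z_le_four k (k.cj_of g1) u (f K k hK KL)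
  have TK : T ≤ N(K) := by
    by_contra c
    obtain ⟨t, ht, w, w1, w2, w3, w4, w5⟩ := l.moved k KL c
    have t1 := nJ le_normalizer ht
    have l' := cj_le_of_mem (l.syl.le ht) KL
    have u' := h.uq (k.cj_of t1) (h.cj_not_le hK t1) u.1 (sup_le l' (le_sup_right.trans u.2.1))
    have f1 := f K k hK KL
    have f2 := f _ (k.cj_of t1) (h.cj_not_le hK t1) l'
    have n := fun {a : G} (ha : a ∈ N(J₂(T))) {b : G} (hb : b ∈ Ω₂(J₂(T))) =>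
      CfsgH2.conj_mem_of_mem_normalizer (le_norm_oz (p := 2) le_rfl ha) hb
    have c1 : g * w * g⁻¹ ∈ C(cj g (cj t K)) := cj_centralizer g _ ▸ conj_mem_cj g w3
    have c2 : g * (t * w * t⁻¹) * g⁻¹ ∈ C(cj g K) := cj_centralizer g _ ▸ conj_mem_cj g w4
    have w6 : t * w * t⁻¹ ≠ 1 := by simpa using w2
    have := four_cases h4 w1 (n t1 w1) (n g1 w1) (n g1 (n t1 w1)) w2 w6
      (by simpa using w2) (by simpa using w2) w5 (fun e => w2 (u'.disj f2 w1 w3 (e ▸ c1)))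
      (fun e => w2 (u'.disj f1 w1 w3 (e ▸ c2))) (fun e => w6 (u.disj f2 (n t1 w1) w4 (e ▸ c1)))
      (fun e => w6 (u.disj f1 (n t1 w1) w4 (e ▸ c2)))
    exact w5 (mul_left_cancel (mul_right_cancel this))
  by_cases s : N(T) ≤ L
  · refine ⟨TK, g, ?_, g2⟩
    obtain ⟨S, a, b⟩ := IsSylowIn.exists_le h.pg (le_top : T ≤ ⊤)
    have e : S = T := by
      by_contra c
      have := lt_inf_normalizer a.pgroup (lt_of_le_of_ne b (Ne.symm c))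
      exact this.ne' (l.syl.eq_of_le (a.pgroup.to_le inf_le_left) this.le (inf_le_right.trans s))
    subst e
    have n : N(J₂(S)) ≤ N(C(Ω₂(S))) := k.T_cent TK h4 ▸ nC (le_norm_oz le_rfl)
    have := le_norm_Op (p := 2) n g1
    rwa [← sylow_eq_Op (a.mono (le_cent_oz S) le_top) (h.z.cz' a)] at this
  · exact ⟨TK, SetLike.not_le_iff_exists.1 s⟩

theorem LO.syl_top (l : LO T L) (s : N(J₂(T)) ≤ L) : IsSylowIn 2 T ⊤ := by
  obtain ⟨S, a, b⟩ := IsSylowIn.exists_le l.syl.pgroup (le_top : T ≤ ⊤)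
  have e : S = T := by
    by_contra c
    have := lt_inf_normalizer a.pgroup (lt_of_le_of_ne b (Ne.symm c))
    exact this.ne' (l.syl.eq_of_le (a.pgroup.to_le inf_le_left) this.le
      (inf_le_right.trans ((nJ le_rfl).trans s)))
  exact e ▸ a

theorem LO.mx (l : LO T L) (s : N(J₂(T)) ≤ L) (st : T ∈ straddlingTwoSubgroups L) : MX L T :=
  ⟨l.z, ⟨T, l.syl_top s, s⟩, st, fun _ a b => ⟨J_eq_of_syl l.syl b a.1 a.2.2.1,
    l.syl.card_le a.1 a.2.2.1⟩⟩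

/-- the case `N(J(T)) ≤ L`, `T` straddling `L` -/
theorem MX.case2 (h : MX M T) (k : JC T K) (hK : ¬ K ≤ M) (u : UQ (K ⊔ J₂(T)) L) (l : LO T L)
    (hn : N(J₂(T)) ≤ L) (k' : JC T K') (hK' : ¬ K' ≤ L) : T ≤ N(K) := by
  have KL := le_sup_left.trans u.2.1
  have h4 := card_Z_le_four k k' u hK'
  by_contra c
  obtain ⟨t, ht, w, w1, w2, w3, w4, w5⟩ := l.moved k KL c
  have t1 := nJ le_normalizer ht
  have u' := h.uq (k.cj_of t1) (h.cj_not_le hK t1) u.1 (sup_le (cj_le_of_mem (l.syl.le ht) KL)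
    (le_sup_right.trans u.2.1))
  have w6 : t * w * t⁻¹ ≠ 1 := by simpa using w2
  have w7 := CfsgH2.conj_mem_of_mem_normalizer (le_norm_oz (p := 2) le_rfl t1) w1
  obtain ⟨d, d1, d2⟩ := exists_mem_ne_one (X := Ω₂(J₂(T)) ⊓ C(K')) fun e => by
    have a := k'.card_Z_le
    rw [e, card_bot] at a
    exact w5 (eq_of_card_two (le_antisymm a ((one_lt_card_iff_ne_bot _).2 (ne_bot_of_mem w1 w2)))
      w1 w7 w2 w6)
  refine hK' ((cent_symm fun z hz => ?_).trans ((l.z.cz' (l.syl_top hn)).trans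
    ((nJ le_rfl).trans hn)))
  by_cases z1 : z = 1
  · exact z1 ▸ one_mem _
  have e := mem_cent.1 (oz_le_cent _ hz) t ht
  rw [four_cases h4 w1 w7 (oz_le_oz_J T hz) d1.1 w2 w6 z1 d2 w5 (fun e' => w5 (by
    rw [e', e, mul_inv_cancel_right])) (fun e' => d2 (u'.disj hK' d1.1 (e' ▸ w3) d1.2))
    (fun e' => w5 ?_) (fun e' => d2 (u.disj hK' d1.1 (e' ▸ w4) d1.2))]
  · exact d1.2
  · rw [e']
    rwa [mul_inv_eq_iff_eq_mul, ← e, mul_right_inj] at e'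

end CfsgH2
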