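import Cfsg.Agent.H2.JC5
import Cfsg.Agent.H2.JC7
import Cfsg.Agent.H2.StrEmb

/-! Pairs of components and the end of Kurzweil–Stellmacher 12.3. -/

set_option autoImplicit false
set_option linter.unusedSectionVars false
set_option linter.style.haveILetI false

namespace CfsgH2

open Subgroup Cfsg CfsgFT
open CfsgH9 (MaxA J_le)
open CfsgLead (SN)
open scoped commutatorElement Pointwise

universe u

variable {G : Type u} [Group G] [Finite G]
  {T S K K' L L' M X Y : Subgroup G} {x t g : G}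

/-- a `T`-invariant component in its unique maximal 2-local overgroup -/
structure KL (T K L : Subgroup G) : Prop where
  k : JC T K
  n : T ≤ N(K)
  u : UQ (K ⊔ J₂(T)) L
  l : LO T L

namespace KL

theorem le (h : KL T K L) : K ≤ L := le_sup_left.trans h.u.2.1

theorem le' (h : KL T K L) : K ⊔ T ≤ L := sup_le h.le h.l.syl.le

theorem lo (h : KL T K L) : LO T (K ⊔ T) := h.l.mono le_sup_right h.le'

theorem lp (h : KL T K L) : LP (K ⊔ T) T :=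
  have s := h.k.sp h.k.pg h.n (h.k.not_comm J_le) h.lo.syl
  ⟨s, h.lo.chp, fun c => s.nn ((le_inf le_rfl c).trans h.lo.cent_oz)⟩

theorem res (h : KL T K L) : resIn 2 (K ⊔ T) = K := h.k.res_sup h.k.pg h.n

theorem uq (h : KL T K L) : UQ (K ⊔ T) L := h.u.mono (sup_le_sup_left J_le _) h.le'

theorem conj (h : KL T K L) (hg : g ∈ N(T)) : KL T (cj g K) (cj g L) :=
  have e := cj_eq_of_norm hg
  ⟨h.k.cj_of (nJ le_rfl hg), by simpa only [e] using cj_le_norm_cj h.n g, h.u.cj_of (nJ le_rfl hg),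
    by simpa only [e] using h.l.conj g⟩

theorem ne (h : KL T K L) (hg : g ∉ L) : L ≠ cj g L := fun e =>
  hg (maxloc_norm h.u.1 le_normalizer (loc_Op_ne h.u.1.1) (mem_norm_iff_cj.2 e.symm))

theorem not_le (h : KL T K L) (h' : KL T K' L') (ne : L ≠ L') : ¬ K' ≤ L := fun c =>
  ne (h'.u.eq h.u.1 (sup_le c (le_sup_right.trans h.u.2.1)))

theorem bot (h : KL T K L) (h' : KL T K' L') (ne : L ≠ L') (hX : IsPGroup 2 X)
    (h1 : K ⊔ T ≤ N(X)) (h2 : K' ⊔ T ≤ N(X)) : X = ⊥ := by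
  by_contra c
  exact h.not_le h' ne (le_sup_left.trans (h2.trans (h.uq.2.2 _ ⟨X, hX, c, rfl⟩ h1)))

theorem af (h : KL T K L) (h' : KL T K' L') (ne : L ≠ L') : AF (K ⊔ T) (K' ⊔ T) T :=
  ⟨h.lp, h'.lp, fun _ a => h.bot h' ne (h.k.pg.to_le a)⟩

theorem eq (h : KL T K L) (h' : KL T K' L') (ne : L ≠ L') : L = K ⊔ T := by
  have a := h.af h' ne
  have l := Op_le_Op_of_le (p := 2) h.le' (h.l.Qle.trans le_sup_right)
  have eQ : O₂(L) = O₂(K ⊔ T) := le_antisymm l ((cent_mono (ea_comm a.ea) le_rfl l).trans h.l.c)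
  have c8 : Nat.card O₂(L) ≤ 8 := by
    have := a.str.2.1
    have := a.card_C
    rw [eQ]; omega
  have one : ∀ X, JC T X → X ≤ L → X = K := fun X x1 x2 => by
    by_contra c
    have := card_mul_le ((h.l.W_le_V x1 x2).trans h.l.V_le_Q) ((h.l.W_le_V h.k h.le).trans h.l.V_le_Q)
    rw [h.l.W_inf x1 x2 h.k h.le c, card_bot, x1.card, h.k.card] at this
    omega
  have nK : L ≤ N(K) := fun g hg => mem_norm_iff_cj.2 (one _ (h.l.jc_cj h.k h.le (le_normalizer hg))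
    (cj_le_of_mem hg h.le))
  refine le_antisymm (h.l.le_of_jc (fun X a b => (one X a b).le.trans le_sup_left) ?_) h.le'
  have nQ := le_norm_Op_self (p := 2) L
  have r := resIn_le (p := 2) (L ⊓ N(J₂(T)))
  have n1 : L ⊓ N(J₂(T)) ≤ N(Ω₂(J₂(T)) ⊓ wOf K) :=
    nI (inf_le_right.trans (le_norm_oz le_rfl)) (inf_le_left.trans (nW nK))
  have c1 : resIn 2 (L ⊓ N(J₂(T))) ≤ C(wOf K) := res_le_cent_of_comm_le
    ((W_pg K).to_le inf_le_right) (comm_le_of_index_two (relIndex_eq_of_card (n := 2) inf_le_right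
    (by rw [h.k.card, h.k.card_ZW])).le (r.trans n1) (r.trans (inf_le_left.trans (nW nK))))
    (r.trans (n1.trans (cent_of_card_le_two h.k.card_ZW.le)))
  have c2 := a.card_C
  rw [h.res, ← eQ] at c2
  have sp := h.k.split (eQ ▸ ea_comm a.ea) (Op_pg L) (h.le.trans nQ)
    ((Op_le_Op_of_normal h.le nK).trans (eQ ▸ ea_comm a.ea))
  have eW : ⁅O₂(L), K⁆ ≤ wOf K := by
    have := a.str.1
    rw [h.res, ← eQ] at this
    exact (eq_of_le_of_card_le (h.k.comm_W.ge.trans (commutator_mono ((h.l.W_le_V h.k h.le).trans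
      h.l.V_le_Q) le_rfl)) (by rw [this, h.k.card])).ge
  have p := h.l.chp.pg (inf_le_left : L ⊓ N(J₂(T)) ≤ L) ((le_cent_sup (c1.trans (cent_anti eW))
    (r.trans (inf_le_left.trans ((nI nQ (nC nK)).trans (cent_of_card_le_two c2))))).trans
    (cent_anti sp.ge))
  exact (h.l.syl.eq_of_le p (le_inf h.l.syl.le (nJ le_normalizer)) inf_le_left).le.trans le_sup_right

theorem norm_Q (h : KL T K L) (h' : KL T K' L') (ne : L ≠ L') : N(O₂(K ⊔ T)) = L :=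
  maxloc_eq h.u.1 (Op_pg _) h.lp.Q_ne ((h.eq h' ne).le.trans (le_norm_Op_self _))

theorem exists_c (h : KL T K L) (h4 : Nat.card Ω₂(J₂(T)) = 4) :
    ∃ c ∈ Ω₂(J₂(T)), c ≠ 1 ∧ c ∈ C(K) ∧ C1(c) ≤ L := by
  obtain ⟨c, c1, c2⟩ := exists_mem_ne_one (X := Ω₂(J₂(T)) ⊓ C(K)) fun e => by
    have := h.k.card_Z_le; rw [e, card_bot] at this; omega
  exact ⟨c, c1.1, c2, c1.2, h.u.cent1 c2 ((oz_ea _).2 c c1.1)
    (by rw [cent_sup]; exact ⟨c1.2, oz_le_cent _ c1.1⟩)⟩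

end KL

theorem K4.trans (k : K4 K) {w w' : G} (h1 : w ∈ wOf K) (h2 : w' ∈ wOf K) (h3 : w ≠ 1)
    (h4 : w' ≠ 1) : ∃ y ∈ K, y * w * y⁻¹ = w' := by
  obtain ⟨x, x1, x3⟩ := k.exists_x
  have f : ∀ y, x ∈ zpowers y → y * w * y⁻¹ ≠ w := fun y a e => h3 (mem_bot.1 (k.W_fpf x1 x3 ▸
    ⟨h1, mem_cent1_symm (zpowers_le.2 (mem_cent1'.2 (mul_inv_eq_iff_eq_mul.1 e)) a)⟩))
  have n := fun {y : G} (hy : y ∈ K) => CfsgH2.conj_mem_of_mem_normalizer (nW le_normalizer hy) h1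
  by_cases e1 : w = w'
  · exact ⟨1, one_mem _, by simpa using e1⟩
  by_cases e2 : x * w * x⁻¹ = w'
  · exact ⟨x, x1, e2⟩
  have m : x ∈ zpowers (x * x) := mem_of_pow_mem_of_coprime (n := 2) (by rw [x3]; norm_num)
    (by rw [pow_two]; exact mem_zpowers _)
  exact ⟨x * x, mul_mem x1 x1, four_cases k.card.le h1 (n x1) (n (mul_mem x1 x1)) h2 h3
    (by simpa using h3) (by rwa [Ne, conj_eq_one_iff]) h4 (f x (mem_zpowers x)).symm (f _ m).symm e1
    (fun e => f x (mem_zpowers x) (by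
      rw [mul_inv_rev, ← mul_assoc, mul_left_inj, mul_assoc, mul_assoc, mul_right_inj] at e
      rw [mul_assoc, ← e])) e2⟩

/-- the case `N(J(T)) ≤ L`, `T` not straddling `L` -/
theorem case3 (hO : pCore 2 G = ⊥) (k : JC T K) (u : UQ (K ⊔ J₂(T)) L) (l : LO T L)
    (hn : N(J₂(T)) ≤ L) : T ∈ straddlingTwoSubgroups L := by
  by_contra hT
  have KL' := le_sup_left.trans u.2.1
  have T0 : T ≠ ⊥ := ne_bot_of_le (loc_Op_ne u.1.1) l.Qle
  obtain ⟨T', hT'⟩ := exists_mx (M := L) (Set.nonempty_iff_ne_empty.2 fun h => by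
    have := spe_of_norm (H := L) (fun e => loc_Op_ne u.1.1 (by rw [e, Op_top, hO])) l.syl T0
      fun Q h1 h2 => by_contra fun c => (h.le ⟨l.syl.pgroup.to_le h1, h2, h1.trans l.syl.le, _,
        ⟨Q, l.syl.pgroup.to_le h1, h2, rfl⟩, le_normalizer, c⟩ : Q ∈ (∅ : Set _))
    have se := se_iff.2 ⟨this.ne, even_iff_two_dvd.2 this.dvd, this.mem⟩
    obtain ⟨v, v1, v2⟩ := se_exists_out se
    obtain ⟨s, s1, s2⟩ := exists_orderOf_p (Op_pg L) (loc_Op_ne u.1.1)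
    obtain ⟨A, t, x, a1, a2, a3, -⟩ := k.exists_A
    obtain ⟨d, d1, -, d2⟩ := se_transitive se v1 v2 s2 (Op_le L s1) (orderOf_eq_prime (a1.ea.2 t a2)
      fun e => a3 (e ▸ one_mem _)) (l.syl.le (a1.le a2))
    exact a3 (Op_inf_le u.2.1 ⟨d2 ▸ CfsgH2.conj_mem_of_mem_normalizer (le_norm_Op_self L d1.1) s1,
      mem_sup_right (a1.le_J a2)⟩))
  have h := mx_of l.z (l.syl_top hn) hn hT'
  obtain ⟨K', k', hK', o⟩ := h.exists_K
  obtain ⟨L', u', l'⟩ := h.exists_L k' hK' o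
  obtain ⟨S, s1, s2⟩ := IsSylowIn.exists_le h.pg h.st.2.2.1
  have lt : T' < S := lt_of_le_of_ne s2 fun e => by
    obtain ⟨m, m1, m2⟩ := s1.exists_cj_eq l.syl
    obtain ⟨a, b, c, X, d, f, g⟩ := h.st
    rw [← e] at m2
    exact hT ⟨l.syl.pgroup, T0, l.syl.le, cj m X, loc_cj d m, m2 ▸ cj_mono m f, fun j => g (by
      rwa [← cj_eq_of_mem m1, cj_le_cj_iff] at j)⟩
  have big : ∀ X : Subgroup G, IsPGroup 2 X → X ≤ L' → Nat.card X < Nat.card S := fun X a b =>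
    (l'.syl.card_le a b).trans_lt (CfsgH2.card_lt_of_lt lt)
  obtain ⟨g, g1, g2⟩ := SetLike.exists_of_lt (lt_inf_normalizer s1.pgroup lt)
  have g3 : g ∉ L' := fun c => g2 ((l'.syl.eq_of_le (s1.pgroup.to_le inf_le_left)
    (le_inf s2 l'.syl.le) inf_le_right).le ⟨g1.1, c⟩)
  have p : KL T' K' L' := ⟨k', (h.case1 k' hK' u' l' fun c => g3 (c (nJ le_rfl g1.2))).1, u', l'⟩
  have p' := p.conj g1.2
  have ne := p.ne g3
  have a := p.af p' ne
  have nY : S ≤ N(Ω₂(O₂(L))) := s1.le.trans (nOz le_normalizer)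
  have YS : Ω₂(O₂(L)) ≤ S := (oz_le _).trans (Op_le_sylow s1)
  have WY := (l.W_le_V k KL').trans l.pred.le_oz_Op
  have f : ∀ {K' K'' L' L''}, KL T' K' L' → KL T' K'' L'' → L' ≠ L'' →
      Ω₂(O₂(L)) ⊓ T' ≤ O₂(K' ⊔ T') → Ω₂(O₂(L)) ≤ O₂(K' ⊔ T') := fun {K' K'' L' L''} p p' ne c => by
    by_contra d
    have l1 : Ω₂(O₂(L)) ⊔ O₂(K' ⊔ T') ≤ S := sup_le YS (p.lp.Qle.trans s2)
    have := lt_inf_normalizer (s1.pgroup.to_le l1) (lt_of_le_not_ge le_sup_right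
      fun j => d (le_sup_left.trans j))
    rw [p.norm_Q p' ne] at this
    refine this.not_ge (((le_inf ((inf_le_inf_right _ l1).trans (p.l.syl.eq_of_le
      (s1.pgroup.to_le inf_le_left) (le_inf s2 p.l.syl.le) inf_le_right).le) inf_le_left).trans
      (inf_sup_right p.lp.Qle (p.lp.Qle.trans (s2.trans nY))).le).trans (sup_le ?_ le_rfl))
    rwa [inf_comm]
  have eQ : O₂(cj g K' ⊔ T') = cj g O₂(K' ⊔ T') := by
    rw [← Op_cj, cj_sup, cj_eq_of_norm g1.2]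
  have YZ : Ω₂(O₂(L)) ≤ Ω₂(J₂(T')) := by
    refine le_trans ?_ (a.Z_le.trans (oz_le_oz_J T'))
    rcases a.le_or inf_le_right (CfsgH2.ea_mono (oz_ea O₂(L)) inf_le_left) with e | e
    · exact le_inf (f p p' ne e) (eQ ▸ le_cj_of_norm (nY g1.1) (f p p' ne e))
    · refine le_inf ?_ (f p' p ne.symm e)
      have := f p' p ne.symm e
      rwa [eQ, ← cj_eq_of_norm (nY g1.1), cj_le_cj_iff] at this
  have h4 := card_Z_le_four k' p'.k u' (p.not_le p' ne)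
  have e := eq_of_le_of_card_le (WY.trans YZ) (by rwa [k.card])
  obtain ⟨c, c1, c2, -, c3⟩ := p.exists_c (e ▸ k.card)
  obtain ⟨w, w1, w2⟩ := exists_mem_ne_one (inf_cent_ne_bot_of_pgroup s1.pgroup (W_pg K)
    (by rwa [le_antisymm WY (YZ.trans e.ge)]) k.ne_bot)
  obtain ⟨y, -, rfl⟩ := k.trans w1.1 (e ▸ c1) w2 c2
  have := big (cj y S) (IsPGroup_cj s1.pgroup y) ((cj_mono y (le_cent1_iff.2 w1.2)).trans
    (cj_centralizer_singleton y w ▸ c3))
  rw [card_cj] at this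
  omega

theorem MX.T_norm (h : MX M T) (hO : pCore 2 G = ⊥) (k : JC T K) (hK : ¬ K ≤ M)
    (u : UQ (K ⊔ J₂(T)) L) (l : LO T L) : T ≤ N(K) := by
  by_cases hn : N(J₂(T)) ≤ L
  · obtain ⟨K', a, b, -⟩ := (l.mx hn (case3 hO k u l hn)).exists_K
    exact h.case2 k hK u l hn a b
  · exact (h.case1 k hK u l hn).1

theorem MX.pair (h : MX M T) (hO : pCore 2 G = ⊥) (k : JC T K) (hK : ¬ K ≤ M) (o : O₂(K ⊔ T) ≠ ⊥) :
    ∃ L K' L', KL T K L ∧ KL T K' L' ∧ L ≠ L' := by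
  obtain ⟨L, u, l⟩ := h.exists_L k hK o
  have p : KL T K L := ⟨k, h.T_norm hO k hK u l, u, l⟩
  by_cases hn : N(J₂(T)) ≤ L
  · have h' := l.mx hn (case3 hO k u l hn)
    obtain ⟨K', a, b, c⟩ := h'.exists_K
    obtain ⟨L', u', l'⟩ := h'.exists_L a b c
    exact ⟨L, K', L', p, ⟨a, h'.T_norm hO a b u' l', u', l'⟩, fun e =>
      b (le_sup_left.trans (e ▸ u'.2.1))⟩
  · obtain ⟨g, g1, g2⟩ := (h.case1 k hK u l hn).2
    exact ⟨L, _, _, p, p.conj g1, p.ne g2⟩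

theorem KL.cases (h : KL T K L) (h' : KL T K' L') (ne : L ≠ L') (hS : IsSylowIn 2 S ⊤) (hT : T ≤ S) :
    (Ω₂(S) = Ω₂(J₂(T)) ∧ Nat.card Ω₂(J₂(T)) = 2) ∨
    (Ω₂(S) = Ω₂(J₂(T)) ∧ Nat.card Ω₂(J₂(T)) = 4 ∧ T = S) ∨
    (Ω₂(T) = Ω₂(J₂(T)) ∧ Nat.card Ω₂(J₂(T)) = 4 ∧
      (L ⊓ C(Ω₂(J₂(T)))).relIndex N(Ω₂(J₂(T))) = 2) := by
  have h4 := card_Z_le_four h.k h'.k h.u (h.not_le h' ne)
  have e := h.k.T_cent h.n h4
  have l : Ω₂(S) ≤ Ω₂(J₂(T)) := e ▸ h.l.oz_syl hT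
  have S0 := oz_ne_bot hS.pgroup (ne_bot_of_le h.lp.Q_ne (h.lp.Qle.trans hT))
  rcases pow_two_cases (ea_pgroup (oz_ea _)) h4 with c | c | c
  · exact absurd c (ne_bot_of_le S0 l)
  · exact Or.inl ⟨eq_of_le_of_card_le l (c.le.trans ((one_lt_card_iff_ne_bot _).2 S0)), c⟩
  by_cases s : T = S
  · exact Or.inr (Or.inl ⟨s ▸ e.symm, c, s⟩)
  refine Or.inr (Or.inr ⟨e.symm, c, ?_⟩)
  have lt := lt_of_le_of_ne hT s
  obtain ⟨z, z1, z2⟩ := exists_mem_ne_one S0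
  obtain ⟨a, a1, a2, a3, a4⟩ := h.exists_c c
  obtain ⟨b, b1, b2, b3, b4⟩ := h'.exists_c c
  have f : ∀ {a L}, LO T L → C1(a) ≤ L → ∀ g : G, a ≠ g * z * g⁻¹ := fun i j g k => by
    have := i.syl.card_le (IsPGroup_cj hS.pgroup g) ((cj_mono g (le_cent1_iff.2
      (oz_le_cent _ z1))).trans (cj_centralizer_singleton g z ▸ k ▸ j))
    rw [card_cj] at this
    exact absurd (CfsgH2.card_lt_of_lt lt) (not_lt.2 this)
  have az : a ≠ z := by simpa using f h.l a4 1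
  have nz : N(Ω₂(J₂(T))) ≤ C1(z) := fun g hg => mem_cent1'.2 (mul_inv_eq_iff_eq_mul.1
    (four_cases h4 a1 b1 (CfsgH2.conj_mem_of_mem_normalizer hg (l z1)) (l z1) a2 b2
      (by simpa using z2) z2 (fun i => a2 (h.u.disj (h.not_le h' ne) a1 a3 (i ▸ b3))) (f h.l a4 g) az
      (f h'.l b4 g) (by simpa using f h'.l b4 1)))
  have cz : Nat.card (zpowers z) = 2 := by
    rw [Nat.card_zpowers]; exact orderOf_eq_prime ((oz_ea _).2 z z1) z2
  have i := relIndex_centralizer_le (V := N(Ω₂(J₂(T)))) (x := a) (B := zpowers z) fun g hg => by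
    have := inv_mem (comm_le_of_index_two (relIndex_eq_of_card (n := 2) (zpowers_le.2 (l z1))
      (by rw [c, cz])).le (nz.trans (cent1_le_norm_zpowers z)) le_rfl (commutator_mem_commutator a1 hg))
    rwa [commutatorElement_inv, commutatorElement_def] at this
  have e2 : C1(a) ⊓ N(Ω₂(J₂(T))) ≤ L ⊓ C(Ω₂(J₂(T))) := by
    refine le_inf (inf_le_left.trans a4) ?_
    conv_rhs => rw [← sup_eq_of_card_sq (p := 2) c (zpowers_le.2 (l z1)) (zpowers_le.2 a1)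
      (by rwa [Ne, zpowers_eq_bot]) fun k => az (eq_of_card_two cz (k (mem_zpowers a))
      (mem_zpowers z) a2 z2)]
    rw [cent_sup, cent_zpowers, cent_zpowers]
    exact le_inf (inf_le_right.trans nz) inf_le_left
  have i2 := relIndex_dvd_of_le_left N(Ω₂(J₂(T))) e2
  rw [inf_relIndex_right] at i2
  have i3 := Nat.le_of_dvd (Nat.pos_of_ne_zero (CfsgH2.relIndex_ne_zero _ _)) i2
  have i4 := CfsgH2.relIndex_ne_zero (L ⊓ C(Ω₂(J₂(T)))) N(Ω₂(J₂(T)))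
  have i5 : (L ⊓ C(Ω₂(J₂(T)))).relIndex N(Ω₂(J₂(T))) ≠ 1 := fun k => by
    have := lt_inf_normalizer hS.pgroup lt
    exact this.ne' (h.l.syl.eq_of_le (hS.pgroup.to_le inf_le_left) this.le (inf_le_right.trans
      ((le_norm_oz (nJ le_rfl)).trans ((relIndex_eq_one.1 k).trans inf_le_left))))
  omega

end CfsgH2
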