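import Cfsg.Agent.H2.JC8
import Cfsg.Agent.H9.TrEx

/-! Kurzweil–Stellmacher, Chapter 12, Theorem 1: passing to `O²(G)`. -/

set_option autoImplicit false
set_option linter.unusedSectionVars false
set_option linter.style.haveILetI false

namespace CfsgH2

open Subgroup Cfsg CfsgFT
open CfsgH9 (MaxA J_le)
open scoped commutatorElement Pointwise

universe u

variable {G : Type u} [Group G] [Finite G]
  {T S R U K K' L L' X Y : Subgroup G} {a c x t g : G}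

/-- Thompson transfer, extremal form -/
theorem transfer_ext (hS : IsSylowIn 2 S ⊤) (hU : ⁅S, S⁆ ≤ U) (hUS : U ≤ S) (c1 : c ∈ S) (c2 : c ∉ U)
    (c3 : c ^ 2 = 1) (c4 : c ∈ resIn 2 ⊤) (hR : IsPGroup 2 R) (hc : R ≤ C1(c)) :
    ∃ X g, U ≤ X ∧ X ≤ S ∧ c ∉ X ∧ g * c * g⁻¹ ∈ X ∧ cj g R ≤ S := by
  obtain ⟨X, x1, ⟨x2, x3⟩, x4⟩ := exists_maximal_subgroup (Φ := fun X => X ≤ S ∧ c ∉ X) ⟨hUS, c2⟩
  have n : S ≤ N(X) := le_norm_of_der_le (hU.trans x1) x2
  haveI := normal_subgroupOf n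
  letI : CommGroup (S ⧸ X.subgroupOf S) := { mul_comm := (Normal.quotient_commutative_iff_commutator_le.2
    (by rw [commutator_eq_subgroupOf]; exact comap_mono (hU.trans x1))).is_comm.comm }
  have cc : c * c = 1 := by rw [← pow_two, c3]
  have ne : (QuotientGroup.mk' (X.subgroupOf S) ⟨c, c1⟩) ≠ 1 := fun e =>
    x3 ((QuotientGroup.eq_one_iff (N := X.subgroupOf S) (⟨c, c1⟩ : S)).1 e)
  obtain ⟨g, g1, g2⟩ := CfsgH9.exists_conj_ker (H := S) (by simpa using hS.not_dvd)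
    (QuotientGroup.mk' (X.subgroupOf S)) cc (u := QuotientGroup.mk' _ ⟨c, c1⟩)
    (orderOf_eq_prime (by rw [← map_pow]; exact congrArg _ (Subtype.ext c3)) ne) (fun y hy => by
      by_cases k : (y : G) ∈ X
      · exact Or.inl ((QuotientGroup.eq_one_iff _).2 k)
      have yy : (y : G) ^ 2 = 1 := by rw [pow_two]; exact congrArg Subtype.val hy
      have m : c ∈ X ⊔ zpowers (y : G) := by_contra fun l => k ((x4 _ ⟨sup_le x2 (zpowers_le.2 y.2), l⟩
        le_sup_left).le (mem_sup_right (mem_zpowers _)))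
      have := (mul_mem_iff_of_index_two (H := X.subgroupOf (X ⊔ zpowers (y : G)))
        (relIndex_sup_zpowers (p := 2) (n y.2) k (yy ▸ one_mem _))
        (a := ⟨(y : G)⁻¹, inv_mem (mem_sup_right (mem_zpowers _))⟩) (b := ⟨c, m⟩)).2
        (iff_of_false (fun l => k (inv_mem_iff.1 l)) x3)
      exact Or.inr (QuotientGroup.eq.2 this))
    (pResidual_le_ker (hS.pgroup.to_quotient _) _ (resIn_top (p := 2) (G := G) ▸ c4)) hR
    fun r hr => (mem_cent1.1 (hc hr)).symm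
  rw [QuotientGroup.ker_mk', map_subgroupOf_eq_of_le x2] at g1
  exact ⟨X, g⁻¹, x1, x2, x3, by simpa using g1, cj_le_iff.2 fun r hr => by simpa using g2 r hr⟩

namespace KL

variable (h : KL T K L) (h' : KL T K' L') (ne : L ≠ L')
include h h' ne

theorem W_eq : ⁅O₂(K ⊔ T), K⁆ = wOf K := by
  have := (h.af h' ne).str.1
  rw [h.res] at this
  exact (eq_of_le_of_card_le (h.k.comm_W.ge.trans (commutator_mono ((W_le_Op K).trans
    (Op_le_Op_of_normal le_sup_left (sup_le le_normalizer h.n))) le_rfl)) (by rw [this, h.k.card])).symm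

theorem W_le : wOf K ≤ O₂(K ⊔ T) := (h.W_eq h' ne).ge.trans
  (comm_le_left (le_sup_left.trans (le_norm_Op_self _)))

theorem Q_eq : wOf K ⊔ O₂(K ⊔ T) ⊓ C(K) = O₂(K ⊔ T) := by
  have e := ea_comm (h.af h' ne).ea
  rw [← h.W_eq h' ne]
  exact h.k.split e (Op_pg _) (le_sup_left.trans (le_norm_Op_self _))
    ((Op_le_Op_of_normal le_sup_left (sup_le le_normalizer h.n)).trans e)

theorem C_le : O₂(K ⊔ T) ⊓ C(K) ≤ O₂(K' ⊔ T) ⊓ C(K ⊔ T) := by
  have := (h.af h' ne).str.2.2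
  rwa [h.res] at this

theorem W_not_le : ¬ wOf K' ≤ O₂(K ⊔ T) := fun k => h'.k.J_not_cent (J_le.trans (cent_symm
  ((le_inf k (h'.W_le h ne.symm)).trans ((h.af h' ne).Z_le.trans (oz_le_cent T)))))

theorem T_eq : wOf K ⊔ wOf K' ⊔ O₂(K ⊔ T) ⊓ C(K) = T := by
  rw [sup_right_comm, h.Q_eq h' ne]
  exact h.lp.Q_sup ((h'.W_le h ne.symm).trans h'.lp.Qle) (h.W_not_le h' ne)

theorem norm_W : N(wOf K) = L := maxloc_eq h.u.1 (W_pg K) h.k.ne_bot
  ((h.eq h' ne).le.trans (nW (sup_le le_normalizer h.n)))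

theorem cent_W : C(wOf K) ≤ O₂(K ⊔ T) := by
  by_contra k
  obtain ⟨x, x1, x3⟩ := h.k.exists_x
  exact h.k.not_cent x1 x3 (h.lp.res_le_of_norm ((cent_le_norm _).trans ((h.norm_W h' ne).trans
    (h.eq h' ne)).le) (nC (nW (sup_le le_normalizer h.n))) k (h.res.ge x1))

theorem swap (ha : a ∈ N(T)) (hL : a ∉ L) : cj a O₂(K ⊔ T) = O₂(K' ⊔ T) := by
  have f := h.af h' ne
  have e1 := f.card_Q
  have e2 := f.symm.card_Q
  rcases f.le_or (cj_le_of_norm ha h.lp.Qle) (ea_map f.ea _) with e | e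
  · exact absurd (h.norm_Q h' ne ▸ CfsgH2.mem_normalizer_of_cj_le e) hL
  · exact eq_of_le_of_card_le e (by rw [card_cj]; omega)

theorem swap_W (ha : a ∈ N(T)) (hL : a ∉ L) : cj a (wOf K) = wOf K' := by
  have := congrArg (fun X => wOf (resIn 2 N(X))) (h.swap h' ne ha hL)
  rwa [← cj_normalizer, h.norm_Q h' ne, h'.norm_Q h ne.symm, ← cj_resIn, h.eq h' ne,
    h'.eq h ne.symm, h.res, h'.res, ← cj_W] at this

theorem small (h8 : Nat.card O₂(K ⊔ T) = 8) (ha : a ∈ N(T)) (hL : a ∉ L) (hL' : a ∉ L')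
    (hX : X ≤ T ⊓ C1(a)) (hX' : IsElementaryAbelian 2 X) : Nat.card X < 4 := by
  have f := h.af h' ne
  have e : cj a X = X := cj_eq_of_cent (le_cent1_iff.1 (hX.trans inf_le_right))
  have l : X ≤ O₂(K' ⊔ T) ⊓ O₂(K ⊔ T) := by
    rcases f.le_or (hX.trans inf_le_left) hX' with k | k
    · exact le_inf (e ▸ h.swap h' ne ha hL ▸ cj_mono a k) k
    · exact le_inf k (e ▸ h'.swap h ne.symm ha hL' ▸ cj_mono a k)
  by_contra k
  have e1 := f.card_Z
  have e2 := f.str.2.1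
  rw [h.res] at e2
  obtain ⟨c, c1, c2⟩ := exists_mem_ne_one ((one_lt_card_iff_ne_bot (O₂(K ⊔ T) ⊓ C(K))).1 (by omega))
  have c3 := h.C_le h' ne c1
  exact hL (h.uq.cent1 c2 (f.ea.2 c c1.1) c3.2 (mem_cent1_symm
    (hX ((eq_of_le_of_card_le l (by omega)).ge ⟨c3.1, c1.1⟩)).2))

theorem idx (h8 : Nat.card O₂(K ⊔ T) = 8) (hS : IsSylowIn 2 S ⊤) (hT : T ≤ S) :
    S ≤ N(T) ∧ T.relIndex S ≤ 2 := by
  have f := h.af h' ne
  have o : ∀ {K L}, KL T K L → ∀ a ∈ S, a ∉ T → a ∉ L := fun h a a1 a2 a3 => a2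
    ((h.l.syl.eq_of_le (hS.pgroup.to_le inf_le_left) (le_inf hT h.l.syl.le) inf_le_right).le ⟨a1, a3⟩)
  have i : T.relIndex (S ⊓ N(T)) ≤ 2 := by
    have z := card_le_of_le (f.symm.Z_le.trans (oz_le_oz_J T))
    have := f.card_Z
    rcases h.cases h' ne hS hT with e | e | e
    · omega
    · rw [← e.2.2, inf_eq_left.2 le_normalizer, relIndex_self]; omega
    have e1 : L ⊓ C(Ω₂(J₂(T))) ≤ T := by
      rw [← e.1]
      refine (le_inf inf_le_left h.l.cent_oz).trans ?_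
      rw [h.eq h' ne]
      exact ((eq_or_eq_of_relIndex_prime h.lp.idx (le_inf le_sup_right le_normalizer)
        inf_le_left).resolve_right fun k => h.lp.nn (inf_eq_left.1 k)).le
    refine (relIndex_le_of_le_right (inf_le_right.trans (le_norm_oz (nJ le_rfl)))
      (CfsgH2.relIndex_ne_zero _ _)).trans (e.2.2 ▸ Nat.le_of_dvd (by rw [e.2.2]; norm_num)
      (relIndex_dvd_of_le_left _ e1))
  have l : T ≤ S ⊓ N(T) := le_inf hT le_normalizer
  have j : J₂(S ⊓ N(T)) ≤ T := CfsgH9.J_le_iff.2 fun A hA => by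
    by_contra k
    obtain ⟨a, a1, a2⟩ := SetLike.not_le_iff_exists.1 k
    have b1 := h.small h' ne h8 (hA.le a1).2 (o h a (hA.le a1).1 a2) (o h' a (hA.le a1).1 a2)
      (inf_le_inf_left T ((ea_comm hA.ea).trans (cent_le_cent1 a1))) (CfsgH2.ea_mono hA.ea inf_le_right)
    have b2 := hA.max _ (h.lp.Qle.trans l) f.ea
    have b3 := CfsgH2.card_mul_relIndex (inf_le_right : T ⊓ A ≤ A)
    have b4 := (relIndex_le_of_le_right (H := T) hA.le (CfsgH2.relIndex_ne_zero _ _)).trans i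
    rw [inf_relIndex_right] at b3
    nlinarith
  have e : S ⊓ N(T) = S := by
    by_contra k
    refine (lt_inf_normalizer hS.pgroup (lt_of_le_of_ne inf_le_left k)).not_ge
      (inf_le_inf_left S ((nJ le_rfl).trans ?_))
    rw [← CfsgH9.J_eq_of_le j l, f.J_eq]
  exact ⟨inf_eq_left.1 e, e ▸ i⟩

theorem not_conj (c1 : c ∈ O₂(K ⊔ T) ⊓ C(K)) (c2 : c ≠ 1) {z : G} (z1 : z ∈ Ω₂(J₂(T)) ⊓ wOf K) :
    g * z * g⁻¹ ≠ c := fun e => by
  have f := h.af h' ne
  have c3 := h.C_le h' ne c1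
  have zT : z ∈ C(T) := oz_le_cent _ (f.J_eq ▸ z1.1)
  have l : cj g T ≤ L := (cj_mono g (le_cent1_iff.2 zT)).trans (by
    rw [cj_centralizer_singleton, e]; exact h.uq.cent1 c2 (f.ea.2 c c1.1) c3.2)
  obtain ⟨m, m1, m2⟩ := h.l.syl.exists_cj_le (IsPGroup_cj h.k.pg g) l
  rw [cj_cj] at m2
  have n := nK (A := N(T)) le_rfl le_rfl (CfsgH2.mem_normalizer_of_cj_le m2)
  have d : ⁅T, T⁆ ≤ Ω₂(J₂(T)) ⊓ wOf K := by
    have nT : T ≤ N(Ω₂(J₂(T)) ⊓ wOf K) := nI (le_norm_oz (nJ le_normalizer)) (nW h.n)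
    have a1 : ⁅O₂(K ⊔ T), T⁆ ≤ Ω₂(J₂(T)) ⊓ wOf K := by
      conv_lhs => rw [← h.Q_eq h' ne]
      refine comm_sup_left_le (comm_le_of_index_two (relIndex_eq_of_card (n := 2) inf_le_right
        (by rw [h.k.card, h.k.card_ZW])).le nT (nW h.n)) ?_ ((h.W_le h' ne).trans (h.lp.Qle.trans nT))
        (inf_le_left.trans (h.lp.Qle.trans nT))
      rw [comm_eq_bot ((h.C_le h' ne).trans (inf_le_right.trans (cent_anti le_sup_right)))]
      exact bot_le
    refine (commutator_mono f.sup_eq.ge le_rfl).trans (comm_sup_left_le a1 ?_ (h.lp.Qle.trans nT)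
      (h'.lp.Qle.trans nT))
    refine (commutator_mono le_rfl f.sup_eq.ge).trans (comm_sup_right_le ?_ ?_ (h.lp.Qle.trans nT)
      (h'.lp.Qle.trans nT))
    · rw [commutator_comm]; exact (commutator_mono le_rfl h'.lp.Qle).trans a1
    · rw [comm_eq_bot (ea_comm f.symm.ea)]; exact bot_le
  have d0 : ⁅T, T⁆ ≠ ⊥ := fun k => h.k.J_not_cent (cent_mono (cent_of_comm_eq_bot k) J_le
    ((h.W_le h' ne).trans h.lp.Qle))
  rw [eq_of_le_of_card_le d (h.k.card_ZW.le.trans ((one_lt_card_iff_ne_bot _).2 d0))] at n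
  have := (CfsgH2.conj_mem_of_mem_normalizer n z1).2
  rw [show m * g * z * (m * g)⁻¹ = m * (g * z * g⁻¹) * m⁻¹ by group, e,
    mem_cent.1 c3.2 m ((h.eq h' ne).le m1), mul_inv_cancel_right] at this
  exact c2 (mem_bot.1 (h.k.inf_cent ▸ ⟨this, c1.2⟩))

theorem C_inf : O₂(K ⊔ T) ⊓ C(K) ⊓ resIn 2 ⊤ = ⊥ := by
  by_contra k
  obtain ⟨c, ⟨c1, c4⟩, c2⟩ := exists_mem_ne_one k
  have f := h.af h' ne
  have c3 := h.C_le h' ne c1
  have e1 := f.card_C
  have e2 := f.str.2.1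
  have e3 := f.card_Q
  have e4 := f.symm.card_Q
  rw [h.res] at e1 e2
  have e5 := (one_lt_card_iff_ne_bot _).2 (ne_bot_of_mem c1 c2)
  have h8 : Nat.card O₂(K ⊔ T) = 8 := by omega
  obtain ⟨S, hS, hT⟩ := IsSylowIn.exists_le h.k.pg (le_top : T ≤ ⊤)
  obtain ⟨n, i⟩ := h.idx h' ne h8 hS hT
  have o : ∀ {K L}, KL T K L → ∀ a ∈ S, a ∉ T → a ∉ L := fun h a a1 a2 a3 => a2
    ((h.l.syl.eq_of_le (hS.pgroup.to_le inf_le_left) (le_inf hT h.l.syl.le) inf_le_right).le ⟨a1, a3⟩)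
  have l1 := (h.W_le h' ne).trans h.lp.Qle
  have l2 := (h'.W_le h ne.symm).trans h'.lp.Qle
  have nU : S ≤ N(wOf K ⊔ wOf K') := fun a ha => by
    by_cases k : a ∈ T
    · exact nS (nW h.n) (nW h'.n) k
    · rw [mem_norm_iff_cj, cj_sup, h.swap_W h' ne (n ha) (o h a ha k),
        h'.swap_W h ne.symm (n ha) (o h' a ha k), sup_comm]
  have cU : Nat.card (wOf K ⊔ wOf K' : Subgroup G) = 8 := by
    have a1 := card_sup_mul (l2.trans (nW h.n))
    have a2 := (one_lt_card_iff_ne_bot _).2 (ne_bot_of_le (fun k : ⁅wOf K, wOf K'⁆ = ⊥ =>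
      h.W_not_le h' ne ((cent_symm (cent_of_comm_eq_bot k)).trans (h.cent_W h' ne)))
      (le_inf (comm_le_left (l2.trans (nW h.n))) (comm_le_right (l1.trans (nW h'.n)))))
    have a3 := card_le_of_le (le_inf ((le_inf (inf_le_left.trans (h.W_le h' ne)) (inf_le_right.trans
      (h'.W_le h ne.symm))).trans (f.Z_le.trans (oz_le_oz_J T))) inf_le_left :
      wOf K ⊓ wOf K' ≤ Ω₂(J₂(T)) ⊓ wOf K)
    rw [h.k.card_ZW] at a3
    rw [h.k.card, h'.k.card, show Nat.card (wOf K ⊓ wOf K' : Subgroup G) = 2 by omega] at a1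
    omega
  have iU : (wOf K ⊔ wOf K').relIndex T = 2 := relIndex_eq_of_card (sup_le l1 l2) (by omega)
  have cT := h.lp.Qle c1.1
  have cU' : c ∉ wOf K ⊔ wOf K' := fun k => by
    have := card_le_of_le ((h.T_eq h' ne).ge.trans (sup_le le_rfl fun y hy => by
      by_cases y1 : y = 1
      · exact y1 ▸ one_mem _
      · rwa [eq_of_card_two (by omega) hy c1 y1 c2]))
    omega
  have a1 := comm_le_of_index_two iU.le nU n
  have d : ⁅S, S⁆ ≤ wOf K ⊔ wOf K' := by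
    by_cases e : S ≤ T
    · exact (commutator_mono e le_rfl).trans a1
    obtain ⟨a, a2, a3⟩ := SetLike.not_le_iff_exists.1 e
    have i2 := CfsgH2.relIndex_ne_zero T S
    have i3 : T.relIndex S ≠ 1 := fun k => e (relIndex_eq_one.1 k)
    have e := sup_zpowers_eq_of_relIndex_prime (p := 2) (by omega) hT a2 a3
    refine (commutator_mono e.ge le_rfl).trans (comm_sup_left_le a1 ((commutator_mono le_rfl
      e.ge).trans (comm_sup_right_le ?_ ?_ (hT.trans nU) (zpowers_le.2 (nU a2)))) (hT.trans nU)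
      (zpowers_le.2 (nU a2)))
    · rw [commutator_comm]; exact (commutator_mono le_rfl (zpowers_le.2 a2)).trans a1
    · rw [comm_eq_bot (comm_of_cyclic inferInstance)]; exact bot_le
  obtain ⟨X, g, x1, x2, x3, x4, x5⟩ := transfer_ext hS d ((sup_le l1 l2).trans hT) (hT cT) cU'
    (f.ea.2 c c1.1) c4 h.k.pg (le_cent1_iff.2 (cent_anti le_sup_right c3.2))
  have s2 : (g * c * g⁻¹) ^ 2 = 1 := by rw [conj_pow, f.ea.2 c c1.1]; simp
  by_cases s : g * c * g⁻¹ ∈ T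
  · have e : T ⊓ X = wOf K ⊔ wOf K' := (eq_or_eq_of_relIndex_prime iU (le_inf (sup_le l1 l2) x1)
      inf_le_left).resolve_right fun k => x3 (inf_eq_left.1 k cT)
    have q : ∀ {K K' L L'}, KL T K L → KL T K' L' → L ≠ L' → wOf K ≤ T ⊓ X → c ∈ O₂(K ⊔ T) →
        Nat.card O₂(K ⊔ T) = 8 → g * c * g⁻¹ ∈ O₂(K ⊔ T) →
        ∀ z ∈ wOf K, z ≠ 1 → ∃ y, y * z * y⁻¹ = c := fun {K K' L L'} h h' ne l m n s' z z1 z2 => by
      have := (eq_or_eq_of_relIndex_prime (relIndex_eq_of_card (n := 2) (h.W_le h' ne)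
        (by rw [n, h.k.card])) (le_inf (h.W_le h' ne) l) inf_le_left).resolve_right
        fun k => x3 (inf_eq_left.1 k m).2
      obtain ⟨y, -, y2⟩ := h.k.trans z1 (this.le ⟨s', s, x4⟩) z2 (by simpa using c2)
      exact ⟨g⁻¹ * y, by rw [mul_inv_rev, inv_inv, mul_assoc, mul_assoc, ← mul_assoc z, ← mul_assoc y,
        ← mul_assoc y, y2]; group⟩
    obtain ⟨z, z1, z2⟩ := exists_mem_ne_one (fun k : ⁅wOf K, wOf K'⁆ = ⊥ =>
      h.W_not_le h' ne ((cent_symm (cent_of_comm_eq_bot k)).trans (h.cent_W h' ne)))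
    have z3 := comm_le_left (l2.trans (nW h.n)) z1
    have z4 := comm_le_right (l1.trans (nW h'.n)) z1
    have z5 := oz_le_oz_J T (f.Z_le ⟨h.W_le h' ne z3, h'.W_le h ne.symm z4⟩)
    rcases f.mem_or s s2 with k | k
    · obtain ⟨y, hy⟩ := q h h' ne (e ▸ le_sup_left) c1.1 h8 k z z3 z2
      exact h.not_conj h' ne c1 c2 ⟨z5, z3⟩ hy
    · obtain ⟨y, hy⟩ := q h' h ne.symm (e ▸ le_sup_right) c3.1 (by omega) k z z4 z2
      exact h.not_conj h' ne c1 c2 ⟨z5, z3⟩ hy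
  · have b1 := h.small h' ne h8 (n (x2 x4)) (o h _ (x2 x4) s) (o h' _ (x2 x4) s)
      (X := O₂(K ⊔ T) ⊓ cj g T) (inf_le_inf h.lp.Qle (cj_centralizer_singleton g c ▸ cj_mono g
      (le_cent1_iff.2 (cent_anti le_sup_right c3.2)))) (CfsgH2.ea_mono f.ea inf_le_left)
    have b2 := card_mul_le (h.lp.Qle.trans hT) x5
    have b3 := CfsgH2.card_mul_relIndex hT
    rw [card_cj] at b2
    nlinarith

theorem af_res : AF (L ⊓ resIn 2 ⊤) (L' ⊓ resIn 2 ⊤) (T ⊓ resIn 2 ⊤) := by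
  have n : ∀ X : Subgroup G, X ≤ N(resIn 2 ⊤) := fun X => le_top.trans (le_normalizer_resIn ⊤)
  have r : ∀ {K L}, KL T K L → K ≤ resIn 2 ⊤ := fun h => h.k.res ▸ resIn_mono le_top
  have lp : ∀ {K K' L L'}, KL T K L → KL T K' L' → L ≠ L' → LP (L ⊓ resIn 2 ⊤) (T ⊓ resIn 2 ⊤) :=
    fun {K K' L L'} h h' ne => by
    have s := h.l.syl.inf_of_normalizer (n L)
    have e : L ⊓ resIn 2 ⊤ = K ⊔ T ⊓ resIn 2 ⊤ := by
      rw [h.eq h' ne, inf_comm, inf_sup_left (r h) h.n, inf_comm]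
    have l : wOf K' ≤ T ⊓ resIn 2 ⊤ := le_inf ((h'.W_le h ne.symm).trans h'.lp.Qle) ((CfsgH2.W_le _).trans (r h'))
    obtain ⟨t, x, t1, t2, x1, x3, tx⟩ := h.lp.exists_tx (W_ea K') (l.trans (inf_le_left.trans
      le_sup_right)) (h.W_not_le h' ne)
    rw [h.res] at x1
    refine ⟨e ▸ h.k.sp s.pgroup (inf_le_left.trans h.n) (fun k => SP.not_mem (Op_pg K) x3
      (mem_of_pow_mem_of_coprime (n := 2) (by rw [x3]; norm_num) (k ?_))) (e ▸ s),
      h.l.chp.of_normal inf_le_left (nI le_normalizer (n L)), fun k => ?_⟩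
    · have := commutator_mem_commutator x1 (l t1)
      rwa [commutatorElement_def, mul_assoc, mul_assoc, ← mul_assoc t, show t * x⁻¹ * t⁻¹ = x by
        rw [← conj_inv, tx, inv_inv], ← pow_two] at this
    · have := h.k.card_ZW
      rw [eq_bot_iff.2 (h.k.inf_cent ▸ le_inf inf_le_right ((le_oz (CfsgH2.ea_mono (W_ea K) inf_le_right)
        (le_inf (inf_le_left.trans ((oz_le _).trans J_le)) (inf_le_right.trans ((CfsgH2.W_le _).trans (r h))))
        (inf_le_left.trans ((oz_le_cent _).trans (cent_anti (inf_le_left.trans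
        (h.af h' ne).J_eq.ge))))).trans (cent_symm ((le_inf h.le (r h)).trans k))) :
        Ω₂(J₂(T)) ⊓ wOf K ≤ ⊥), card_bot] at this
      omega
  refine ⟨lp h h' ne, lp h' h ne.symm, fun U a b c => ?_⟩
  have nT : T ≤ N(U) := (h.T_eq h' ne).ge.trans (sup_le (sup_le ((le_inf ((CfsgH2.W_le _).trans h.le)
    ((CfsgH2.W_le _).trans (r h))).trans b) ((le_inf ((CfsgH2.W_le _).trans h'.le) ((CfsgH2.W_le _).trans (r h'))).trans c))
    (le_norm_of_cent ((h.C_le h' ne).trans (inf_le_right.trans (cent_anti (a.trans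
    (inf_le_left.trans le_sup_right)))))))
  exact h.bot h' ne (h.k.pg.to_le (a.trans inf_le_left)) (sup_le ((le_inf h.le (r h)).trans b) nT)
    (sup_le ((le_inf h'.le (r h')).trans c) nT)

theorem card_C_res : Nat.card (O₂(L ⊓ resIn 2 ⊤) ⊓ C(resIn 2 (L ⊓ resIn 2 ⊤)) : Subgroup G) = 1 := by
  rw [card_eq_one, eq_bot_iff, ← h.C_inf h' ne]
  refine le_inf (inf_le_inf ?_ (cent_anti (h.k.res.ge.trans (resIn_mono (le_inf h.le
    (h.k.res ▸ resIn_mono le_top)))))) (inf_le_left.trans ((Op_le _).trans inf_le_right))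
  rw [← h.eq h' ne]
  exact Op_le_Op_of_normal inf_le_left (nI le_normalizer (le_top.trans (le_normalizer_resIn ⊤)))

theorem max_res : IsMaximalTwoLocal (L.subgroupOf (resIn 2 ⊤)) := by
  have r : K ≤ resIn 2 ⊤ := h.k.res ▸ resIn_mono le_top
  have w := (CfsgH2.W_le K).trans r
  refine ⟨⟨(wOf K).subgroupOf _, (W_pg K).comap_subtype, fun e => h.k.ne_bot (by
    rw [← map_subgroupOf_eq_of_le w, e, Subgroup.map_bot]), by
    rw [norm_subgroupOf w, h.norm_W h' ne]⟩, ?_⟩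
  rintro _ ⟨U, u1, u2, rfl⟩ l
  refine le_antisymm (map_le_iff_le_comap.1 ?_) l
  replace l := map_mono (f := (resIn 2 ⊤).subtype) l
  rw [map_subtype_norm] at l ⊢
  rw [subgroupOf_map_subtype] at l
  have KY := (le_inf h.le r).trans l
  have l2 : U.map (resIn 2 ⊤).subtype ≤ O₂(resIn 2 ⊤ ⊓ N(U.map (resIn 2 ⊤).subtype)) :=
    le_Op (le_inf (map_subtype_le _) le_normalizer) inf_le_right (u1.map _)
  have u3 := ne_bot_of_le (mt (map_eq_bot_iff_of_injective _ (resIn 2 ⊤).subtype_injective).1 u2) l2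
  have lH : resIn 2 ⊤ ⊓ N(U.map (resIn 2 ⊤).subtype) ≤ resIn 2 ⊤ := inf_le_left
  generalize resIn 2 ⊤ ⊓ N(U.map (resIn 2 ⊤).subtype) = Y at *
  have c : Ω₂(O₂(Y)) ⊓ C(wOf K) ≤ wOf K := by
    refine (inf_le_inf ((oz_le _).trans ((Op_le _).trans lH)) ((h.cent_W h' ne).trans
      (h.Q_eq h' ne).ge)).trans ?_
    rw [inf_sup_left w (inf_le_right.trans ((cent_anti (CfsgH2.W_le K)).trans (cent_le_norm _))), inf_comm,
      h.C_inf h' ne, sup_bot_eq]
  have n : K ≤ N(Ω₂(O₂(Y))) := KY.trans (nOz le_normalizer)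
  have e := (h.k.irr' c (nI n (nC (nW le_normalizer)))).resolve_left (inf_cent_ne_bot_of_pgroup
    (W_pg K) (ea_pgroup (oz_ea _)) ((CfsgH2.W_le K).trans n) (oz_ne_bot (Op_pg Y) u3))
  rw [← h.norm_W h' ne, ← e, inf_eq_left.2 ((ea_comm (oz_ea _)).trans (cent_anti
    (e.ge.trans inf_le_left)))]
  exact nOz le_normalizer

end KL

theorem zn_main (z : ZN G) (hO : pCore 2 G = ⊥) : (∃ K : Subgroup G, IsStronglyEmbedded K) ∨
    ∃ M₁ M₂ : Subgroup (resIn 2 (⊤ : Subgroup G)), M₁ ≠ M₂ ∧ IsMaximalTwoLocal M₁ ∧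
      IsMaximalTwoLocal M₂ ∧ Nonempty (M₁ ≃* Equiv.Perm (Fin 4)) ∧
      Nonempty (M₂ ≃* Equiv.Perm (Fin 4)) ∧ Nat.card ↥(M₁ ⊓ M₂) = 8 := by
  obtain ⟨S, hS⟩ := IsSylowIn.exists_sylowIn 2 (⊤ : Subgroup G)
  have S0 : S ≠ ⊥ := fun e => hS.eq_bot_iff.1 e (by rw [card_top]; exact z.ch.1.two_dvd)
  have J0 := CfsgH9.J_ne_bot (n := 2) dvd_rfl hS.pgroup S0
  by_cases k : (straddlingTwoSubgroups N(J₂(S))).Nonempty
  swap
  · have := spe_of_norm (H := N(J₂(S))) (fun e => J0 (le_bot_iff.1 (hO ▸ le_sSup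
      ⟨normalizer_eq_top_iff.1 e, pJ hS.pgroup⟩))) (hS.mono (nJ le_normalizer) le_top) S0
      fun Q h1 h2 => by_contra fun c => k ⟨Q, hS.pgroup.to_le h1, h2, h1.trans (nJ le_normalizer), _,
        ⟨Q, hS.pgroup.to_le h1, h2, rfl⟩, le_normalizer, c⟩
    exact Or.inl ⟨_, se_iff.2 ⟨this.ne, even_iff_two_dvd.2 this.dvd, this.mem⟩⟩
  obtain ⟨T, hT⟩ := exists_mx k
  have h := mx_of z hS le_rfl hT
  obtain ⟨K, k1, k2, k3⟩ := h.exists_K
  obtain ⟨L, K', L', a, b, c⟩ := h.pair hO k1 k2 k3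
  have f := a.af_res b c
  have e : ∀ L : Subgroup G, L.subgroupOf (resIn 2 ⊤) ≃* (L ⊓ resIn 2 ⊤ : Subgroup G) := fun L =>
    (MulEquiv.subgroupCongr (inf_subgroupOf_right _ _).symm).trans (subgroupOfEquivOfLe inf_le_right)
  refine Or.inr ⟨_, _, fun e => a.not_le b c fun y hy => e.ge (x := ⟨y, (b.k.res ▸ resIn_mono le_top :
    K' ≤ _) hy⟩) (b.le hy), a.max_res b c, b.max_res a c.symm,
    ⟨(e L).trans (f.iso.1 (a.card_C_res b c)).some⟩,
    ⟨(e L').trans (f.symm.iso.1 (b.card_C_res a c.symm)).some⟩, ?_⟩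
  have e1 := f.card_Q
  have e2 := f.str.2.1
  rw [a.card_C_res b c] at e2
  rw [show ∀ A B C : Subgroup G, A.subgroupOf C ⊓ B.subgroupOf C = (A ⊓ B).subgroupOf C from fun _ _ _ => rfl, Nat.card_congr (e _).toEquiv, inf_inf_distrib_right, f.inf_eq]
  omega

end CfsgH2
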