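import Cfsg.Agent.H2.Mix2
import Cfsg.Agent.H2.BG4

set_option autoImplicit false
open Cfsg Subgroup CfsgFT CfsgH1
open scoped commutatorElement

namespace CfsgH2
universe u

theorem gr_norm {L M : Type*} [Group L] [CommGroup M] (φ : L →* MulAut M) (U : Subgroup L) [Fintype U]
    (y : L) (q : ℕ) (g : U → L) (hmem : ∀ j < q, ∀ u, g u ^ (j + 1) * (y ^ (j + 1))⁻¹ ∈ U)
    (hinj : ∀ j < q, ∀ u u', g u ^ (j + 1) = g u' ^ (j + 1) → u = u')
    (hN : ∀ u v, ∏ j ∈ Finset.range (q + 1), φ (g u ^ j) v = 1)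
    (hC : ∀ v, (∀ u ∈ U, φ u v = v) → v = 1) (v : M) : v ^ Fintype.card U = 1 := by
  have h0 : ∀ w, ∏ u : U, φ u w = 1 := fun w => hC _ fun u0 hu0 => by
    rw [map_prod]
    refine Fintype.prod_equiv (Equiv.mulLeft (⟨u0, hu0⟩ : U)) _ _ fun u => ?_
    simp
  have h1 : ∏ j ∈ Finset.range (q + 1), ∏ u : U, φ (g u ^ j) v = 1 := by
    rw [Finset.prod_comm]; exact Finset.prod_eq_one fun u _ => hN u v
  rw [Finset.prod_range_succ', Finset.prod_eq_one, one_mul] at h1
  · simpa using h1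
  · intro j hj
    have hj := Finset.mem_range.1 hj
    let e : U → U := fun u => ⟨_, hmem j hj u⟩
    have he : Function.Bijective e := Finite.injective_iff_bijective.1 fun u u' h =>
      hinj j hj u u' (mul_right_cancel (congrArg Subtype.val h))
    rw [← h0 (φ (y ^ (j + 1)) v)]
    refine Fintype.prod_bijective e he _ _ fun u => ?_
    show _ = φ (g u ^ (j + 1) * (y ^ (j + 1))⁻¹) _
    rw [← MulAut.mul_apply, ← map_mul, inv_mul_cancel_right]

variable {G : Type*} [Group G] [Finite G]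

theorem cent_of_family {V U : Subgroup G} (hV : V ≤ C(V)) (hUV : U ≤ N(V))
    (hcop : (Nat.card U).Coprime (Nat.card V)) {y : G} (hyV : y ∈ N(V)) (hyU : y ∈ N(U))
    {q : ℕ} (hq : 0 < q) (g : U → G) (hmem : ∀ j < q, ∀ u, g u ^ (j + 1) * (y ^ (j + 1))⁻¹ ∈ U)
    (hinj : ∀ j < q, ∀ u u', g u ^ (j + 1) = g u' ^ (j + 1) → u = u')
    (h1 : ∀ u, ∀ v ∈ V, (v * g u) ^ (q + 1) = 1) : U ≤ C(V) := by
  classical
  set W := ⁅V, U⁆ with hW
  have hWV : W ≤ V := comm_le_left hUV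
  have hUW : U ≤ N(W) := le_normalizer_commutator hUV le_normalizer
  have hyW : y ∈ N(W) := zpowers_le.1 (le_normalizer_commutator (zpowers_le.2 hyV) (zpowers_le.2 hyU))
  have hgW : ∀ u, g u ∈ N(W) := fun u => by
    have := mul_mem (hUW (hmem 0 hq u)) hyW
    simpa using this
  have hWC := coprime_comm_inf_cent hV hUV hcop
  rw [← hW] at hWC
  suffices W = ⊥ by
    rw [← commutator_eq_bot_iff_le_centralizer, Subgroup.commutator_comm]; exact this
  letI : CommGroup W := { (inferInstance : Group W) with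
    mul_comm := fun a b => Subtype.ext ((mem_centralizer_iff.1 (hV (hWV b.2))) a (hWV a.2)) }
  haveI := Fintype.ofFinite (U.subgroupOf N(W))
  let φ := W.normalizerMonoidHom
  have hφ : ∀ (a : N(W)) (v : W), ((φ a v : W) : G) = a * v * (a : G)⁻¹ := fun _ _ => rfl
  have key : ∀ (a : N(W)) (v : W) n, ((v : G) * a) ^ n =
      ((∏ j ∈ Finset.range n, φ (a ^ j) v : W) : G) * (a : G) ^ n := by
    intro a v n
    induction n with
    | zero => simp
    | succ n ih =>
      rw [pow_succ, ih, Finset.prod_range_succ, coe_mul, hφ, pow_succ]; simp [mul_assoc]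
  have := gr_norm φ (U.subgroupOf N(W)) ⟨y, hyW⟩ q (fun u => ⟨g ⟨u.1.1, u.2⟩, hgW _⟩)
    (fun j hj u => by simpa [mem_subgroupOf] using hmem j hj _)
    (fun j hj u u' h => by
      have := hinj j hj _ _ (by simpa using congrArg Subtype.val h)
      exact Subtype.ext (Subtype.ext (congrArg (fun a : U => (a : G)) this)))
    (fun u v => by
      have e := key ⟨g ⟨u.1.1, u.2⟩, hgW _⟩ v (q + 1)
      have e1 := h1 ⟨u.1.1, u.2⟩ 1 (one_mem _)
      rw [one_mul] at e1
      rw [h1 _ _ (hWV v.2), e1, mul_one] at e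
      exact Subtype.ext e.symm)
    (fun v hv => by
      have : (v : G) ∈ W ⊓ C(U) := mem_inf.2 ⟨v.2, mem_centralizer_iff.2 fun u hu => by
        have := congrArg Subtype.val (hv ⟨u, hUW hu⟩ hu)
        rw [hφ] at this
        exact mul_inv_eq_iff_eq_mul.1 this⟩
      rw [hWC, mem_bot] at this
      exact Subtype.ext this)
  rw [eq_bot_iff]
  intro v hv
  have h2 := congrArg Subtype.val (this ⟨v, hv⟩)
  rw [← Nat.card_eq_fintype_card, Nat.card_congr (subgroupOfEquivOfLe hUW).toEquiv] at h2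
  have h3 : v ^ Nat.card V = 1 := by
    have := pow_card_eq_one' (x := (⟨v, hWV hv⟩ : V))
    exact congrArg Subtype.val this
  exact mem_bot.2 ((pow_eq_one_iff_of_coprime hcop).1 ⟨h2, h3⟩)

/-- `y` induces a splitting automorphism of `K` -/
def Spl (p : ℕ) (K : Subgroup G) (y : G) : Prop := y ∈ N(K) ∧ ∀ k ∈ K, (k * y) ^ p = 1

theorem Spl.sub {p : ℕ} {K H : Subgroup G} {y k : G} (h : Spl p K y) (hH : H ≤ K) (hk : k ∈ K)
    (hn : k * y ∈ N(H)) : Spl p H (k * y) :=
  ⟨hn, fun a ha => by rw [← mul_assoc]; exact h.2 _ (mul_mem (hH ha) hk)⟩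

theorem Spl.quo {p : ℕ} {K V : Subgroup G} {y : G} (h : Spl p K y) (hy : y ∈ N(V)) :
    Spl p (quo V K) (qm V ⟨y, hy⟩) := by
  refine ⟨zpowers_le.1 ?_, ?_⟩
  · rw [← quo_zpowers]; exact quo_le_norm (zpowers_le.2 h.1)
  · intro k hk
    obtain ⟨x, hx, rfl⟩ := mem_quo.1 hk
    rw [← map_mul, ← map_pow]
    have : (x * ⟨y, hy⟩) ^ p = 1 := Subtype.ext (h.2 _ hx)
    rw [this, map_one]

theorem Spl.pow_one {p : ℕ} {K : Subgroup G} {y : G} (h : Spl p K y) : y ^ p = 1 := by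
  simpa using h.2 1 (one_mem _)

theorem Spl.fpf {p : ℕ} (hp : p.Prime) {K : Subgroup G} {y : G} (h : Spl p K y) {j : ℕ} (hj : ¬ p ∣ j)
    {v : G} (hv : v ∈ K) (hc : Commute v (y ^ j)) : v ^ p = 1 := by
  have h1 : Commute v y := by
    obtain ⟨m, hm⟩ := exists_pow_eq_self_of_coprime (x := y) (n := j)
      (Nat.Coprime.coprime_dvd_right (orderOf_dvd_of_pow_eq_one h.pow_one)
        ((hp.coprime_iff_not_dvd.2 hj).symm))
    rw [← hm]; exact hc.pow_right m
  have := h.2 v hv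
  rwa [h1.mul_pow, h.pow_one, mul_one] at this

theorem Spl.cent_of_ne {p : ℕ} (hp : p.Prime) {V R K : Subgroup G} {y : G} (h : Spl p K y)
    (hVK : V ≤ K) (hRK : R ≤ K) (hV : V ≤ C(V)) (hRV : R ≤ N(V))
    (hcop : (Nat.card R).Coprime (Nat.card V)) (hyV : y ∈ N(V)) (hyR : y ∈ N(R))
    (hR : (Nat.card R).Coprime p) : R ≤ C(V) := by
  obtain ⟨q, rfl⟩ : ∃ q, p = q + 1 := ⟨p - 1, by have := hp.pos; omega⟩
  refine cent_of_family hV hRV hcop hyV hyR (q := q) (by have := hp.two_le; omega)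
    (fun u => u * y * (u : G)⁻¹) (fun j hj u => ?_) (fun j hj u u' e => ?_) (fun u v hv => ?_)
  · rw [conj_pow, mul_assoc, mul_assoc, ← mul_assoc (y ^ (j + 1))]
    exact mul_mem u.2 (CfsgH2.conj_mem_of_mem_normalizer (pow_mem hyR _) (inv_mem u.2))
  · simp only [conj_pow] at e
    have h1 : Commute ((u' : G)⁻¹ * u) (y ^ (j + 1)) := by
      rw [commute_iff_eq]
      calc (u' : G)⁻¹ * u * y ^ (j + 1) = (u' : G)⁻¹ * (u * y ^ (j + 1) * (u : G)⁻¹) * u := by group
        _ = _ := by rw [e]; group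
    have h2 := h.fpf hp (Nat.not_dvd_of_pos_of_lt (by omega) (by omega))
      (hRK (mul_mem (inv_mem u'.2) u.2)) h1
    have h3 : ((u' : G)⁻¹ * u) ^ Nat.card R = 1 :=
      congrArg Subtype.val (pow_card_eq_one' (x := (u'⁻¹ * u : R)))
    have := (pow_eq_one_iff_of_coprime hR).1 ⟨h3, h2⟩
    exact (Subtype.ext (inv_mul_eq_one.1 this)).symm
  · have : v * (u * y * (u : G)⁻¹) = (v * u * (y * (u : G)⁻¹ * y⁻¹)) * y := by group
    rw [this]
    exact h.2 _ (mul_mem (mul_mem (hVK hv) (hRK u.2))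
      (CfsgH2.conj_mem_of_mem_normalizer h.1 (hRK (inv_mem u.2))))

theorem Spl.cent_of_central {p : ℕ} (hp : p.Prime) {V K : Subgroup G} {y z : G} (h : Spl p K y)
    (hVK : V ≤ K) (hz : z ∈ K) (hV : V ≤ C(V)) (hzV : z ∈ N(V)) (ho : orderOf z = p)
    (hcop : p.Coprime (Nat.card V)) (hyV : y ∈ N(V)) (hc : Commute z y) : z ∈ C(V) := by
  obtain ⟨q, rfl⟩ : ∃ q, p = q + 1 := ⟨p - 1, by have := hp.pos; omega⟩
  have hcu : ∀ u : zpowers z, Commute (u : G) y := by
    rintro ⟨_, i, rfl⟩; exact hc.zpow_left i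
  refine zpowers_le.1 (cent_of_family hV (zpowers_le.2 hzV) (by rwa [Nat.card_zpowers, ho]) hyV
    (cent1_le_norm_zpowers z (mem_cent1.2 hc)) (q := q) (by have := hp.two_le; omega)
    (fun u => u * y) (fun j hj u => ?_) (fun j hj u u' e => ?_) (fun u v hv => ?_))
  · rw [(hcu u).mul_pow, mul_inv_cancel_right]; exact pow_mem u.2 _
  · simp only [(hcu _).mul_pow, mul_left_inj] at e
    have : (Nat.card (zpowers z)).Coprime (j + 1) := by
      rw [Nat.card_zpowers, ho]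
      exact hp.coprime_iff_not_dvd.2 (Nat.not_dvd_of_pos_of_lt (by omega) (by omega))
    exact (powCoprime this).injective (Subtype.ext e)
  · rw [← mul_assoc]; exact h.2 _ (mul_mem (hVK hv) (zpowers_le.2 hz u.2))

/-- Kegel's theorem (with Hughes–Thompson). -/
theorem kegel {p : ℕ} (hp : p.Prime) {X : Type u} [Group X] [Finite X] (K : Subgroup X) (y : X)
    (h : Spl p K y) : Group.IsNilpotent K := by
  induction hn : Nat.card K using Nat.strong_induction_on generalizing X with | _ n ih => ?_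
  subst hn
  haveI := Fact.mk hp
  have sub : ∀ V : Subgroup X, V < K → ∀ k ∈ K, k * y ∈ N(V) → Group.IsNilpotent V :=
    fun V hV k hk hn => ih _ (CfsgH2.card_lt_of_lt hV) V _ (h.sub hV.le hk hn) rfl
  have hsol : Group.IsSolvable K := by
    by_cases hmin : ∃ V : Subgroup X, V < K ∧ V ≠ ⊥ ∧ K ≤ N(V) ∧ y ∈ N(V)
    · obtain ⟨V, h1, h2, h3, h4⟩ := hmin
      exact solvable_of_quo h3 (isSolvable_of_nilpotent (sub V h1 1 (one_mem _) (by rwa [one_mul])))
        (isSolvable_of_nilpotent (ih _ (card_quo_lt' h1.le h3 h2) (quo V K) _ (h.quo h4) rfl))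
    push Not at hmin
    by_cases h2 : IsPGroup 2 K
    · exact solvable_of_pgroup h2
    obtain ⟨r, hr, hr2, hrd⟩ : ∃ p : ℕ, p.Prime ∧ p ≠ 2 ∧ p ∣ Nat.card K := by
      by_contra hc
      push Not at hc
      refine h2 (isPi_singleton_iff.1 fun q hq hd => ?_)
      by_contra h
      exact hc q hq h hd
    haveI := Fact.mk hr
    obtain ⟨S, hS⟩ := IsSylowIn.exists_sylowIn r K
    obtain ⟨k, hk, hkS⟩ := hS.frattini h.1
    have hS1 : S ≠ ⊥ := fun e => (hS.eq_bot_iff.1 e) hrd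
    have hZ1 : centerThompsonOf r S ≠ ⊥ := CfsgH9.ZJ_ne_bot dvd_rfl hS.pgroup hS1
    have hRZ : k * y ∈ N(centerThompsonOf r S) := CfsgH9.normalizer_le_normalizer_ZJ S hkS
    have hZS : centerThompsonOf r S ≤ S := CfsgH9.ZJ_le
    by_cases hKZ : K ≤ N(centerThompsonOf r S)
    · rcases (hZS.trans hS.le).lt_or_eq with h' | h'
      · exact absurd ((mul_mem_cancel_left (hKZ hk)).1 hRZ) (hmin _ h' hZ1 hKZ)
      · exact solvable_of_pgroup (h' ▸ hS.pgroup.to_le hZS)
    have hlt : K ⊓ N(centerThompsonOf r S) < K := lt_of_le_of_ne inf_le_left fun e =>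
      hKZ (e ▸ inf_le_right)
    have hnpc := npc_of_ZJ_in hr2 hS (npc_of_nilpotent (sub _ hlt k hk (zpowers_le.1
      (le_normalizer_inf (zpowers_le.2 (mul_mem (le_normalizer hk) h.1))
        (le_norm_norm (zpowers_le.2 hRZ))))))
    have e := npc_sup hnpc hS
    by_cases h0 : Opi {r}ᶜ K = ⊥
    · rw [h0, bot_sup_eq] at e
      exact solvable_of_pgroup (e ▸ hS.pgroup)
    rcases (Opi_le {r}ᶜ K).lt_or_eq with h' | h'
    · exact absurd (zpowers_le.1 (le_normalizer_Opi_of _ (zpowers_le.2 h.1)))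
        (hmin _ h' h0 (le_normalizer_Opi _ K))
    · exact absurd hrd (isPi_compl_singleton_iff.1 (h' ▸ isPi_Opi {r}ᶜ K))
  by_cases hK : K = ⊥
  · subst hK; infer_instance
  obtain ⟨V, l, hl, hVK, hV0, hV, hn, -⟩ := exists_ea_normalized (L := K ⊔ zpowers y) hsol hK
    le_sup_left (sup_le le_normalizer (zpowers_le.2 h.1))
  haveI := Fact.mk hl
  have hKV : K ≤ N(V) := le_sup_left.trans hn
  have hyV : y ∈ N(V) := zpowers_le.1 (le_sup_right.trans hn)
  have h1 := ih _ (card_quo_lt' hVK hKV hV0) (quo V K) _ (h.quo hyV) rfl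
  have hVp := ea_isPGroup hV
  have hVc := ea_le_centralizer hV
  refine isNilpotent_of_le (fit_nilpotent K) (le_of_forall_sylowIn_le fun r _ _ => ?_)
  obtain ⟨R, hR⟩ := IsSylowIn.exists_sylowIn r K
  refine ⟨R, hR, le_fit hR.le ?_ hR.pgroup.isNilpotent⟩
  have hRV := hR.le.trans hKV
  have h3 : K ≤ N(V ⊔ R) := le_norm_of_quo hKV hRV (by
    rw [sylow_normal_of_nilpotent (sylow_quo hR hKV) h1]; nrm)
  by_cases hrl : r = l
  · subst hrl
    rwa [sup_eq_right.2 (hR.le_of_normalizer hVp hVK hKV)] at h3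
  have hcop : (Nat.card R).Coprime (Nat.card V) :=
    coprime_card_of_pgroup hVp (coprime_of_pgroup_ne hR.pgroup hrl)
  suffices h2 : R ≤ C(V) by
    refine h3.trans ((hR.hall.mono le_sup_right (sup_le hVK hR.le)).norm_le_norm
      (sup_le ((le_centralizer_iff.1 h2).trans (centralizer_le_normalizer _)) le_normalizer))
  obtain ⟨k, hk, hkR⟩ := hR.frattini h.1
  have h' : Spl p K (k * y) := h.sub le_rfl hk (mul_mem (le_normalizer hk) h.1)
  have hyV' : k * y ∈ N(V) := mul_mem (hKV hk) hyV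
  generalize k * y = y' at h' hyV' hkR
  by_cases hrp : r = p
  swap
  · exact h'.cent_of_ne hp hVK hR.le hVc hRV hcop hyV' hkR (coprime_of_pgroup_ne hR.pgroup hrp)
  subst hrp
  by_cases hC : R ⊓ C(V) = ⊥
  · by_cases hR0 : R = ⊥
    · exact hR0 ▸ bot_le
    have hP : IsPGroup r ↥(R ⊔ zpowers y') := pgroup_sup hR.pgroup (by
      refine isPGroup_of_forall_pow_eq_one ?_
      rintro _ ⟨i, rfl⟩
      show (y' ^ i) ^ r = 1
      rw [← zpow_natCast, ← zpow_mul, mul_comm, zpow_mul, zpow_natCast, h'.pow_one, one_zpow])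
      (zpowers_le.2 hkR)
    have h5 := inf_cent_ne_bot_of_pgroup hP hR.pgroup (sup_le le_normalizer (zpowers_le.2 hkR)) hR0
    obtain ⟨z, hz, ho⟩ := exists_orderOf_eq_prime hp (H := R ⊓ C(R ⊔ zpowers y'))
      ((hR.pgroup.to_le inf_le_left).card_eq_or_dvd.resolve_left fun e => h5 (card_eq_one.1 e))
    have hz1 : z ≠ 1 := fun e => hp.one_lt.ne (by rw [← ho, e, orderOf_one])
    have := h'.cent_of_central hp hVK (hR.le hz.1) hVc (hRV hz.1) ho
      (coprime_of_pgroup_ne hVp (Ne.symm hrl)).symm hyV'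
      ((mem_centralizer_iff.1 hz.2) y' (mem_sup_right (mem_zpowers _))).symm
    have : z ∈ R ⊓ C(V) := mem_inf.2 ⟨hz.1, this⟩
    rw [hC, mem_bot] at this
    exact absurd this hz1
  · have hVR : V ⊔ R ≤ K := sup_le hVK hR.le
    have n1 : R ≤ N(R ⊓ C(V)) := le_normalizer_inf le_normalizer
      (hRV.trans (normalizer_le_normalizer_centralizer V))
    have n2 : V ≤ N(R ⊓ C(V)) := (le_centralizer_iff.1 inf_le_right).trans (centralizer_le_normalizer _)
    have n3 : y' ∈ N(R ⊓ C(V)) := zpowers_le.1 (le_normalizer_inf (zpowers_le.2 hkR)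
      (zpowers_le.2 (normalizer_le_normalizer_centralizer V hyV')))
    have s1 : Spl r (V ⊔ R) y' := ⟨zpowers_le.1 (le_normalizer_sup (zpowers_le.2 hyV') (zpowers_le.2 hkR)),
      fun a ha => h'.2 a (hVR ha)⟩
    have h6 := ih _ ((card_quo_lt' (inf_le_left.trans le_sup_right) (sup_le n2 n1) hC).trans_le
      (card_le_of_le hVR)) _ _ (s1.quo n3) rfl
    refine cent_of_quo n1 n2 (comm_le_right hRV) ?_ (commute_of_nilpotent h6 (quo_mono le_sup_right)
      (quo_mono le_sup_left) (coprime_quo hcop _))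
    exact le_bot_iff.1 ((inf_le_inf_left _ inf_le_left).trans (inf_eq_bot_of_coprime' hcop.symm).le)

end CfsgH2
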