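import Mathlib

set_option autoImplicit false

/-! Kreknin's and Kreknin–Kostrikin's theorems for graded families in a Lie ring. -/
namespace CfsgH2.Kre

variable {M : Type*} [LieRing M] {p : ℕ}

/-- product of two graded families -/
def br (A B : ZMod p → AddSubgroup M) : ZMod p → AddSubgroup M := fun k =>
  AddSubgroup.closure {x | ∃ i j, i + j = k ∧ ∃ a ∈ A i, ∃ b ∈ B j, ⁅a, b⁆ = x}

variable {A B C D : ZMod p → AddSubgroup M}

theorem lie_mem_br {i j : ZMod p} {a b : M} (ha : a ∈ A i) (hb : b ∈ B j) : ⁅a, b⁆ ∈ br A B (i + j) :=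
  AddSubgroup.subset_closure ⟨i, j, rfl, a, ha, b, hb, rfl⟩

theorem br_le (h : ∀ i j, ∀ a ∈ A i, ∀ b ∈ B j, ⁅a, b⁆ ∈ C (i + j)) : br A B ≤ C := fun k => by
  refine (AddSubgroup.closure_le _).2 ?_
  rintro _ ⟨i, j, rfl, a, ha, b, hb, rfl⟩
  exact h i j a ha b hb

theorem mem_of_br_le (h : br A B ≤ C) {i j : ZMod p} {a b : M} (ha : a ∈ A i) (hb : b ∈ B j) :
    ⁅a, b⁆ ∈ C (i + j) := h _ (lie_mem_br ha hb)

theorem br_mono (h1 : A ≤ C) (h2 : B ≤ D) : br A B ≤ br C D :=
  br_le fun i j _ ha _ hb => lie_mem_br (h1 i ha) (h2 j hb)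

/-- residual family -/
def res (A D : ZMod p → AddSubgroup M) : ZMod p → AddSubgroup M := fun i =>
  { carrier := {c | ∀ j, ∀ a ∈ A j, ⁅c, a⁆ ∈ D (i + j)}
    add_mem' := fun h1 h2 j a ha => by rw [add_lie]; exact add_mem (h1 j a ha) (h2 j a ha)
    zero_mem' := fun j a ha => by rw [zero_lie]; exact zero_mem _
    neg_mem' := fun h1 j a ha => by rw [neg_lie]; exact neg_mem (h1 j a ha) }

theorem br_le_iff_res : br C A ≤ D ↔ C ≤ res A D :=
  ⟨fun h _ _ hc _ _ ha => mem_of_br_le h hc ha, fun h => br_le fun i j _ hc a ha => h i hc j a ha⟩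

theorem br_br_le {E : ZMod p → AddSubgroup M} (h : ∀ i j k, ∀ a ∈ A i, ∀ b ∈ B j, ∀ c ∈ C k,
    ⁅⁅a, b⁆, c⁆ ∈ E (i + j + k)) : br (br A B) C ≤ E :=
  br_le_iff_res.2 (br_le fun i j a ha b hb k c hc => h i j k a ha b hb c hc)

/-- the subring generated by the components with index in `S` -/
inductive Gen (A : ZMod p → AddSubgroup M) (S : Set (ZMod p)) : ZMod p → M → Prop
  | of (i a) : i ∈ S → a ∈ A i → Gen A S i a
  | zero (i) : Gen A S i 0
  | add (i a b) : Gen A S i a → Gen A S i b → Gen A S i (a + b)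
  | neg (i a) : Gen A S i a → Gen A S i (-a)
  | lie (i j a b) : Gen A S i a → Gen A S j b → Gen A S (i + j) ⁅a, b⁆

def gen (A : ZMod p → AddSubgroup M) (S : Set (ZMod p)) : ZMod p → AddSubgroup M := fun i =>
  { carrier := {c | Gen A S i c}
    add_mem' := fun h1 h2 => Gen.add _ _ _ h1 h2
    zero_mem' := Gen.zero _
    neg_mem' := fun h => Gen.neg _ _ h }

theorem gen_le {S : Set (ZMod p)} (hC : br C C ≤ C) (h : ∀ i ∈ S, A i ≤ C i) : gen A S ≤ C := by
  intro i c hc
  change Gen A S i c at hc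
  induction hc with
  | of i a hi ha => exact h i hi ha
  | zero i => exact zero_mem _
  | add i a b _ _ h1 h2 => exact add_mem h1 h2
  | neg i a _ h1 => exact neg_mem h1
  | lie i j a b _ _ h1 h2 => exact mem_of_br_le hC h1 h2

theorem gen_closed (S : Set (ZMod p)) : br (gen A S) (gen A S) ≤ gen A S :=
  br_le fun _ _ _ ha _ hb => Gen.lie _ _ _ _ ha hb

theorem lie_gen_mem {S : Set (ZMod p)} (hA : br A A ≤ A) (W : ZMod p → AddSubgroup M)
    (hW : ∀ i, ∀ j ∈ S, ∀ a ∈ A i, ∀ b ∈ A j, ⁅a, b⁆ ∈ W (i + j)) {v : ZMod p} {b : M}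
    (hb : Gen A S v b) : ∀ u, ∀ a ∈ A u, ⁅a, b⁆ ∈ W (u + v) := by
  induction hb with
  | of i b hi hb => exact fun u a ha => hW u i hi a ha b hb
  | zero i => intro u a _; rw [lie_zero]; exact zero_mem _
  | add i b c _ _ h1 h2 => intro u a ha; rw [lie_add]; exact add_mem (h1 u a ha) (h2 u a ha)
  | neg i b _ h1 => intro u a ha; rw [lie_neg]; exact neg_mem (h1 u a ha)
  | lie i j b c hb hc h1 h2 =>
    intro u a ha
    have hb' : b ∈ A i := gen_le hA (fun _ _ => le_rfl) i hb
    have hc' : c ∈ A j := gen_le hA (fun _ _ => le_rfl) j hc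
    have e : ⁅a, ⁅b, c⁆⁆ = ⁅⁅a, b⁆, c⁆ - ⁅⁅a, c⁆, b⁆ := by
      rw [leibniz_lie a b c, ← lie_skew b ⁅a, c⁆, sub_eq_add_neg]
    rw [e]
    refine sub_mem ?_ ?_
    · rw [← add_assoc]; exact h2 _ _ (mem_of_br_le hA ha hb')
    · rw [add_comm i j, ← add_assoc]; exact h1 _ _ (mem_of_br_le hA ha hc')

/-- derived family -/
def der (A : ZMod p → AddSubgroup M) : ZMod p → AddSubgroup M := br A A

theorem der_iter (hA : br A A ≤ A) (n : ℕ) : der^[n] A ≤ A ∧ br (der^[n] A) (der^[n] A) ≤ der^[n] A := by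
  induction n with
  | zero => exact ⟨le_rfl, hA⟩
  | succ n ih =>
    rw [Function.iterate_succ_apply']
    exact ⟨ih.2.trans ih.1, br_mono ih.2 ih.2⟩

theorem kreknin_aux [NeZero p] (k : ℕ) : ∀ A : ZMod p → AddSubgroup M, br A A ≤ A → A 0 = ⊥ →
    der^[2 ^ k - 1] A ≤ gen A {i | k < i.val} := by
  induction k with
  | zero =>
    intro A hA h0 i a ha
    by_cases hi : i = 0
    · subst hi
      have : a ∈ A 0 := ha
      rw [h0, AddSubgroup.mem_bot] at this
      exact this ▸ zero_mem _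
    · exact Gen.of _ _ (ZMod.val_pos.2 hi) ha
  | succ k ih =>
    intro A hA h0
    have e : 2 ^ (k + 1) - 1 = (2 ^ k - 1) + (1 + (2 ^ k - 1)) := by
      have := Nat.one_le_two_pow (n := k); rw [pow_succ]; omega
    rw [e, Function.iterate_add_apply]
    obtain ⟨h1, h2⟩ := der_iter hA (1 + (2 ^ k - 1))
    refine (ih _ h2 (le_bot_iff.1 (h0 ▸ h1 0))).trans (gen_le (gen_closed _) fun i hi => ?_)
    by_cases hik : k + 1 < i.val
    · exact fun a ha => Gen.of _ _ hik (h1 i ha)
    have hi' : i.val = k + 1 := by have : k < i.val := hi; omega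
    rw [Function.iterate_add_apply, Function.iterate_one]
    let W : ZMod p → AddSubgroup M := fun j => if j = i then gen A {i | k + 1 < i.val} i else ⊤
    have : der (der^[2 ^ k - 1] A) ≤ W := by
      refine br_le fun u v a ha b hb => ?_
      refine lie_gen_mem hA W ?_ (ih A hA h0 v hb) u a ((der_iter hA _).1 u ha)
      intro w j hj y hy x hx
      by_cases hw : w + j = i
      swap
      · simp [W, hw]
      simp only [W, hw, if_true]
      have hj : k < j.val := hj
      by_cases hj' : j.val = k + 1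
      · have : j = i := ZMod.val_injective p (hj'.trans hi'.symm)
        have : w = 0 := by rw [this] at hw; simpa using hw
        rw [this, h0, AddSubgroup.mem_bot] at hy
        rw [hy, zero_lie]; exact zero_mem _
      · have h3 := ZMod.val_add w j
        rw [hw, hi'] at h3
        have h4 := ZMod.val_lt w
        have h5 := ZMod.val_lt j
        have h6 : k + 1 < w.val := by
          by_cases h7 : w.val + j.val < p
          · rw [Nat.mod_eq_of_lt h7] at h3; omega
          · rw [Nat.mod_eq_sub_mod (by omega), Nat.mod_eq_of_lt (by omega)] at h3; omega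
        rw [← hw]
        exact Gen.lie _ _ _ _ (Gen.of _ _ h6 hy) (Gen.of _ _ (show k + 1 < j.val by omega) hx)
    simpa [W] using this i

/-- Kreknin's theorem -/
theorem kreknin [NeZero p] (hA : br A A ≤ A) (h0 : A 0 = ⊥) : der^[2 ^ (p - 1) - 1] A = ⊥ := by
  refine le_bot_iff.1 ((kreknin_aux _ A hA h0).trans (gen_le (br_le fun i j a ha b hb => ?_) fun i hi => ?_))
  · have : a = 0 := ha
    simp [this]
  · have : p - 1 < i.val := hi
    have := ZMod.val_lt i
    omega

/-- lower central series of a family -/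
def lcs (A : ZMod p → AddSubgroup M) : ℕ → ZMod p → AddSubgroup M
  | 0 => A
  | n + 1 => br (lcs A n) A

theorem lcs_le (hA : br A A ≤ A) (n : ℕ) : lcs A n ≤ A := by
  induction n with
  | zero => exact le_rfl
  | succ n ih => exact (br_mono ih le_rfl).trans hA

theorem lcs_ideal (hB : br B A ≤ B) (n : ℕ) : br (lcs B n) A ≤ lcs B n := by
  induction n with
  | zero => exact hB
  | succ n ih =>
    refine br_br_le fun i j k c hc b hb a ha => ?_
    have e : ⁅⁅c, b⁆, a⁆ = ⁅⁅c, a⁆, b⁆ + ⁅c, ⁅b, a⁆⁆ := by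
      rw [lie_lie c b a, ← lie_skew ⁅c, a⁆ b]
      abel
    rw [e]
    refine add_mem ?_ ?_
    · rw [add_right_comm]; exact lie_mem_br (mem_of_br_le ih hc ha) hb
    · rw [add_assoc]; exact lie_mem_br hc (mem_of_br_le hB hb ha)

/-- right-normed action of a list -/
def act (c : M) : List (ZMod p × M) → M
  | [] => c
  | x :: l => act ⁅c, x.2⁆ l

theorem act_sub (l : List (ZMod p × M)) : ∀ c d : M, act (c - d) l = act c l - act d l := by
  induction l with
  | nil => intros; rfl
  | cons x l ih => intro c d; simp only [act, sub_lie, ih]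

theorem act_zero (l : List (ZMod p × M)) : act (0 : M) l = 0 := by
  simpa using act_sub l 0 0

theorem act_append (l l' : List (ZMod p × M)) : ∀ c : M, act c (l ++ l') = act (act c l) l' := by
  induction l with
  | nil => intros; rfl
  | cons x l ih => intro c; simp only [List.cons_append, act, ih]

theorem act_mem (hC : br C A ≤ C) (l : List (ZMod p × M)) (hl : ∀ x ∈ l, x.2 ∈ A x.1) :
    ∀ b, ∀ c ∈ C b, act c l ∈ C (b + (l.map Prod.fst).sum) := by
  induction l with
  | nil => intro b c hc; simpa [act] using hc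
  | cons x l ih =>
    intro b c hc
    rw [List.map_cons, List.sum_cons, ← add_assoc]
    exact ih (fun y hy => hl y (List.mem_cons_of_mem _ hy)) _ _ (mem_of_br_le hC hc (hl x List.mem_cons_self))

theorem act_perm (hC : br C A ≤ C) (hD : br D A ≤ D) (hCD : br C (br A A) ≤ D)
    {l l' : List (ZMod p × M)} (h : l.Perm l') : (∀ x ∈ l, x.2 ∈ A x.1) →
    ∀ b, ∀ c ∈ C b, act c l - act c l' ∈ D (b + (l.map Prod.fst).sum) := by
  induction h with
  | nil => intro _ b c _; simp
  | cons x _ ih =>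
    intro hl b c hc
    rw [List.map_cons, List.sum_cons, ← add_assoc]
    exact ih (fun y hy => hl y (List.mem_cons_of_mem _ hy)) _ _ (mem_of_br_le hC hc (hl x List.mem_cons_self))
  | swap x y l =>
    intro hl b c hc
    simp only [act, ← act_sub, List.map_cons, List.sum_cons]
    have e : ⁅⁅c, y.2⁆, x.2⁆ - ⁅⁅c, x.2⁆, y.2⁆ = ⁅c, ⁅y.2, x.2⁆⁆ := by
      rw [leibniz_lie c y.2 x.2, ← lie_skew y.2 ⁅c, x.2⁆, sub_eq_add_neg]
    rw [e, ← add_assoc y.1, ← add_assoc]
    exact act_mem hD l (fun z hz => hl z (by simp [hz])) _ _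
      (mem_of_br_le hCD hc (lie_mem_br (hl y (by simp)) (hl x (by simp))))
  | trans h1 _ ih1 ih2 =>
    intro hl b c hc
    have := add_mem (ih1 hl b c hc) ((h1.map Prod.fst).sum_eq ▸ ih2 (fun x hx => hl x (h1.symm.subset hx)) b c hc)
    rwa [sub_add_sub_cancel] at this

open Pointwise in
theorem subsums (hp : p.Prime) {β : Type*} (l : List (ZMod p × β)) (hl : ∀ x ∈ l, x.1 ≠ 0) :
    ∃ S : Finset (ZMod p), min p (l.length + 1) ≤ S.card ∧
      ∀ t ∈ S, ∃ l1 l2, l.Perm (l1 ++ l2) ∧ (l1.map Prod.fst).sum = t := by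
  classical
  induction l with
  | nil => exact ⟨{0}, by simp, fun t ht => ⟨[], [], by simp, by simpa using (Finset.mem_singleton.1 ht).symm⟩⟩
  | cons x l ih =>
    obtain ⟨S, h1, h2⟩ := ih fun y hy => hl y (List.mem_cons_of_mem _ hy)
    have hx := hl x List.mem_cons_self
    have hS : S.Nonempty := Finset.card_pos.1 (lt_of_lt_of_le (by have := hp.pos; omega) h1)
    refine ⟨S + {0, x.1}, ?_, ?_⟩
    · have := ZMod.cauchy_davenport hp hS (t := {0, x.1}) (by simp)
      rw [Finset.card_pair hx.symm] at this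
      rw [List.length_cons]
      omega
    · intro t ht
      obtain ⟨s, hs, u, hu, rfl⟩ := Finset.mem_add.1 ht
      obtain ⟨l1, l2, h3, rfl⟩ := h2 s hs
      rcases Finset.mem_insert.1 hu with rfl | hu
      · exact ⟨l1, x :: l2, (h3.cons x).trans List.perm_middle.symm, by simp⟩
      · rw [Finset.mem_singleton.1 hu]
        exact ⟨x :: l1, l2, h3.cons x, by simp [add_comm]⟩

theorem iter_le_of_act (m : ℕ) : ∀ C : ZMod p → AddSubgroup M,
    (∀ l : List (ZMod p × M), l.length = m → (∀ x ∈ l, x.2 ∈ A x.1) → ∀ b, ∀ c ∈ C b,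
      act c l ∈ D (b + (l.map Prod.fst).sum)) → (fun X => br X A)^[m] C ≤ D := by
  suffices H : ∀ b c, (∀ l : List (ZMod p × M), l.length = m → (∀ x ∈ l, x.2 ∈ A x.1) →
      act c l ∈ D (b + (l.map Prod.fst).sum)) → c ∈ (res A)^[m] D b by
    intro C h
    have h1 : C ≤ (res A)^[m] D := fun b c hc => H b c fun l h1 h2 => h l h1 h2 b c hc
    clear H h
    induction m generalizing C with
    | zero => exact h1
    | succ m ih =>
      rw [Function.iterate_succ_apply'] at h1
      rw [Function.iterate_succ_apply]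
      exact ih _ (br_le_iff_res.2 h1)
  induction m with
  | zero => intro b c h; simpa [act] using h [] rfl (by simp)
  | succ m ih =>
    intro b c h
    rw [Function.iterate_succ_apply']
    intro j a ha
    refine ih _ _ fun l h1 h2 => ?_
    have := h ((j, a) :: l) (by simp [h1]) (by simpa [ha] using h2)
    simpa [act, add_assoc] using this

theorem step (hp : p.Prime) (h0 : A 0 = ⊥) (hCA : C ≤ A) (hC : br C A ≤ C) (hD : br D A ≤ D)
    (hCD : br C (br A A) ≤ D) : (fun X => br X A)^[p - 1] C ≤ D := by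
  haveI := Fact.mk hp
  refine iter_le_of_act _ _ fun l h1 h2 b c hc => ?_
  obtain ⟨l1, l2, h3, h4⟩ : ∃ l1 l2, l.Perm (l1 ++ l2) ∧ act c l1 = 0 := by
    by_cases hl : ∀ x ∈ l, x.1 ≠ 0
    · obtain ⟨S, h3, h4⟩ := subsums hp l hl
      have : S = Finset.univ := Finset.eq_univ_of_card _ (le_antisymm (Finset.card_le_univ _) (by
        rw [ZMod.card]; have := hp.pos; omega))
      obtain ⟨l1, l2, h5, h6⟩ := h4 (-b) (this ▸ Finset.mem_univ _)
      refine ⟨l1, l2, h5, ?_⟩
      have := hCA _ (act_mem hC l1 (fun x hx => h2 x (h5.symm.subset (by simp [hx]))) b c hc)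
      rwa [h6, add_neg_cancel, h0, AddSubgroup.mem_bot] at this
    · push Not at hl
      obtain ⟨x, hx, hx0⟩ := hl
      classical
      refine ⟨[x], l.erase x, List.perm_cons_erase hx, ?_⟩
      have := h2 x hx
      rw [hx0, h0, AddSubgroup.mem_bot] at this
      simp [act, this]
  have := act_perm hC hD hCD h3 h2 b c hc
  rwa [act_append, h4, act_zero, sub_zero] at this

theorem lcs_add (A : ZMod p → AddSubgroup M) (n m : ℕ) : lcs A (n + m) = (fun X => br X A)^[m] (lcs A n) := by
  induction m with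
  | zero => rfl
  | succ m ih => rw [Function.iterate_succ_apply', ← ih]; rfl

theorem iter_mono (m : ℕ) (h : C ≤ D) : (fun X => br X A)^[m] C ≤ (fun X => br X A)^[m] D := by
  induction m with
  | zero => exact h
  | succ m ih => rw [Function.iterate_succ_apply', Function.iterate_succ_apply']; exact br_mono ih le_rfl

/-- Kreknin–Kostrikin -/
theorem kostrikin (hp : p.Prime) (s : ℕ) : ∀ A : ZMod p → AddSubgroup M, br A A ≤ A → A 0 = ⊥ →
    der^[s] A = ⊥ → lcs A (∑ i ∈ Finset.range s, (p - 1) ^ i) = ⊥ := by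
  induction s with
  | zero => intro A _ _ h; exact h
  | succ s ih =>
    intro A hA h0 h
    have hB : br (der A) A ≤ der A := br_mono hA le_rfl
    have hBB : br (der A) (der A) ≤ der A := br_mono hA hA
    have h1 := ih (der A) hBB (le_bot_iff.1 (h0 ▸ hA 0)) h
    have key : ∀ m, lcs A (1 + m * (p - 1)) ≤ lcs (der A) m := by
      intro m
      induction m with
      | zero => rw [zero_mul, add_zero]; exact le_rfl
      | succ m ih =>
        rw [add_mul, one_mul, ← add_assoc, lcs_add]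
        exact (iter_mono _ ih).trans (step hp h0 ((lcs_le hBB m).trans hA) (lcs_ideal hB m)
          (lcs_ideal hB (m + 1)) le_rfl)
    rw [Finset.sum_range_succ', pow_zero, add_comm]
    simp only [pow_succ, ← Finset.sum_mul]
    exact le_bot_iff.1 (h1 ▸ key _)

theorem lcs_three {A : ZMod 3 → AddSubgroup M} (hA : br A A ≤ A) (h0 : A 0 = ⊥) : lcs A 2 = ⊥ := by
  refine le_bot_iff.1 (br_br_le fun i j k a ha b hb c hc => ?_)
  have z : ∀ {i} {a}, a ∈ A i → i = 0 → a = 0 := fun ha hi => by rwa [hi, h0, AddSubgroup.mem_bot] at ha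
  have : i = 0 ∨ j = 0 ∨ k = 0 ∨ i + j = 0 ∨ i + j + k = 0 ∨ (j + k = 0 ∧ i + k = 0) :=
    (by decide : ∀ i j k : ZMod 3, i = 0 ∨ j = 0 ∨ k = 0 ∨ i + j = 0 ∨ i + j + k = 0 ∨ (j + k = 0 ∧ i + k = 0)) i j k
  change _ = 0
  rcases this with h | h | h | h | h | ⟨h, h'⟩
  · simp [z ha h]
  · simp [z hb h]
  · simp [z hc h]
  · simp [z (mem_of_br_le hA ha hb) h]
  · exact z (mem_of_br_le hA (mem_of_br_le hA ha hb) hc) h
  · simp [lie_lie, z (mem_of_br_le hA hb hc) h, z (mem_of_br_le hA ha hc) h']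

end CfsgH2.Kre
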