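import Cfsg.Agent.H2.Large
import Cfsg.Agent.H2.CharP
import Cfsg.Agent.H2.Transfer

/-! The structure of a group with a large extraspecial `2`-subgroup. -/

set_option autoImplicit false

namespace CfsgH2
open Subgroup Cfsg CfsgFT
open CfsgLead (SN)
open scoped commutatorElement

variable {G : Type*} [Group G] [Finite G]

theorem index_two_of_sylow_two {L : Subgroup G} {t : G} (ht : orderOf t = 2)
    (h : IsSylowIn 2 (zpowers t) L) :
    ∃ N : Subgroup L, N.Normal ∧ N.index = 2 ∧ ⟨t, h.le (mem_zpowers t)⟩ ∉ N := by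
  have htL : t ∈ L := h.le (mem_zpowers t)
  have h1 := IsSylowIn.of_sylow_top h.toSylow
  rw [IsSylowIn.toSylow_coe] at h1
  have ho : orderOf (⟨t, htL⟩ : L) = 2 := by rw [← ht, ← Subgroup.orderOf_coe]
  have hi : (⊥ : Subgroup L).relIndex ((zpowers t).subgroupOf L) = 2 := by
    rw [relIndex_bot_left, Nat.card_congr (subgroupOfEquivOfLe h.le).toEquiv, Nat.card_zpowers, ht]
  refine (thompson_transfer' h1 bot_le hi ho (mem_subgroupOf.2 (mem_zpowers t))).resolve_right ?_
  rintro ⟨g, hg⟩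
  rw [mem_bot, mul_inv_eq_one, mul_eq_left] at hg
  rw [hg, orderOf_one] at ho
  omega

theorem not_sylow_two_of_perfect {L : Subgroup G} (hL : ⁅L, L⁆ = L) {t : G} (ht : orderOf t = 2)
    (h : IsSylowIn 2 (zpowers t) L) : False := by
  obtain ⟨N, hN, hi, hu⟩ := index_two_of_sylow_two ht h
  apply hu
  have h2 : commutator L ≤ N := by
    rw [_root_.commutator_def, commutator_le]
    intro a _ b _
    rw [commutatorElement_def, mul_mem_iff_of_index_two hi, mul_mem_iff_of_index_two hi,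
      mul_mem_iff_of_index_two hi, inv_mem_iff, inv_mem_iff]
    tauto
  have h3 : commutator L = ⊤ := by
    apply map_injective L.subtype_injective
    rw [map_subtype_commutator, hL, ← MonoidHom.range_eq_map, range_subtype]
  rw [h3] at h2
  exact h2 trivial

theorem le_oddCore_sup {D : Subgroup G} {t : G} (ht : orderOf t = 2) (htD : t ∈ D)
    (h4 : ¬ 4 ∣ Nat.card D) : D ≤ (oddCore D).map D.subtype ⊔ zpowers t := by
  have hc := CfsgH2.card_mul_relIndex (zpowers_le_of_mem htD)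
  rw [Nat.card_zpowers, ht] at hc
  have h : IsSylowIn 2 (zpowers t) D := ⟨zpowers_le_of_mem htD,
    isPGroup_zpowers_of_orderOf (k := 1) (by rw [ht]; rfl), fun e => h4 (by omega)⟩
  obtain ⟨N, hN, hi, hu⟩ := index_two_of_sylow_two ht h
  have h1 : N ≤ oddCore D := CfsgH1.le_pPrimeCore (by
    have := N.card_mul_index
    rw [hi] at this
    exact coprime_two_iff_odd.2 (Nat.odd_iff.2 (by omega)))
  intro d hd
  by_cases e : (⟨d, hd⟩ : D) ∈ N
  · exact mem_sup_left ⟨_, h1 e, rfl⟩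
  · have h2 : (⟨d, hd⟩ : D) * ⟨t, htD⟩ ∈ N := (mul_mem_iff_of_index_two hi).2 (iff_of_false e hu)
    exact (mul_mem_cancel_right (mem_sup_right (mem_zpowers t))).1 (mem_sup_left ⟨_, h1 h2, rfl⟩)

theorem simple_of_qs {L : Subgroup G} (hL : IsQuasisimple L) (hZ : L ⊓ centralizer (L : Set G) = ⊥) :
    IsSimpleGroup L ∧ ¬ IsMulCommutative L := by
  obtain ⟨h1, h2, h3⟩ := CfsgLead.isQuasisimple_iff.1 hL
  have hc : center L = ⊥ := by
    apply map_injective L.subtype_injective
    rw [map_center_eq_inf, hZ, Subgroup.map_bot]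
  refine ⟨⟨fun N hN => ?_⟩, fun hc' => CfsgLead.qs_ne_bot hL ?_⟩
  · rcases h3 N hN with h | h
    · exact Or.inr h
    · exact Or.inl (le_bot_iff.1 (hc ▸ h))
  · rw [← hZ, inf_eq_left.2 (isMulCommutative_iff_le_centralizer.1 hc')]

namespace LX
variable {Q : Subgroup G} {z : G} (h : LX Q z)
include h

theorem mem_of_pgroup {K : Subgroup G} (hK : IsPGroup 2 K) (hn : Q ≤ normalizer (K : Set G)) (h0 : K ≠ ⊥) :
    z ∈ K := by
  have hV : IsPGroup 2 (K ⊔ Q : Subgroup G) := by
    rw [sup_comm]; exact IsPGroup.to_sup_of_normal_right' h.isPGroup hK hn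
  obtain ⟨x, hx, h1, -, h3⟩ := exists_central_of_ne_bot hV le_sup_left (sup_le le_normalizer hn) h0
  have h4 : x ∈ zpowers z := h.cent_eq ▸ centralizer_le (by exact_mod_cast le_sup_right) h3
  exact ((mem_zpowers_two h.ord).1 h4).resolve_left h1 ▸ hx

theorem mem_of_inv (hl : ∀ K : Subgroup G, Odd (Nat.card K) → Q ≤ normalizer (K : Set G) → K = ⊥)
    {K : Subgroup G} (hn : Q ≤ normalizer (K : Set G)) (h0 : K ≠ ⊥) : z ∈ K := by
  obtain ⟨S, hS, hQS⟩ := IsSylowIn.exists_le h.isPGroup (le_sup_right : Q ≤ K ⊔ Q)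
  have hn' : K ⊔ Q ≤ normalizer (K : Set G) := sup_le le_normalizer hn
  have h1 := hS.inf_of_normalizer' le_sup_left hn'
  have h2 : S ⊓ K ≠ ⊥ := fun e => h0 (hl K (by
    have := h1.eq_bot_iff.1 e
    rwa [← even_iff_two_dvd, Nat.not_even_iff_odd] at this) hn)
  exact (h.mem_of_pgroup h1.pgroup (le_normalizer_inf' (hQS.trans le_normalizer) hn) h2).2

theorem charP_of_ne (h0 : pCore 2 G ≠ ⊥) :
    z ∈ pCore 2 G ⊓ centralizer (pCore 2 G : Set G) ∧ centralizer (pCore 2 G : Set G) ≤ pCore 2 G := by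
  have hO := CfsgH1.isPGroup_pCore 2 G
  haveI : (pCore 2 G).Normal := inferInstance
  have hn : ∀ A : Subgroup G, A ≤ normalizer (pCore 2 G : Set G) := fun A => by
    rw [normalizer_eq_top]; exact le_top
  have hz : z ∈ pCore 2 G ⊓ centralizer (pCore 2 G : Set G) := by
    refine h.mem_of_pgroup (hO.to_le inf_le_left)
      (le_normalizer_inf' (hn _) (le_normalizer_centralizer' (hn _))) fun e => ?_
    obtain ⟨x, hx, h1, -, h3⟩ := exists_central_of_ne_bot hO le_rfl le_normalizer h0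
    exact h1 (mem_bot.1 (e ▸ (⟨hx, h3⟩ : x ∈ pCore 2 G ⊓ centralizer (pCore 2 G : Set G))))
  refine ⟨hz, ?_⟩
  set C := centralizer (pCore 2 G : Set G) with hC
  haveI hCn : C.Normal := inferInstance
  have hCz : C ≤ centralizer {z} := centralizer_le (Set.singleton_subset_iff.2 hz.1)
  have hCQ : C ≤ normalizer (Q : Set G) := hCz.trans h.norm
  have h1 : Q ⊓ C ≤ pCore 2 G := CfsgH1.le_pCore_of_isSubnormal
    ((SN.of_normal inf_le_right (le_normalizer_inf' hCQ le_normalizer)).isSubnormal hCn.isSubnormal)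
    (h.isPGroup.to_le inf_le_left)
  refine CfsgH1.le_pCore (isPGroup_two_of_odd fun x hx ho => ?_)
  have hA : zpowers x ≤ normalizer (Q : Set G) := zpowers_le_of_mem (hCQ hx)
  have hcop : (Nat.card (zpowers x)).Coprime (Nat.card Q) :=
    coprime_card_of_pgroup h.isPGroup (coprime_two_iff_odd.2 (by rwa [Nat.card_zpowers]))
  have h2 : ⁅Q, zpowers x⁆ ≤ pCore 2 G := le_trans (le_inf (commutator_le_left_of_normalizer hA)
    ((commutator_mono le_top (zpowers_le_of_mem hx)).trans (commutator_le_right _ _))) h1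
  have h3 : ⁅Q, zpowers x⁆ = ⊥ := by
    rw [← CfsgH1.commutator_commutator_eq hA hcop]
    exact commutator_eq_bot_of_le_centralizer (h2.trans (le_centralizer_iff.1 (zpowers_le_of_mem hx)))
  exact eq_one_of_odd_of_mem h.isPGroup
    (h.cle (le_centralizer_iff.1 (le_centralizer_of_commutator_eq_bot h3) (mem_zpowers x))) ho

end LX

/-- The semisimple case. -/
structure LS (Q : Subgroup G) (z : G) : Prop extends LX Q z where
  lg : ∀ K : Subgroup G, Odd (Nat.card K) → Q ≤ normalizer (K : Set G) → K = ⊥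
  o2 : pCore 2 G = ⊥

theorem comp_cj {L : Subgroup G} (hL : IsComponent L) (g : G) : IsComponent (cj g L) :=
  CfsgLead.isComponent_map_equiv (MulAut.conj g) hL

theorem comp_le_cent {K L : Subgroup G} (hK : IsComponent K) (hL : IsComponent L) (hne : K ≠ L) :
    K ≤ centralizer (L : Set G) :=
  le_centralizer_of_commutator_eq_bot ((CfsgLead.component_eq_or_commute hK hL).resolve_left hne)

theorem layer_le_norm_comp {L : Subgroup G} (hL : IsComponent L) : layer G ≤ normalizer (L : Set G) := by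
  rw [← CfsgLead.layerOf_top]
  exact CfsgLead.layerOf_le_normalizer (SN.top_iff.2 hL.1)

namespace LS
variable {Q : Subgroup G} {z : G} (h : LS Q z)
include h

theorem fit : fittingSubgroup G = ⊥ := by
  refine CfsgH1.fitting_eq_bot_iff.2 fun p hp => ?_
  by_cases e : p = 2
  · rw [e, h.o2]
  haveI := Fact.mk hp
  refine h.lg _ ?_ (by rw [normalizer_eq_top]; exact le_top)
  obtain ⟨k, hk⟩ := (CfsgH1.isPGroup_pCore p G).exists_card_eq
  rw [hk]
  exact (hp.odd_of_ne_two e).pow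

theorem fstar : generalizedFittingSubgroup G = layer G := by
  rw [generalizedFittingSubgroup, h.fit, sup_bot_eq]

theorem inf_cent_bot {L : Subgroup G} (hL : L.IsSubnormal) : L ⊓ centralizer (L : Set G) = ⊥ := by
  rw [eq_bot_iff, ← h.fit]
  haveI : IsMulCommutative (L ⊓ centralizer (L : Set G) : Subgroup G) :=
    isMulCommutative_of_forall fun a ha b hb => hb.2 a ha.1
  exact CfsgH1.le_fitting_of_isSubnormal ((SN.of_normal inf_le_left (le_normalizer_inf' le_normalizer
    (normalizer_le_normalizer_centralizer _ |>.trans' le_normalizer))).isSubnormal hL)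
    CfsgH1.isNilpotent_of_isMulCommutative

theorem cent_layer : centralizer (layer G : Set G) = ⊥ := by
  have h1 := CfsgLead.centralizer_genFitting_le G
  rw [h.fstar] at h1
  rw [← h.inf_cent_bot (CfsgLead.layer_normal G).isSubnormal, inf_eq_right.2 h1]

theorem not_all : ¬ ∀ K : Subgroup G, IsComponent K → z ∈ centralizer (K : Set G) := fun hz => by
  have h1 : layer G ≤ centralizer (zpowers z : Set G) := CfsgLead.layer_le_iff.2 fun K hK =>
    le_centralizer_iff.1 (zpowers_le_of_mem (hz K hK))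
  have h2 := le_centralizer_iff.1 h1 (mem_zpowers z)
  rw [h.cent_layer, mem_bot] at h2
  exact h.z_ne_one h2

theorem mem_orbit {L : Subgroup G} (hL : IsComponent L) : z ∈ ⨆ q : Q, cj (q : G) L := by
  refine h.toLX.mem_of_inv h.lg (fun q hq => mem_normalizer_of_cj_le ?_) fun e => ?_
  · rw [← cj_def, Subgroup.map_iSup]
    refine iSup_le fun r => ?_
    rw [cj_def, cj_cj]
    exact le_iSup (fun q : Q => cj (q : G) L) ⟨q * r, mul_mem hq r.2⟩
  · have := le_iSup (fun q : Q => cj (q : G) L) 1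
    rw [e, OneMemClass.coe_one, cj_one, le_bot_iff] at this
    exact CfsgLead.qs_ne_bot hL.2 this

theorem mem_layer {L : Subgroup G} (hL : IsComponent L) : z ∈ layer G :=
  (iSup_le fun q => CfsgLead.le_layer (comp_cj hL _) : (⨆ q : Q, cj (q : G) L) ≤ layer G) (h.mem_orbit hL)

theorem cent_of_not {L K : Subgroup G} (hL : IsComponent L) (hK : IsComponent K)
    (hn : ∀ q ∈ Q, cj q L ≠ K) : z ∈ centralizer (K : Set G) :=
  (iSup_le fun q => comp_le_cent (comp_cj hL _) hK (hn q q.2) :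
    (⨆ q : Q, cj (q : G) L) ≤ centralizer (K : Set G)) (h.mem_orbit hL)

theorem trans {L K : Subgroup G} (hL : IsComponent L) (hK : IsComponent K) : ∃ q ∈ Q, cj q L = K := by
  by_contra hn
  push Not at hn
  refine h.not_all fun X hX => ?_
  by_cases e : ∃ q ∈ Q, cj q L = X
  · obtain ⟨q, hq, rfl⟩ := e
    refine h.cent_of_not hK hX fun r hr e => hn (r⁻¹ * q) (mul_mem (inv_mem hr) hq) ?_
    rw [← cj_cj, ← e, cj_inv_cj]
  · push Not at e
    exact h.cent_of_not hL hX e

theorem not_cent {L : Subgroup G} (hL : IsComponent L) : z ∉ centralizer (L : Set G) := fun hz =>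
  h.not_all fun K hK => by
    obtain ⟨q, hq, rfl⟩ := h.trans hL hK
    rw [← cj_centralizer]
    have := conj_mem_cj q hz
    rwa [(h.cent q hq).symm.eq, mul_inv_cancel_right] at this

theorem exists_comp : ∃ L : Subgroup G, IsComponent L := by
  by_contra hn
  exact h.not_all fun K hK => (hn ⟨K, hK⟩).elim

theorem ncl_eq : normalClosure ({z} : Set G) = layer G := by
  obtain ⟨L, hL⟩ := h.exists_comp
  haveI := CfsgLead.layer_normal G
  refine le_antisymm (normalClosure_le_normal (Set.singleton_subset_iff.2 (h.mem_layer hL)))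
    (CfsgLead.layer_le_iff.2 fun K hK => ?_)
  refine (CfsgLead.component_le_or_commute hK normalClosure_normal.isSubnormal).resolve_right fun e => ?_
  exact h.not_cent hK (le_centralizer_iff.1 (le_centralizer_of_commutator_eq_bot e)
    (subset_normalClosure rfl))

theorem uniq {L : Subgroup G} (hL : IsComponent L) {a b c d : G} (ha : a ∈ L) (hb : b ∈ L)
    (hc : c ∈ centralizer (L : Set G)) (hd : d ∈ centralizer (L : Set G)) (e : a * c = b * d) : a = b := by
  have h1 : b⁻¹ * a = d * c⁻¹ := by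
    rw [inv_mul_eq_iff_eq_mul, ← mul_assoc, ← e, mul_inv_cancel_right]
  have h2 : b⁻¹ * a ∈ L ⊓ centralizer (L : Set G) :=
    mem_inf.2 ⟨mul_mem (inv_mem hb) ha, by rw [h1]; exact mul_mem hd (inv_mem hc)⟩
  rw [h.inf_cent_bot hL.1, mem_bot, inv_mul_eq_one] at h2
  exact h2.symm

theorem decomp {L : Subgroup G} (hL : IsComponent L) :
    ∃ z₁ ∈ L, ∃ c ∈ centralizer (L : Set G), z₁ * c = z := by
  have h1 : layer G ≤ L ⊔ centralizer (L : Set G) := CfsgLead.layer_le_iff.2 fun K hK => by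
    by_cases e : K = L
    · exact e ▸ le_sup_left
    · exact (comp_le_cent hK hL e).trans le_sup_right
  exact (mem_sup_of_normalizer' (le_normalizer_centralizer' le_normalizer)).1 (h1 (h.mem_layer hL))

section two
variable {L : Subgroup G} (hL : IsComponent L) {z₁ c u : G} (h1 : z₁ ∈ L)
  (hc : c ∈ centralizer (L : Set G)) (e : z₁ * c = z) (hu : u ∈ Q) (hne : cj u L ≠ L)
include hL h1 hc e

theorem proj {a d : G} (ha : a ∈ L) (hd : d ∈ centralizer (L : Set G)) (hm : a * d ∈ zpowers z) :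
    a = 1 ∨ a = z₁ := by
  rcases (mem_zpowers_two h.ord).1 hm with e' | e'
  · exact Or.inl (h.uniq hL ha (one_mem _) hd (one_mem _) (by rw [e', mul_one]))
  · exact Or.inr (h.uniq hL ha h1 hd hc (by rw [e', e]))

theorem ord₁ : orderOf z₁ = 2 := by
  refine orderOf_eq_prime ?_ fun e' => h.not_cent hL (by rw [← e, e', one_mul]; exact hc)
  refine h.uniq hL (pow_mem h1 2) (one_mem _) (pow_mem hc 2) (one_mem _) ?_
  rw [← Commute.mul_pow (hc z₁ h1), e, h.z_pow, mul_one]

omit [Finite G] h hL h1 in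
theorem comm_iff {x : G} (hx : x ∈ L) : Commute x z ↔ Commute x z₁ := by
  have h2 : Commute x c := hc x hx
  refine ⟨fun h3 => ?_, fun h3 => e ▸ h3.mul_right h2⟩
  have := h3.mul_right h2.inv_right
  rwa [← e, mul_inv_cancel_right] at this

include hu hne

theorem sq_mem {x : G} (hx : x ∈ L) (hxz : Commute x z) : x ^ 2 ∈ zpowers z₁ := by
  have hy : u * x⁻¹ * u⁻¹ ∈ centralizer (L : Set G) :=
    comp_le_cent (comp_cj hL u) hL hne (conj_mem_cj u (inv_mem hx))
  have hw : x * (u * x⁻¹ * u⁻¹) ∈ Q := by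
    have := mul_mem (h.toLX.conj_mem' hxz hu) (inv_mem hu)
    simpa only [mul_assoc] using this
  have h2 := h.pow _ hw
  rw [Commute.mul_pow (hy x hx)] at h2
  rcases h.proj hL h1 hc e (pow_mem hx 2) (pow_mem hy 2) h2 with e' | e' <;> rw [e']
  exacts [one_mem _, mem_zpowers _]

theorem syl : IsSylowIn 2 (L ⊓ centralizer {z}) L := by
  obtain ⟨T, hT, -, hTz⟩ := h.toLX.exists_sylow (le_top : Q ≤ ⊤)
  haveI := CfsgLead.layer_normal G
  have h2 := (hT.inf_of_normalizer' (le_top : layer G ≤ ⊤) (by rw [normalizer_eq_top])).inf_of_normalizer'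
    (CfsgLead.le_layer hL) (layer_le_norm_comp hL)
  have h3 : IsPGroup 2 (L ⊓ centralizer {z} : Subgroup G) := fun x => ⟨2, Subtype.ext (by
    have h4 := h.sq_mem hL h1 hc e hu hne x.2.1 (mem_centralizer_singleton_iff'.1 x.2.2)
    have h5 := orderOf_dvd_iff_pow_eq_one.1 ((orderOf_dvd_of_mem_zpowers h4).trans
      (h.ord₁ hL h1 hc e).dvd)
    rw [← pow_mul] at h5
    exact h5)⟩
  rw [h2.eq_of_le h3 (le_inf inf_le_right (inf_le_left.trans (inf_le_left.trans hTz))) inf_le_left]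
  exact h2

theorem exists_big : ∃ x ∈ L, Commute x z ∧ x ≠ 1 ∧ x ≠ z₁ := by
  by_contra hn
  push Not at hn
  have ho := h.ord₁ hL h1 hc e
  refine not_sylow_two_of_perfect (CfsgLead.qs_perfect hL.2) ho ?_
  have h2 : L ⊓ centralizer {z} = zpowers z₁ := by
    refine le_antisymm (fun x hx => (mem_zpowers_two ho).2 ?_) (zpowers_le_of_mem ⟨h1,
      mem_centralizer_singleton_iff'.2 ((comm_iff hc e h1).2 (Commute.refl _))⟩)
    exact (em _).imp_right (hn x hx.1 (mem_centralizer_singleton_iff'.1 hx.2))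
  exact h2 ▸ h.syl hL h1 hc e hu hne

theorem comp_cases {K : Subgroup G} (hK : IsComponent K) : K = L ∨ K = cj u L := by
  by_contra hn
  push Not at hn
  obtain ⟨v, hv, rfl⟩ := h.trans hL hK
  obtain ⟨x, hx, hxz, n1, n2⟩ := h.exists_big hL h1 hc e hu hne
  have hy' : u * x⁻¹ * u⁻¹ ∈ cj u L := conj_mem_cj u (inv_mem hx)
  have hy : u * x⁻¹ * u⁻¹ ∈ centralizer (L : Set G) := comp_le_cent (comp_cj hL u) hL hne hy'
  have hw : x * (u * x⁻¹ * u⁻¹) ∈ Q := by
    have := mul_mem (h.toLX.conj_mem' hxz hu) (inv_mem hu)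
    simpa only [mul_assoc] using this
  have hw2 : x * (u * x⁻¹ * u⁻¹) ∈ centralizer (cj v L : Set G) :=
    mul_mem (comp_le_cent hL hK hn.1.symm hx) (comp_le_cent (comp_cj hL u) hK hn.2.symm hy')
  rw [← cj_centralizer, mem_cj] at hw2
  have h2 := h.comm _ hw _ (inv_mem hv)
  have h3 : x * (u * x⁻¹ * u⁻¹ * (v⁻¹ * (x * (u * x⁻¹ * u⁻¹)) * v)⁻¹) ∈ zpowers z := by
    convert h2 using 1; group
  rcases h.proj hL h1 hc e hx (mul_mem hy (inv_mem hw2)) h3 with e' | e'
  exacts [n1 e', n2 e']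

theorem layer_eq : L ⊔ cj u L = layer G :=
  le_antisymm (sup_le (CfsgLead.le_layer hL) (CfsgLead.le_layer (comp_cj hL u)))
    (CfsgLead.layer_le_iff.2 fun K hK => by
      rcases h.comp_cases hL h1 hc e hu hne hK with e' | e' <;> rw [e']
      exacts [le_sup_left, le_sup_right])

theorem z_eq : z = z₁ * (u * z₁ * u⁻¹) := by
  have hL2 := comp_le_cent (comp_cj hL u) hL hne
  have h2 := h.mem_layer hL
  rw [← h.layer_eq hL h1 hc e hu hne, mem_sup_of_normalizer' ((CfsgLead.le_layer hL).trans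
    (layer_le_norm_comp (comp_cj hL u)))] at h2
  obtain ⟨a, ha, b, hb, hab⟩ := h2
  obtain rfl : a = z₁ := h.uniq hL ha h1 (hL2 hb) hc (by rw [hab, e])
  have h3 : u * b * u⁻¹ ∈ L := by
    have := conj_mem_cj u hb
    rwa [cj_cj, cj_eq_iff_mem_normalizer.2 (layer_le_norm_comp hL (zpowers_le_of_mem (h.mem_layer hL)
      (by simpa only [sq] using h.pow u hu)))] at this
  have h4 : u * a * u⁻¹ ∈ centralizer (L : Set G) := hL2 (conj_mem_cj u ha)
  have h5 : u * b * u⁻¹ * (u * a * u⁻¹) = z := by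
    rw [h4 _ h3, show u * a * u⁻¹ * (u * b * u⁻¹) = u * (a * b) * u⁻¹ by group, hab,
      (h.cent u hu).symm.eq, mul_inv_cancel_right]
  have h6 := h.uniq hL h3 ha h4 (hL2 hb) (by rw [h5, hab])
  rw [h6] at h5
  exact h5.symm

theorem ne_o2c : Q ≠ o2c z := fun hQ => by
  obtain ⟨x, hx, hxz, n1, n2⟩ := h.exists_big hL h1 hc e hu hne
  have h2 : L ⊓ centralizer {z} ≤ o2c z := by
    have := le_Op_of_sn (p := 2) ((SN.top_iff.2 hL.1).inf_left (le_top : centralizer {z} ≤ ⊤))
      (h.syl hL h1 hc e hu hne).pgroup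
    exact this
  have h3 : x ∈ Q := hQ ▸ h2 ⟨hx, mem_centralizer_singleton_iff'.2 hxz⟩
  have hy : u * x⁻¹ * u⁻¹ ∈ centralizer (L : Set G) :=
    comp_le_cent (comp_cj hL u) hL hne (conj_mem_cj u (inv_mem hx))
  rcases h.proj hL h1 hc e hx hy (by simpa only [mul_assoc] using h.comm x h3 u hu) with e' | e'
  exacts [n1 e', n2 e']

end two

end LS

/-- If `Q = O₂(C(z))` is large and `⟨z^G⟩` contains `C(z)`, then `G` is simple. -/
theorem LX.simple_of {Q : Subgroup G} {z : G} (h : LX Q z) (hl : IsLargeExtraspecial Q) (hQ : Q = o2c z)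
    (hM : centralizer {z} ≤ normalClosure ({z} : Set G)) : IsSimpleGroup G := by
  have hQM := h.le_cent.trans hM
  by_cases h0 : pCore 2 G = ⊥
  · have hs : LS Q z := ⟨h, hl.2.2.2, h0⟩
    obtain ⟨L, hL⟩ := hs.exists_comp
    have h1 : ∀ u ∈ Q, CfsgH2.cj u L = L := fun u hu => by
      by_contra hne
      obtain ⟨z₁, h1, c, hc, e⟩ := hs.decomp hL
      exact hs.ne_o2c hL h1 hc e hu hne hQ
    have h2 : layer G = L := le_antisymm (CfsgLead.layer_le_iff.2 fun K hK => by
      obtain ⟨q, hq, rfl⟩ := hs.trans hL hK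
      exact (h1 q hq).le) (CfsgLead.le_layer hL)
    have h3 : L = ⊤ := by
      rw [hs.ncl_eq, h2] at hM hQM
      haveI : L.Normal := h2 ▸ CfsgLead.layer_normal G
      obtain ⟨T, h4, h5, h6⟩ := h.exists_sylow hQM
      refine eq_top_iff.2 fun g _ => ?_
      obtain ⟨n, hn, h7⟩ := h4.frattini (g := g) (by rw [normalizer_eq_top]; trivial)
      exact (mul_mem_cancel_left hn).1 (hM (h.normalizer_le h5 h6 h7))
    haveI := (simple_of_qs hL.2 (hs.inf_cent_bot hL.1)).1
    subst h3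
    exact topEquiv.symm.isSimpleGroup
  · have h1 : normalClosure ({z} : Set G) ≤ pCore 2 G ⊓ centralizer (pCore 2 G : Set G) :=
      normalClosure_le_normal (Set.singleton_subset_iff.2 (h.charP_of_ne h0).1)
    exact (h.not_comm h.ne (isMulCommutative_of_forall fun a ha b hb =>
      (h1 (hQM hb)).2 a (h1 (hQM ha)).1)).elim

theorem eq_o2c_of_fstar {z : G} (h : IsPGroup 2 (CfsgLead.fstarOf (centralizer ({z} : Set G)))) :
    CfsgLead.fstarOf (centralizer ({z} : Set G)) = o2c z := by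
  refine le_antisymm (le_o2c (CfsgLead.fstarOf_le _)
    (le_normalizer.trans (CfsgLead.normalizer_le_normalizer_fstarOf _)) h) ?_
  rw [CfsgLead.fstarOf_eq]
  exact le_trans (map_mono (CfsgH1.pCore_le_fitting 2)) le_sup_right

/-- Two central involutions that move each other are conjugate. -/
theorem conj_of_move {z s x y : G} (hs : s * s = 1) (hzs : Commute z s) (h1 : x * s * x⁻¹ = s * z)
    (h2 : y * z * y⁻¹ = z * s) : y⁻¹ * x * s * (y⁻¹ * x)⁻¹ = z := by
  rw [show y⁻¹ * x * s * (y⁻¹ * x)⁻¹ = y⁻¹ * (x * s * x⁻¹) * y by group, h1, ← hzs.eq, ← h2]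
  group

theorem LX.large_of_both {Q : Subgroup G} {z g : G} (h : LX Q z) (h1 : g * z * g⁻¹ ∈ Q)
    (h2 : g⁻¹ * z * g ∈ Q) (hne : g * z * g⁻¹ ≠ z) : IsLargeExtraspecial Q :=
  Orth.large (⟨h, h.cj g, h1, mem_cj.2 h2, hne, g, rfl, rfl⟩ : Orth Q (CfsgH2.cj g Q) z (g * z * g⁻¹))

omit [Finite G] in
theorem PES.subgroupOf {P H : Subgroup G} {z : G} (h : PES 2 P z) (hz : z ∈ H) :
    PES 2 (P.subgroupOf H) ⟨z, hz⟩ := by
  have ho : orderOf (⟨z, hz⟩ : H) = 2 := by rw [← h.ord, ← Subgroup.orderOf_coe]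
  have key : ∀ x : H, (x : G) ∈ zpowers z → x ∈ zpowers (⟨z, hz⟩ : H) := fun x hx =>
    (mem_zpowers_two ho).2 (((mem_zpowers_two h.ord).1 hx).imp Subtype.ext Subtype.ext)
  exact ⟨⟨h.mem, ho, fun x hx => Subtype.ext (h.cent x hx), fun x hx y hy => key _ (h.comm x hx y hy)⟩,
    fun x hx => key _ (h.pow x hx)⟩

theorem LX.quot {Y : Type*} [Group Y] [Finite Y] (φ : G →* Y) (hφ : Function.Surjective φ)
    {P : Subgroup G} {z : G} (hP : PES 2 P z) (hz : φ z ≠ 1) (hn : ¬ IsMulCommutative P)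
    (hb : ∀ c, (∀ x ∈ P, φ (c * x * c⁻¹ * x⁻¹) = 1) → φ c ∈ zpowers (φ z))
    (hc : ∀ c, φ (c * z * c⁻¹ * z⁻¹) = 1 → ∀ x ∈ P, ∃ y ∈ P, φ y = φ (c * x * c⁻¹)) :
    LX (P.map φ) (φ z) := by
  have h1 := hP.map φ hz
  have h2 : ∀ c : Y, (∀ y ∈ P.map φ, Commute c y) → c ∈ zpowers (φ z) := fun c h => by
    obtain ⟨c, rfl⟩ := hφ c
    refine hb c fun x hx => ?_
    simpa only [map_mul, map_inv] using comm_eq_one_of_commute (h _ ⟨x, hx, rfl⟩)
  refine ⟨⟨h1, fun c _ h => h2 c h⟩, fun e => ?_, fun c h => h1.zle (h2 c (mem_centralizer_iff'.1 h)),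
    fun c h => ?_⟩
  · obtain ⟨x, hx, y, hy, hxy⟩ := hP.exists_pair hn
    apply hz
    have h3 : φ x ∈ zpowers (φ z) := e ▸ ⟨x, hx, rfl⟩
    rw [← hxy]
    simpa only [map_mul, map_inv] using comm_eq_one_of_commute (h1.zcomm h3 ⟨y, hy, rfl⟩)
  · obtain ⟨c, rfl⟩ := hφ c
    refine mem_normalizer_of_conj_mem ?_
    rintro _ ⟨x, hx, rfl⟩
    obtain ⟨y, hy, e⟩ := hc c (by
      simpa only [map_mul, map_inv] using comm_eq_one_of_commute (mem_centralizer_singleton_iff'.1 h)) x hx
    exact ⟨y, hy, by simpa only [map_mul, map_inv] using e⟩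

theorem LX.es_cent {Q A : Subgroup G} {z : G} (h : LX Q z) (hAz : A ≤ centralizer {z})
    (hAodd : Odd (Nat.card A)) : ES 2 (Q ⊓ centralizer (A : Set G)) z := by
  have hA := hAz.trans h.norm
  have hcop : (Nat.card A).Coprime (Nat.card Q) :=
    coprime_card_of_pgroup h.isPGroup (coprime_two_iff_odd.2 hAodd)
  have hs : Group.IsSolvable A ∨ Group.IsSolvable Q := Or.inr (by
    haveI := h.isPGroup.isNilpotent; infer_instance)
  rw [← centralizer_zpowers'] at hAz
  have h2 : ⁅⁅Q, A⁆, Q ⊓ centralizer (A : Set G)⁆ = ⊥ := by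
    refine three_subgroups_bot ?_ ?_
    · rw [commutator_eq_bot_of_le_centralizer (le_centralizer_iff.1 inf_le_right), commutator_bot_left]
    · refine commutator_eq_bot_of_le_centralizer (le_trans ?_ (le_centralizer_iff.1 hAz))
      exact (commutator_mono inf_le_left le_rfl).trans h.commutator_le
  have h6 : z ∈ Q ⊓ centralizer (A : Set G) := ⟨h.mem, le_centralizer_iff.1 hAz (mem_zpowers z)⟩
  refine ⟨h.toPES.mono h6 inf_le_left, fun x hx a => h.nondeg x hx.1 fun y hy => ?_⟩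
  obtain ⟨n, hn, c, hc, rfl⟩ := CfsgH1.exists_commutator_mul_centralizer hA hcop hs hy
  exact ((commute_of_commutator_eq_bot h2 hn hx).symm).mul_right (a c hc)

theorem LX.not_conj_mul {Q : Subgroup G} {z t : G} (h : LX Q z) (ht : t ∈ Q) (ht1 : t ≠ 1)
    (htz : ¬ IsConj z t) : ¬ IsConj z (t * z) := fun e => by
  have h1 : t ∉ zpowers z := fun e' => ((mem_zpowers_two h.ord).1 e').elim ht1 fun e' =>
    htz (e' ▸ IsConj.refl _)
  obtain ⟨q, -, hq⟩ := h.exists_conj ht h1 (mem_zpowers z)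
  exact htz (e.trans (isConj_iff.2 ⟨q, hq⟩).symm)

theorem LX.exists_move {Q : Subgroup G} {z t s : G} (h : LX Q z) (ht : t ∈ Q) (ht2 : orderOf t = 2)
    (htz : ¬ IsConj z t) (hs : s ∈ Q) (hsz : IsConj z s) (hne : s ≠ z) :
    ∃ x ∈ Q ⊓ centralizer {t}, x * s * x⁻¹ = s * z := by
  have ht1 : t ≠ 1 := fun e => by rw [e, orderOf_one] at ht2; omega
  have h1 : s ∉ Q ⊓ centralizer ((Q ⊓ centralizer {t} : Subgroup G) : Set G) := by
    rw [h.inf_cent_elt ht, mem_sup_two h.zz (mul_self_of_orderOf_two ht2) (h.cent t ht)]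
    rintro (e | e | e | e)
    · rw [e, isConj_one_left] at hsz
      exact h.z_ne_one hsz
    · exact hne e
    · exact htz (e ▸ hsz)
    · exact h.not_conj_mul ht ht1 htz (by rw [← (h.cent t ht).eq, ← e]; exact hsz)
  by_contra hn
  push Not at hn
  refine h1 ⟨hs, mem_centralizer_iff'.2 fun x hx => ?_⟩
  by_contra hc
  exact hn x hx (h.conj_eq hx.1 hs fun e => hc e.symm)

end CfsgH2
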