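import Cfsg.Agent.H2.Large2
import Cfsg.Agent.H2.ZStar
import Cfsg.Agent.H2.Focal

/-! A Sylow `2`-subgroup `R = C(z)` with `Φ(R) = ⟨z⟩` of a simple group is dihedral of order eight. -/

set_option autoImplicit false

namespace CfsgH2
open Subgroup Cfsg CfsgFT
open scoped commutatorElement

variable {G : Type*} [Group G] [Finite G]

structure PZ (R : Subgroup G) (z : G) : Prop extends PES 2 R z where
  syl : IsSylowIn 2 R ⊤
  eq : R = centralizer {z}
  nrm : normalizer (R : Set G) ≤ R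

namespace PZ
variable {R : Subgroup G} {z : G} (h : PZ R z)
include h

omit [Finite G] in
theorem mem_iff {x : G} : x ∈ R ↔ Commute x z := by rw [h.eq, mem_centralizer_singleton_iff']

theorem conj (g : G) : PZ (cj g R) (g * z * g⁻¹) :=
  ⟨h.toPES.map (MulAut.conj g).toMonoidHom (by simpa using h.z_ne_one), by simpa [cj_top] using h.syl.cj g,
    by rw [h.eq, cj_centralizer_singleton], by rw [← cj_normalizer]; exact cj_mono g h.nrm⟩

theorem exists_k {c t : G} (hc : ∀ x ∈ R, Commute c x) (hct : IsConj c t) {U : Subgroup G}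
    (hU : IsPGroup 2 U) (hUt : U ≤ centralizer {t}) : ∃ k, k * c * k⁻¹ = t ∧ U ≤ cj k R := by
  obtain ⟨a, rfl⟩ := isConj_iff.1 hct
  have h1 : cj a R ≤ centralizer {a * c * a⁻¹} := by
    rw [← cj_centralizer_singleton]
    exact cj_mono a fun x hx => mem_centralizer_singleton_iff'.2 (hc x hx).symm
  obtain ⟨m, hm, h2⟩ := ((h.conj a).syl.mono h1 le_top).exists_cj_le hU hUt
  refine ⟨m⁻¹ * a, ?_, by rwa [← cj_cj, ← cj_le_iff_le_cj_inv]⟩
  rw [show m⁻¹ * a * c * (m⁻¹ * a)⁻¹ = m⁻¹ * (a * c * a⁻¹) * m by group, mul_assoc,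
    ← (mem_centralizer_singleton_iff'.1 hm).eq, inv_mul_cancel_left]

theorem eq_of_conj {a b : G} (ha : ∀ x ∈ R, Commute a x) (hb : ∀ x ∈ R, Commute b x) (hab : IsConj a b) :
    a = b := by
  obtain ⟨k, e, hk⟩ := h.exists_k ha hab h.isPGroup fun x hx => mem_centralizer_singleton_iff'.2 (hb x hx).symm
  have h1 := h.nrm (cj_eq_iff_mem_normalizer.1 (eq_of_le_of_card_le hk (card_cj k R).le).symm)
  rw [← e, ← (ha k h1).eq, mul_inv_cancel_right]

section key
variable {s : G} (hs : s ∈ R) (hzs : IsConj z s) (hne : s ≠ z)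
include hs hzs hne

theorem noncentral : ¬ ∀ x ∈ R, Commute s x := fun e => hne (h.eq_of_conj h.cent e hzs).symm

theorem sq_eq {x : G} (hx : x ∈ R) (hxs : Commute x s) : x * x = 1 := by
  obtain ⟨g, rfl⟩ := isConj_iff.1 hzs
  have h' := h.conj g
  rw [← sq]
  rcases h.sq_cases hx with e | e
  · exact e
  · exact (h'.sq_cases (h'.mem_iff.2 hxs)).resolve_right fun e' => hne (e'.symm.trans e)

theorem exists_q : ∃ q ∈ R, q * s * q⁻¹ = s * z := by
  by_contra hn
  push Not at hn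
  refine h.noncentral hs hzs hne fun x hx => ?_
  by_contra hc
  exact hn x hx (h.conj_eq hx hs fun e => hc e.symm)

theorem idx : (R ⊓ centralizer {s}).relIndex R = 2 := by
  rw [inf_relIndex_left]
  exact h.relIndex_cent hs (h.noncentral hs hzs hne)

theorem central_of {q x : G} (hq : q ∈ R) (hqs : ¬ Commute q s) (hx : x ∈ R) (hxs : Commute x s)
    (hxq : Commute x q) : ∀ y ∈ R, Commute x y := fun y hy => by
  have key : ∀ y ∈ R, Commute y s → Commute x y := fun y hy hys =>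
    commute_of_mul_self (h.sq_eq hs hzs hne hx hxs) (h.sq_eq hs hzs hne hy hys)
      (h.sq_eq hs hzs hne (mul_mem hx hy) (hxs.mul_left hys))
  by_cases e : Commute y s
  · exact key y hy e
  have h1 : Commute (y * q) s := by
    have h2 := h.conj_eq hy hs e
    have h3 := h.conj_eq hq hs hqs
    rw [Commute, SemiconjBy, ← mul_inv_eq_iff_eq_mul,
      show y * q * s * (y * q)⁻¹ = y * (q * s * q⁻¹) * y⁻¹ by group, h3,
      show y * (s * z) * y⁻¹ = y * s * y⁻¹ * (y * z * y⁻¹) by group, h2, ← (h.cent y hy).eq,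
      mul_inv_cancel_right, mul_assoc, h.zz, mul_one]
  have h2 := (key _ (mul_mem hy hq) h1).mul_right hxq.inv_right
  rwa [mul_inv_cancel_right] at h2

theorem key {F : Subgroup G} (hz : z ∈ F) (hsF : s ∈ F) {x : G} (hx : x ∈ R) (hxs : Commute x s) :
    ∃ c, (∀ y ∈ R, Commute c y) ∧ IsConj x c ∧ x⁻¹ * c ∈ F := by
  obtain ⟨q, hq, eq⟩ := h.exists_q hs hzs hne
  have hqs : ¬ Commute q s := fun e => h.z_ne_one (by
    rwa [e.eq, mul_inv_cancel_right, left_eq_mul] at eq)
  by_cases e : Commute x q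
  · exact ⟨x, h.central_of hs hzs hne hq hqs hx hxs e, IsConj.refl _, by simp [one_mem]⟩
  have ss := h.sq_eq hs hzs hne hs (Commute.refl s)
  have xx := h.sq_eq hs hzs hne hx hxs
  have e1 := h.conj_eq hq hx fun e' => e e'.symm
  have hw : ∀ y ∈ R, Commute (x * s) y := h.central_of hs hzs hne hq hqs (mul_mem hx hs)
    (hxs.mul_left (Commute.refl s)) (by
      rw [Commute, SemiconjBy, eq_comm, ← mul_inv_eq_iff_eq_mul,
        show q * (x * s) * q⁻¹ = q * x * q⁻¹ * (q * s * q⁻¹) by group, e1, eq, mul_assoc x, ← mul_assoc z,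
        (h.cent s hs).eq, mul_assoc s, h.zz, mul_one])
  obtain ⟨g, rfl⟩ := isConj_iff.1 hzs
  have h' := h.conj g
  have hz' : z ∈ cj g R := h'.mem_iff.2 (h.cent _ hs)
  obtain ⟨y, hy, ey⟩ := h'.exists_q hz' hzs.symm hne.symm
  set s := g * z * g⁻¹
  by_cases e2 : Commute y (x * s)
  · refine ⟨x * s * z, fun y hy => (hw y hy).mul_left (h.cent y hy), ?_, by
      simpa [mul_assoc] using mul_mem hsF hz⟩
    refine (isConj_iff.2 ⟨q, e1⟩).trans (isConj_iff.2 ⟨y, ?_⟩).symm
    rw [show y * (x * s * z) * y⁻¹ = y * (x * s) * y⁻¹ * (y * z * y⁻¹) by group, e2.eq, mul_inv_cancel_right,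
      ey, (h.cent s hs).eq, mul_assoc x, ← mul_assoc s, ss, one_mul]
  · refine ⟨x * s, hw, (isConj_iff.2 ⟨y, ?_⟩).symm, by simpa using hsF⟩
    rw [h'.conj_eq hy (h'.mem_iff.2 (hxs.mul_left (Commute.refl s))) e2, mul_assoc, ss, mul_one]

end key

theorem dihedral (hp : ⁅(⊤ : Subgroup G), (⊤ : Subgroup G)⁆ = ⊤) (h2 : ∀ N : Subgroup G, N.Normal → N.index ≠ 2)
    {s : G} (hs : s ∈ R) (hzs : IsConj z s) (hne : s ≠ z) : Nonempty (R ≃* DihedralGroup 4) := by
  have ss := h.sq_eq hs hzs hne hs (Commute.refl s)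
  obtain ⟨t, ht, hts, tt⟩ : ∃ t ∈ R, ¬ Commute t s ∧ t ^ 2 = 1 := by
    obtain ⟨y, hy, e, e2⟩ := h.exists_hyp hs (by rwa [sq]) (h.noncentral hs hzs hne)
    exact ⟨y, hy, fun e' => h.not_commute e e'.symm, e2⟩
  have t1 : t ≠ 1 := fun e => hts (e ▸ Commute.one_left s)
  obtain ⟨g, hg⟩ := (thompson_transfer' h.syl inf_le_left (h.idx hs hzs hne) (orderOf_eq_prime tt t1)
    ht).resolve_left fun ⟨N, h3, h4, _⟩ => h2 N h3 h4
  obtain ⟨c, hc, e, -⟩ := h.key hs hzs hne (F := ⊤) trivial trivial hg.1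
    (mem_centralizer_singleton_iff'.1 hg.2)
  obtain ⟨k, ek, hk⟩ := h.exists_k hc ((isConj_conj t g).trans e).symm
    (h.isPGroup.to_le (inf_le_left : R ⊓ centralizer {t} ≤ R)) inf_le_right
  have h' := h.conj k
  have hs' : k * z * k⁻¹ ∈ R := h.mem_iff.2 (h'.cent z (hk ⟨h.mem, mem_centralizer_singleton_iff'.2
    (h.cent t ht)⟩))
  have hs't : Commute (k * z * k⁻¹) t := h'.cent t (hk ⟨ht, mem_centralizer_singleton_iff'.2 (Commute.refl t)⟩)
  have hne' : k * z * k⁻¹ ≠ z := fun e => by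
    have h3 : k ∈ R := h.mem_iff.2 (mul_inv_eq_iff_eq_mul.1 e)
    rw [← (hc k h3).eq, mul_inv_cancel_right] at ek
    exact hts (ek ▸ hc s hs)
  have hzs' := isConj_conj z k
  generalize k * z * k⁻¹ = s' at hs' hs't hne' hzs'
  have ss' := h.sq_eq hs' hzs' hne' hs' (Commute.refl s')
  have hn : ¬ Commute s' s := fun e => h.noncentral hs' hzs' hne' (h.central_of hs hzs hne ht hts hs' e hs't)
  have e1 : s * s' * (s * s') = z := by
    have := (h.comm_cases hs hs').resolve_left fun e => hn e.symm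
    rwa [inv_eq_of_mul_self ss, inv_eq_of_mul_self ss', mul_assoc (s * s')] at this
  have f1 : s ∈ closure ({s, s'} : Set G) := subset_closure (by simp)
  have f2 : s' ∈ closure ({s, s'} : Set G) := subset_closure (by simp)
  have f3 : z ∈ closure ({s, s'} : Set G) := e1 ▸ mul_mem (mul_mem f1 f2) (mul_mem f1 f2)
  have fle : closure ({s, s'} : Set G) ≤ R := by
    rw [closure_le]; rintro x (rfl | rfl) <;> assumption
  have inv : ∀ x ∈ R, x ^ 2 = 1 → ∃ c, (∀ y ∈ R, Commute c y) ∧ IsConj x c ∧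
      x⁻¹ * c ∈ closure ({s, s'} : Set G) := fun x hx x2 => by
    by_cases a : Commute x s
    · exact h.key hs hzs hne f3 f1 hx a
    refine h.key hs' hzs' hne' f3 f2 hx (commute_of_mul_self (by rwa [← sq]) ss'
      (h.sq_eq hs hzs hne (mul_mem hx hs') ?_))
    have := (mul_mem_iff_of_index_two (h.idx hs hzs hne) (a := ⟨x, hx⟩) (b := ⟨s', hs'⟩)).2 (iff_of_false
      (fun e => a (mem_centralizer_singleton_iff'.1 e.2)) fun e => hn (mem_centralizer_singleton_iff'.1 e.2))
    exact mem_centralizer_singleton_iff'.1 this.2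
  have h3 := commutator_inf_le_of_fusion (L := closure ({s, s'} : Set G)) h.syl fun x hx g _ hy => by
    rcases h.sq_cases hx with e | e
    · obtain ⟨c, a1, a2, a3⟩ := inv x hx e
      obtain ⟨d, b1, b2, b3⟩ := inv _ hy (by rw [conj_pow, e, mul_one, mul_inv_cancel])
      obtain rfl := h.eq_of_conj a1 b1 (a2.symm.trans ((isConj_conj x g).trans b2))
      have := mul_mem a3 (inv_mem b3)
      rwa [show x⁻¹ * c * ((g * x * g⁻¹)⁻¹ * c)⁻¹ = x⁻¹ * (g * x * g⁻¹) by group] at this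
    · have h4 : g ∈ R := by
        rcases h.sq_cases hy with e' | e' <;> rw [conj_pow, e] at e'
        · exact (h.z_ne_one (by simpa using e')).elim
        · exact h.mem_iff.2 (mul_inv_eq_iff_eq_mul.1 e')
      have := h.comm _ (inv_mem hx) g h4
      rw [inv_inv] at this
      exact zpowers_le_of_mem f3 (by simpa only [mul_assoc] using this)
  rw [hp, top_inf_eq] at h3
  rw [le_antisymm h3 fle]
  have o : ∀ x, IsConj z x → orderOf x = 2 := fun x hx => by
    obtain ⟨g, rfl⟩ := isConj_iff.1 hx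
    rw [orderOf_conj', h.ord]
  refine (idx2_invol (o s hzs) (o s' hzs') fun e => hn (e ▸ Commute.refl s)).dihedral ?_
  refine orderOf_eq_prime_pow (p := 2) (n := 1) ?_ ?_
  · rw [pow_one, sq, e1]; exact h.z_ne_one
  · rw [show 2 ^ (1 + 1) = 2 * 2 from rfl, pow_mul, sq (s * s'), e1, h.z_pow]

end PZ

end CfsgH2
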