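import Cfsg.Agent.H2.Extra3
import Cfsg.Agent.H2.Large

/-! The extraspecial group `2^{1+4}_-` and its five singular points. -/

set_option autoImplicit false

namespace CfsgH2
open Subgroup Cfsg CfsgFT
open scoped commutatorElement

section general
variable {G : Type*} [Group G] [Finite G] {E : Subgroup G} {z g a b : G}

theorem PES.commute_mul (h : PES 2 E z) (hg : g ∈ E) (ha : a ∈ E) (hb : b ∈ E) (h1 : ¬ Commute g a)
    (h2 : ¬ Commute g b) : Commute g (a * b) := by
  rw [Commute, SemiconjBy, ← mul_inv_eq_iff_eq_mul,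
    show g * (a * b) * g⁻¹ = g * a * g⁻¹ * (g * b * g⁻¹) by group, h.conj_eq hg ha h1, h.conj_eq hg hb h2,
    mul_assoc a, ← mul_assoc z, (h.cent b hb).eq, mul_assoc b, h.zz, mul_one]

omit [Finite G] in
theorem not_commute_mul (h1 : Commute g a) (h2 : ¬ Commute g b) : ¬ Commute g (a * b) := fun e =>
  h2 (by simpa using h1.inv_right.mul_right e)

omit [Finite G] in
theorem not_commute_mul' (h1 : ¬ Commute g a) (h2 : Commute g b) : ¬ Commute g (a * b) := fun e =>
  h1 (by simpa using e.mul_right h2.inv_right)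

open Classical in
/-- The transvection defined by an element of order four. -/
noncomputable def PES.tv (h : PES 2 (⊤ : Subgroup G) z) (ha : a ^ 2 = z) : MulAut G :=
  MulEquiv.ofBijective (MonoidHom.mk' (fun x => if Commute x a then x else x * a) fun x y => by
    by_cases h1 : Commute x a <;> by_cases h2 : Commute y a
    · simp [h1, h2, h1.mul_left h2]
    · have : ¬ Commute (x * y) a := fun e => not_commute_mul h1.symm (fun e => h2 e.symm) e.symm
      simp [h1, h2, this, mul_assoc]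
    · have : ¬ Commute (x * y) a := fun e => not_commute_mul' (fun e => h1 e.symm) h2.symm e.symm
      simp [h1, h2, this, mul_assoc, h2.eq]
    · have := (h.commute_mul trivial trivial trivial (fun e => h1 e.symm) fun e => h2 e.symm).symm
      simp only [h1, h2, this, if_true, if_false]
      have e := h.conj_eq (q := a) (x := y) trivial trivial fun e => h2 e.symm
      rw [mul_inv_eq_iff_eq_mul] at e
      rw [mul_assoc, ← mul_assoc a, e, mul_assoc, mul_assoc, ← sq, ha, h.zz, mul_one])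
    (Finite.injective_iff_bijective.1 ((injective_iff_map_eq_one _).2 fun x hx => by
      by_cases h1 : Commute x a
      · simpa [h1] using hx
      · simp only [MonoidHom.mk'_apply, h1, if_false] at hx
        exact (h1 (by rw [eq_inv_of_mul_eq_one_left hx]; exact (Commute.refl a).inv_left)).elim))

theorem PES.tv_pos (h : PES 2 (⊤ : Subgroup G) z) (ha : a ^ 2 = z) {x : G} (hx : Commute x a) :
    h.tv ha x = x := by simp [PES.tv, hx]

theorem PES.tv_neg (h : PES 2 (⊤ : Subgroup G) z) (ha : a ^ 2 = z) {x : G} (hx : ¬ Commute x a) :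
    h.tv ha x = x * a := by simp [PES.tv, hx]

end general

variable {P : Type*} [Group P]

/-- The singular points of `P / Z(P)`. -/
def Om (P : Type*) [Group P] : Type _ :=
  {v : P ⧸ center P // ∃ x : P, x ^ 2 = 1 ∧ x ∉ center P ∧ (x : P ⧸ center P) = v}

theorem aut_center (φ : MulAut P) {x : P} : φ x ∈ center P ↔ x ∈ center P := by
  simp only [mem_center_iff]
  refine ⟨fun h g => φ.injective (by rw [map_mul, map_mul, h]), fun h g => ?_⟩
  obtain ⟨g, rfl⟩ := φ.surjective g
  rw [← map_mul, ← map_mul, h]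

def qact (φ : MulAut P) : P ⧸ center P →* P ⧸ center P :=
  QuotientGroup.map _ _ φ.toMonoidHom fun _ hx => (aut_center φ).2 hx

def Om.mk (x : P) (h1 : x ^ 2 = 1) (h2 : x ∉ center P) : Om P := ⟨x, x, h1, h2, rfl⟩

theorem Om.exists_mk (v : Om P) : ∃ x h1 h2, v = Om.mk x h1 h2 := by
  obtain ⟨v, x, h1, h2, rfl⟩ := v
  exact ⟨x, h1, h2, rfl⟩

theorem Om.mk_eq {x y : P} {h1 h2 h3 h4} : Om.mk x h1 h2 = Om.mk y h3 h4 ↔ x⁻¹ * y ∈ center P :=
  Subtype.ext_iff.trans QuotientGroup.eq

instance : MulAction (MulAut P) (Om P) where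
  smul φ v := ⟨qact φ v.1, by
    obtain ⟨x, h1, h2, e⟩ := v.2
    exact ⟨φ x, by rw [← map_pow, h1, map_one], fun e => h2 ((aut_center φ).1 e), e ▸ rfl⟩⟩
  one_smul v := by obtain ⟨x, h1, h2, rfl⟩ := v.exists_mk; rfl
  mul_smul φ ψ v := by obtain ⟨x, h1, h2, rfl⟩ := v.exists_mk; rfl

theorem Om.smul_mk (φ : MulAut P) (x : P) (h1 h2) : φ • Om.mk x h1 h2 =
    Om.mk (φ x) (by rw [← map_pow, h1, map_one]) fun e => h2 ((aut_center φ).1 e) := rfl

variable [Finite P]

instance : Finite (Om P) := inferInstanceAs (Finite (Subtype _))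

structure M5 (z : P) : Prop extends ES 2 ⊤ z where
  card : Nat.card (⊤ : Subgroup P) = 2 ^ (2 * (1 + 1) + 1)
  hm : ∀ A : Subgroup P, IsElementaryAbelian 2 A → Nat.card A ≤ 4

theorem M5.of (hex : IsExtraspecial 2 P) (h32 : Nat.card P = 32)
    (hm : ∀ A : Subgroup P, IsElementaryAbelian 2 A → Nat.card A ≤ 4) : ∃ z : P, M5 z := by
  obtain ⟨z, hz, -⟩ := ES.of_top hex
  exact ⟨z, hz, by rw [card_top, h32]; rfl, hm⟩

namespace M5
variable {z : P} (h : M5 z)
include h

theorem anti {x y : P} (x2 : x ^ 2 = 1) (y2 : y ^ 2 = 1) (hx : x ∉ center P) (hy : y ∉ center P)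
    (hxy : x⁻¹ * y ∉ center P) : ¬ Commute x y := fun e => by
  rw [h.center_eq] at hx hy hxy
  have c1 : x ∈ centralizer (zpowers z : Set P) := by
    rw [centralizer_zpowers']; exact mem_centralizer_singleton_iff'.2 (h.cent x trivial).symm
  have c2 : y ∈ centralizer ((zpowers z ⊔ zpowers x : Subgroup P) : Set P) := by
    rw [centralizer_sup', centralizer_zpowers', centralizer_zpowers']
    exact ⟨mem_centralizer_singleton_iff'.2 (h.cent y trivial).symm, mem_centralizer_singleton_iff'.2 e.symm⟩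
  have h1 := card_sup_zpowers (p := 2) (centralizer_le_normalizer _ c1) hx (x2 ▸ one_mem _)
  have h2 := card_sup_zpowers (p := 2) (centralizer_le_normalizer _ c2) (fun e' => by
    rcases (mem_sup_two h.zz (by rwa [← sq]) (h.cent x trivial)).1 e' with e' | e' | e' | e'
    · exact hy (e' ▸ one_mem _)
    · exact hy (e' ▸ mem_zpowers _)
    · exact hxy (by rw [e', inv_mul_cancel]; exact one_mem _)
    · exact hxy (by rw [e', (h.cent x trivial).eq, inv_mul_cancel_left]; exact mem_zpowers _))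
    (y2 ▸ one_mem _)
  have h3 := h.hm _ (ea_sup (ea_sup (ea_zpowers h.z_pow) (ea_zpowers x2) (zpowers_le_of_mem c1))
    (ea_zpowers y2) (zpowers_le_of_mem c2))
  rw [h2, h1, h.card_z] at h3
  omega

theorem card_Om : Nat.card (Om P) = 5 := by
  have h1 : rk 2 (⊤ : Subgroup P) = 1 + 1 := le_antisymm (by
    by_contra hn
    obtain ⟨A, hA⟩ := (le_rk_iff (k := 3)).1 (by omega : 3 ≤ rk 2 (⊤ : Subgroup P))
    have := h.hm A hA.ea
    rw [hA.card] at this
    omega) (h.le_rk h.card)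
  have h2 := (h.minus_iff_rk h.card).2 h1
  have h3 := cnt_add (⊤ : Subgroup P) (fun x => x ^ 2 = 1) (fun x => x ∈ center P)
  have h4 : cnt (⊤ : Subgroup P) (fun x => x ^ 2 = 1 ∧ x ∈ center P) = 2 := by
    rw [cnt_congr (Q := fun x => x ∈ center P) fun x _ => ⟨And.right, fun hx => ⟨?_, hx⟩⟩, cnt_top]
    · exact h.center_eq ▸ h.card_z
    · rw [h.center_eq, mem_zpowers_two h.ord] at hx
      rcases hx with rfl | rfl
      exacts [one_pow _, h.z_pow]
  have h5 := QuotientGroup.card_preimage_mk (center P)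
    {v | ∃ x : P, x ^ 2 = 1 ∧ x ∉ center P ∧ (x : P ⧸ center P) = v}
  have h6 : QuotientGroup.mk ⁻¹' {v | ∃ x : P, x ^ 2 = 1 ∧ x ∉ center P ∧ (x : P ⧸ center P) = v} =
      {x : P | x ^ 2 = 1 ∧ x ∉ center P} := by
    ext y
    refine ⟨?_, fun hy => ⟨y, hy.1, hy.2, rfl⟩⟩
    rintro ⟨x, a1, a2, a3⟩
    rw [QuotientGroup.eq] at a3
    refine ⟨?_, fun e => a2 (by simpa using mul_mem a3 (inv_mem e))⟩
    rw [h.center_eq, mem_zpowers_two h.ord] at a3
    rcases a3 with e | e <;> rw [inv_mul_eq_iff_eq_mul] at e <;> rw [e]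
    · rwa [mul_one]
    · rw [(h.cent x trivial).symm.mul_pow, a1, h.z_pow, mul_one]
  rw [h6, h.center_eq, h.card_z, ← h.center_eq] at h5
  rw [h4, cnt_top (fun x : P => x ^ 2 = 1 ∧ x ∉ center P)] at h3
  change nsq (⊤ : Subgroup P) = 2 + Nat.card {x : P | x ^ 2 = 1 ∧ x ∉ center P} at h3
  change _ = 2 * Nat.card (Om P) at h5
  omega

theorem anti' {x y : P} {h1 h2 h3 h4} (hne : Om.mk x h1 h2 ≠ Om.mk y h3 h4) : ¬ Commute x y :=
  h.anti h1 h3 h2 h4 fun e => hne (Om.mk_eq.2 e)

theorem mem_of_cent {w : P} (hw : ∀ x : P, x ^ 2 = 1 → Commute w x) : w ∈ zpowers z := by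
  obtain ⟨e⟩ : Nonempty (Fin 5 ≃ Om P) := ⟨(Finite.equivFinOfCardEq h.card_Om).symm⟩
  choose x x2 xc hx using fun i => (e i).exists_mk
  have a : ∀ i j, i ≠ j → ¬ Commute (x i) (x j) := fun i j hij =>
    h.anti' (by rw [← hx, ← hx]; exact e.injective.ne hij)
  have t : ∀ y : P, y ∈ (⊤ : Subgroup P) := mem_top
  have c01 := (h.comm_cases (t (x 0)) (t (x 1))).resolve_left (a 0 1 (by decide))
  have u : ∀ k, k ≠ 0 → k ≠ 1 → x 0 * (x 1 * x k) ∈ cc ⊤ (x 0) (x 1) := fun k k0 k1 => mem_cc.2 ⟨t _,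
    ((Commute.refl _).mul_right (h.commute_mul (t _) (t _) (t _) (a 0 1 (by decide)) (a 0 k k0.symm))).symm,
    (h.commute_mul (t _) (t _) (t _) (a 1 0 (by decide))
      (not_commute_mul (Commute.refl _) (a 1 k k1.symm))).symm⟩
  have u2 := u 2 (by decide) (by decide)
  have u3 := u 3 (by decide) (by decide)
  have c23 := (h.comm_cases (t (x 0 * (x 1 * x 2))) (t (x 0 * (x 1 * x 3)))).resolve_left
    (not_commute_mul (mem_cc.1 u2).2.1 (not_commute_mul (mem_cc.1 u2).2.2 fun e =>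
      not_commute_mul' (a 3 0 (by decide)) (h.commute_mul (t _) (t _) (t _) (a 3 1 (by decide))
        (a 3 2 (by decide))) e.symm))
  have h1 := h.cc_es (t _) (t _) c01
  have h2 := h1.cc_es u2 u3 c23
  rw [← h2.eq_of_card (h1.card_cc' u2 u3 c23 (h.card_cc' (t _) (t _) c01 h.card))]
  exact mem_cc.2 ⟨mem_cc.2 ⟨t _, hw _ (x2 0), hw _ (x2 1)⟩,
    (hw _ (x2 0)).mul_right ((hw _ (x2 1)).mul_right (hw _ (x2 2))),
    (hw _ (x2 0)).mul_right ((hw _ (x2 1)).mul_right (hw _ (x2 3)))⟩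

theorem inner_of_triv {φ : MulAut P} (hφ : ∀ v : Om P, φ • v = v) : ∃ g : P, ∀ x, φ x = g * x * g⁻¹ := by
  refine h.aut_inner φ (h.aut_z φ) fun y => h.mem_of_cent fun x x2 => ?_
  by_cases hx : x ∈ center P
  · exact mem_center_iff.1 hx _
  have h1 := mem_center_iff.1 (Om.mk_eq.1 ((Om.smul_mk φ x x2 hx).symm.trans (hφ _)))
  have h2 : Commute (φ y) x ↔ Commute y x := by
    have h3 : Commute (φ y) (φ x) ↔ Commute y x := ⟨fun e => φ.injective (by
      rw [map_mul, map_mul, e.eq]), fun e => e.map φ⟩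
    rw [← h3]
    refine ⟨fun e => ?_, fun e => ?_⟩
    · simpa using e.mul_right (Commute.inv_right (h1 (φ y)))
    · simpa using e.mul_right (h1 (φ y))
  by_cases e : Commute y x
  · exact (h2.2 e).mul_left e.inv_left
  · exact (h.commute_mul trivial trivial trivial (fun e' => e (h2.1 e'.symm))
      fun e' => e (by simpa using e'.inv_right.symm)).symm

theorem ker_eq : (MulAction.toPermHom (MulAut P) (Om P)).ker = (MulAut.conj : P →* MulAut P).range := by
  ext φ
  rw [MonoidHom.mem_ker]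
  constructor
  · intro e
    obtain ⟨g, hg⟩ := h.inner_of_triv (φ := φ) fun v => DFunLike.congr_fun e v
    exact ⟨g, MulEquiv.ext fun x => (hg x).symm⟩
  · rintro ⟨g, rfl⟩
    ext v
    obtain ⟨x, h1, h2, rfl⟩ := v.exists_mk
    refine (Om.smul_mk _ x h1 h2).trans (Om.mk_eq.2 ?_ : Om.mk _ _ _ = Om.mk x h1 h2)
    rw [h.center_eq]
    have := h.comm g trivial x⁻¹ trivial
    simpa [mul_assoc] using this

theorem surj : Function.Surjective (MulAction.toPermHom (MulAut P) (Om P)) := by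
  classical
  rw [← MonoidHom.range_eq_top, eq_top_iff, ← Equiv.Perm.closure_isSwap, closure_le]
  rintro _ ⟨a, b, hab, rfl⟩
  obtain ⟨x, x2, hx, rfl⟩ := a.exists_mk
  obtain ⟨y, y2, hy, rfl⟩ := b.exists_mk
  have h1 := h.anti' hab
  have h2 : (x * y) ^ 2 = z := by
    rw [h.mul_sq trivial trivial ((h.comm_cases trivial trivial).resolve_left h1), x2, y2, mul_one, mul_one]
  refine ⟨h.toPES.tv h2, Equiv.ext fun v => ?_⟩
  obtain ⟨w, w2, hw, rfl⟩ := v.exists_mk
  show h.toPES.tv h2 • Om.mk w w2 hw = _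
  by_cases e1 : Om.mk w w2 hw = Om.mk x x2 hx
  · rw [e1, Equiv.swap_apply_left, Om.smul_mk, Om.mk_eq,
      PES.tv_neg _ _ (not_commute_mul (Commute.refl x) h1), ← mul_assoc, ← sq, x2, one_mul, inv_mul_cancel]
    exact one_mem _
  by_cases e2 : Om.mk w w2 hw = Om.mk y y2 hy
  · rw [e2, Equiv.swap_apply_right, Om.smul_mk, Om.mk_eq,
      PES.tv_neg _ _ (not_commute_mul' (fun e => h1 e.symm) (Commute.refl y)), h.center_eq]
    have := h.comm y⁻¹ trivial x⁻¹ trivial
    rw [inv_inv, inv_inv] at this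
    rw [mul_inv_rev, mul_inv_rev, inv_eq_of_mul_self (x := y) (by rwa [← sq])] at *
    exact this
  · rw [Equiv.swap_apply_of_ne_of_ne e1 e2, Om.smul_mk, Om.mk_eq,
      PES.tv_pos _ _ (h.commute_mul trivial trivial trivial (h.anti' e1) (h.anti' e2)), inv_mul_cancel]
    exact one_mem _

/-- An involutory automorphism fixing only one singular point centralizes no element of order four. -/
theorem sq_of_fixed {φ : MulAut P} (h2 : ∀ x, φ (φ x) = x) {a : Om P} (ha : ∀ v : Om P, φ • v = v → v = a)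
    {x : P} (x2 : x ^ 2 = 1) (hx : x ∉ center P) (fx : φ x = x) {c : P} (hc : φ c = c) : c ^ 2 = 1 := by
  refine (h.sq_cases (mem_top c)).resolve_right fun c2 => ?_
  have key : ∀ y y2 hy, (φ y)⁻¹ * y ∈ center P → Om.mk y y2 hy = Om.mk x x2 hx := fun y y2 hy e => by
    rw [ha (Om.mk y y2 hy) ((Om.smul_mk _ _ _ _).trans (Om.mk_eq.2 e)),
      ha (Om.mk x x2 hx) ((Om.smul_mk _ _ _ _).trans (Om.mk_eq.2 (by simp [fx, one_mem])))]
  have cz : c ∉ center P := fun e => by
    rw [h.center_eq, mem_zpowers_two h.ord] at e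
    rcases e with rfl | rfl
    · exact h.z_ne_one (by simpa using c2.symm)
    · exact h.z_ne_one (c2.symm.trans h.z_pow)
  have sq' : ∀ y, y ^ 2 = 1 → ¬ Commute c y → (c * y) ^ 2 = 1 ∧ y ∉ center P ∧ c * y ∉ center P :=
    fun y y2 e => ⟨by rw [h.mul_sq trivial trivial ((h.comm_cases trivial trivial).resolve_left e), c2, y2,
      mul_one, h.zz], fun e' => e (mem_center_iff.1 e' c),
      fun e' => not_commute_mul (Commute.refl c) e (mem_center_iff.1 e' c)⟩
  have hcx : Commute c x := by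
    by_contra e
    obtain ⟨a1, -, a2⟩ := sq' x x2 e
    have := Om.mk_eq.1 (key _ a1 a2 (by simp [fx, hc, one_mem])).symm
    exact cz (by simpa using Normal.conj_mem inferInstance _ this x)
  obtain ⟨y, y2, hy⟩ : ∃ y : P, y ^ 2 = 1 ∧ ¬ Commute c y := by
    by_contra hn
    push Not at hn
    exact cz (h.center_eq ▸ h.mem_of_cent hn)
  obtain ⟨a1, a2, a3⟩ := sq' y y2 hy
  have fy2 : φ y ^ 2 = 1 := by rw [← map_pow, y2, map_one]
  have fy : ¬ Commute c (φ y) := fun e => hy (φ.injective (by rw [map_mul, map_mul, hc, e.eq]))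
  have fyc : φ y ∉ center P := fun e => a2 ((aut_center φ).1 e)
  have n1 : (φ y)⁻¹ * y ∉ center P := fun e => hy (by
    have := mem_center_iff.1 (Om.mk_eq.1 (key y y2 a2 e).symm) c
    simpa using hcx.mul_right this)
  have n2 : (φ y)⁻¹ * (c * y) ∈ center P := by
    by_contra e
    have := h.commute_mul trivial trivial trivial (h.anti fy2 a1 fyc a3 e) (h.anti fy2 y2 fyc a2 n1)
    rw [mul_assoc, ← sq, y2, mul_one] at this
    exact fy this.symm
  have n3 : φ ((φ y)⁻¹ * (c * y)) = (φ y)⁻¹ * (c * y) := by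
    rw [h.center_eq, mem_zpowers_two h.ord] at n2
    rcases n2 with e | e <;> rw [e]
    exacts [map_one φ, h.aut_z φ]
  obtain ⟨w, hw⟩ : ∃ w, w = (φ y)⁻¹ * (c * y) := ⟨_, rfl⟩
  rw [← hw] at n2 n3
  have e1 : φ y = c * y * w⁻¹ := by rw [hw]; group
  have e2 := h2 y
  rw [e1, map_mul, map_mul, map_inv, hc, n3, e1, ← mul_assoc, ← mul_assoc, ← sq, c2, mul_assoc, ← mul_inv_rev]
    at e2
  have e3 : w * w = 1 := by
    rw [h.center_eq, mem_zpowers_two h.ord] at n2
    rcases n2 with e | e <;> rw [e]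
    exacts [mul_one 1, h.zz]
  rw [e3, inv_one, mul_one, mul_eq_right] at e2
  exact h.z_ne_one e2

end M5

end CfsgH2
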