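import Cfsg.Agent.H2.JC1
import Cfsg.Agent.H2.Extra2
import Cfsg.Agent.H1.Wielandt
import Cfsg.Agent.FT.Cyc

/-! Cocliques in prime graphs, a dihedral-type subgroup, extraspecial actions. -/

set_option autoImplicit false
set_option linter.unusedSectionVars false
set_option linter.style.haveILetI false

namespace CfsgH2

open Subgroup Cfsg CfsgFT
open scoped commutatorElement Pointwise

universe u

variable {G : Type u} [Group G] [Finite G] {A B E K L P : Subgroup G} {x z : G} {p r s t : ℕ} {ρ : Set ℕ}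

theorem cocl_fpf (h : ∀ r ∈ ρ, ∀ s ∈ ρ, r ≠ s → ¬ ∃ x : G, orderOf x = r * s) [hr : Fact r.Prime]
    [hs : Fact s.Prime] (r1 : r ∈ ρ) (s1 : s ∈ ρ) (ne : r ≠ s) (hA : IsPGroup r A) (hB : IsPGroup s B)
    (hx : x ∈ B) (x1 : x ≠ 1) : A ⊓ C1(x) = ⊥ := by
  by_contra c
  obtain ⟨a, ⟨-, a2⟩, a3⟩ := exists_orderOf_eq_prime hr.out (dvd_card_of_isPGroup (hA.to_le inf_le_left) c)
  obtain ⟨y, y1, y3⟩ := exists_orderOf_eq_prime hs.out (dvd_card_of_isPGroup (hB.to_le (zpowers_le.2 hx))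
    (mt zpowers_eq_bot.1 x1))
  have cm : Commute a y := mem_cent1.1 (zpowers_le.2 (mem_cent1_symm a2) y1)
  exact h r r1 s s1 ne ⟨a * y, by
    rw [cm.orderOf_mul_eq_mul_orderOf_of_coprime (by rw [a3, y3]; exact (Nat.coprime_primes hr.out hs.out).2 ne),
      a3, y3]⟩

theorem cocl_three (h : ∀ r ∈ ρ, ∀ s ∈ ρ, r ≠ s → ¬ ∃ x : G, orderOf x = r * s) (hL : Group.IsSolvable L)
    (hρ : IsPi ρ L) (hr : r.Prime) (hs : s.Prime) (ht : t.Prime) (rs : r ≠ s) (rt : r ≠ t) (st : s ≠ t)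
    (r1 : r ∣ Nat.card L) (s1 : s ∣ Nat.card L) (t1 : t ∣ Nat.card L) : False := by
  obtain ⟨V, l, hl, VL, V0, eV, nV, -⟩ := CfsgH1.exists_ea_normalized hL (ne_bot_of_dvd_card hr r1) le_rfl
    le_normalizer
  haveI := Fact.mk hl
  have lρ := hρ.mono VL l hl (dvd_card_of_isPGroup (ea_pgroup eV) V0)
  have k : ∀ a b : ℕ, a.Prime → b.Prime → a ≠ b → l ≠ a → l ≠ b → a ∣ Nat.card L → b ∣ Nat.card L → False := by
    intro a b ha hb ab la lb a1 b1
    obtain ⟨H, hH⟩ := exists_hall hL {a, b}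
    have a2 := hH.dvd_card ha (by simp) a1
    obtain ⟨U, m, hm, UH, U0, eU, nU, -⟩ := CfsgH1.exists_ea_normalized
      (CfsgH1.isSolvable_of_le hL hH.le) (ne_bot_of_dvd_card ha a2) le_rfl le_normalizer
    haveI := Fact.mk hm
    have m1 := dvd_card_of_isPGroup (ea_pgroup eU) U0
    obtain ⟨n, hn, n1, mn, ln, lm⟩ : ∃ n : ℕ, n.Prime ∧ n ∣ Nat.card H ∧ m ≠ n ∧ l ≠ n ∧ l ≠ m := by
      rcases hH.isPi.mono UH m hm m1 with e | e
      · exact ⟨b, hb, hH.dvd_card hb (by simp) b1, e ▸ ab, lb, e ▸ la⟩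
      · exact ⟨a, ha, a2, e ▸ ab.symm, la, e ▸ lb⟩
    haveI := Fact.mk hn
    obtain ⟨y, yH, y1⟩ := exists_orderOf_eq_prime hn n1
    have pR := isPGroup_zpowers_of_orderOf (y1.trans (pow_one n).symm)
    have nρ := hρ.mono hH.le n hn n1
    have mρ := hρ.mono (UH.trans hH.le) m hm m1
    have y0 : y ≠ 1 := fun e => hn.one_lt.ne (by rw [← y1, e, orderOf_one])
    have c := CfsgH1.le_cent_of_frobenius (ea_solv eV) ((UH.trans hH.le).trans nV)
      (zpowers_le.2 (nV (hH.le yH))) (zpowers_le.2 (nU yH)) (ea_solv eU)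
      (IsPGroup.coprime_card_of_ne m l lm.symm _ _ (ea_pgroup eU) (ea_pgroup eV))
      (IsPGroup.coprime_card_of_ne n l ln.symm _ _ pR (ea_pgroup eV))
      (fun x hx x1 => cocl_fpf h mρ nρ mn (ea_pgroup eU) pR hx x1)
      (by rw [cent_zpowers]; exact cocl_fpf h lρ nρ ln (ea_pgroup eV) pR (mem_zpowers y) y0)
    obtain ⟨u, u1, u2⟩ := exists_ne_one_of_ne_bot U0
    exact V0 (le_bot_iff.1 ((le_inf le_rfl (le_cent1_iff.2 (c u1))).trans
      (cocl_fpf h lρ mρ lm (ea_pgroup eV) (ea_pgroup eU) u1 u2).le))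
  by_cases e1 : l = r
  · exact k s t hs ht st (e1 ▸ rs) (e1 ▸ rt) s1 t1
  by_cases e2 : l = s
  · exact k r t hr ht rt e1 (e2 ▸ st) r1 t1
  · exact k r s hr hs rs e1 e2 r1 s1

theorem cocl_normal (h : ∀ r ∈ ρ, ∀ s ∈ ρ, r ≠ s → ¬ ∃ x : G, orderOf x = r * s) (hK : Group.IsSolvable K)
    (nK : ⊤ ≤ N(K)) (hr : r.Prime) (hs : s.Prime) (ht : t.Prime) (rs : r ≠ s) (rt : r ≠ t) (st : s ≠ t)
    (r0 : r ∈ ρ) (s0 : s ∈ ρ) (t0 : t ∈ ρ)
    (r1 : r ∣ Nat.card K) (s1 : s ∣ Nat.card K) (t1 : t ∣ Nat.card G) : False := by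
  obtain ⟨H, hH⟩ := exists_hall hK ρ
  have e := hH.frattini_sup hK le_top nK
  rw [top_inf_eq] at e
  have c := card_sup_mul (A := K) (B := N(H)) (le_top.trans nK)
  rw [e, card_top] at c
  have t2 : t ∣ Nat.card N(H) := (ht.dvd_mul.1 (c ▸ t1.mul_right _)).elim
    (fun a => (hH.dvd_card ht t0 a).trans (card_dvd_of_le le_normalizer)) id
  obtain ⟨y, y1, y2⟩ := exists_orderOf_eq_prime ht t2
  haveI := Fact.mk ht
  have pR := isPGroup_zpowers_of_orderOf (y2.trans (pow_one t).symm)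
  exact cocl_three h (L := H ⊔ zpowers y) (CfsgH1.isSolvable_sup_of_le_normalizer (zpowers_le.2 y1)
    (CfsgH1.isSolvable_of_le hK hH.le) (solvable_of_pgroup pR)) (hH.isPi.sup (isPi_of_isPGroup pR t0) (zpowers_le.2 y1))
    hr hs ht rs rt st ((hH.dvd_card hr r0 r1).trans (card_dvd_of_le le_sup_left))
    ((hH.dvd_card hs s0 s1).trans (card_dvd_of_le le_sup_left))
    (y2 ▸ Subgroup.orderOf_dvd_natCard _ (mem_sup_right (mem_zpowers y)))

variable [hp : Fact p.Prime]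

theorem ks1016 {Q : Type*} [Group Q] [Finite Q] (f : G →* Q) (sf : Function.Surjective f)
    (hk : IsPGroup p f.ker) {F : Subgroup Q} (nF : ⊤ ≤ N(F)) (hF : ¬ p ∣ Nat.card F) (cF : C(F) ≤ F)
    (hA : IsPGroup p A) (eA : IsElementaryAbelian p (A.map f)) (A0 : A.map f ≠ ⊥) :
    ∃ x ∈ F.comap f, x ∈ resIn p (A ⊔ cj x A) ∧ resIn p (A ⊔ cj x A) ≤ F.comap f ∧
      ⁅resIn p (A ⊔ cj x A), A⁆ = resIn p (A ⊔ cj x A) ∧ (A ⊓ pCoreOf p (A ⊔ cj x A)).relIndex A = p ∧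
      ⁅A ⊓ pCoreOf p (A ⊔ cj x A), A ⊔ cj x A⁆ ≤ f.ker := by
  obtain ⟨B, hB, nB⟩ : ∃ B, Hyp p (A.map f) B ∧ ¬ F ⊓ C(B) ≤ C(A.map f) := by
    by_contra c
    push Not at c
    exact A0 (le_bot_iff.1 ((le_inf le_rfl ((cent_symm (le_of_hyp eA A0 (le_top.trans nF) hF c)).trans cF)).trans
      (inf_eq_bot_of_coprime' (ea_cop eA hF)).le))
  have nY : A.map f ≤ N(F ⊓ C(B)) := nI (le_top.trans nF) (ea_norm_cent eA hB.1)
  have pY : ¬ p ∣ Nat.card (F ⊓ C(B) : Subgroup Q) := fun c => hF (c.trans (card_dvd_of_le inf_le_left))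
  have mL : ∀ x, (A ⊔ cj x A).map f = A.map f ⊔ cj (f x) (A.map f) := fun x => by
    rw [Subgroup.map_sup, map_cj]
  have rL : ∀ x, f x ∈ F ⊓ C(B) → (resIn p (A ⊔ cj x A)).map f ≤ F ⊓ C(B) := fun x hx => by
    rw [map_resIn, mL]
    refine (resIn_mono (sup_le le_sup_left (cj_le_of_mem (mem_sup_right hx) le_sup_left))).trans ?_
    rw [resIn_sup_of_isPGroup (ea_pgroup eA) nY]
    exact resIn_le _
  obtain ⟨y, y1, y2⟩ := SetLike.not_le_iff_exists.1 nB
  obtain ⟨y, rfl⟩ := sf y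
  obtain ⟨y, ⟨y1, y2⟩, hm⟩ := Set.exists_min_image {x | f x ∈ F ⊓ C(B) ∧ f x ∉ C(A.map f)}
    (fun x => Nat.card (A ⊔ cj x A : Subgroup G)) (Set.toFinite _) ⟨y, y1, y2⟩
  obtain ⟨x, x1, x2⟩ : ∃ x ∈ resIn p (A ⊔ cj y A), f x ∉ C(A.map f) := by
    by_contra c
    push Not at c
    refine y2 (mem_cent.2 fun a ha => ?_)
    have a1 : f y * a * (f y)⁻¹ * a⁻¹ ∈ F ⊓ C(B) := by
      rw [mul_assoc, mul_assoc, ← mul_assoc a]
      exact mul_mem y1 (CfsgH2.conj_mem_of_mem_normalizer (nY ha) (inv_mem y1))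
    have a2 : f y * a * (f y)⁻¹ * a⁻¹ ∈ (resIn p (A ⊔ cj y A)).map f := by
      rw [map_resIn, mL]
      exact mem_resIn_of_coprime (mul_mem (mem_sup_right (conj_mem_cj _ ha)) (mem_sup_left (inv_mem ha)))
        (coprime_orderOf_of_not_dvd_card pY a1)
    obtain ⟨w, w1, w2⟩ := a2
    have a3 : Commute (f y * a * (f y)⁻¹ * a⁻¹) a := (w2 ▸ c w w1 a ha :).symm
    have a4 := a3.mul_pow p
    rw [inv_mul_cancel_right, conj_pow, eA.2 a ha, mul_one, mul_one, mul_inv_cancel] at a4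
    have a5 := Nat.eq_one_of_dvd_coprimes (coprime_orderOf_of_not_dvd_card pY a1) dvd_rfl
      (orderOf_dvd_of_pow_eq_one a4.symm)
    rw [orderOf_eq_one_iff, mul_inv_eq_one, mul_inv_eq_iff_eq_mul] at a5
    exact a5.symm
  have x3 := rL y y1 (mem_map_of_mem f x1)
  have e : A ⊔ cj x A = A ⊔ cj y A := eq_of_le_of_card_le (sup_le le_sup_left
    (cj_le_of_mem (resIn_le _ x1) le_sup_left)) (hm x ⟨x3, x2⟩)
  rw [← e] at x1
  have cB : (A ⊔ cj x A).map f ≤ C(B) := by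
    rw [mL]
    refine sup_le (cent_symm (hB.1.trans (ea_comm eA))) (cj_le_of_mem x3.2 (cent_symm (hB.1.trans (ea_comm eA))))
  have l : A ⊓ B.comap f ≤ pCoreOf p (A ⊔ cj x A) := (inf_le_inf_right _ le_sup_left).trans
    (CfsgH2.le_Op inf_le_left (nI le_normalizer ((map_le_iff_le_comap.1 (cB.trans (cent_le_norm B))).trans
      (le_normalizer_comap f))) ((((ea_pgroup eA).to_le hB.1).comap_of_ker_isPGroup f hk).to_le inf_le_right))
  have i : (A ⊓ B.comap f).relIndex A = p := by rw [inf_relIndex_left, relIndex_comap, hB.2]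
  have E : A ⊓ pCoreOf p (A ⊔ cj x A) = A ⊓ B.comap f := by
    refine (eq_or_eq_of_relIndex_prime i (le_inf inf_le_left l) inf_le_left).resolve_right fun c => x2 ?_
    have a := inf_eq_left.1 c
    have b := resIn_eq_bot_iff.2 ((Op_pg _).to_le (sup_le a (cj_le_of_norm (le_norm_Op_self _ (resIn_le _ x1)) a)))
    rw [b, mem_bot] at x1
    simp [x1, one_mem]
  refine ⟨x, x3.1, x1, map_le_iff_le_comap.1 ((rL x x3).trans inf_le_left), comm_res_eq_of_le_ncl hA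
    (le_sup_left.trans le_normalizer) ((resIn_le _).trans (sup_le (le_ncl _ _) (cj_le_ncl _ x1))), E ▸ i, ?_⟩
  rw [E, ← Subgroup.map_eq_bot_iff, map_commutator]
  exact comm_eq_bot (cent_symm (cB.trans (cent_anti (map_le_iff_le_comap.2 inf_le_right))))

theorem card_pow_le {y : G} (hA : A ≤ C(A)) (hz : orderOf z = p) (h0 : A ⊓ C1(z) = ⊥) (zA : z ∈ N(A))
    (xA : x ∈ N(A)) (yA : y ∈ N(A)) (xz : Commute x z) (yz : Commute y z) (hy : y * x * y⁻¹ = z * x) :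
    Nat.card (A ⊓ C1(x) : Subgroup G) ^ p ≤ Nat.card A := by
  let D : ℕ → Subgroup G := fun i => A ⊓ C1(z ^ i * x)
  let U : ℕ → Subgroup G := fun n => Nat.rec ⊥ (fun i X => X ⊔ D i) n
  have cD : ∀ i, Nat.card (D i) = Nat.card (A ⊓ C1(x) : Subgroup G) := fun i => by
    rw [← card_cj (y ^ i) (A ⊓ C1(x)), cj_inf, cj_eq_of_norm (pow_mem yA i), cj_centralizer_singleton,
      conj_pow_of_shift yz hy]
  have UA : ∀ n, U n ≤ A := fun n => by
    induction n with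
    | zero => exact bot_le
    | succ n ih => exact sup_le ih inf_le_left
  have nA : ∀ i, zpowers (z ^ i * x) ≤ N(A) := fun i => zpowers_le.2 (mul_mem (pow_mem zA i) xA)
  have cm : ∀ i j, Commute (z ^ i * x) (z ^ j * x) := fun i j =>
    ((Commute.pow_pow_self z i j).mul_right (xz.symm.pow_left i)).mul_left
      ((xz.pow_right j).mul_right (Commute.refl x))
  have nD : ∀ i j, zpowers (z ^ i * x) ≤ N(D j) := fun i j =>
    nI (nA i) ((zpowers_le.2 (mem_cent1.2 (cm j i))).trans le_normalizer)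
  have nU : ∀ i n, zpowers (z ^ i * x) ≤ N(U n) := fun i n => by
    induction n with
    | zero => exact le_norm_bot _
    | succ n ih => exact nS ih (nD i n)
  have k : ∀ j < p, ∀ n ≤ j, U n ⊓ D j = ⊥ := fun j hj n => by
    induction n with
    | zero => exact fun _ => bot_inf_eq _
    | succ n ih =>
      intro hn
      have a : ⁅U (n + 1) ⊓ D j, zpowers (z ^ n * x)⁆ ≤ U n ⊓ D j := le_inf
        ((commutator_mono inf_le_left le_rfl).trans (comm_sup_left_le (comm_le_left (nU n n))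
          ((comm_eq_bot (inf_le_right.trans (cent_zpowers _).ge)).le.trans bot_le) le_normalizer
          (inf_le_left.trans (le_norm_of_comm hA (UA n)))))
        ((commutator_mono inf_le_right le_rfl).trans (comm_le_left (nD n j)))
      rw [ih (by omega), le_bot_iff] at a
      have b := cent_of_comm_eq_bot a
      rw [cent_zpowers] at b
      refine le_bot_iff.1 fun w hw => h0.le ⟨hw.2.1, ?_⟩
      have c := mul_mem (mem_cent1_symm hw.2.2) (inv_mem (mem_cent1_symm (b hw)))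
      rw [show z ^ j * x * (z ^ n * x)⁻¹ = z ^ j * (z ^ n)⁻¹ by group,
        show j = (j - n) + n by omega, pow_add, mul_inv_cancel_right] at c
      rw [← cent_zpowers, ← zpowers_eq_of_prime hz (pow_mem (mem_zpowers z) (j - n))
        (pow_ne_one_of_lt_orderOf (by omega) (by omega)), cent_zpowers]
      exact mem_cent1_symm c
  have m : ∀ n ≤ p, Nat.card ↥(U n) = Nat.card (A ⊓ C1(x) : Subgroup G) ^ n := fun n => by
    induction n with
    | zero => exact fun _ => card_bot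
    | succ n ih =>
      intro hn
      have := card_sup_mul (A := U n) (B := D n) (inf_le_left.trans (le_norm_of_comm hA (UA n)))
      rw [k n hn n le_rfl, card_bot, mul_one, ih (by omega), cD] at this
      exact this
  exact m p le_rfl ▸ card_le_of_le (UA p)

theorem es_card_ge [hr : Fact r.Prime] (hpr : p ≠ r) {n : ℕ} (hmin : ∀ k : ℕ, 1 ≤ k → p ∣ r ^ k - 1 → n ≤ k)
    (w : ℕ) : ∀ E A : Subgroup G, ES p E z → Nat.card E = p ^ (2 * w + 1) → IsElementaryAbelian r A →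
      E ≤ N(A) → A ⊓ C1(z) = ⊥ → A ≠ ⊥ → r ^ (n * p ^ w) ≤ Nat.card A := by
  induction w with
  | zero =>
    intro E A h _ eA nA h0 A0
    obtain ⟨k, hk⟩ := IsPGroup.iff_card.1 (ea_pgroup eA)
    have := CfsgH1.card_dvd_card_sub_one (h.zle.trans nA) fun x hx x1 => by
      rw [← cent_zpowers, zpowers_eq_of_prime h.ord hx x1, cent_zpowers, h0]
    rw [h.card_z, hk] at this
    rw [hk, pow_zero, mul_one]
    exact Nat.pow_le_pow_right hr.out.pos (hmin k (Nat.pos_of_ne_zero fun e => A0 (card_eq_one.1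
      (by rw [hk, e, pow_zero]))) this)
  | succ w ih =>
    intro E A h hE eA nA h0 A0
    have ne := h.not_comm (h.ne_of_card hE)
    by_cases c : ∃ x ∈ E, x ^ p = 1 ∧ x ∉ zpowers z
    · obtain ⟨x, x1, x2, x3⟩ := c
      have xz : x ∈ C(zpowers z) := h.zle_cent.trans (cent_anti (zpowers_le.2 x1)) |> cent_symm |>
        fun a => a (mem_zpowers x)
      have eB := ea_sup (ea_zpowers h.z_pow) (ea_zpowers x2) (zpowers_le.2 xz)
      have BE : zpowers z ⊔ zpowers x ≤ E := sup_le h.zle (zpowers_le.2 x1)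
      obtain ⟨b, b1, b2, b3⟩ := exists_cent1_ne_bot (ea_comm eB) (fun c => x3 (by
        have := eq_of_le_of_card_le (le_sup_left : zpowers z ≤ zpowers z ⊔ zpowers x)
          (h.card_z ▸ CfsgH1.card_le_of_cyclic_ea eB c)
        exact this.ge (mem_sup_right (mem_zpowers x)))) (BE.trans nA)
        (IsPGroup.coprime_card_of_ne p r hpr _ _ (ea_pgroup eB) (ea_pgroup eA)) A0
      have b4 : b ∉ zpowers z := fun c => b3 (by
        rw [← cent_zpowers, zpowers_eq_of_prime h.ord c b2, cent_zpowers, h0])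
      obtain ⟨y, y1, y2⟩ := h.exists_comm' (BE b1) b4
      have a := ih (cc E b y) (A ⊓ C1(b)) (h.cc_es (BE b1) y1 y2) (h.card_cc' (BE b1) y1 y2 hE)
        (CfsgH2.ea_mono eA inf_le_left) (nI ((cc_le E b y).trans nA)
          ((inf_le_left.trans inf_le_right).trans le_normalizer))
        (le_bot_iff.1 ((inf_le_inf_right _ inf_le_left).trans h0.le)) b3
      rw [pow_succ, ← mul_assoc, pow_mul]
      obtain ⟨u, u1, u2⟩ := h.exists_conj (BE b1) b4 (mem_zpowers z)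
      exact (Nat.pow_le_pow_left a p).trans (card_pow_le (ea_comm eA) h.ord h0 (nA h.mem)
        (nA (BE b1)) (nA u1) (h.cent b (BE b1)).symm (h.cent u u1).symm (u2.trans (h.cent b (BE b1)).eq.symm))
    push Not at c
    by_cases p2 : p = 2
    · subst p2
      obtain rfl := h.eq_zero_of_aniso c hE
      have n1 := hmin 1 le_rfl (by
        rw [pow_one]; exact (hr.out.even_sub_one hpr.symm).two_dvd)
      obtain ⟨k, hk⟩ := IsPGroup.iff_card.1 (ea_pgroup eA)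
      rw [hk]
      refine Nat.pow_le_pow_right hr.out.pos (le_trans (by omega : n * 2 ^ (0 + 1) ≤ 2) ?_)
      by_contra l
      have := der_le_cent_of_cyclic (isCyclic_of_card_le_prime (ea_pgroup eA) (hk ▸ (Nat.pow_le_pow_right
        hr.out.pos (by omega : k ≤ 1)).trans (pow_one r).le)) nA
      rw [h.commutator_eq ne] at this
      exact A0 (le_bot_iff.1 ((le_inf le_rfl (le_cent1_iff.2 (this (mem_zpowers z)))).trans h0.le))
    · obtain ⟨x, x1, y, y1, e⟩ := h.exists_pair ne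
      have nc := h.not_commute e
      have x2 : x ^ p ≠ 1 := fun a => nc (h.zcomm (c x x1 a) y1)
      obtain ⟨k, hk⟩ := (zpowers_eq_of_prime h.ord (h.pow x x1) x2).ge (h.pow y y1)
      have := h.zcomm (c _ (mul_mem y1 (zpow_mem x1 (-k))) (by
        rw [h.mul_pow_odd p2 y1 (zpow_mem x1 _), ← hk, ← zpow_natCast (x ^ (-k)), ← zpow_natCast x]
        simp only [← zpow_mul, ← zpow_add]
        rw [show p * k + -k * p = (0 : ℤ) by ring, zpow_zero])) x1
      exact absurd (by simpa using (this.mul_left ((Commute.refl x).zpow_left k)).symm) nc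

theorem es_omega (p2 : p ≠ 2) (h : ES p P z) (hc : Nat.card P = p ^ 3) {a : G} (a1 : a ∈ P) (a2 : a ^ p ≠ 1)
    (AP : A ≤ P) (cA : Nat.card P = Nat.card A * p) (hA : ∀ y ∈ A, y ^ p = 1) : omegaOne p P = A := by
  have k := fun g => pow_eq_one_of_mem_omegaOne (H := P) (g := g) fun x hx y hy e1 e2 => by
    rw [h.mul_pow_odd p2 hx hy, e1, e2, one_mul]
  exact (eq_or_eq_of_relIndex_prime (relIndex_eq_of_card AP cA) (fun y hy => mem_omegaOne (AP hy) (hA y hy))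
    (omegaOne_le P)).resolve_right fun e => a2 (k a (e.ge a1))

theorem sc_extra (p2 : p ≠ 2) (hP : IsSylowIn p P ⊤) (h : ES p P z) (hc : Nat.card P = p ^ 3) {a g : G}
    (a1 : a ∈ P) (a2 : a ^ p ≠ 1) (hg : g * z * g⁻¹ ∈ P) : g * z * g⁻¹ ∈ zpowers z := by
  by_contra c
  have cA := h.card_inf_cent hg (h.noncentral hg c)
  have xp : (g * z * g⁻¹) ^ p = 1 := by rw [conj_pow, h.z_pow, mul_one, mul_inv_cancel]
  have zA : z ∈ P ⊓ C1(g * z * g⁻¹) := ⟨h.mem, mem_cent1.2 (h.cent _ hg).eq.symm⟩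
  have xA : g * z * g⁻¹ ∈ P ⊓ C1(g * z * g⁻¹) := ⟨hg, self_mem_cent1 _⟩
  have c2 : Nat.card (P ⊓ C1(g * z * g⁻¹) : Subgroup G) = p ^ 2 :=
    Nat.eq_of_mul_eq_mul_right hp.out.pos (by rw [← cA, hc, pow_succ])
  have E := sup_eq_of_card_sq c2 (zpowers_le.2 zA) (zpowers_le.2 xA) (mt zpowers_eq_bot.1 h.z_ne_one)
    (mt zpowers_le.1 c)
  have eA : IsElementaryAbelian p (P ⊓ C1(g * z * g⁻¹)) := E ▸ ea_sup (ea_zpowers h.z_pow) (ea_zpowers xp)
    (zpowers_le.2 (by rw [cent_zpowers]; exact mem_cent1_symm zA.2))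
  obtain ⟨k, k1, k2⟩ := ((hP.cj g).mono (le_cent1_iff.2 ((h.cj g).zle_cent (mem_zpowers _)))
    (by rw [cj_top]; exact le_top)).exists_cj_le (ea_pgroup eA) inf_le_right
  rw [cj_le_iff_le_cj_inv, cj_cj] at k2
  have h' := h.cj (k⁻¹ * g)
  rw [show k⁻¹ * g * z * (k⁻¹ * g)⁻¹ = k⁻¹ * (g * z * g⁻¹ * k) by group, mem_cent1.1 k1,
    inv_mul_cancel_left] at h'
  have o1 := es_omega p2 h hc a1 a2 inf_le_left cA eA.2
  have o2 := es_omega p2 h' ((card_cj _ _).trans hc) (conj_mem_cj _ a1) (by rw [conj_pow]; exact mt conj_eq_one_iff.1 a2) k2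
    ((card_cj _ _).trans cA) eA.2
  have n1 : N(P) ≤ N(P ⊓ C1(g * z * g⁻¹)) := o1 ▸ normalizer_le_normalizer_omegaOne P
  have n2 : cj (k⁻¹ * g) P ≤ N(P ⊓ C1(g * z * g⁻¹)) :=
    le_normalizer.trans (o2 ▸ normalizer_le_normalizer_omegaOne _)
  have xo : orderOf (g * z * g⁻¹) = p := h'.ord
  generalize g * z * g⁻¹ = x at *
  have zx : z ∉ zpowers x := fun e => c ((zpowers_eq_of_prime xo e h.z_ne_one).ge (mem_zpowers x))
  obtain ⟨u, u1, u2⟩ := h.exists_conj hg c (mem_zpowers z)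
  obtain ⟨v, v1, v2⟩ := h'.exists_conj (k2 zA) zx (inv_mem (mem_zpowers x))
  have u3 : u * z * u⁻¹ = z := by rw [← (h.cent u u1).eq, mul_inv_cancel_right]
  have v3 : v * x * v⁻¹ = x := by rw [← (h'.cent v v1).eq, mul_inv_cancel_right]
  have xz := (h.cent x hg).eq
  have s1 : u * v * u * x * (u * v * u)⁻¹ = z := by
    rw [show u * v * u * x * (u * v * u)⁻¹ = u * (v * (u * x * u⁻¹) * v⁻¹) * u⁻¹ by group, u2,
      show v * (x * z) * v⁻¹ = v * x * v⁻¹ * (v * z * v⁻¹) by group, v2, v3, ← mul_assoc x, ← xz,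
      mul_inv_cancel_right, u3]
  have s2 : u * v * u * z * (u * v * u)⁻¹ = x⁻¹ := by
    rw [show u * v * u * z * (u * v * u)⁻¹ = u * (v * (u * z * u⁻¹) * v⁻¹) * u⁻¹ by group, u3, v2,
      show u * (z * x⁻¹) * u⁻¹ = u * z * u⁻¹ * (u * x * u⁻¹)⁻¹ by group, u3, u2]
    group
  have sN := mul_mem (mul_mem (n1 (le_normalizer u1)) (n2 v1)) (n1 (le_normalizer u1))
  generalize u * v * u = s at *
  have iv : ∀ y ∈ P ⊓ C1(x), s * s * y * (s * s)⁻¹ = y⁻¹ := fun y hy => by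
    have cm := ea_comm eA
    rw [← E] at hy
    obtain ⟨_, ⟨i, rfl⟩, _, ⟨j, rfl⟩, rfl⟩ := (mem_sup_of_normalizer
      (zpowers_le.2 (cent1_le_norm_zpowers z (mem_cent1.2 xz)))).1 hy
    have t1 : s * s * x * (s * s)⁻¹ = x⁻¹ := by
      rw [show s * s * x * (s * s)⁻¹ = s * (s * x * s⁻¹) * s⁻¹ by group, s1, s2]
    have t2 : s * s * z * (s * s)⁻¹ = z⁻¹ := by
      rw [show s * s * z * (s * s)⁻¹ = s * (s * z * s⁻¹) * s⁻¹ by group, s2,
        show s * x⁻¹ * s⁻¹ = (s * x * s⁻¹)⁻¹ by group, s1]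
    show s * s * (z ^ i * x ^ j) * (s * s)⁻¹ = (z ^ i * x ^ j)⁻¹
    rw [show s * s * (z ^ i * x ^ j) * (s * s)⁻¹ = s * s * z ^ i * (s * s)⁻¹ * (s * s * x ^ j * (s * s)⁻¹) by group,
      conj_zpow_of_inv t1, conj_zpow_of_inv t2, ((show Commute z x from xz).zpow_zpow i j).eq]
    group
  generalize s * s = t at *
  have nC : P ≤ N(C(P ⊓ C1(x))) := nC (le_normalizer.trans n1)
  obtain ⟨m, m1, m2⟩ := (hP.mono le_sup_left (le_top : P ⊔ C(P ⊓ C1(x)) ≤ ⊤)).exists_cj_le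
    (IsPGroup_cj hP.pgroup t) (cj_le_iff.2 fun y hy => by
      rw [show t * y * t⁻¹ = y * (y⁻¹ * t * y * t⁻¹) by group]
      refine mul_mem_sup hy (mem_cent.2 fun b hb => ?_)
      have e1 := iv _ (inv_mem hb)
      have e2 := iv _ (CfsgH2.conj_mem_of_mem_normalizer (n1 (le_normalizer hy)) (inv_mem hb))
      rw [inv_inv] at e1
      calc b * (y⁻¹ * t * y * t⁻¹) = y⁻¹ * (y * b⁻¹ * y⁻¹)⁻¹ * t * y * t⁻¹ := by group
        _ = y⁻¹ * t * y * t⁻¹ * (t * b⁻¹ * t⁻¹) := by rw [← e2]; group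
        _ = _ := by rw [e1])
  obtain ⟨y, y1, d, d1, rfl⟩ := (mem_sup_of_normalizer' nC).1 m1
  rw [← cj_cj, cj_le_iff_le_cj_inv, cj_eq_of_mem (inv_mem y1), cj_cj, cj_le_iff] at m2
  have iv' : ∀ b ∈ P ⊓ C1(x), d * t * b * (d * t)⁻¹ = b⁻¹ := fun b hb => by
    rw [show d * t * b * (d * t)⁻¹ = d * (t * b * t⁻¹) * d⁻¹ by group, iv b hb, ← d1 _ (inv_mem hb),
      mul_inv_cancel_right]
  generalize d * t = n at *
  have zl : zpowers z ≤ P ⊓ C1(x) := zpowers_le.2 zA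
  have b1 : n * a * n⁻¹ * a ∈ P ⊓ C1(x) := o1.le (mem_omegaOne (mul_mem (m2 a a1) a1) (by
    rw [h.mul_pow_odd p2 (m2 a a1) a1, conj_pow, iv' _ (zl (h.pow a a1)), inv_mul_cancel]))
  have γ := h.comm a a1 x hg
  have e1 := h.comm_mul_left b1.1 (inv_mem a1) (inv_mem hg)
  have e2 := h.comm_zpow_left a1 (inv_mem hg) (-1)
  have e3 := h.comm_zpow_right a1 hg (-1)
  have e4 := iv' _ (zl γ)
  simp only [zpow_neg_one] at e2 e3
  rw [e2, e3, comm_eq_one_of_commute (Commute.inv_right (mem_cent1.1 b1.2).symm), one_mul,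
    mul_inv_cancel_right, inv_inv (a * x * a⁻¹ * x⁻¹)] at e1
  have e5 : (a * x * a⁻¹ * x⁻¹) ^ 2 = 1 := by
    rw [sq]
    nth_rewrite 1 [← e1]
    refine mul_eq_one_iff_eq_inv.2 (Eq.trans ?_ e4)
    rw [← iv' _ (inv_mem xA)]
    nth_rewrite 1 [← iv' x xA]
    group
  have e6 := Nat.eq_one_of_dvd_coprimes ((Nat.coprime_primes Nat.prime_two hp.out).2 p2.symm)
    (orderOf_dvd_of_pow_eq_one e5) (orderOf_dvd_of_pow_eq_one (eA.2 _ (zl γ)))
  exact a2 (eA.2 a ⟨a1, mem_cent1.2 (commute_of_comm_eq_one (orderOf_eq_one_iff.1 e6)).eq.symm⟩)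

end CfsgH2
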