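import Cfsg.Agent.H2.Mix2
import Cfsg.Agent.H2.Transfer
import Cfsg.Agent.H2.SylNum
import Cfsg.Agent.H2.MCFus
import Cfsg.Agent.H3.Burnside
import Cfsg.Agent.FT.PF14c

set_option autoImplicit false
open Cfsg Subgroup CfsgFT CfsgH1 MulAction
open scoped commutatorElement

/-! Small Sylow numbers of simple groups. -/
namespace CfsgH2.PS
variable {G : Type*} [Group G] [Finite G]

section Action
variable (Ω : Type*) [MulAction G Ω] [Finite Ω]

/-- the fixed point set of a subgroup -/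
def fx (B : Subgroup G) : Set Ω := {x | ∀ b ∈ B, b • x = x}

variable {Ω}
theorem mem_fx_zpowers {c : G} {x : Ω} : x ∈ fx Ω (zpowers c) ↔ c • x = x :=
  ⟨fun h => h c (mem_zpowers c), fun h _ hb => (zpowers_le.2 (mem_stabilizer_iff.2 h) hb :)⟩

theorem smul_mem_fx {B : Subgroup G} {a : G} (ha : a ∈ N(B)) {x : Ω} (hx : x ∈ fx Ω B) : a • x ∈ fx Ω B := by
  intro b hb
  have := hx _ (CfsgH2.conj_mem_of_mem_normalizer' ha hb)
  rw [mul_smul, mul_smul, inv_smul_eq_iff] at this
  exact this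

theorem ncard_mod {q : ℕ} [Fact q.Prime] {A : Subgroup G} (hA : IsPGroup q A) (S : Set Ω)
    (hS : ∀ a ∈ A, ∀ x ∈ S, a • x ∈ S) : S.ncard ≡ (S ∩ fx Ω A).ncard [MOD q] := by
  letI : MulAction A S :=
    { smul := fun g x => ⟨(g : G) • (x : Ω), hS g g.2 x x.2⟩
      one_smul := fun x => Subtype.ext (one_smul G (x : Ω))
      mul_smul := fun g h x => Subtype.ext (mul_smul (g : G) (h : G) (x : Ω)) }
  have := hA.card_modEq_card_fixedPoints S
  rw [Nat.card_coe_set_eq] at this
  convert this using 1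
  rw [← Nat.card_coe_set_eq]
  exact Nat.card_congr
    { toFun := fun x => ⟨⟨x.1, x.2.1⟩, fun a => Subtype.ext (x.2.2 a a.2)⟩
      invFun := fun x => ⟨x.1.1, x.1.2, fun a ha => congrArg Subtype.val (x.2 ⟨a, ha⟩)⟩
      left_inv := fun _ => rfl
      right_inv := fun _ => rfl }

variable (Ω) in
theorem fx_mod {q : ℕ} [Fact q.Prime] {A : Subgroup G} (hA : IsPGroup q A) :
    Nat.card Ω ≡ (fx Ω A).ncard [MOD q] := by
  simpa using ncard_mod hA (Set.univ : Set Ω) (fun _ _ _ _ => trivial)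

variable (Ω) in
theorem fx_norm {q : ℕ} [Fact q.Prime] {A B : Subgroup G} (hA : IsPGroup q A) (h : A ≤ N(B)) :
    (fx Ω B).ncard ≡ (fx Ω B ∩ fx Ω A).ncard [MOD q] :=
  ncard_mod hA _ fun _ ha _ hx => smul_mem_fx (h ha) hx

variable (Ω) in
theorem fx_le (B : Subgroup G) : (fx Ω B).ncard ≤ Nat.card Ω := Set.ncard_le_card _

theorem fx_eq_univ {B : Subgroup G} (h : Nat.card Ω ≤ (fx Ω B).ncard) : fx Ω B = Set.univ :=
  Set.eq_of_subset_of_ncard_le (Set.subset_univ _) (by rwa [Set.ncard_univ])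

variable (Ω) in
theorem fx_sign (hG : commutator G = ⊤) {t : G} (ht : t * t = 1) :
    4 ∣ Nat.card Ω - (fx Ω (zpowers t)).ncard := by
  classical
  haveI := Fintype.ofFinite Ω
  let f := Equiv.Perm.sign.comp (toPermHom G Ω)
  have h1 : f t = 1 := Abelianization.commutator_subset_ker f (hG ▸ mem_top t)
  have h2 : (toPermHom G Ω t) ^ 2 = 1 := by rw [← map_pow, sq, ht, map_one]
  have h3 := Equiv.Perm.sign_of_pow_two_eq_one h2
  have h4 : Fintype.card (Function.fixedPoints (toPermHom G Ω t)) = (fx Ω (zpowers t)).ncard := by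
    rw [← Nat.card_eq_fintype_card, Nat.card_coe_set_eq]
    congr 1; ext x; exact mem_fx_zpowers.symm
  have h5 := fx_mod Ω (q := 2) (A := zpowers t) (by
    refine isPGroup_of_forall_pow_eq_one ?_
    rintro _ ⟨i, rfl⟩
    show (t ^ i) ^ 2 = 1
    rw [← zpow_natCast, ← zpow_mul, mul_comm, zpow_mul, zpow_natCast, sq, ht, one_zpow])
  rw [h4, ← Nat.card_eq_fintype_card, show Equiv.Perm.sign (toPermHom G Ω t) = 1 from h1] at h3
  have h6 := (neg_one_pow_eq_one_iff_even (by decide)).1 h3.symm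
  have := fx_le Ω (zpowers t)
  obtain ⟨k, hk⟩ := h6
  unfold Nat.ModEq at h5
  omega

theorem fix_bound {T : Subgroup G} {z : G} (hz : z ∈ N(T)) (hc : T ⊓ C1(z) = ⊥) (F : Set Ω)
    (h1 : ∀ x ∈ F, z • x = x) (h2 : ∀ x ∈ F, ∀ t ∈ T, t • x = x → t = 1) :
    F.ncard * Nat.card T ≤ Nat.card Ω := by
  rw [← Nat.card_coe_set_eq, ← Nat.card_prod]
  refine Nat.card_le_card_of_injective (fun a : F × T => (a.2 : G) • (a.1 : Ω)) ?_
  rintro ⟨x, s⟩ ⟨y, t⟩ h
  have h3 : ((t : G)⁻¹ * s) • (x : Ω) = y := by rw [mul_smul, inv_smul_eq_iff]; exact h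
  set u := (t : G)⁻¹ * s with hu
  have huT : u ∈ T := mul_mem (inv_mem t.2) s.2
  have h4 : (u⁻¹ * (z * u * z⁻¹)) • (x : Ω) = x := by
    rw [mul_smul, inv_smul_eq_iff, mul_smul, mul_smul, (inv_smul_eq_iff.2 (h1 x x.2).symm), h3, h1 y y.2]
  have h5 := h2 x x.2 _ (mul_mem (inv_mem huT) (CfsgH2.conj_mem_of_mem_normalizer hz huT)) h4
  have h6 : u ∈ T ⊓ C1(z) := mem_inf.2 ⟨huT, mem_cent1.2 (by
    rw [inv_mul_eq_one, eq_mul_inv_iff_mul_eq] at h5; exact h5.symm)⟩
  rw [hc, mem_bot] at h6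
  rw [h6, one_smul] at h3
  exact Prod.ext (Subtype.ext h3) (Subtype.ext (inv_mul_eq_one.1 h6).symm)

end Action

theorem dvd_card_of_classes {α β : Type*} [DecidableEq β] (S : Finset α) (f : α → β) {m : ℕ}
    (h : ∀ a ∈ S, m ∣ (S.filter fun x => f x = f a).card) : m ∣ S.card := by
  rw [Finset.card_eq_sum_card_image f S]
  refine Finset.dvd_sum fun b hb => ?_
  obtain ⟨a, ha, rfl⟩ := Finset.mem_image.1 hb
  exact h a ha

theorem relIndex_cent_dvd {X : Subgroup G} (h : (Nat.card X).Prime) : C(X).relIndex N(X) ∣ Nat.card X - 1 := by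
  haveI := cyclic_of_card_prime h
  rw [relIndex, ← normalizerMonoidHom_ker, index_ker, ← Nat.totient_prime h, ← IsCyclic.card_mulAut]
  exact card_subgroup_dvd_card _

variable {p : ℕ} [hp : Fact p.Prime]

theorem smul_eq_iff {g : G} {P : Sylow p G} : g • P = P ↔ g ∈ N((P : Subgroup G)) := Sylow.smul_eq_iff_mem_normalizer

theorem smul_eq_iff' {g : G} {P Q : Sylow p G} (hg : g ∈ Q) : g • P = P ↔ g ∈ P := by
  rw [smul_eq_iff]
  refine ⟨fun h => ?_, fun h => le_normalizer h⟩
  have := Q.2.inf_normalizer_sylow P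
  exact (this.le (mem_inf.2 ⟨hg, h⟩)).2

theorem fx_sylow (P : Sylow p G) : fx (Sylow p G) (P : Subgroup G) = {P} := by
  ext Q
  refine ⟨fun h => ?_, fun h g hg => by rw [h]; exact (smul_eq_iff' hg).2 hg⟩
  exact Sylow.ext (P.is_maximal' Q.2 fun g hg => (smul_eq_iff' hg).1 (h g hg))

theorem fx_cent {P : Sylow p G} {B : Subgroup G} (h : B ≤ C((P : Subgroup G))) :
    (fx (Sylow p G) B).ncard ≡ 1 [MOD p] := by
  have := fx_norm (Sylow p G) P.2 ((le_centralizer_iff.1 h).trans (centralizer_le_normalizer _))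
  rwa [fx_sylow, Set.inter_eq_right.2, Set.ncard_singleton] at this
  rintro _ rfl
  exact fun b hb => smul_eq_iff.2 (centralizer_le_normalizer _ (h hb))

theorem card_syl (P Q : Sylow p G) : Nat.card P = Nat.card Q := by
  rw [Sylow.card_eq_multiplicity, Sylow.card_eq_multiplicity]

theorem ncard_orbit (P Q : Sylow p G) :
    (orbit (P : Subgroup G) Q).ncard = (Q : Subgroup G).relIndex P := by
  rw [← index_stabilizer, relIndex]
  congr 1
  ext g
  rw [mem_stabilizer_iff, mem_subgroupOf]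
  exact smul_eq_iff' g.2

theorem relIndex_pow {P Q : Sylow p G} (h : Q ≠ P) : ∃ k, (Q : Subgroup G).relIndex P = p ^ (k + 1) := by
  obtain ⟨k, hk⟩ := relIndex_eq_pow P.2 (Q : Subgroup G)
  cases k with
  | zero =>
    rw [pow_zero, relIndex_eq_one] at hk
    exact absurd (Sylow.ext (Q.is_maximal' P.2 ((P.is_maximal' Q.2 hk).le)).symm) h
  | succ k => exact ⟨k, hk⟩

theorem not_mem_orbit {P Q : Sylow p G} (h : Q ≠ P) : P ∉ orbit (P : Subgroup G) Q := by
  rintro ⟨g, hg⟩
  apply h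
  have : g • Q = P := hg
  rw [← inv_smul_smul g Q, this]
  exact (smul_eq_iff' (inv_mem g.2)).2 (inv_mem g.2)

theorem relIndex_lt {P Q : Sylow p G} (h : Q ≠ P) : (Q : Subgroup G).relIndex P < Nat.card (Sylow p G) := by
  rw [← ncard_orbit, ← Set.ncard_univ]
  exact Set.ncard_lt_ncard (Set.ssubset_univ_iff.2 fun e => not_mem_orbit h (e ▸ trivial))

/-- `D` has index `p` in a Sylow subgroup -/
def Big (p : ℕ) (D : Subgroup G) : Prop := ∀ P : Sylow p G, Nat.card D * p = Nat.card P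

/-- collinearity -/
def Col (P Q : Sylow p G) : Prop := Big p ((P : Subgroup G) ⊓ Q)

theorem card_inf_mul (P Q : Sylow p G) :
    Nat.card ((P : Subgroup G) ⊓ Q : Subgroup G) * (Q : Subgroup G).relIndex P = Nat.card P := by
  rw [← inf_relIndex_right, inf_comm (Q : Subgroup G)]; exact CfsgH2.card_mul_relIndex inf_le_left

theorem col_iff {P Q : Sylow p G} : Col P Q ↔ (Q : Subgroup G).relIndex P = p := by
  have := card_inf_mul P Q
  refine ⟨fun h => Nat.eq_of_mul_eq_mul_left Nat.card_pos (this.trans (h P).symm), fun h R => ?_⟩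
  rw [← card_syl P R, ← this, h]

theorem Col.symm {P Q : Sylow p G} (h : Col P Q) : Col Q P := by rwa [Col, inf_comm]

theorem Col.ne {P Q : Sylow p G} (h : Col P Q) : Q ≠ P := by
  rintro rfl
  rw [col_iff, relIndex_self] at h
  exact hp.out.one_lt.ne h

theorem Big.inf_eq {D : Subgroup G} (h : Big p D) {P Q : Sylow p G} (hP : D ≤ P) (hQ : D ≤ Q) (hne : Q ≠ P) :
    (P : Subgroup G) ⊓ Q = D := by
  refine (eq_of_le_of_card_le (le_inf hP hQ) ?_).symm
  obtain ⟨k, hk⟩ := relIndex_pow hne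
  have := card_inf_mul P Q
  rw [hk, ← h P, pow_succ, ← mul_assoc] at this
  have h2 := Nat.eq_of_mul_eq_mul_right hp.out.pos this
  rw [← h2]; exact Nat.le_mul_of_pos_right _ (pow_pos hp.out.pos _)

theorem Big.col {D : Subgroup G} (h : Big p D) {P Q : Sylow p G} (hP : D ≤ P) (hQ : D ≤ Q) (hne : Q ≠ P) :
    Col P Q := by rw [Col, h.inf_eq hP hQ hne]; exact h

theorem Big.le_smul {D : Subgroup G} (h : Big p D) {P Q : Sylow p G} (hP : D ≤ P) (hQ : D ≤ Q) {x : G}
    (hx : x ∈ P) : D ≤ (x • Q : Sylow p G) := by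
  have := le_norm_of_card_le P.2 hP (h P).ge hx
  rw [sylow_smul_coe, ← cj_eq_iff_mem_normalizer.2 this]
  exact cj_mono _ hQ

theorem triangle {P Q R : Sylow p G} (h1 : Col P Q) (h2 : Col Q R) (h3 : Col P R) : (P : Subgroup G) ⊓ Q ≤ R := by
  intro d hd
  by_contra hR
  have hne : d • R ≠ R := fun e => hR ((smul_eq_iff' hd.1).1 e)
  have e1 := Big.inf_eq h3 inf_le_right (Big.le_smul h3 inf_le_left inf_le_right hd.1) hne
  have e2 := Big.inf_eq h2 inf_le_right (Big.le_smul h2 inf_le_left inf_le_right hd.2) hne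
  have e3 := Big.inf_eq h3 inf_le_left ((e1.symm.trans e2).le.trans inf_le_left) h1.ne
  exact hR (e3.le hd).2

theorem Col.smul {P Q : Sylow p G} (h : Col P Q) (g : G) : Col (g • P) (g • Q) := by
  rw [col_iff] at h ⊢
  rwa [sylow_smul_coe, sylow_smul_coe, relIndex_cj]

variable [IsSimpleGroup G]

theorem faithful (hn : 1 < Nat.card (Sylow p G)) {g : G} (h : ∀ P : Sylow p G, g • P = P) : g = 1 := by
  rcases (toPermHom G (Sylow p G)).normal_ker.eq_bot_or_eq_top with e | e
  · rw [← mem_bot, ← e]; exact Equiv.ext h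
  · exfalso
    obtain ⟨P, Q, hne⟩ := (Finite.one_lt_card_iff_nontrivial.1 hn).1
    obtain ⟨x, rfl⟩ := exists_smul_eq G P Q
    have : x ∈ (toPermHom G (Sylow p G)).ker := e ▸ mem_top x
    exact hne (Equiv.ext_iff.1 this P).symm

theorem fx_lt (hn : 1 < Nat.card (Sylow p G)) {B : Subgroup G} (h : B ≠ ⊥) :
    (fx (Sylow p G) B).ncard < Nat.card (Sylow p G) := by
  by_contra hc
  have := fx_eq_univ (not_lt.1 hc)
  refine h (eq_bot_iff.2 fun b hb => faithful hn fun P => ?_)
  exact (this ▸ Set.mem_univ P : P ∈ fx (Sylow p G) B) b hb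

theorem perfect (hn : 1 < Nat.card (Sylow p G)) : commutator G = ⊤ := by
  rcases (inferInstance : (commutator G).Normal).eq_bot_or_eq_top with e | e
  · exfalso
    obtain ⟨P, Q, hne⟩ := (Finite.one_lt_card_iff_nontrivial.1 hn).1
    obtain ⟨x, rfl⟩ := exists_smul_eq G P Q
    refine hne (smul_eq_iff.2 (centralizer_le_normalizer _ ?_)).symm
    rw [commutator_eq_bot_iff_center_eq_top] at e
    exact center_le_centralizer _ (e ▸ mem_top x)
  · exact e

theorem card_eq_of_bot (hn : 1 < Nat.card (Sylow p G)) {D : Subgroup G} (h : Big p D) (h2 : ∀ R : Sylow p G, D ≤ R)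
    (P : Sylow p G) : Nat.card P = p := by
  have : D = ⊥ := eq_bot_iff.2 fun d hd => faithful hn fun R => smul_eq_iff.2 (le_normalizer (h2 R hd))
  rw [← h P, this, card_bot, one_mul]

theorem card_eq_of_le_sq (hn : 1 < Nat.card (Sylow p G)) (h : Nat.card (Sylow p G) ≤ p ^ 2) (P : Sylow p G) :
    Nat.card P = p := by
  have hc : ∀ P Q : Sylow p G, Q ≠ P → Col P Q := by
    intro P Q hne
    obtain ⟨k, hk⟩ := relIndex_pow hne
    have := (relIndex_lt hne).trans_le h
    rw [hk, Nat.pow_lt_pow_iff_right hp.out.one_lt] at this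
    rw [col_iff, hk, show k = 0 by omega, zero_add, pow_one]
  haveI := Finite.one_lt_card_iff_nontrivial.1 hn
  obtain ⟨Q, hQ⟩ := exists_ne P
  refine card_eq_of_bot hn (hc P Q hQ) (fun R => ?_) P
  by_cases h1 : R = P
  · exact h1 ▸ inf_le_left
  by_cases h2 : R = Q
  · exact h2 ▸ inf_le_right
  exact triangle (hc P Q hQ) (hc Q R h2) (hc P R h1)

omit [IsSimpleGroup G] in
theorem not_le_cent (hG : commutator G = ⊤) {q : ℕ} [Fact q.Prime] {T : Subgroup G} (hT : IsSylowIn q T ⊤)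
    (h0 : T ≠ ⊥) : ¬ N(T) ≤ C(T) := by
  intro h
  have := commutator_inf_of_comm hT (comm_iff.2 (le_normalizer.trans h))
  rw [hG, top_inf_eq, commutator_eq_bot_iff_le_centralizer.2 (le_centralizer_iff.1 h)] at this
  exact h0 this

theorem pg_zpowers {q : ℕ} {x : G} (h : orderOf x = q) : IsPGroup q (zpowers x) :=
  isPGroup_zpowers_of_orderOf (k := 1) (by rw [pow_one, h])

theorem zp_ne_bot {q : ℕ} (hq : q.Prime) {x : G} (h : orderOf x = q) : zpowers x ≠ ⊥ := by
  rw [Ne, zpowers_eq_bot]; rintro rfl; exact hq.one_lt.ne (by rw [← h, orderOf_one])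

theorem card_decomp (P : Sylow p G) : Nat.card G =
    Nat.card C((P : Subgroup G)) * C((P : Subgroup G)).relIndex N((P : Subgroup G)) * Nat.card (Sylow p G) := by
  rw [CfsgH2.card_mul_relIndex (centralizer_le_normalizer _), Sylow.card_eq_index_normalizer P]
  exact (card_mul_index _).symm

theorem not_fifteen : Nat.card (Sylow 7 G) ≠ 15 := by
  intro h
  haveI : Fact (Nat.Prime 7) := ⟨by norm_num⟩
  have hn : 1 < Nat.card (Sylow 7 G) := by omega
  have hG := perfect hn
  obtain ⟨P⟩ : Nonempty (Sylow 7 G) := inferInstance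
  have hP := card_eq_of_le_sq hn (by omega) P
  have h1 : ¬ 2 ∣ Nat.card C((P : Subgroup G)) := by
    intro h2
    obtain ⟨k, hk, ho⟩ := exists_orderOf_eq_prime Nat.prime_two h2
    have a1 := fx_cent (P := P) (zpowers_le.2 hk)
    have a2 := fx_sign (Sylow 7 G) hG (t := k) (by rw [← sq, ← ho, pow_orderOf_eq_one])
    have a3 := fx_lt hn (zp_ne_bot Nat.prime_two ho)
    unfold Nat.ModEq at a1
    omega
  have h2 := relIndex_cent_dvd (X := (P : Subgroup G)) (by rw [hP]; norm_num)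
  have h3 := card_decomp P
  rw [hP] at h2
  obtain ⟨S, hS⟩ := IsSylowIn.exists_sylowIn 2 (⊤ : Subgroup G)
  have h4 : ¬ 4 ∣ Nat.card G := by
    rw [h3, h]
    intro h4
    have : 4 ∣ C((P : Subgroup G)).relIndex N((P : Subgroup G)) :=
      (Nat.Coprime.pow_left 2 (Nat.prime_two.coprime_iff_not_dvd.2 h1)).dvd_of_dvd_mul_left
        ((by norm_num : Nat.Coprime 4 15).dvd_of_dvd_mul_right h4)
    have := this.trans h2
    omega
  by_cases h5 : S = ⊥
  · have := hS.eq_bot_iff.1 h5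
    rw [Subgroup.card_top] at this
    have hs : Group.IsSolvable G := CfsgPF.feit_thompson (Nat.odd_iff.2 (by omega))
    haveI := Finite.one_lt_card_iff_nontrivial.1 (show 1 < Nat.card G from
      lt_of_lt_of_le (by rw [hP]; norm_num) (card_le_card_group (P : Subgroup G)))
    exact (Group.IsSolvable.commutator_lt_top_of_nontrivial G).ne hG
  obtain ⟨k, hk⟩ := IsPGroup.iff_card.1 hS.pgroup
  have h6 : Nat.card S = 2 := by
    have h7 : k ≠ 0 := fun e => h5 (card_eq_one.1 (by rw [hk, e, pow_zero]))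
    have h8 : k < 2 := by
      by_contra h8
      exact h4 ((pow_dvd_pow 2 (not_lt.1 h8)).trans (hk ▸ card_subgroup_dvd_card S))
    rw [hk, show k = 1 by omega, pow_one]
  exact not_le_cent hG hS h5 (relIndex_eq_one.1 (Nat.dvd_one.1 (by
    simpa [h6] using relIndex_cent_dvd (X := S) (h6 ▸ Nat.prime_two))))

theorem z5a : ∀ a b : (ZMod 5)ˣ, a ^ 2 = 1 → b ^ 2 = 1 → (a ^ 1 = 1 ↔ b ^ 1 = 1) → a⁻¹ * b = 1 := by decide
theorem z5b : ∀ a b : (ZMod 5)ˣ, (a ^ 2 = 1 ↔ b ^ 2 = 1) → (a⁻¹ * b) ^ 2 = 1 := by decide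

theorem mulAut_equiv (X : Type*) [Group X] [IsCyclic X] {n : ℕ} (h : Nat.card X = n) :
    Nonempty (MulAut X ≃* (ZMod n)ˣ) := by subst h; exact ⟨IsCyclic.mulAutMulEquiv X⟩

omit [IsSimpleGroup G] in
theorem index_norm (P : Sylow p G) : N((P : Subgroup G)).index = Nat.card (Sylow p G) :=
  (Sylow.card_eq_index_normalizer P).symm

theorem not_twentyone : Nat.card (Sylow 5 G) ≠ 21 := by
  intro h
  haveI : Fact (Nat.Prime 5) := ⟨by norm_num⟩
  have hn : 1 < Nat.card (Sylow 5 G) := by omega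
  have hG := perfect hn
  obtain ⟨P⟩ : Nonempty (Sylow 5 G) := inferInstance
  have hP := card_eq_of_le_sq hn (by omega) P
  have h2 := relIndex_cent_dvd (X := (P : Subgroup G)) (by rw [hP]; norm_num)
  rw [hP] at h2
  have h3 := not_le_cent hG (IsSylowIn.of_sylow_top P) (fun e => by simp [e] at hP)
  -- `2`-elements of the centralizer fix a unique point
  have key : ∀ v ∈ C((P : Subgroup G)), ∀ k, v ^ 2 ^ k = 1 → ∀ g : G, g * v * g⁻¹ ∈ N((P : Subgroup G)) →
      g * v * g⁻¹ ∈ C((P : Subgroup G)) := by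
    intro v hv k hk g hg
    by_cases h1 : v = 1
    · simp [h1]
    obtain ⟨j, hj, hj'⟩ := exists_pow_not_mem (p := 2) (M := ⊥) (x := v) (by simpa using h1) (k := k) (by simpa using hk)
    rw [mem_bot] at hj hj'
    have ho : orderOf (v ^ 2 ^ j) = 2 := orderOf_eq_prime hj' hj
    have a1 := fx_cent (P := P) (zpowers_le.2 (pow_mem hv (2 ^ j)))
    have a2 := fx_sign (Sylow 5 G) hG (t := v ^ 2 ^ j) (by rw [← sq, hj'])
    have a3 := fx_lt hn (zp_ne_bot Nat.prime_two ho)
    unfold Nat.ModEq at a1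
    obtain ⟨x, hx⟩ := Set.ncard_eq_one.1 (show (fx (Sylow 5 G) (zpowers (v ^ 2 ^ j))).ncard = 1 by omega)
    have b1 : P ∈ fx (Sylow 5 G) (zpowers (v ^ 2 ^ j)) :=
      mem_fx_zpowers.2 (smul_eq_iff.2 (pow_mem (centralizer_le_normalizer _ hv) _))
    have b2 : g⁻¹ • P ∈ fx (Sylow 5 G) (zpowers (v ^ 2 ^ j)) := by
      rw [mem_fx_zpowers, eq_inv_smul_iff, ← mul_smul, ← mul_smul, ← conj_pow]
      exact smul_eq_iff.2 (pow_mem hg _)
    rw [hx, Set.mem_singleton_iff] at b1 b2
    have b3 : g ∈ N((P : Subgroup G)) := by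
      rw [← inv_mem_iff, ← smul_eq_iff, b2, b1]
    exact CfsgH2.conj_mem_of_mem_normalizer (CfsgH2.normalizer_le_normalizer_centralizer _ b3) hv
  obtain ⟨S, hS⟩ := IsSylowIn.exists_sylowIn 2 N((P : Subgroup G))
  have hS' : IsSylowIn 2 S ⊤ := hS.trans_of_not_dvd le_top (by
    rw [relIndex_top_right, index_norm, h]; norm_num)
  obtain ⟨m, hm⟩ := (Nat.dvd_prime_pow Nat.prime_two (i := C((P : Subgroup G)).relIndex N((P : Subgroup G))) (m := 2)).1 h2
  have h4 := hS.sup_eq_of_pow (centralizer_le_normalizer _) hm.2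
  -- the cyclic quotient
  haveI := cyclic_of_card_prime (X := (P : Subgroup G)) (by rw [hP]; norm_num)
  let φ := (P : Subgroup G).normalizerMonoidHom
  have hφ : ∀ x : N((P : Subgroup G)), φ x = 1 ↔ (x : G) ∈ C((P : Subgroup G)) := fun x => by
    rw [← MonoidHom.mem_ker, normalizerMonoidHom_ker, mem_subgroupOf]
  obtain ⟨e⟩ := mulAut_equiv _ hP
  let ψ := e.toMonoidHom.comp φ
  have hψ : ∀ x, ψ x = 1 ↔ (x : G) ∈ C((P : Subgroup G)) := fun x => by
    rw [← hφ]; exact map_eq_one_iff _ e.injective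
  have hcl : ∀ x ∈ S, ∀ g : G, g * x * g⁻¹ ∈ S → ∀ n, x ^ n ∈ C((P : Subgroup G)) →
      (g * x * g⁻¹) ^ n ∈ C((P : Subgroup G)) := by
    intro x hx g hg n hxn
    obtain ⟨k, hk⟩ := hS.pgroup ⟨x ^ n, pow_mem hx n⟩
    rw [conj_pow]
    exact key _ hxn k (congrArg Subtype.val hk) g (by rw [← conj_pow]; exact pow_mem (hS.le hg) n)
  have hcl' : ∀ x (hx : x ∈ S), ∀ g : G, (hg : g * x * g⁻¹ ∈ S) → ∀ n,
      ψ ⟨x, hS.le hx⟩ ^ n = 1 ↔ ψ ⟨_, hS.le hg⟩ ^ n = 1 := by
    intro x hx g hg n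
    rw [← map_pow, ← map_pow, hψ, hψ]
    refine ⟨hcl x hx g hg n, fun h' => ?_⟩
    have := hcl _ hg g⁻¹ (by simpa [mul_assoc] using hx) n h'
    simpa [mul_assoc] using this
  by_cases h5 : ∀ x (hx : x ∈ S), ψ ⟨x, hS.le hx⟩ ^ 2 = 1
  · have := commutator_inf_le_of_fusion (L := C((P : Subgroup G))) hS' fun x hx g _ hg => by
      have a := hcl' x hx g hg 1
      have := (hψ ((⟨x, hS.le hx⟩ : N((P : Subgroup G)))⁻¹ * ⟨_, hS.le hg⟩)).1 (by
        rw [map_mul, map_inv]
        exact z5a _ _ (h5 x hx) (h5 _ hg) a)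
      exact this
    rw [← _root_.commutator_def, hG, top_inf_eq] at this
    exact h3 (h4.ge.trans (sup_le this le_rfl))
  · push Not at h5
    obtain ⟨y, hy, h5⟩ := h5
    have := commutator_inf_le_of_fusion (L := ((powMonoidHom 2).comp ψ).ker.map N((P : Subgroup G)).subtype) hS'
      fun x hx g _ hg => ⟨(⟨x, hS.le hx⟩ : N((P : Subgroup G)))⁻¹ * ⟨_, hS.le hg⟩, by
        show ψ _ ^ 2 = 1
        rw [map_mul, map_inv]
        exact z5b _ _ (hcl' x hx g hg 2), rfl⟩
    rw [← _root_.commutator_def, hG, top_inf_eq] at this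
    obtain ⟨z, hz, rfl⟩ := this hy
    exact h5 hz

theorem card_three (h : Nat.card (Sylow 3 G) = 22) (P : Sylow 3 G) : Nat.card P = 3 := by
  classical
  haveI := Fintype.ofFinite (Sylow 3 G)
  have hn : 1 < Nat.card (Sylow 3 G) := by omega
  have hc : Fintype.card (Sylow 3 G) = 22 := by rw [← Nat.card_eq_fintype_card, h]
  let Γ : Sylow 3 G → Finset (Sylow 3 G) := fun P => Finset.univ.filter (Col P)
  have mΓ : ∀ P Q, Q ∈ Γ P ↔ Col P Q := fun P Q => by simp [Γ]
  have hv : ∀ Q, (Γ Q).card = (Γ P).card := by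
    intro Q
    obtain ⟨g, rfl⟩ := exists_smul_eq G P Q
    refine (Finset.card_bij (fun R _ => g • R) (fun R hR => (mΓ _ _).2 (((mΓ _ _).1 hR).smul g))
      (fun _ _ _ _ e => MulAction.injective g e) fun R hR => ⟨g⁻¹ • R, (mΓ _ _).2 ?_, smul_inv_smul g R⟩).symm
    simpa using ((mΓ _ _).1 hR).smul g⁻¹
  have h9 : 9 ∣ (Finset.univ.filter fun Q => Q ≠ P ∧ ¬ Col P Q).card := by
    refine dvd_card_of_classes _ (fun Q => orbit (P : Subgroup G) Q) fun Q hQ => ?_
    obtain ⟨-, h1, h2⟩ := Finset.mem_filter.1 hQ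
    obtain ⟨k, hk⟩ := relIndex_pow h1
    have : k ≠ 0 := fun e => h2 (col_iff.2 (by rw [hk, e, zero_add, pow_one]))
    have h3 : 9 ∣ (orbit (P : Subgroup G) Q).ncard := by
      rw [ncard_orbit, hk]; exact pow_dvd_pow 3 (show 2 ≤ k + 1 by omega)
    convert h3
    rw [← Set.ncard_coe_finset]
    congr 1
    ext R
    simp only [Finset.coe_filter, Finset.mem_filter, Finset.mem_univ, true_and, Set.mem_setOf_eq]
    refine ⟨fun h => h.2 ▸ mem_orbit_self R, fun hR => ⟨⟨?_, fun h4 => h2 ?_⟩, orbit_eq_iff.2 hR⟩⟩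
    · rintro rfl; exact not_mem_orbit h1 hR
    · rw [col_iff, ← ncard_orbit] at h4 ⊢
      rwa [← orbit_eq_iff.2 hR]
  have hsum : (Γ P).card + (Finset.univ.filter fun Q => Q ≠ P ∧ ¬ Col P Q).card + 1 = 22 := by
    rw [← hc, ← Finset.card_univ, ← Finset.card_filter_add_card_filter_not (s := Finset.univ) (Col P), add_assoc]
    refine congrArg (_ + ·) ?_
    rw [← Finset.card_insert_of_notMem (a := P) (by simp)]
    refine congrArg Finset.card ?_
    ext Q
    by_cases hQ : Q = P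
    · subst hQ; simpa using fun h : Col Q Q => h.ne rfl
    · simp [hQ]
  by_contra hP
  have line : ∀ Q R, Col Q R → insert Q (Γ Q) = Finset.univ.filter fun X : Sylow 3 G => (Q : Subgroup G) ⊓ R ≤ X := by
    intro Q R hQR
    set ℓ := Finset.univ.filter fun X : Sylow 3 G => (Q : Subgroup G) ⊓ R ≤ X with hℓ
    have mℓ : ∀ X, X ∈ ℓ ↔ (Q : Subgroup G) ⊓ R ≤ X := fun X => by simp [hℓ]
    have s1 : ∀ X ∈ ℓ, ℓ ⊆ insert X (Γ X) := fun X hX Y hY => by
      by_cases e : Y = X
      · simp [e]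
      · exact Finset.mem_insert_of_mem ((mΓ _ _).2 (Big.col hQR ((mℓ _).1 hX) ((mℓ _).1 hY) e))
    have s2 : ∀ X, (insert X (Γ X)).card = (Γ P).card + 1 := fun X => by
      rw [Finset.card_insert_of_notMem fun h => ((mΓ _ _).1 h).ne rfl, hv]
    have s3 : ℓ.card < 22 := by
      rw [← hc]
      refine Finset.card_lt_card (Finset.ssubset_univ_iff.2 fun e => hP ?_)
      exact card_eq_of_bot hn hQR (fun X => (mℓ X).1 (e ▸ Finset.mem_univ X)) P
    have s4 : 4 ≤ ℓ.card := by
      have a1 : (insert Q (orbit (Q : Subgroup G) R)).ncard = 4 := by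
        rw [Set.ncard_insert_of_notMem (not_mem_orbit hQR.ne), ncard_orbit, col_iff.1 hQR]
      rw [← a1, ← Set.ncard_coe_finset]
      refine Set.ncard_le_ncard ?_
      rintro X (rfl | ⟨g, rfl⟩)
      · exact (mℓ _).2 inf_le_left
      · exact (mℓ _).2 (Big.le_smul hQR inf_le_left inf_le_right g.2)
    have s5 : (ℓ.biUnion fun X => insert X (Γ X) \ ℓ).card = ℓ.card * ((Γ P).card + 1 - ℓ.card) := by
      rw [Finset.card_biUnion, Finset.sum_congr rfl fun X hX => by
        rw [Finset.card_sdiff_of_subset (s1 X hX), s2], Finset.sum_const, smul_eq_mul]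
      intro X hX Y hY hne
      refine Finset.disjoint_left.2 fun W h1 h2 => ?_
      obtain ⟨h1, h3⟩ := Finset.mem_sdiff.1 h1
      obtain ⟨h2, -⟩ := Finset.mem_sdiff.1 h2
      have h1 := (Finset.mem_insert.1 h1).resolve_left fun e => h3 (e ▸ hX)
      have h2 := (Finset.mem_insert.1 h2).resolve_left fun e => h3 (e ▸ hY)
      have := triangle (Big.col hQR ((mℓ _).1 hX) ((mℓ _).1 hY) (Ne.symm hne)) ((mΓ _ _).1 h2) ((mΓ _ _).1 h1)
      rw [Big.inf_eq hQR ((mℓ _).1 hX) ((mℓ _).1 hY) (Ne.symm hne)] at this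
      exact h3 ((mℓ _).2 this)
    have s6 : (ℓ.biUnion fun X => insert X (Γ X) \ ℓ).card ≤ 22 - ℓ.card := by
      rw [← hc, ← Finset.card_compl]
      refine Finset.card_le_card fun W hW => ?_
      obtain ⟨X, -, hX⟩ := Finset.mem_biUnion.1 hW
      exact Finset.mem_compl.2 (Finset.mem_sdiff.1 hX).2
    have s7 := Finset.card_le_card (s1 Q ((mℓ _).2 inf_le_left))
    refine (Finset.eq_of_subset_of_card_le (s1 Q ((mℓ _).2 inf_le_left)) ?_).symm
    rw [s2] at s7 ⊢
    rw [s5] at s6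
    have : (Γ P).card = 3 ∨ (Γ P).card = 12 ∨ (Γ P).card = 21 := by omega
    generalize ℓ.card = s at s3 s4 s6 s7 ⊢
    rcases this with e | e | e <;> rw [e] at s6 s7 ⊢ <;> interval_cases s <;> omega
  have hdiv : (Γ P).card + 1 ∣ (Finset.univ : Finset (Sylow 3 G)).card := by
    refine dvd_card_of_classes _ (fun Q => insert Q (Γ Q)) fun Q _ => ?_
    have : (Finset.univ.filter fun X => insert X (Γ X) = insert Q (Γ Q)) = insert Q (Γ Q) := by
      ext X
      simp only [Finset.mem_filter, Finset.mem_univ, true_and]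
      refine ⟨fun e => e ▸ Finset.mem_insert_self _ _, fun hX => ?_⟩
      rcases Finset.mem_insert.1 hX with rfl | hX
      · rfl
      · rw [line Q X ((mΓ _ _).1 hX), line X Q ((mΓ _ _).1 hX).symm, inf_comm]
    rw [this, Finset.card_insert_of_notMem fun h => ((mΓ _ _).1 h).ne rfl, hv Q]
  rw [Finset.card_univ, hc] at hdiv
  have h21 : (Γ P).card = 21 := by
    have : (Γ P).card = 3 ∨ (Γ P).card = 12 ∨ (Γ P).card = 21 := by omega
    rcases this with e | e | e
    · rw [e] at hdiv; omega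
    · rw [e] at hdiv; omega
    · exact e
  obtain ⟨Q, hQ⟩ := Finset.card_pos.1 (show 0 < (Γ P).card by omega)
  refine hP (card_eq_of_bot hn ((mΓ _ _).1 hQ) (fun X => ?_) P)
  have : insert P (Γ P) = Finset.univ := Finset.eq_univ_of_card _ (by
    rw [Finset.card_insert_of_notMem fun h => ((mΓ _ _).1 h).ne rfl, h21, hc])
  rw [line P Q ((mΓ _ _).1 hQ)] at this
  exact (Finset.mem_filter.1 (this ▸ Finset.mem_univ X :)).2

/-- the centralizer acts faithfully modulo `P` on the nontrivial `P`-orbits -/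
theorem relIndex_cent_dvd_factorial (hn : 1 < Nat.card (Sylow p G)) {P : Sylow p G} (hP : Nat.card P = p) {m : ℕ}
    (hm : Nat.card (Sylow p G) ≤ p * m + p) : (P : Subgroup G).relIndex C((P : Subgroup G)) ∣ m.factorial := by
  classical
  have hc : (P : Subgroup G) ≤ C((P : Subgroup G)) := by
    haveI := cyclic_of_card_prime (X := (P : Subgroup G)) (by rw [hP]; exact hp.out)
    exact comm_iff.1 inferInstance
  have horb : ∀ Q, Q ≠ P → (orbit (P : Subgroup G) Q).ncard = p := fun Q hQ => by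
    obtain ⟨k, hk⟩ := relIndex_pow hQ
    rw [ncard_orbit]
    have : (Q : Subgroup G).relIndex P ∣ p := (relIndex_dvd_card _ _).trans (by rw [hP])
    refine ((Nat.dvd_prime hp.out).1 this).resolve_left ?_
    rw [hk]; exact (Nat.one_lt_pow (by omega) hp.out.one_lt).ne'
  have hs : ∀ c ∈ C((P : Subgroup G)), ∀ Q : Sylow p G,
      (fun X => c • X) '' orbit (P : Subgroup G) Q = orbit (P : Subgroup G) (c • Q) := by
    intro c hc Q
    have : ∀ g : (P : Subgroup G), c • (g • Q) = g • (c • Q) := fun g => by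
      show c • ((g : G) • Q) = (g : G) • (c • Q)
      rw [← mul_smul, ← mul_smul, mem_centralizer_iff.1 hc g g.2]
    ext X
    exact ⟨fun ⟨_, ⟨g, rfl⟩, e⟩ => ⟨g, (this g).symm.trans e⟩, fun ⟨g, e⟩ => ⟨_, ⟨g, rfl⟩, (this g).trans e⟩⟩
  have hcP : ∀ c ∈ C((P : Subgroup G)), c • P = P := fun c hc => smul_eq_iff.2 (centralizer_le_normalizer _ hc)
  refine relIndex_dvd_factorial (fun (g : G) (X : Set (Sylow p G)) => (fun Y => g • Y) '' X) (by simp)
    (fun g h x => by simp [Set.image_image, mul_smul])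
    {X | ∃ Q, Q ≠ P ∧ orbit (P : Subgroup G) Q = X} ?_ ?_ ?_
  · rintro c hc _ ⟨Q, hQ, rfl⟩
    exact ⟨c • Q, fun e => hQ (MulAction.injective c (e.trans (hcP c hc).symm)), (hs c hc Q).symm⟩
  · intro c hcc
    constructor
    · rintro hg _ ⟨Q, -, rfl⟩
      rw [hs c hcc]; exact orbit_smul (⟨c, hg⟩ : (P : Subgroup G)) Q
    · intro h1
      have h2 : c ^ p = 1 := faithful hn fun Q => by
        by_cases hQ : Q = P
        · rw [hQ]; exact hcP _ (pow_mem hcc p)
        have := h1 _ ⟨Q, hQ, rfl⟩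
        rw [hs c hcc, orbit_eq_iff] at this
        obtain ⟨g, hg⟩ := this
        have h3 : ((g : G)⁻¹ * c) • Q = Q := by rw [mul_smul, inv_smul_eq_iff]; exact hg.symm
        have h4 : Commute (g : G)⁻¹ c := mem_centralizer_iff.1 hcc _ (inv_mem g.2)
        have h5 := pow_mem (mem_stabilizer_iff.2 h3) p
        have h6 : (g : G) ^ p = 1 := by
          have := pow_card_eq_one' (x := g)
          rw [hP] at this; exact congrArg Subtype.val this
        rwa [h4.mul_pow, inv_pow, h6, inv_one, one_mul] at h5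
      refine zpowers_le.1 ((IsSylowIn.of_sylow_top P).le_of_le_normalizer ?_ le_top
        (zpowers_le.2 (centralizer_le_normalizer _ hcc)))
      rcases (Nat.dvd_prime hp.out).1 (orderOf_dvd_of_pow_eq_one h2) with e | e
      · exact isPGroup_zpowers_of_orderOf (k := 0) (by simpa using e)
      · exact pg_zpowers e
  · haveI := Fintype.ofFinite (Sylow p G)
    have h1 := Finset.card_eq_sum_card_image (fun Q => orbit (P : Subgroup G) Q) (Finset.univ.erase P)
    rw [Finset.sum_congr rfl (g := fun _ => p), Finset.sum_const, Finset.card_erase_of_mem (Finset.mem_univ _),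
      Finset.card_univ, ← Nat.card_eq_fintype_card, smul_eq_mul] at h1
    · have h2 : Nat.card {X | ∃ Q, Q ≠ P ∧ orbit (P : Subgroup G) Q = X} =
          ((Finset.univ.erase P).image fun Q => orbit (P : Subgroup G) Q).card := by
        rw [Nat.card_coe_set_eq, ← Set.ncard_coe_finset]; congr 1; ext X; simp
      rw [h2]
      by_contra h3
      have := Nat.mul_le_mul_right p (Nat.succ_le_of_lt (not_le.1 h3))
      rw [← h1, Nat.succ_mul, mul_comm] at this
      omega
    · intro X hX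
      obtain ⟨Q, hQ, rfl⟩ := Finset.mem_image.1 hX
      have hQ := Finset.ne_of_mem_erase hQ
      refine Eq.trans ?_ (horb Q hQ)
      rw [← Set.ncard_coe_finset]
      congr 1; ext R
      simp only [Finset.coe_filter, Finset.mem_erase, Finset.mem_univ, and_true, Set.mem_setOf_eq]
      exact ⟨fun h => h.2 ▸ mem_orbit_self R, fun hR => ⟨by rintro rfl; exact not_mem_orbit hQ hR, orbit_eq_iff.2 hR⟩⟩

theorem not_twentytwo : Nat.card (Sylow 3 G) ≠ 22 := by
  intro h
  haveI : Fact (Nat.Prime 11) := ⟨by norm_num⟩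
  haveI : Fact (Nat.Prime 5) := ⟨by norm_num⟩
  haveI : Fact (Nat.Prime 7) := ⟨by norm_num⟩
  have hn : 1 < Nat.card (Sylow 3 G) := by omega
  have hG := perfect hn
  have hP := card_three h
  obtain ⟨P⟩ : Nonempty (Sylow 3 G) := inferInstance
  have hc : (P : Subgroup G) ≤ C((P : Subgroup G)) := by
    haveI := cyclic_of_card_prime (X := (P : Subgroup G)) (by rw [hP P]; exact Nat.prime_three)
    exact comm_iff.1 inferInstance
  have h2 : ∀ P : Sylow 3 G, C((P : Subgroup G)).relIndex N((P : Subgroup G)) = 2 := fun P => by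
    have h2 := relIndex_cent_dvd (X := (P : Subgroup G)) (by rw [hP]; norm_num)
    rw [hP] at h2
    exact ((Nat.dvd_prime Nat.prime_two).1 h2).resolve_left fun e =>
      not_le_cent hG (IsSylowIn.of_sylow_top P) (fun e => by simpa [e] using hP P) (relIndex_eq_one.1 e)
  obtain ⟨k, hk⟩ : ∃ k, k = (P : Subgroup G).relIndex C((P : Subgroup G)) := ⟨_, rfl⟩
  have hk1 : k ∣ 5040 := hk ▸ relIndex_cent_dvd_factorial hn (hP P) (m := 7) (by omega)
  have hk2 : ¬ 3 ∣ k := hk ▸ ((IsSylowIn.of_sylow_top P).mono hc le_top).not_dvd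
  have hC : Nat.card C((P : Subgroup G)) = 3 * k := by rw [← CfsgH2.card_mul_relIndex hc, hP, hk]
  have hN : Nat.card N((P : Subgroup G)) = 6 * k := by
    rw [← CfsgH2.card_mul_relIndex (centralizer_le_normalizer _), h2, hC]; ring
  have hcard : Nat.card G = 132 * k := by rw [card_decomp P, hC, h2, h]; ring
  have hk3 : ¬ 11 ∣ k := fun e => by have := e.trans hk1; omega
  obtain ⟨T⟩ : Nonempty (Sylow 11 G) := inferInstance
  have hT : Nat.card T = 11 := by
    obtain ⟨j, hj⟩ := IsPGroup.iff_card.1 T.2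
    have a1 : 11 ∣ Nat.card T := T.dvd_card_of_dvd_card (by rw [hcard]; omega)
    have a2 : ¬ 11 ^ 2 ∣ Nat.card T := fun e => by
      have := e.trans (card_subgroup_dvd_card (T : Subgroup G))
      rw [hcard] at this; omega
    rw [hj] at a1 a2 ⊢
    have : j ≠ 0 := by rintro rfl; omega
    have : j < 2 := by by_contra e; exact a2 (pow_dvd_pow _ (not_lt.1 e))
    rw [show j = 1 by omega, pow_one]
  have hsemi : ∀ Q : Sylow 3 G, ∀ t ∈ (T : Subgroup G), t • Q = Q → t = 1 := by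
    intro Q t ht e
    have a1 : Nat.card N((Q : Subgroup G)) = 6 * k := by
      have := card_mul_index N((Q : Subgroup G))
      rw [index_norm, h, hcard] at this; omega
    have a2 := Subgroup.orderOf_dvd_natCard _ (smul_eq_iff.1 e)
    have a3 := Subgroup.orderOf_dvd_natCard _ ht
    rw [hT] at a3
    rcases (Nat.dvd_prime (by norm_num)).1 a3 with e | e
    · exact orderOf_eq_one_iff.1 e
    · rw [e, a1] at a2; omega
  have hfxT : fx (Sylow 3 G) (T : Subgroup G) = ∅ := Set.eq_empty_of_forall_notMem fun Q hQ => by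
    have : (T : Subgroup G) = ⊥ := eq_bot_iff.2 fun t ht => hsemi Q t ht (hQ t ht)
    simp [this] at hT
  have hTc : (T : Subgroup G) ≤ C((T : Subgroup G)) := by
    haveI := cyclic_of_card_prime (X := (T : Subgroup G)) (by rw [hT]; norm_num)
    exact comm_iff.1 inferInstance
  have hCT : C((T : Subgroup G)) = T := by
    refine ((IsSylowIn.of_sylow_top T).mono hTc le_top).eq_of_isPGroup (isPi_singleton_iff.1
      (isPi_of_forall_prime_orderOf fun c hc ho => ?_)) |>.symm
    by_contra h11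
    haveI := Fact.mk ho
    have a1 := fx_norm (Sylow 3 G) T.2 (B := zpowers c)
      ((le_centralizer_iff.1 (zpowers_le.2 hc)).trans (centralizer_le_normalizer _))
    rw [hfxT, Set.inter_empty, Set.ncard_empty] at a1
    have a2 := fx_mod (Sylow 3 G) (pg_zpowers (x := c) rfl)
    have a3 := fx_lt hn (zp_ne_bot ho rfl)
    unfold Nat.ModEq at a1
    rw [h] at a2 a3
    have a4 : (fx (Sylow 3 G) (zpowers c)).ncard = 0 ∨ (fx (Sylow 3 G) (zpowers c)).ncard = 11 := by omega
    rcases a4 with a4 | a4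
    · rw [a4] at a2
      have a5 : orderOf c ∣ 2 * 11 := (Nat.modEq_zero_iff_dvd.1 a2)
      rcases (Nat.Prime.dvd_mul ho).1 a5 with a5 | a5
      · have a6 := (Nat.prime_dvd_prime_iff_eq ho Nat.prime_two).1 a5
        have := fx_sign (Sylow 3 G) hG (t := c) (by rw [← sq, ← a6, pow_orderOf_eq_one])
        omega
      · exact h11 ((Nat.prime_dvd_prime_iff_eq ho (by norm_num)).1 a5)
    · rw [a4] at a2
      have a5 : orderOf c ∣ 11 := (Nat.modEq_iff_dvd' (by norm_num)).1 a2.symm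
      exact h11 ((Nat.prime_dvd_prime_iff_eq ho (by norm_num)).1 a5)
  have hfpf : ∀ z : G, (orderOf z).Prime → orderOf z ≠ 11 → z ∈ N((T : Subgroup G)) → (T : Subgroup G) ⊓ C1(z) = ⊥ := by
    intro z ho h11 hz
    refine (eq_bot_or_eq_of_card_prime (by rw [hT]; norm_num) inf_le_left).resolve_right fun e => ?_
    have : z ∈ C((T : Subgroup G)) := mem_centralizer_iff.2 fun t ht => (mem_cent1.1 (e.ge ht).2).symm
    rw [hCT] at this
    have := Subgroup.orderOf_dvd_natCard _ this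
    rw [hT] at this
    exact h11 ((Nat.prime_dvd_prime_iff_eq ho (by norm_num)).1 this)
  have he := relIndex_cent_dvd (X := (T : Subgroup G)) (by rw [hT]; norm_num)
  rw [hT] at he
  have he1 := not_le_cent hG (IsSylowIn.of_sylow_top T) (fun e => by simp [e] at hT)
  rw [← relIndex_eq_one] at he1
  have hNT := CfsgH2.card_mul_relIndex (centralizer_le_normalizer _ : C((T : Subgroup G)) ≤ N((T : Subgroup G)))
  have he5 : ¬ 5 ∣ C((T : Subgroup G)).relIndex N((T : Subgroup G)) := by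
    intro h5
    obtain ⟨z, hz, ho⟩ := exists_orderOf_eq_prime (by norm_num : Nat.Prime 5) (hNT ▸ h5.mul_left _)
    have a1 := fix_bound hz (hfpf z (by rw [ho]; norm_num) (by omega) hz) (fx (Sylow 3 G) (zpowers z))
      (fun x hx => mem_fx_zpowers.1 hx) (fun x _ => hsemi x)
    have a2 := fx_mod (Sylow 3 G) (pg_zpowers ho)
    unfold Nat.ModEq at a2
    rw [hT, h] at a1
    rw [h] at a2
    obtain ⟨Q, hQ⟩ := (Set.ncard_pos (s := fx (Sylow 3 G) (zpowers z))).1 (by omega)
    have a3 : z ∈ C((Q : Subgroup G)) := by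
      refine mem_of_pow_mem_of_pow_mem (m := 5) (n := 2) (by norm_num) (by rw [← ho, pow_orderOf_eq_one]; exact one_mem _) ?_
      haveI := normal_subgroupOf (CfsgH2.normalizer_le_normalizer_centralizer (Q : Subgroup G))
      have := pow_index_mem (H := C((Q : Subgroup G)).subgroupOf N((Q : Subgroup G)))
        ⟨z, smul_eq_iff.1 (mem_fx_zpowers.1 hQ)⟩
      rwa [show (C((Q : Subgroup G)).subgroupOf N((Q : Subgroup G))).index = 2 from h2 Q] at this
    have a4 := fx_cent (P := Q) (zpowers_le.2 a3)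
    unfold Nat.ModEq at a4
    omega
  have he2 : C((T : Subgroup G)).relIndex N((T : Subgroup G)) = 2 := by
    have := Nat.le_of_dvd (by norm_num) he
    generalize C((T : Subgroup G)).relIndex N((T : Subgroup G)) = e at he he1 he5 this
    interval_cases e <;> simp_all
  have hn11 : Nat.card (Sylow 11 G) = 6 * k := by
    have := card_decomp T
    rw [he2, hCT, hT, hcard] at this; omega
  have hmod := card_sylow_modEq_one 11 G
  unfold Nat.ModEq at hmod
  rw [hn11] at hmod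
  have hk4 : k = 2 ∨ k = 35 ∨ k = 112 := by
    have a1 : k ∣ 560 := by
      have : (9 : ℕ).Coprime k := Nat.Coprime.pow_left 2 (Nat.prime_three.coprime_iff_not_dvd.2 hk2)
      exact this.symm.dvd_of_dvd_mul_left hk1
    have a2 : k ∈ Nat.divisors 560 := Nat.mem_divisors.2 ⟨a1, by norm_num⟩
    exact (by decide : ∀ k ∈ Nat.divisors 560, 6 * k % 11 = 1 % 11 → k = 2 ∨ k = 35 ∨ k = 112) k a2 hmod
  rcases hk4 with rfl | hk4
  · obtain ⟨u, hu, ho⟩ := exists_orderOf_eq_prime (H := N((T : Subgroup G))) Nat.prime_two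
      (by rw [← hNT, he2]; exact Dvd.intro_left _ rfl)
    have a1 := fix_bound hu (hfpf u (ho ▸ Nat.prime_two) (by omega) hu) (fx (Sylow 11 G) (zpowers u) \ {T})
      (fun x hx => mem_fx_zpowers.1 hx.1) (fun x hx t ht e => by
        have := Big.inf_eq (D := ⊥) (fun R => by rw [card_bot, one_mul, ← card_syl T R, hT]) bot_le bot_le hx.2
        rw [← mem_bot, ← this]
        exact ⟨ht, (smul_eq_iff' ht).1 e⟩)
    have a2 := fx_sign (Sylow 11 G) hG (t := u) (by rw [← sq, ← ho, pow_orderOf_eq_one])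
    have a3 : T ∈ fx (Sylow 11 G) (zpowers u) := mem_fx_zpowers.2 (smul_eq_iff.2 hu)
    have a4 := Set.ncard_diff_singleton_add_one a3
    rw [hT, hn11] at a1
    rw [hn11] at a2
    omega
  have h7 : 7 ∣ k := by omega
  obtain ⟨y, hy, ho⟩ := exists_orderOf_eq_prime (by norm_num : Nat.Prime 7) (hC ▸ h7.mul_left 3)
  have hfy : fx (Sylow 3 G) (zpowers y) = {P} := by
    have a1 := fx_cent (P := P) (zpowers_le.2 hy)
    have a2 := fx_mod (Sylow 3 G) (pg_zpowers ho)
    have a3 := fx_lt hn (zp_ne_bot (by norm_num) ho)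
    unfold Nat.ModEq at a1 a2
    obtain ⟨x, hx⟩ := Set.ncard_eq_one.1 (show (fx (Sylow 3 G) (zpowers y)).ncard = 1 by omega)
    have : P ∈ fx (Sylow 3 G) (zpowers y) := mem_fx_zpowers.2 (smul_eq_iff.2 (centralizer_le_normalizer _ hy))
    rw [hx] at this ⊢; rw [this]
  -- no nontrivial `2`- or `5`-subgroup of the centralizer is normalized by `y`
  have hE : ∀ (r : ℕ) [Fact r.Prime], r = 2 ∨ r = 5 → ∀ E : Subgroup G, IsPGroup r E → E ≤ C((P : Subgroup G)) →
      y ∈ N(E) → E = ⊥ := by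
    intro r _ hr E hE hEC hyE
    by_contra h0
    have a1 := fx_cent hEC
    have a2 := fx_mod (Sylow 3 G) hE
    have a3 := fx_lt hn h0
    have a4 := fx_norm (Sylow 3 G) (pg_zpowers ho) (zpowers_le.2 hyE)
    rw [hfy, Set.inter_eq_right.2, Set.ncard_singleton] at a4
    · unfold Nat.ModEq at a1 a2 a4
      rcases hr with rfl | rfl <;> omega
    · rintro _ rfl
      exact fun b hb => smul_eq_iff.2 (centralizer_le_normalizer _ (hEC hb))
  have hnpc := burnside_hasNPC ((IsSylowIn.of_sylow_top P).mono hc le_top)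
    (inf_le_left : _ ≤ C((P : Subgroup G)))
  have hK := npc_iff_hall.1 hnpc
  set K := Opi {3}ᶜ C((P : Subgroup G)) with hKd
  have hKc : Nat.card K = k := by
    have := ((IsSylowIn.of_sylow_top P).mono hc le_top).hall.card_mul hK
    rw [hP, hC] at this; omega
  have hyK : y ∈ K := hK.mem_of_normal (le_normalizer_Opi _ _) hy (by
    rw [ho]; intro q hq hd; rw [(Nat.prime_dvd_prime_iff_eq hq (by norm_num)).1 hd]; simp)
  obtain ⟨r, hr, a, hr', hka⟩ : ∃ r : ℕ, r.Prime ∧ ∃ a, (r = 2 ∧ a = 4 ∨ r = 5 ∧ a = 1) ∧ k = r ^ a * 7 := by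
    rcases hk4 with e | e
    · exact ⟨5, by norm_num, 1, by simp, e⟩
    · exact ⟨2, by norm_num, 4, by simp, e⟩
  haveI := Fact.mk hr
  have hs : Group.IsSolvable K := CfsgH3.isSolvable_of_card_dvd_pow_mul_pow (p := r) (q := 7) (a := a) (b := 1)
    hr (by norm_num) (by rw [hKc, hka, pow_one])
  obtain ⟨V, l, hl, hVK, hV0, hV, hKV, -⟩ := exists_ea_normalized (L := K) hs
    (fun e => by rw [e, card_bot] at hKc; omega) le_rfl le_normalizer
  haveI := Fact.mk hl
  have hVp := ea_isPGroup hV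
  have hld : l ∣ r ^ a * 7 := hka ▸ hKc ▸ (dvd_card_of_isPGroup hVp hV0).trans (card_dvd_of_le hVK)
  rcases (Nat.Prime.dvd_mul hl).1 hld with e | e
  · obtain rfl := (Nat.prime_dvd_prime_iff_eq hl hr).1 (hl.dvd_of_dvd_pow e)
    exact hV0 (hE l (by omega) V hVp (hVK.trans hK.le) (hKV hyK))
  obtain rfl := (Nat.prime_dvd_prime_iff_eq hl (by norm_num)).1 e
  have hY : IsSylowIn 7 (zpowers y) K := ⟨zpowers_le.2 hyK, pg_zpowers ho, fun e => by
    have := CfsgH2.card_mul_relIndex (zpowers_le.2 hyK)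
    rw [Nat.card_zpowers, ho, hKc] at this
    omega⟩
  have hVY : V = zpowers y := (eq_bot_or_eq_of_card_prime (by rw [Nat.card_zpowers, ho]; norm_num)
    (hY.le_of_normalizer hVp hVK hKV)).resolve_left hV0
  obtain ⟨R, hR⟩ := IsSylowIn.exists_sylowIn r K
  have hRc : Nat.card R = r ^ a := by
    rw [hR.card_eq, hKc, hka]
    rcases hr' with ⟨rfl, rfl⟩ | ⟨rfl, rfl⟩
    · rw [Nat.factorization_mul (by norm_num) (by norm_num), Nat.Prime.factorization_pow Nat.prime_two,
        Nat.Prime.factorization (by norm_num)]; simp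
    · rw [Nat.factorization_mul (by norm_num) (by norm_num), Nat.Prime.factorization_pow (by norm_num),
        Nat.Prime.factorization (by norm_num)]; simp
  have b1 := hE r (by omega) (R ⊓ C(V)) (hR.pgroup.to_le inf_le_left) (inf_le_left.trans (hR.le.trans hK.le))
    (centralizer_le_normalizer _ (le_centralizer_iff.1 inf_le_right (hVY ▸ mem_zpowers y)))
  have b2 := card_dvd_card_sub_one (K := V) (R := R) (hR.le.trans hKV) fun x hx hx1 => by
    refine (eq_bot_or_eq_of_card_prime (by rw [hVY, Nat.card_zpowers, ho]; norm_num) inf_le_left).resolve_right fun e => ?_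
    have : x ∈ R ⊓ C(V) := mem_inf.2 ⟨hx, mem_centralizer_iff.2 fun t ht => (mem_cent1.1 (e.ge ht).2).symm⟩
    rw [b1, mem_bot] at this
    exact hx1 this
  rw [hRc, hVY, Nat.card_zpowers, ho] at b2
  rcases hr' with ⟨rfl, rfl⟩ | ⟨rfl, rfl⟩ <;> omega

end CfsgH2.PS

namespace CfsgH2.PS
universe u
theorem ne_of_simple {p n : ℕ} [hp : Fact p.Prime] (hn : n ≠ 1) (h1 : ∀ m, m ∣ n → m % p = 1 → m = 1 ∨ m = n)
    (h2 : ¬ IsPrimePow n)
    (h3 : ∀ (S : Type u) [Group S] [Finite S] [IsSimpleGroup S], Nat.card (Sylow p S) ≠ n)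
    (G : Type u) [Group G] [Finite G] : Nat.card (Sylow p G) ≠ n := by
  intro h
  obtain ⟨l, a, b⟩ := sylow_number_list (p := p) _ G rfl
  refine hn (h ▸ a ▸ List.prod_eq_one fun m hm => ?_)
  have hd : m ∣ n := h ▸ a ▸ List.dvd_prod hm
  rcases b m hm with ⟨c, e⟩ | ⟨S, _, _, c, -, e⟩
  · exact (h1 m hd e).resolve_right fun e => h2 (e ▸ c)
  · refine (h1 m hd ?_).resolve_right fun e' => h3 S (e ▸ e')
    have := card_sylow_modEq_one p S
    rwa [Nat.ModEq, ← e, Nat.mod_eq_of_lt hp.out.one_lt] at this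

theorem npp {a b : ℕ} (ha : a.Prime) (hb : b.Prime) (h : a ≠ b) : ¬ IsPrimePow (a * b) := fun e => by
  obtain ⟨q, -, hq⟩ := isPrimePow_iff_unique_prime_dvd.1 e
  exact h ((hq a ⟨ha, Dvd.intro _ rfl⟩).trans (hq b ⟨hb, Dvd.intro_left _ rfl⟩).symm)

end CfsgH2.PS
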