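import Cfsg.Agent.H2.Transfer2
import Cfsg.Agent.H2.PGroup2
import Cfsg.Agent.H1.Fitting
import Cfsg.Agent.H1.Gasch
import Cfsg.Agent.Lead.GenFitting

/-! Consequences of Roquette's theorem. -/

set_option autoImplicit false

namespace CfsgH2
open Subgroup Cfsg
open scoped commutatorElement

variable {G : Type*} [Group G] [Finite G] {p : ℕ} [hp : Fact p.Prime]

theorem IsSylowIn.subgroupOf_top {S H : Subgroup G} (h : IsSylowIn p S H) :
    IsSylowIn p (S.subgroupOf H) ⊤ := h.toSylow_coe ▸ IsSylowIn.of_sylow_top h.toSylow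

theorem frattini_mono_of_pgroup {A P : Subgroup G} (hP : IsPGroup p P) (h : A ≤ P) :
    (frattini A).map A.subtype ≤ (frattini P).map P.subtype :=
  map_frattini_le (p := p) ((commutator_mono h h).trans (commutator_le_map_frattini hP))
    (fun x hx => pow_mem_map_frattini hP (h hx))

theorem roquette' {P N H : Subgroup G} (hP : IsSylowIn p P H) (hN : N ≤ H)
    (hn : H ≤ normalizer (N : Set G)) (h : N ⊓ P ≤ (frattini P).map P.subtype) :
    HasNormalPComplement p N := by
  haveI : (N.subgroupOf H).Normal := (normal_subgroupOf_iff_le_normalizer hN).2 hn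
  have hP' := hP.subgroupOf_top
  have key : (frattini P).map P.subtype ≤
      ((frattini (P.subgroupOf H)).map (P.subgroupOf H).subtype).map H.subtype := by
    refine map_frattini_le (p := p) ?_ ?_
    · rw [← map_subtype_commutator_subgroupOf hP.le hP.le]
      exact map_mono (commutator_le_map_frattini hP'.pgroup)
    · intro x hx
      exact ⟨⟨x, hP.le hx⟩ ^ p, pow_mem_map_frattini hP'.pgroup hx, rfl⟩
  have := roquette (N := N.subgroupOf H) hP' (by
    rintro x ⟨h1, h2⟩
    obtain ⟨y, hy, he⟩ := key (h ⟨h1, h2⟩)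
    have : y = x := Subtype.ext he
    exact this ▸ hy)
  exact hasNPC_of_injective (subgroupOfEquivOfLe hN).symm.toMonoidHom (MulEquiv.injective _) this

theorem pgroup_of_npc (hO : pPrimeCore p G = ⊥) {S : Subgroup G} (hS : S.IsSubnormal)
    (h : HasNormalPComplement p S) : IsPGroup p S := by
  have h1 := CfsgH1.map_pPrimeCore_le_of_isSubnormal (p := p) hS
  have h2 : pResidual p S ≤ pPrimeCore p S :=
    CfsgH1.le_pPrimeCore ((Nat.Prime.coprime_iff_not_dvd hp.out).2 (hasNPC_iff.1 h)).symm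
  rw [← resIn_eq_bot_iff, ← map_pResidual, eq_bot_iff, ← hO]
  exact (map_mono h2).trans h1

theorem qs_not_pgroup {K : Subgroup G} (h : IsQuasisimple K) : ¬ IsPGroup p K := fun hK =>
  CfsgLead.qs_not_solvable h (by haveI := hK.isNilpotent; infer_instance)

theorem two_gen {P A : Subgroup G} (hP : IsPGroup p P) (hi : (frattini P).index = p ^ 2)
    (hA : A ≤ P) (h : ¬ A ≤ (frattini P).map P.subtype) : ∃ y ∈ P, A ⊔ zpowers y = P := by
  set F := (frattini P).map P.subtype with hF
  have hFP : F ≤ P := map_subtype_le _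
  have hi' : F.relIndex P = p ^ 2 := by rw [hF, relIndex, subgroupOf, comap_map_eq_self_of_injective P.subtype_injective, hi]
  have h1 : F < A ⊔ F := lt_of_le_of_ne le_sup_right fun e => h (e ▸ le_sup_left)
  have h2 : A ⊔ F ≤ P := sup_le hA hFP
  by_cases he : A ⊔ F = P
  · exact ⟨1, P.one_mem, by rw [zpowers_one_eq_bot, sup_bot_eq]; exact eq_of_sup_map_frattini hA he⟩
  obtain ⟨y, hy, hyn⟩ := SetLike.exists_of_lt (lt_of_le_of_ne h2 he)
  refine ⟨y, hy, eq_of_sup_map_frattini (sup_le hA (zpowers_le.2 hy)) ?_⟩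
  have h3 : A ⊔ F < A ⊔ zpowers y ⊔ F :=
    lt_of_le_of_ne (sup_le_sup_right le_sup_left _) fun e =>
      hyn (e ▸ mem_sup_left (mem_sup_right (mem_zpowers y)))
  have h4 : A ⊔ zpowers y ⊔ F ≤ P := sup_le (sup_le hA (zpowers_le.2 hy)) hFP
  obtain ⟨a, ha⟩ := IsPGroup.iff_card.1 (hP.to_le hFP)
  obtain ⟨b, hb⟩ := IsPGroup.iff_card.1 (hP.to_le h2)
  obtain ⟨c, hc⟩ := IsPGroup.iff_card.1 (hP.to_le h4)
  have e1 := card_mul_relIndex hFP
  have l1 := card_lt_of_lt h1
  have l2 := card_lt_of_lt h3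
  rw [ha, hb] at l1
  rw [hb, hc] at l2
  have l1' := (Nat.pow_lt_pow_iff_right hp.out.one_lt).1 l1
  have l2' := (Nat.pow_lt_pow_iff_right hp.out.one_lt).1 l2
  refine eq_of_le_of_card_le h4 ?_
  rw [← e1, hi', ha, hc, ← pow_add]
  exact Nat.pow_le_pow_right hp.out.pos (by omega)

omit [Finite G] hp in
theorem der_le_of_sup_zpowers {P A : Subgroup G} {y : G} (hn : P ≤ normalizer (A : Set G))
    (h : A ⊔ zpowers y = P) : ⁅P, P⁆ ≤ A := by
  have hy : y ∈ P := h ▸ mem_sup_right (mem_zpowers y)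
  have hy' : zpowers y ≤ normalizer (A : Set G) := zpowers_le.2 (hn hy)
  rw [commutator_le]
  intro a ha b hb
  have ha' := ha
  have hb' := hb
  rw [← h, mem_sup_of_normalizer hy'] at ha' hb'
  obtain ⟨u, hu, s, hs, rfl⟩ := ha'
  obtain ⟨v, hv, t, ht, rfl⟩ := hb'
  have hst : Commute s t := by
    obtain ⟨i, rfl⟩ := hs
    obtain ⟨j, rfl⟩ := ht
    exact Commute.zpow_zpow_self y i j
  have e : ⁅u * s, v * t⁆ = u * (s * v * s⁻¹) * ((s * t * s⁻¹) * u⁻¹ * (s * t * s⁻¹)⁻¹) *
      (s * t * s⁻¹ * t⁻¹) * v⁻¹ := by rw [commutatorElement_def]; group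
  have e2 : s * t * s⁻¹ = t := by rw [hst.eq]; group
  rw [e, e2, mul_inv_cancel, mul_one]
  exact A.mul_mem (A.mul_mem (A.mul_mem hu (conj_mem_of_mem_normalizer (hy' hs) hv))
    (conj_mem_of_mem_normalizer (hy' ht) (A.inv_mem hu))) (A.inv_mem hv)

theorem le_frattini_of_cyclic {P A : Subgroup G} (hP : IsPGroup p P) (hc : IsCyclic P)
    (hA : A ≤ P) (hne : A ≠ P) : A ≤ (frattini P).map P.subtype := by
  obtain ⟨y, rfl⟩ := isCyclic_iff_zpowers.1 hc
  intro a ha
  obtain ⟨i, rfl⟩ := hA ha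
  by_cases hi : (p : ℤ) ∣ i
  · obtain ⟨j, rfl⟩ := hi
    have := pow_mem_map_frattini hP (zpow_mem (mem_zpowers y) j)
    simpa [← zpow_natCast, ← zpow_mul, mul_comm] using this
  · exfalso
    apply hne
    refine le_antisymm hA (zpowers_le.2 ?_)
    obtain ⟨k, hk⟩ := exists_orderOf_eq_pow hP (mem_zpowers y)
    have hcop : (orderOf y).Coprime i.natAbs := by
      rw [hk]
      exact Nat.Coprime.pow_left _ ((Nat.Prime.coprime_iff_not_dvd hp.out).2
        fun h => hi (Int.natCast_dvd.2 h))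
    refine mem_of_pow_mem_of_coprime hcop ?_
    rcases Int.natAbs_eq i with e | e
    · rw [← zpow_natCast, ← e]; exact ha
    · have := A.inv_mem ha
      simp only at this
      rwa [← zpow_neg, e, neg_neg, zpow_natCast] at this

theorem mem_der_of_central {S L : Subgroup G} (hS : IsSylowIn p S L) (hL : ⁅L, L⁆ = L) {g : G}
    (hg : g ∈ S) (hc : g ∈ centralizer (L : Set G)) : g ∈ ⁅S, S⁆ := by
  have hS' := hS.subgroupOf_top
  have h1 : (⟨g, hS.le hg⟩ : L) ∈ ⁅S.subgroupOf L, S.subgroupOf L⁆ := by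
    refine mem_commutator_of_central hg ?_ ?_ ?_
    · rw [mem_center_iff]
      intro x
      exact Subtype.ext (hc x x.2)
    · have h2 : (_root_.commutator L).map L.subtype = L := by
        rw [_root_.commutator, map_commutator, ← MonoidHom.range_eq_map, range_subtype, hL]
      obtain ⟨y, hy, he⟩ := h2.ge (hS.le hg)
      have : y = ⟨g, hS.le hg⟩ := Subtype.ext he
      exact this ▸ hy
    · obtain ⟨k, hk⟩ := exists_orderOf_eq_pow hS'.pgroup (x := (⟨g, hS.le hg⟩ : L)) hg
      rw [hk]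
      refine Nat.Coprime.pow_left _ ((Nat.Prime.coprime_iff_not_dvd hp.out).2 ?_)
      simpa using hS'.not_dvd
  rw [← map_subtype_commutator_subgroupOf hS.le hS.le]
  exact ⟨_, h1, rfl⟩

theorem layer_le_normalizer_component {K : Subgroup G} (h : IsComponent K) :
    layer G ≤ normalizer (K : Set G) := by
  have := CfsgLead.layer_le_normalizer_sSup {K} (by rintro _ rfl; exact h.1)
  rwa [sSup_singleton] at this

theorem genFitting_ne_bot [Nontrivial G] : generalizedFittingSubgroup G ≠ ⊥ := by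
  intro h
  have := CfsgLead.centralizer_genFitting_le G
  rw [h] at this
  obtain ⟨x, hx⟩ := exists_ne (1 : G)
  exact hx (this (show x ∈ centralizer ((⊥ : Subgroup G) : Set G) from by
    intro y hy; rw [(mem_bot.1 hy)]; simp))

end CfsgH2
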