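import Cfsg.Agent.H2.TW2
import Cfsg.Agent.H1.Subn

/-! Primitive pairs. -/

set_option autoImplicit false
set_option linter.unusedSectionVars false
set_option linter.style.haveILetI false

namespace CfsgH2

open Subgroup Cfsg CfsgFT MulAction
open CfsgLead (SN fstarOf layerOf)
open CfsgH9 (Ld lay_cent)
open scoped commutatorElement Pointwise

universe u

variable {G : Type u} [Group G] [Finite G] {M N X L T : Subgroup G} {g : G} {p q : ℕ}

/-- a primitive pair -/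
structure PrP (M N : Subgroup G) : Prop where
  ne : M ≠ N
  h1 : ∀ A, A ≠ ⊥ → A ≤ M ⊓ N → M ≤ N(A) → N ⊓ N(A) ≤ M
  h2 : ∀ A, A ≠ ⊥ → A ≤ M ⊓ N → N ≤ N(A) → M ⊓ N(A) ≤ N

namespace PrP

theorem symm (h : PrP M N) : PrP N M :=
  ⟨h.ne.symm, fun A a b => h.h2 A a (inf_comm M N ▸ b), fun A a b => h.h1 A a (inf_comm M N ▸ b)⟩

theorem bot (h : PrP M N) (h1 : X ≤ M) (h2 : X ≤ N) (h3 : M ≤ N(X)) (h4 : N ≤ N(X)) : X = ⊥ :=
  by_contra fun c => h.ne (le_antisymm ((le_inf le_rfl h3).trans (h.h2 X c (le_inf h1 h2) h4))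
    ((le_inf le_rfl h4).trans (h.h1 X c (le_inf h1 h2) h3)))

theorem Op_le_Op [Fact p.Prime] [Fact q.Prime] (h : PrP M N) (h1 : fstarOf M ≤ N) (h2 : fstarOf N ≤ M)
    (hpq : p ≠ q) (d1 : Opi {p} M ≠ ⊥) : Opi {q} M ≤ Opi {q} N := by
  have nA : ∀ r : ℕ, N ≤ N(C(layerOf N ⊔ Opi {r}ᶜ (fittingOf N))) := fun r => nC
    (nS (CfsgLead.le_normalizer_layerOf N) (le_normalizer_Opi_of _ (le_normalizer_fit N)))
  have lA : ∀ (r s : ℕ) [Fact r.Prime], r ≠ s → Opi {r} N ≤ layerOf N ⊔ Opi {s}ᶜ (fittingOf N) :=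
    fun r s _ e => le_trans (le_Opi_of_nilpotent (fit_nilpotent N) (Opi_p_le_fit N)
      (isPi_compl_of_isPGroup (isPGroup_Opi N) e)) le_sup_right
  have lN : ∀ (r : ℕ) [Fact r.Prime], Opi {r} M ≤ N := fun r _ =>
    (Opi_p_le_fit M).trans (le_sup_right.trans ((fstar_eq M).ge.trans h1))
  let D := N ⊓ C(layerOf N ⊔ Opi {q}ᶜ (fittingOf N))
  have lD : D ≤ N := inf_le_left
  have nD : N ≤ N(D) := nI le_normalizer (nA q)
  have lP := Ld.Op_cent (p := p) h1 h2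
  have lPN := lN p
  have k1 : ⁅Opi {p} M, D⁆ ≤ C(fstarOf N) := by
    have := le_inf ((commutator_mono lP le_rfl).trans (comm_le_left (lD.trans (nA p))))
      ((comm_le_right (lPN.trans nD)).trans inf_le_right)
    rw [← cent_sup] at this
    refine this.trans (cent_anti ?_)
    rw [fstar_eq]
    exact sup_le (le_sup_of_le_left le_sup_left) ((CfsgH9.fit_eq_sup p N).le.trans
      (sup_le (le_sup_of_le_right (lA p q hpq)) (le_sup_of_le_left le_sup_right)))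
  have k2 : ⁅Opi {p} M, D⁆ ≤ fittingOf N :=
    CfsgH9.le_fit_of_cent ((commutator_mono lPN lD).trans (der_le N)) k1
  have k3 : ⁅Opi {p} M, D⁆ ≤ Opi {p} N := by
    have nY : D ≤ N(Opi {p} M ⊔ fittingOf N) := le_norm_of_comm_le (comm_sup_left_le
      (k2.trans le_sup_right) ((comm_le_left (lD.trans (le_normalizer_fit N))).trans le_sup_right)
      (le_norm_of_le le_sup_left) (le_norm_of_le le_sup_right))
    have lX : Opi {p} N ⊔ Opi {p} M ≤ Opi {p} (Opi {p} M ⊔ fittingOf N) := by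
      refine le_Opi_p (sup_le ((Opi_p_le_fit N).trans le_sup_right) le_sup_left)
        (sup_le (le_norm_of_le le_sup_right) ?_)
        (pgroup_sup (isPGroup_Opi N) (isPGroup_Opi M) (lPN.trans (le_normalizer_Opi _ _)))
      refine (CfsgH9.fit_eq_sup p N).le.trans (sup_le (le_norm_of_le le_sup_left) (le_norm_of_cent
        (le_cent_sup ?_ (cent_symm (lP.trans (cent_anti le_sup_right))))))
      rw [← Opi_p_fit]
      exact Opi_commute _ fun _ _ a => a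
    exact le_Opi_of_le_fit k2 ((isPi_Opi _ _).mono ((commutator_mono (le_sup_right.trans lX)
      le_rfl).trans (comm_le_left (le_normalizer_Opi_of _ nY))))
  have k4 : resIn p D ≤ C(Opi {p} M) := res_le_cent_of_comm_le (isPGroup_Opi N)
    ((commutator_mono le_rfl (resIn_le D)).trans k3)
    ((resIn_le D).trans (inf_le_right.trans (cent_anti (lA p q hpq))))
  have k5 : resIn p D ≤ M := (le_inf ((resIn_le D).trans lD) (k4.trans (cent_le_norm _))).trans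
    (h.h1 _ d1 (le_inf (Opi_le _ _) lPN) (le_normalizer_Opi _ _))
  have k6 : Opi {q} M ≤ resIn p D := by
    rw [← resIn_eq_self_of_not_dvd (p := p) (H := Opi {q} M)
      (isPi_compl_singleton_iff.1 (isPi_compl_of_isPGroup (isPGroup_Opi M) hpq.symm))]
    exact resIn_mono (le_inf (lN q) (Ld.Op_cent h1 h2))
  exact (Opi_le_Opi_of_le k5 k6).trans (Opi_le_Opi_of_normal ((resIn_le D).trans lD) (le_norm_resIn nD))

theorem bender (h : PrP M N) (h1 : fstarOf M ≤ N) (h2 : fstarOf N ≤ M) : ∃ p : ℕ, p.Prime ∧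
    IsPGroup p (generalizedFittingSubgroup M) ∧ IsPGroup p (generalizedFittingSubgroup N) := by
  have l := Ld.of_le h1
  have l' := Ld.of_le h2
  have k : ∀ {M N : Subgroup G}, fstarOf M ≤ N → fstarOf N ≤ M → layerOf M ≤ C(fittingOf N) :=
    fun {M N} a b => lay_cent (haveI := fit_nilpotent N; inferInstance)
      (le_sup_right.trans ((fstar_eq N).ge.trans b)) ((Ld.of_le a).lay.trans (le_normalizer_fit N))
  have e := le_antisymm (l.lay_le l' (k h1 h2)) (l'.lay_le l (k h2 h1))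
  have e2 := h.bot (CfsgLead.layerOf_le M) l.lay (CfsgLead.le_normalizer_layerOf M)
    (e ▸ CfsgLead.le_normalizer_layerOf N)
  obtain ⟨p, hp, d⟩ : ∃ p : ℕ, p.Prime ∧ ∀ q, q.Prime → q ∣ Nat.card (fittingOf M) → q = p := by
    by_cases c2 : ∃ p : ℕ, p.Prime ∧ p ∣ Nat.card (fittingOf M)
    · obtain ⟨p, hp, d⟩ := c2
      refine ⟨p, hp, fun q hq d' => by_contra fun ne => ?_⟩
      haveI := Fact.mk hp
      haveI := Fact.mk hq
      have e3 := le_antisymm (h.Op_le_Op h1 h2 (Ne.symm ne) (CfsgH9.Op_ne_bot d))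
        (h.symm.Op_le_Op h2 h1 (Ne.symm ne) (CfsgH9.Op_ne_bot (l'.dvd l d)))
      exact CfsgH9.Op_ne_bot d' (h.bot (Opi_le _ _) (e3.le.trans (Opi_le _ _)) (le_normalizer_Opi _ _)
        (e3 ▸ le_normalizer_Opi _ _))
    · exact ⟨2, Nat.prime_two, fun q hq d => absurd ⟨q, hq, d⟩ c2⟩
  haveI := Fact.mk hp
  exact ⟨p, hp, Ld.pgroup e2 d, Ld.pgroup (e ▸ e2) fun q hq d' =>
    d q hq (haveI := Fact.mk hq; l.dvd l' d')⟩

end PrP

theorem fstar_eq_pCore [Fact p.Prime] (h : IsPGroup p (generalizedFittingSubgroup G)) :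
    generalizedFittingSubgroup G = pCore p G :=
  le_antisymm (le_sSup ⟨CfsgLead.genFitting_normal G, h⟩) (by
    have := Op_le_fit (p := p) (⊤ : Subgroup G)
    rw [Op_top, fit_top] at this
    exact this.trans CfsgLead.fitting_le_genFitting)

theorem PrS.eq_bot (h : PrS M) (hM : M ≠ ⊤) (h1 : X ≤ M) (h2 : ⊤ ≤ N(X)) : X = ⊥ :=
  by_contra fun c => hM (top_le_iff.1 (h X c h1 (le_top.trans h2) ▸ h2))

theorem PrS.cent_fstar (h : PrS M) (hM : M ≠ ⊤) (hN : ⊤ ≤ N(N)) (h0 : M ⊓ fstarOf N ≠ ⊥) :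
    C(fstarOf N) = ⊥ :=
  h.eq_bot hM (((cent_anti inf_le_right).trans (cent_le_norm _)).trans (h _ h0 inf_le_left
    (nI le_normalizer (le_top.trans (le_norm_fstar hN)))).le) (nC (le_norm_fstar hN))

/-- maximal `p`-local subgroups -/
def MxL (p : ℕ) (M : Subgroup G) : Prop := (∃ T : Subgroup G, IsPGroup p T ∧ T ≠ ⊥ ∧ M = N(T)) ∧
  ∀ L : Subgroup G, (∃ T : Subgroup G, IsPGroup p T ∧ T ≠ ⊥ ∧ L = N(T)) → M ≤ L → L = M

theorem exists_mxl (h1 : IsPGroup p T) (h2 : T ≠ ⊥) : ∃ M, MxL p M ∧ N(T) ≤ M := by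
  obtain ⟨B, a, b, c⟩ := exists_maximal_subgroup
    (Φ := fun L => ∃ T : Subgroup G, IsPGroup p T ∧ T ≠ ⊥ ∧ L = N(T)) ⟨T, h1, h2, rfl⟩
  exact ⟨B, ⟨b, c⟩, a⟩

theorem MxL.cj (h : MxL p M) (g : G) : MxL p (cj g M) := by
  have k : ∀ (g : G) L, (∃ T : Subgroup G, IsPGroup p T ∧ T ≠ ⊥ ∧ L = N(T)) →
      ∃ T : Subgroup G, IsPGroup p T ∧ T ≠ ⊥ ∧ CfsgH2.cj g L = N(T) := by
    rintro g _ ⟨T, a, b, rfl⟩
    exact ⟨_, IsPGroup_cj a g, fun e => b (cj_eq_bot_iff.1 e), cj_normalizer g T⟩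
  exact ⟨k g M h.1, fun L a b => by
    rw [← h.2 _ (k g⁻¹ L a) (cj_le_iff_le_cj_inv.1 b), cj_cj_inv]⟩

theorem MxL.norm [Fact p.Prime] (h : MxL p M) (hg : g ∈ N(M)) : g ∈ M := by
  obtain ⟨T, a, b, e⟩ := h.1
  exact (h.2 _ ⟨_, Op_pg M, ne_bot_of_le b (le_Op (e ▸ le_normalizer) e.le a), rfl⟩
    (le_norm_Op_self M)).le (norm_le_norm_Op M hg)

theorem MxL.chp [Fact p.Prime] (hl : IsOfLocalCharacteristic p G) (h : MxL p M) : ChP p M := by
  obtain ⟨T, a, b, rfl⟩ := h.1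
  exact chP_iff.1 (hl.2 T a b)

theorem MxL.prs [Fact p.Prime] (hl : IsOfLocalCharacteristic p G) (h : MxL p M) : PrS M :=
  fun X a b c => le_antisymm ((norm_le_norm_Op X).trans (h.2 _ ⟨_, Op_pg X,
    ((h.chp hl).sn (SN.of_normal b c)).Op_ne_bot a, rfl⟩ (le_norm_Op c)).le) c

theorem exists_pair [Fact p.Prime] (h : MxL p M) (hg : g ∉ M)
    (hd : p ∣ Nat.card (M ⊓ cj g M : Subgroup G)) :
    ∃ M₁ M₂ T : Subgroup G, MxL p M₁ ∧ MxL p M₂ ∧ M₁ ≠ M₂ ∧ IsSylowIn p T M₁ ∧ IsSylowIn p T M₂ := by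
  by_contra c
  have k : ∀ M T : Subgroup G, MxL p M → IsSylowIn p T M → N(T) ≤ M := fun M T a b x hx =>
    by_contra fun d => c ⟨M, cj x M, T, a, a.cj x, fun e => d (a.norm (mem_norm_iff_cj.2 e.symm)), b,
      cj_eq_of_norm hx ▸ b.cj x⟩
  obtain ⟨S, hS⟩ := IsSylowIn.exists_sylowIn p (M ⊓ cj g M)
  obtain ⟨T, -, ⟨t0, tp, M₁, M₂, a1, a2, a3, a4⟩, mx⟩ := exists_maximal_subgroup
    (Φ := fun T : Subgroup G => T ≠ ⊥ ∧ IsPGroup p T ∧ ∃ M₁ M₂, MxL p M₁ ∧ MxL p M₂ ∧ M₁ ≠ M₂ ∧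
      T ≤ M₁ ⊓ M₂) ⟨fun e => hS.eq_bot_iff.1 e hd, hS.pgroup, M, _, h, h.cj g,
      fun e => hg (h.norm (mem_norm_iff_cj.2 e.symm)), hS.le⟩
  have f : ∀ A B : Subgroup G, MxL p A → MxL p B → A ≠ B → T ≤ A → N(T) ≤ B → IsSylowIn p T A :=
    fun A B a b ne l n => IsSylowIn.of_maximal l tp fun Q q1 q2 q3 => by_contra fun d =>
      have e := lt_inf_normalizer q1 (lt_of_le_not_ge q2 d)
      e.ne' (mx _ ⟨ne_bot_of_le t0 e.le, q1.to_le inf_le_left, A, B, a, b, ne, inf_le_inf q3 n⟩ e.le)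
  obtain ⟨M₃, b1, b2⟩ := exists_mxl tp t0
  have l1 := a4.trans inf_le_left
  have l2 := a4.trans inf_le_right
  have s : IsSylowIn p T M₂ := f _ _ a2 a1 a3.symm l2 (by
    by_cases e : M₁ = M₃
    · exact e ▸ b2
    · exact k _ _ a1 (f _ _ a1 b1 e l1 b2))
  exact c ⟨_, _, T, a1, a2, a3, f _ _ a1 a2 a3 l1 (k _ _ a2 s), s⟩

end CfsgH2
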