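import Cfsg.Agent.H2.JC12
import Cfsg.Agent.H2.TW3
import Cfsg.Agent.H2.PMin
import Cfsg.Agent.S3755
import Cfsg.Agent.S2759

/-! `S₄`-free groups with solvable `2`-locals of characteristic `2`. -/

set_option autoImplicit false
set_option linter.unusedSectionVars false
set_option linter.style.haveILetI false

namespace CfsgH2

open Subgroup Cfsg CfsgFT
open CfsgH9 (MaxA J_le J_eq_of_le Sec ps io hψ ker_hψ)
open scoped commutatorElement Pointwise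

universe u

variable {G : Type u} [Group G] [Finite G] {M P R T A B D E U V W X Z : Subgroup G} {a g t y : G}

/-- `S₄`-free `2`-locals -/
def F4 (G : Type u) [Group G] : Prop :=
  ∀ V : Subgroup G, IsPGroup 2 V → V ≠ ⊥ → ¬ Involves (Equiv.Perm (Fin 4)) N(V)

theorem F4.ns3 (h : F4 G) (hV : IsPGroup 2 V) (h0 : V ≠ ⊥) : ¬ Sec (Equiv.Perm (Fin 3)) (ps V A) :=
  fun k => h V hV h0 (Cfsg.Agent.S2759.result.2 ⟨V.subgroupOf N(V), hV.comap_subtype,
    CfsgH9.involves_iff.2 (Sec.of_map (QuotientGroup.lift _ ((hψ V).comp (Subgroup.subtype _))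
      fun x hx => (ker_hψ (V := V)).ge (mem_cent.2 fun v hv =>
        congrArg Subtype.val (mem_cent.1 hx ⟨v, le_normalizer hv⟩ hv))) (k.mono (by
      rintro _ ⟨x, -, rfl⟩
      exact ⟨QuotientGroup.mk ⟨x, le_normalizer_of_normal (mem_top x)⟩, trivial, rfl⟩)))⟩)

theorem F4.cent3 (h : F4 G) (hV : IsPGroup 2 V) (h0 : V ≠ ⊥) (ht : t ∈ N(V)) (hy : y ∈ N(V)) (t2 : t ^ 2 = 1)
    {k : ℕ} (y3 : orderOf y = 3 ^ k) (e : t * y * t⁻¹ = y⁻¹) : y ∈ C(V) := by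
  by_contra c
  obtain ⟨f, -, f2⟩ := CfsgH9.exists_psHom (V := V) (A := N(V)) le_rfl
  obtain ⟨φ⟩ := CfsgH9.dihedral_three
  refine h.ns3 hV h0 (CfsgH9.sec_subtype.1 (((CfsgH9.sec_dihedral_iff (p := 3) (by decide)).2.2
    ⟨f ⟨t, ht⟩, f ⟨y, hy⟩, ?_, ?_, fun o => c ?_, ?_⟩).congr φ))
  · exact ((Nat.dvd_prime_pow Nat.prime_two (m := 1)).1 ((orderOf_map_dvd f _).trans
      (orderOf_dvd_of_pow_eq_one (Subtype.ext t2)))).imp fun _ => And.right
  · exact ((Nat.dvd_prime_pow Nat.prime_three).1 ((orderOf_map_dvd f _).trans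
      (by rw [orderOf_mk, y3]))).imp fun _ => And.right
  · have := f2 ⟨y, hy⟩
    rw [o] at this
    exact (ker_hψ (V := V)).le this.symm
  · rw [← map_inv, ← map_inv, ← map_mul, ← map_mul]
    exact congrArg f (Subtype.ext e)

/-- no quadratically small offenders -/
def Q2 (V : Subgroup G) : Prop :=
  ∀ X ≤ N(V), (∀ x ∈ X, x ^ 2 ∈ C(V)) → C(V).relIndex X ^ 2 ≤ C(X).relIndex V

theorem F4.q2 (h : F4 G) (hV : PRed 2 V M) (h0 : V ≠ ⊥) (hM : Group.IsSolvable M) (e : N(V) ≤ M) :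
    Q2 V := by
  intro X hX h2
  by_contra c
  have s := CfsgH9.s3_ps hV (CfsgH1.isPSolvable_of_isSolvable) (CfsgLead.SN.refl M)
  have sq : ∀ x ∈ ps V X, x ^ 2 = 1 := by
    rintro _ ⟨x, hx, rfl⟩
    rw [← map_pow]
    exact (ker_hψ (V := V)).ge (h2 _ hx)
  refine h.ns3 hV.pg h0 (CfsgH9.sec_subtype.1 (CfsgH9.involves_iff.1 (Cfsg.Agent.S3755.result (ps V M)
    (io V V) s.ea s.nV s.f ?_ (ps V X) (CfsgH9.ps_mono (hX.trans e))
    (ea_iff.2 ⟨fun a ha b hb => comm_of_sq (sq a ha) (sq b hb) (sq _ (mul_mem ha hb)), sq⟩) ?_)))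
  · rw [← map_le_map_iff_of_injective (ps V M).subtype_injective, map_subtype_cent]
    exact s.c
  · have a := CfsgH9.card_ps hX
    have b := CfsgH1.card_inf_mul_relIndex C(V) X
    have d := CfsgH2.card_mul_relIndex (inf_le_left : io V V ⊓ C(ps V X) ≤ io V V)
    have d' := CfsgH1.card_inf_mul_relIndex C(X) V
    rw [← CfsgH9.io_inf_cent hX, CfsgH9.card_io inf_le_left, CfsgH9.card_io le_rfl,
      CfsgH9.io_inf_cent hX, inf_comm V, ← d'] at d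
    rw [inf_comm, ← b] at a
    rw [Nat.eq_of_mul_eq_mul_left Nat.card_pos d, Nat.eq_of_mul_eq_mul_left Nat.card_pos a]
    exact not_le.1 c

theorem Q2.cj (h : Q2 V) (g : G) : Q2 (cj g V) := fun X hX h2 => by
  have := h (CfsgH2.cj g⁻¹ X) (by rwa [cj_le_iff_le_cj_inv, inv_inv, cj_normalizer]) fun x hx => by
    have := h2 _ (mem_cj.1 hx)
    rwa [inv_inv, conj_pow, ← cj_centralizer, conj_mem_cj_iff] at this
  rwa [← relIndex_cj g, ← relIndex_cj g C(CfsgH2.cj g⁻¹ X), cj_centralizer, cj_centralizer,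
    cj_cj_inv] at this

theorem idx_two (hD : D ≤ E) (h1 : A ≤ Z) (h2 : B ≤ Z) (h3 : B ≤ E) :
    D.relIndex B * E.relIndex A ≤ D.relIndex Z := by
  rw [← inf_eq_left.2 hD, ← relIndex_inf_mul_relIndex D E Z, inf_eq_left.2 hD]
  exact Nat.mul_le_mul (relIndex_le_of_le_right (le_inf h3 h2) (CfsgH2.relIndex_ne_zero _ _))
    (relIndex_le_of_le_right h1 (CfsgH2.relIndex_ne_zero _ _))

theorem idx_left (h : A ≤ B) : B.relIndex X ≤ A.relIndex X :=
  relIndex_le_of_le_left h (CfsgH2.relIndex_ne_zero _ _)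

theorem idx_right (h : A ≤ B) : X.relIndex A ≤ X.relIndex B :=
  relIndex_le_of_le_right h (CfsgH2.relIndex_ne_zero _ _)

theorem idx_pos (A B : Subgroup G) : 0 < A.relIndex B := Nat.pos_of_ne_zero (CfsgH2.relIndex_ne_zero _ _)

theorem maxA_idx (hA : MaxA 2 T A) (hU : IsElementaryAbelian 2 U) (h : U ≤ T) :
    C(A).relIndex U ≤ C(U).relIndex A := by
  have a := maxA_mul_le hA hU h (inf_le_right : C(U) ⊓ A ≤ A) (cent_symm inf_le_left)
  have b := CfsgH1.card_inf_mul_relIndex C(U) A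
  have c := CfsgH1.card_inf_mul_relIndex C(A) U
  have d := card_le_of_le (inf_le_inf_right U (inf_le_right.trans (ea_comm hA.ea)) :
    C(U) ⊓ A ⊓ U ≤ C(A) ⊓ U)
  rw [← c] at a
  conv_rhs at a => rw [← b]
  have p1 : 0 < Nat.card (C(U) ⊓ A : Subgroup G) := Nat.card_pos
  have p2 : 0 < Nat.card (C(A) ⊓ U : Subgroup G) := Nat.card_pos
  refine Nat.le_of_mul_le_mul_left (c := Nat.card (C(U) ⊓ A : Subgroup G) * Nat.card (C(A) ⊓ U : Subgroup G))
    ?_ (Nat.mul_pos p1 p2)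
  nlinarith [Nat.mul_le_mul_right (Nat.card (C(U) ⊓ A : Subgroup G) * C(U).relIndex A) d]

theorem Q2.maxA (h : Q2 V) (hA : MaxA 2 T A) (hV : IsElementaryAbelian 2 V) (h1 : V ≤ T)
    (h2 : T ≤ N(V)) : A ≤ C(V) := by
  have a := h A (hA.le.trans h2) fun x hx => (ea_iff.1 hA.ea).2 x hx ▸ one_mem _
  have b := maxA_idx hA hV h1
  have c := idx_pos C(V) A
  exact relIndex_eq_one.1 (by nlinarith)

theorem Q2.comm (h : Q2 V) (h' : Q2 W) (hV : IsElementaryAbelian 2 V) (hW : IsElementaryAbelian 2 W)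
    (h1 : V ≤ N(W)) (h2 : W ≤ N(V)) : W ≤ C(V) := by
  have a := h W h2 fun x hx => (ea_iff.1 hW).2 x hx ▸ one_mem _
  have b := h' V h1 fun x hx => (ea_iff.1 hV).2 x hx ▸ one_mem _
  have c := idx_pos C(V) W
  have d := idx_pos C(W) V
  exact relIndex_eq_one.1 (by nlinarith)

theorem Q2.four (h : Q2 V) (h1 : t ∈ N(V)) (t2 : t ^ 2 = 1) (h2 : t ∉ C(V)) : 4 ≤ C1(t).relIndex V := by
  have a := h (zpowers t) (zpowers_le.2 h1) (by
    rintro _ ⟨i, rfl⟩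
    show (t ^ i) ^ 2 ∈ _
    rw [← zpow_natCast, ← zpow_mul, mul_comm, zpow_mul, zpow_natCast, t2, one_zpow]
    exact one_mem _)
  have b := idx_pos C(V) (zpowers t)
  have c : C(V).relIndex (zpowers t) ≠ 1 := fun e => h2 (zpowers_le.1 (relIndex_eq_one.1 e))
  rw [cent_zpowers] at a
  nlinarith [show 2 ≤ C(V).relIndex (zpowers t) by omega]

theorem Q2.ncl (h : Q2 V) (hU : IsElementaryAbelian 2 (ncl P V)) (hR : R ≤ N(V)) (hP : P ≤ N(R))
    (hX : IsElementaryAbelian 2 X) (h1 : X ≤ R) :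
    C(ncl P V).relIndex X ^ 2 ≤ C(X).relIndex (ncl P V) := by
  induction X using subgroup_induction_up with
  | h X ih =>
  by_cases c : X ≤ C(CfsgH2.ncl P V)
  · rw [relIndex_eq_one.2 c]; exact idx_pos _ _
  obtain ⟨g, g1, g2⟩ : ∃ g ∈ P, ¬ X ≤ C(CfsgH2.cj g V) := by
    by_contra k
    push Not at k
    exact c (cent_symm (ncl_le_iff.2 fun g hg => cent_symm (k g hg)))
  have l := cj_le_ncl V g1
  have a := ih (C(CfsgH2.cj g V) ⊓ X) (card_lt_of_lt (inf_lt_right.2 g2)) (CfsgH2.ea_mono hX inf_le_right)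
    (inf_le_right.trans h1)
  have b := h.cj g X (by
    rw [← cj_normalizer]
    exact h1.trans ((cj_eq_of_norm (hP g1)).ge.trans (cj_mono g hR)))
    fun x hx => (ea_iff.1 hX).2 x hx ▸ one_mem _
  have d := idx_two (cent_anti (inf_le_right : C(CfsgH2.cj g V) ⊓ X ≤ X)) le_rfl l
    (cent_symm inf_le_left)
  rw [← inf_eq_left.2 (cent_anti l), ← relIndex_inf_mul_relIndex, mul_pow]
  exact (Nat.mul_le_mul a b).trans ((mul_comm _ _).le.trans d)

/-- elements of order a power of a prime `≥ 5` -/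
def O5 (y : G) : Prop := ∃ r k : ℕ, r.Prime ∧ 5 ≤ r ∧ orderOf y = r ^ k

theorem O5.cop (h : O5 y) {n : ℕ} (h0 : 0 < n) (h4 : n ≤ 4) : (orderOf y).Coprime n := by
  obtain ⟨r, k, r1, r2, e⟩ := h
  exact e ▸ (r1.coprime_iff_not_dvd.2 fun d => by have := Nat.le_of_dvd h0 d; omega).pow_left _

theorem O5.odd (h : O5 y) : Odd (orderOf y) := Nat.coprime_two_right.1 (h.cop two_pos (by omega))

theorem O5.cent (h : O5 y) (hX : IsPGroup 2 X) (hy : y ∈ N(X)) (h4 : C1(y).relIndex X ≤ 4) :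
    y ∈ C(X) := by
  obtain ⟨r, k, r1, r2, e⟩ := h
  haveI := Fact.mk r1
  have a := relIndex_cent_modEq (isPGroup_zpowers_of_orderOf e) (zpowers_le.2 hy) (by
    obtain ⟨l, hl⟩ := IsPGroup.iff_card.1 hX
    rw [hl]
    exact fun d => by have := Nat.le_of_dvd two_pos (r1.dvd_of_dvd_pow d); omega)
  rw [cent_zpowers] at a
  have b := idx_pos C1(y) X
  have c := (Nat.modEq_iff_dvd' b).1 a.symm
  have d := Nat.eq_zero_of_dvd_of_lt c (by omega)
  exact le_cent1_iff.1 (relIndex_eq_one.1 (by omega))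

theorem Q2.case1 (h : Q2 V) (hV : IsElementaryAbelian 2 V) (hR : IsPGroup 2 R) (h1 : R ≤ N(V))
    (h2 : V ≤ N(R)) (hy : y ∈ N(R)) (hi : R.relIndex V ≤ 2) (ha : a ∈ V) (e : a * y * a⁻¹ = y⁻¹)
    (o : O5 y) : y ∈ C(R) := by
  have cR := cj_eq_of_norm hy
  have h1' : R ≤ N(CfsgH2.cj y V) := by rw [← cj_normalizer]; exact cR.ge.trans (cj_mono y h1)
  have h2' : CfsgH2.cj y V ≤ N(R) :=
    cj_le_iff.2 fun v hv => mul_mem (mul_mem hy (h2 hv)) (inv_mem hy)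
  have yL : zpowers y ≤ V ⊔ CfsgH2.cj y V :=
    zpowers_le.2 (x_mem_of o.odd e (mem_sup_right (conj_mem_cj y ha)) (mem_sup_left ha))
  have hW := ea_cj hV y
  have cW : CfsgH2.cj y (V ⊓ R) = CfsgH2.cj y V ⊓ R := by rw [cj_inf, cR]
  have k1 : ⁅R, V⁆ ≤ V ⊓ R := le_inf (comm_le_right h1) (comm_le_left h2)
  have k2 : ⁅R, CfsgH2.cj y V⁆ ≤ CfsgH2.cj y V ⊓ R := le_inf (comm_le_right h1') (comm_le_left h2')
  have k3 := quad_sup (sup_le h2 h2') rfl
  generalize CfsgH2.cj y V = W at *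
  have dC : C(V) ⊓ (W ⊓ R) ≤ C1(y) := by
    rw [← cent_zpowers]
    refine le_trans ?_ (cent_anti yL)
    rw [cent_sup]
    exact inf_le_inf_left _ (inf_le_left.trans (ea_comm hW))
  have dV : C(V) ⊓ (W ⊓ R) ≤ V ⊓ R := fun d hd => by
    have := mem_cj.1 (cW.ge hd.2)
    rwa [mul_assoc, ← mem_cent1.1 (dC hd), inv_mul_cancel_left] at this
  have q := (h (W ⊓ R) (inf_le_right.trans h1) fun x hx => (ea_iff.1 hW).2 x hx.1 ▸ one_mem _).trans
    (idx_left (inf_le_right.trans (ea_comm (CfsgH2.ea_mono hW inf_le_left)) : C(V) ⊓ (W ⊓ R) ≤ _))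
  have c1 := CfsgH2.card_mul_relIndex dV
  rw [← card_cj y (V ⊓ R), cW, ← CfsgH1.card_inf_mul_relIndex C(V) (W ⊓ R)] at c1
  have c2 := Nat.eq_of_mul_eq_mul_left Nat.card_pos c1
  rw [← relIndex_mul_relIndex _ _ _ dV inf_le_left, inf_relIndex_left, c2] at q
  have n0 := idx_pos C(V) (W ⊓ R)
  have n2 : C(V).relIndex (W ⊓ R) ≤ 2 := by nlinarith
  have nV : W ⊓ R ≤ N(V ⊓ R) := inf_le_right.trans (le_normalizer_inf' h1 le_normalizer)
  have XR : V ⊓ R ⊔ W ⊓ R ≤ R := sup_le inf_le_right inf_le_right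
  have k4 : ⁅R, zpowers y⁆ ≤ V ⊓ R ⊔ W ⊓ R :=
    (commutator_mono le_rfl yL).trans (k3.ge.trans (sup_le_sup k1 k2))
  have yX := o.cent (hR.to_le XR) (zpowers_le.1 (le_norm_of_comm_le ((commutator_mono XR le_rfl).trans k4)))
    ((idx_left dC).trans (by
      rw [← relIndex_mul_relIndex _ _ _ inf_le_right le_sup_right, relIndex_sup_left' nV,
        inf_relIndex_right]
      nlinarith [c2 ▸ idx_left (X := V ⊓ R) (inf_le_right : C(V) ⊓ (W ⊓ R) ≤ W ⊓ R)]))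
  exact res_le_cent_of_comm_le (hR.to_le XR) ((commutator_mono le_rfl (resIn_le _)).trans k4)
    ((resIn_le _).trans (zpowers_le.2 yX)) (mem_resIn_of_odd (mem_zpowers y) o.odd)

theorem Q2.mul (h : Q2 V) (hV : IsElementaryAbelian 2 V) (ha : a ∈ N(V)) (ht : t ∈ N(V))
    (a2 : a ^ 2 = 1) (t2 : t ^ 2 = 1) (d1 : D ≤ C1(a)) (d2 : D ≤ C1(t)) (h1 : V ⊓ C1(a) ≤ D)
    (h2 : V ⊓ C1(t) ≤ D) (h4 : D.relIndex V ≤ 4) : a * t ∈ C(V) := by
  have k : ∀ s ∈ N(V), s ^ 2 = 1 → D ≤ C1(s) → V ⊓ C1(s) ≤ D →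
      s ∈ N(V) ⊓ C(V ⊓ D) ⊓ centMod (V ⊓ D) V := fun s s1 s2 s3 s4 => by
    have c := le_cent1_iff.1 ((inf_le_right : V ⊓ D ≤ D).trans s3)
    refine ⟨⟨s1, c⟩, cent_le_norm _ c, fun v hv => ?_⟩
    have m := V.mul_mem (CfsgH2.conj_mem_of_mem_normalizer s1 hv) (V.inv_mem hv)
    refine ⟨m, s4 ⟨m, mem_cent1.2 ?_⟩⟩
    have := (ea_iff.1 hV).2 _ m
    calc _ = s ^ 2 * (v * s⁻¹ * v⁻¹) := by rw [sq]; group
      _ = v * s * v⁻¹ := by rw [s2, one_mul, inv_eq_of_mul_eq_one_left ((sq s).symm.trans s2)]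
      _ = (s * v * s⁻¹ * v⁻¹)⁻¹ * s := by group
      _ = _ := by rw [inv_eq_of_mul_eq_one_left ((sq _).symm.trans this)]
  have m1 := k a ha a2 d1 h1
  have m2 := k t ht t2 d2 h2
  generalize e : N(V) ⊓ C(V ⊓ D) ⊓ centMod (V ⊓ D) V = X at m1 m2
  have q := (h X (e.ge.trans (inf_le_left.trans inf_le_left)) fun x hx => by
    obtain ⟨⟨-, x1⟩, -, x2⟩ := e.ge hx
    refine mem_cent.2 fun v hv => ?_
    have b := mem_cent.1 x1 _ (x2 v hv)
    have c := (ea_iff.1 hV).2 _ (x2 v hv).1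
    generalize e' : x * v * x⁻¹ * v⁻¹ = d at b c
    have f : x * v = d * v * x := by rw [← e']; group
    rw [sq, mul_assoc x, f, ← mul_assoc, ← mul_assoc x, ← mul_assoc x, ← b, mul_assoc d, f,
      ← mul_assoc, ← mul_assoc, ← sq, c, one_mul]).trans ((idx_left (cent_symm (e.ge.trans
      (inf_le_left.trans inf_le_right)))).trans ((inf_relIndex_left _ _).le.trans h4))
  have n0 := idx_pos C(V) X
  by_cases c : C(V).relIndex X = 1
  · exact relIndex_eq_one.1 c (X.mul_mem m1 m2)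
  have n2 : C(V).relIndex X = 2 := le_antisymm (by nlinarith) (by omega)
  exact (mul_mem_iff_of_index_two n2 (a := ⟨a, m1⟩) (b := ⟨t, m2⟩)).2
    ⟨fun l => le_cent1_iff.1 ((le_inf le_rfl (le_cent1_iff.2 l)).trans (h1.trans d2)),
      fun l => le_cent1_iff.1 ((le_inf le_rfl (le_cent1_iff.2 l)).trans (h2.trans d1))⟩

theorem O5.pair (o : O5 y) (ha : a ∈ A) (e : a * y * a⁻¹ = y⁻¹) (i j : ℕ) (h0 : 0 < j) (h4 : j ≤ 4) :
    C(cj (y ^ i) A) ⊓ C(cj (y ^ (i + j)) A) ≤ C(A) ⊓ C1(y) := by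
  have k : C(A) ⊓ C(cj (y ^ j) A) ≤ C(A) ⊓ C1(y) := fun x hx => ⟨hx.1, mem_cent1_symm
    (mem_of_pow_mem_of_coprime (o.cop h0 h4) (x_mem_of (t := a) (o.odd.of_dvd_nat (orderOf_pow_dvd j))
      (by rw [← conj_pow, e, inv_pow]) (mem_cent1_symm (mem_cent1.2 (mem_cent.1 hx.2 _ (conj_mem_cj _ ha))))
      (mem_cent1_symm (mem_cent1.2 (mem_cent.1 hx.1 _ ha)))))⟩
  rw [pow_add, ← cj_cj, ← cj_centralizer, ← cj_centralizer (y ^ i), ← cj_inf]
  exact (cj_mono _ k).trans (cj_eq_of_norm (cent_le_norm _ (pow_mem (le_cent1_iff.1 inf_le_right) _))).le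

theorem Q2.case2 (h : Q2 V) (hA : MaxA 2 T A) (hU : IsElementaryAbelian 2 (CfsgH2.ncl (zpowers y) V))
    (hT : CfsgH2.ncl (zpowers y) V ≤ T) (hc : A ≤ C(V)) (h1 : R ≤ N(V)) (hy : y ∈ N(R))
    (hi : R.relIndex A ≤ 2) (ha : a ∈ A) (e : a * y * a⁻¹ = y⁻¹) (o : O5 y) : y ∈ C(V) := by
  have q := fun X => h.ncl (X := X) hU h1 (zpowers_le.2 hy)
  have nU := le_norm_ncl (zpowers y) V
  have lU : ∀ n : ℕ, CfsgH2.cj (y ^ n) V ≤ CfsgH2.ncl (zpowers y) V := fun n =>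
    cj_le_ncl V (pow_mem (mem_zpowers y) n)
  have l0 := le_ncl (zpowers y) V
  generalize CfsgH2.ncl (zpowers y) V = U at *
  have cU : ∀ n : ℕ, CfsgH2.cj (y ^ n) U = U := fun n => cj_eq_of_norm (nU (pow_mem (mem_zpowers y) n))
  have p := o.pair ha e
  have p0 := fun j => p 0 j
  simp only [pow_zero, cj_one, zero_add] at p0
  have a1 := q _ (CfsgH2.ea_mono hA.ea (inf_le_right : R ⊓ A ≤ A)) inf_le_left
  have a2 := idx_left (X := U) (cent_anti (inf_le_right : R ⊓ A ≤ A))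
  have a3 := maxA_idx hA hU hT
  have a4 := idx_left (X := A) (inf_le_left : C(U) ⊓ R ≤ C(U))
  rw [← relIndex_inf_mul_relIndex] at a4
  have a5 : ∀ n : ℕ, C(CfsgH2.cj (y ^ n) A).relIndex U = C(A).relIndex U := fun n => by
    rw [← cj_centralizer, ← relIndex_cj (y ^ n) C(A), cU]
  have a6 := (idx_left (p0 1 one_pos (by omega))).trans (relIndex_inf_le (L := U))
  rw [a5] at a6
  have m0 := idx_pos C(U) (R ⊓ A)
  have m2 : C(U).relIndex (R ⊓ A) ≤ 2 := by nlinarith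
  have k4 : C(A).relIndex U ≤ 4 := by nlinarith
  by_cases c : C(U).relIndex (R ⊓ A) = 1
  · have : C(A).relIndex U ≤ 2 := by rw [c] at a4; omega
    exact cent_anti l0 (o.cent (ea_isPGroup hU) (zpowers_le.1 nU)
      ((idx_left inf_le_right).trans (a6.trans (by nlinarith))))
  obtain ⟨t, ⟨tR, tA⟩, tU⟩ := SetLike.not_le_iff_exists.1 fun l => c (relIndex_eq_one.2 l)
  have t2 := (ea_iff.1 hA.ea).2 t tA
  have cA : C(A) ≤ C1(t) := cent_zpowers t ▸ cent_anti (zpowers_le.2 tA)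
  have K0 : C1(t) ⊓ U ≤ C(A) := by
    have b1 := q _ (CfsgH2.ea_mono hA.ea (zpowers_le.2 tA)) (zpowers_le.2 tR)
    have b2 := idx_pos C(U) (zpowers t)
    have b3 : C(U).relIndex (zpowers t) ≠ 1 := fun e => tU (zpowers_le.1 (relIndex_eq_one.1 e))
    have b4 := relIndex_inf_mul_relIndex C(A) C1(t) U
    rw [cent_zpowers] at b1
    rw [inf_eq_left.2 cA] at b4
    have b5 := idx_pos C(A) (C1(t) ⊓ U)
    exact relIndex_eq_one.1 (by nlinarith [show 2 ≤ C(U).relIndex (zpowers t) by omega])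
  have K1 : C1(y * t * y⁻¹) ⊓ U ≤ C(CfsgH2.cj (y ^ 1) A) := by
    rw [← cj_centralizer_singleton, ← cj_eq_of_norm (zpowers_le.1 nU), ← cj_inf, ← cj_centralizer, pow_one]
    exact cj_mono y K0
  have cA' : C(A) ⊓ C1(y) ≤ C1(y * t * y⁻¹) := by
    rw [← cj_centralizer_singleton]
    exact (cj_eq_of_norm (cent_le_norm _ (le_cent1_iff.1 inf_le_right))).ge.trans
      (cj_mono y (inf_le_left.trans cA))
  have tR' := CfsgH2.conj_mem_of_mem_normalizer hy tR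
  have vA : ∀ n : ℕ, CfsgH2.cj (y ^ n) V ≤ C(CfsgH2.cj (y ^ n) A) := fun n => by
    rw [← cj_centralizer]; exact cj_mono _ (cent_symm hc)
  by_contra hn
  have st : ∀ n : ℕ, 0 < n → n ≤ 3 → t * (y * t * y⁻¹) ∈ C(CfsgH2.cj (y ^ (1 + n)) V) ∧
      4 ≤ (C(A) ⊓ C1(y)).relIndex (CfsgH2.cj (y ^ (1 + n)) V) := fun n n0 n3 => by
    have nR : R ≤ N(CfsgH2.cj (y ^ (1 + n)) V) := by
      rw [← cj_normalizer]
      exact (cj_eq_of_norm (pow_mem hy _)).ge.trans (cj_mono _ h1)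
    have b0 : C(A) ⊓ CfsgH2.cj (y ^ (1 + n)) V ≤ C(A) ⊓ C1(y) :=
      (inf_le_inf_left _ (vA _)).trans (p0 _ (by omega) (by omega))
    have b1 : CfsgH2.cj (y ^ (1 + n)) V ⊓ C1(t) ≤ C(A) ⊓ C1(y) :=
      (le_inf ((le_inf inf_le_right (inf_le_left.trans (lU _))).trans K0) inf_le_left).trans b0
    refine ⟨(h.cj _).mul (CfsgH2.ea_mono hU (lU _)) (nR tR) (nR tR') t2 (by rw [conj_pow, t2]; simp)
      (inf_le_left.trans cA) cA' b1 ((le_inf ((le_inf inf_le_right (inf_le_left.trans (lU _))).trans K1)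
        (inf_le_left.trans (vA _))).trans (p 1 n n0 (by omega))) ((idx_left b0).trans
        ((inf_relIndex_right _ _).le.trans ((idx_right (lU _)).trans k4))),
      ((h.cj _).four (nR tR) t2 fun l => hn ?_).trans (idx_left (inf_le_left.trans cA))⟩
    have b2 := le_cent1_iff.1 ((le_inf le_rfl (le_cent1_iff.2 l)).trans (b1.trans inf_le_right))
    rwa [← cj_centralizer, mem_cj, mul_assoc, ← pow_succ', pow_succ, inv_mul_cancel_left] at b2
  obtain ⟨s2, f2⟩ := st 1 one_pos (by omega)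
  obtain ⟨s3, f3⟩ := st 2 two_pos (by omega)
  have DE : C(A) ⊓ C1(y) ≤ C(CfsgH2.cj (y ^ (1 + 1)) A) := by
    rw [← cj_centralizer]
    exact (cj_eq_of_norm (cent_le_norm _ (pow_mem (le_cent1_iff.1 inf_le_right) _))).ge.trans
      (cj_mono _ inf_le_left)
  have b1 := idx_two DE (le_inf (le_cent1_iff.2 s3) (lU _)) (le_inf (le_cent1_iff.2 s2) (lU _)) (vA _)
  have b2 := (idx_left (X := CfsgH2.cj (y ^ (1 + 2)) V) ((inf_le_inf_left _ (vA (1 + 2))).trans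
    (p 2 1 one_pos (by omega)))).trans (inf_relIndex_right _ _).le
  have b3 := relIndex_inf_mul_relIndex (C(A) ⊓ C1(y)) C1(t * (y * t * y⁻¹)) U
  rw [inf_eq_left.2 (le_cent1_iff.2 (mul_mem (le_cent1_iff.1 (inf_le_left.trans cA))
    (le_cent1_iff.1 cA')))] at b3
  have b4 := idx_pos C1(t * (y * t * y⁻¹)) U
  have b5 : U ≤ C1(t * (y * t * y⁻¹)) := relIndex_eq_one.1 (by
    nlinarith [Nat.mul_le_mul f2 (f3.trans b2), Nat.mul_le_mul k4 k4])
  have b6 : V ≤ C1(y * t * y⁻¹) := le_cent1_iff.2 (by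
    simpa using mul_mem (inv_mem (hc tA)) (le_cent1_iff.1 (l0.trans b5)))
  exact hn (le_cent1_iff.1 ((le_inf (cent_symm hc) ((le_inf b6 l0).trans K1)).trans
    ((p0 1 one_pos (by omega)).trans inf_le_right)))

theorem YM.dihedral (h : YM T P M) (hT : IsSylowIn 2 T P) (hs : Group.IsSolvable P)
    (hA : IsElementaryAbelian 2 A) (h1 : A ≤ T) (h2 : ¬ A ≤ O₂(P)) :
    ∃ (R : Subgroup G) (a y : G) (r k : ℕ), O₂(P) ≤ R ∧ R ≤ T ∧ A ≤ N(R) ∧ R.relIndex A ≤ 2 ∧ a ∈ A ∧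
      y ∈ P ∧ y ∉ M ∧ y ∈ N(R) ∧ a * y * a⁻¹ = y⁻¹ ∧ r.Prime ∧ r ≠ 2 ∧ orderOf y = r ^ k := by
  by_contra c
  have tp := hT.pgroup
  have QT : O₂(P) ≤ T := Op_le_sylow hT
  have nQ := le_norm_Op_self (p := 2) P
  have EP := resIn_le (p := 2) P
  have nE : P ≤ N(resIn 2 P) := le_normalizer_resIn P
  have nE' : P ≤ N(⁅resIn 2 P, resIn 2 P⁆) := le_normalizer_commutator' nE nE
  have E'M : ⁅resIn 2 P, resIn 2 P⁆ ≤ M := by_contra fun k =>
    (CfsgH1.commutator_lt_of_isSolvable (CfsgH1.isSolvable_of_le hs EP) fun e =>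
      h.res_not_le tp (e.le.trans bot_le)).not_ge
      (h.res_le tp ((comm_le_left le_normalizer).trans EP) nE' k)
  have FP : O₂(P) ⊔ resIn 2 P ≤ P := sup_le (CfsgH2.Op_le P) EP
  have nF : P ≤ N(O₂(P) ⊔ resIn 2 P) := le_normalizer_sup' nQ nE
  have QD : O₂(P) ≤ (O₂(P) ⊔ resIn 2 P) ⊓ M := le_inf le_sup_left (QT.trans h.le)
  have nD : P ≤ N((O₂(P) ⊔ resIn 2 P) ⊓ M) := (h.sup_res tp).ge.trans (sup_le
    (le_normalizer_inf' (hT.le.trans nF) (le_norm_of_le h.le))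
    (le_norm_of_comm_le ((commutator_mono inf_le_left le_rfl).trans ((comm_sup_left_le
      ((comm_le_left (EP.trans nQ)).trans le_sup_left) le_sup_right
      ((CfsgH2.Op_le P).trans (le_normalizer_sup' nQ nE')) (EP.trans (le_normalizer_sup' nQ nE'))).trans
      (sup_le QD (le_inf ((comm_le_left le_normalizer).trans le_sup_right) E'M))))))
  have cr := (h.pirr tp).comm_res hT (ncl_le_of_le h1) (le_norm_ncl T A)
    fun k => h2 ((le_ncl T A).trans k)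
  have rn := h.res_not_le tp
  have EF : resIn 2 P ≤ O₂(P) ⊔ resIn 2 P := le_sup_right
  have QF : O₂(P) ≤ O₂(P) ⊔ resIn 2 P := le_sup_left
  generalize O₂(P) ⊔ resIn 2 P = F at *
  have sF := sylow_inf_sn hT (CfsgLead.SN.of_normal FP nF)
  have tQ : T ⊓ F = O₂(P) := le_antisymm ((h.pcl tp inf_le_right nD _ (le_inf inf_le_right
    (inf_le_left.trans h.le)) (tp.to_le inf_le_left)).trans (Op_le_Op_of_normal (inf_le_left.trans FP) nD))
    (le_inf QT QF)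
  rw [tQ] at sF
  have AP := h1.trans hT.le
  have sq := sylow_quo (K := O₂(P)) sF (FP.trans nQ)
  rw [quo_self] at sq
  have hA' := ea_quo hA O₂(P)
  haveI : IsMulCommutative (quo O₂(P) A) := comm_iff.2 (ea_comm hA')
  have key : quo O₂(P) F ≤ quo O₂(P) (P ⊓ centMod (F ⊓ M) A) := by
    refine CfsgH1.le_of_cocyclic (quo_le_norm (AP.trans nF)) (coprime_card_of_pgroup (ea_isPGroup hA')
      ((Nat.prime_two.coprime_iff_not_dvd.2 (sq.eq_bot_iff.1 rfl)).symm)).symm ?_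
    rintro B hB ⟨_, ⟨a, ha, rfl⟩, e⟩ _ ⟨⟨x, hx, rfl⟩, x2⟩
    refine qm_mem_quo ⟨FP hx, nD (FP hx), fun s hs => comm_mem_symm ?_⟩
    have ha : (a : G) ∈ A := ha
    have hx : (x : G) ∈ F := hx
    have a2 := (ea_iff.1 hA).2 _ ha
    have e' : quo O₂(P) (O₂(P) ⊔ A) = B ⊔ zpowers (qm O₂(P) a) := (quo_sup_self (AP.trans nQ)).trans e.symm
    have RA : unq O₂(P) B ≤ O₂(P) ⊔ A := (unq_mono hB).trans (unq_quo (AP.trans nQ)).le
    have AR : A ≤ N(unq O₂(P) B) := le_norm_unq (AP.trans nQ) (((ea_comm hA').trans (cent_anti hB)).trans (cent_le_norm _))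
    have xR : zpowers (x : G) ≤ N(unq O₂(P) B) :=
      le_norm_unq (zpowers_le.2 x.2) ((quo_zpowers x).le.trans (zpowers_le.2 (cent_le_norm _ x2)))
    have dM : (x : G) * a * (x : G)⁻¹ * (a : G)⁻¹ ∈ M := by
      have i : (a : G) * (x * a * (x : G)⁻¹ * (a : G)⁻¹) * (a : G)⁻¹ = (x * a * (x : G)⁻¹ * (a : G)⁻¹)⁻¹ := by
        calc _ = (a : G) * x * (a : G) ^ 2 * (a : G)⁻¹ * (x : G)⁻¹ * ((a : G) ^ 2)⁻¹ := by rw [pow_two]; group
          _ = _ := by rw [a2]; group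
      have dF : (x : G) * a * (x : G)⁻¹ * (a : G)⁻¹ ∈ F := by
        simpa [mul_assoc] using F.mul_mem hx (CfsgH2.conj_mem_of_mem_normalizer (nF (AP ha)) (F.inv_mem hx))
      have dR : (x : G) * a * (x : G)⁻¹ * (a : G)⁻¹ ∈ N(unq O₂(P) B) :=
        mul_mem (mul_mem (mul_mem (zpowers_le.1 xR) (AR ha)) (inv_mem (zpowers_le.1 xR))) (inv_mem (AR ha))
      generalize (x : G) * a * (x : G)⁻¹ * (a : G)⁻¹ = d at i dF dR
      refine zpowers_le.1 (CfsgH1.le_of_forall_sylow_le fun r hr _ => ⟨default, ?_⟩)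
      rintro _ ⟨y, hy, rfl⟩
      obtain ⟨k, hk⟩ := exists_orderOf_eq_pow (default : Sylow r (zpowers d)).isPGroup' hy
      rw [← orderOf_coe] at hk
      by_contra yM
      refine c ⟨unq O₂(P) B, a, y, r, k, le_unq _, RA.trans (sup_le QT h1), AR, ?_, ha,
        FP (zpowers_le.2 dF y.2), yM, zpowers_le.2 dR y.2, ?_, hr.out, ?_, hk⟩
      · refine (idx_right (B := O₂(P) ⊔ A) le_sup_right).trans ?_
        rw [relIndex_unq_left (sup_le le_normalizer (AP.trans nQ)) le_sup_left, e']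
        by_cases k : qm O₂(P) a ∈ B
        · rw [sup_eq_left.2 (zpowers_le.2 k), relIndex_self]; omega
        · exact (relIndex_sup_zpowers (p := 2) (cent_le_norm _ (cent_anti hB (ea_comm hA' (qm_mem_quo ha)))) k
            ((ea_iff.1 hA').2 _ (qm_mem_quo ha) ▸ one_mem _)).le
      · obtain ⟨_, j, rfl⟩ := y
        show (a : G) * d ^ j * (a : G)⁻¹ = (d ^ j)⁻¹
        rw [← conj_zpow, i, inv_zpow]
      · rintro rfl
        exact yM (h.le (QT (pcl_of_normal sF (FP.trans nQ) _ (zpowers_le.2 (zpowers_le.2 dF y.2))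
          (isPGroup_zpowers_of_orderOf hk) |>.trans (Op_le_Op_of_normal FP nF) (mem_zpowers _))))
    have l : A ≤ centMod (F ⊓ M) {(x : G)} := by
      refine (le_sup_right.trans ((quo_le_iff (sup_le le_normalizer (AP.trans nQ))).1 e'.le)).trans ?_
      rw [unq_sup, ← quo_zpowers, unq_quo (zpowers_le.2 a.2)]
      have r : unq O₂(P) B ≤ centMod (F ⊓ M) {(x : G)} := fun b hb =>
        ⟨nD (sup_le (CfsgH2.Op_le P) AP (RA hb)), fun _ e => e ▸ QD ((quo_le_cent_iff (unq_le_norm _)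
          (zpowers_le.2 x.2)).1 (by rw [quo_unq, quo_zpowers]; exact cent_symm (zpowers_le.2 x2))
          (commutator_mem_commutator hb (mem_zpowers _)))⟩
      refine sup_le r (sup_le ((le_unq _).trans r) (zpowers_le.2 ⟨nD (AP ha), fun _ e => e ▸
        comm_mem_symm ⟨?_, dM⟩⟩))
      simpa [mul_assoc] using F.mul_mem hx (CfsgH2.conj_mem_of_mem_normalizer (nF (AP ha)) (F.inv_mem hx))
    exact (l hs).2 _ rfl
  have k1 := (le_centMod_iff (FP.trans nD)).1 ((le_of_quo_le (FP.trans nQ) (inf_le_left.trans nQ)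
    (le_inf (CfsgH2.Op_le P) ((le_centMod_iff ((CfsgH2.Op_le P).trans nD)).2 ((comm_le_left (AP.trans nQ)).trans QD)))
    key).trans inf_le_right)
  have k2 : ncl T A ≤ centMod (F ⊓ M) F := ncl_le_iff.2 fun g hg => by
    refine (le_centMod_iff ((cj_le_of_norm (le_normalizer (hT.le hg)) AP).trans nD)).2 ?_
    rw [commutator_comm, ← cj_eq_of_norm (nD (hT.le hg))]
    conv_lhs => rw [← cj_eq_of_norm (nF (hT.le hg)), ← cj_commutator]
    exact cj_mono g k1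
  refine rn (cr.ge.trans ((commutator_mono EF le_rfl).trans ?_))
  rw [commutator_comm]
  exact ((le_centMod_iff (((ncl_le_of_le h1).trans hT.le).trans nD)).1 k2).trans inf_le_right

theorem F4.yl (h : F4 G) (hM : MxL 2 M) (s : Group.IsSolvable M) (c : ChP 2 M) :
    N(largestPReducedOf 2 M) = M ∧ Q2 (largestPReducedOf 2 M) := by
  have p := pred_YL (p := 2) M
  have n : largestPReducedOf 2 M ≠ ⊥ := YL_ne_bot c (by
    obtain ⟨T, -, t, rfl⟩ := hM.1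
    exact ne_bot_of_le t le_normalizer)
  have e := hM.2 _ ⟨_, p.pg, n, rfl⟩ p.norm
  exact ⟨e, h.q2 p n s e.le⟩

theorem F4.final (h : F4 G) (hM : MxL 2 M) (s : Group.IsSolvable M) (c : ChP 2 M) (t : IsSylowIn 2 T M)
    (hJ : N(J₂(T)) ≤ M) (s' : Group.IsSolvable P) (c' : ChP 2 P) (t' : IsSylowIn 2 T P) : P ≤ M := by
  induction P using subgroup_induction_up with
  | h P ih =>
  by_contra hn
  have u : UM T P (P ⊓ M) := ⟨le_inf t'.le t.le, inf_lt_left.2 hn, fun X x1 x2 => le_inf x2.le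
    (ih X (card_lt_of_lt x2) (CfsgH1.isSolvable_of_le s' x2.le) (c'.of_le x2.le ((Op_le_sylow t').trans x1))
      (t'.mono x1 x2.le))⟩
  have m := u.ym t' fun k => hn (k.trans ((nJ le_rfl).trans hJ))
  obtain ⟨e, q⟩ := h.yl hM s c
  have p := pred_YL (p := 2) M
  have VT := p.le_Op.trans (Op_le_sylow t)
  generalize largestPReducedOf 2 M = V at *
  have QT : O₂(P) ≤ T := Op_le_sylow t'
  have k1 : ∀ y ∈ P, y ∈ C(O₂(P)) → y ∈ P ⊓ M := fun y a b => m.le (QT (c' ⟨a, b⟩))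
  have k2 : ∀ {a y : G} {r k : ℕ}, a ∈ P → a ^ 2 = 1 → y ∈ P → y ∉ P ⊓ M → a * y * a⁻¹ = y⁻¹ →
      r.Prime → r ≠ 2 → orderOf y = r ^ k → O5 y := fun {a y r k} a1 a2 y1 y2 i r1 r2 o =>
    ⟨r, k, r1, r1.five_le_of_ne_two_of_ne_three r2 fun e => y2 (k1 y y1 (h.cent3 (Op_pg P)
      (c'.Op_ne_bot fun e => hn (e.le.trans bot_le)) (le_norm_Op_self P a1) (le_norm_Op_self P y1) a2
      (e ▸ o) i)), o⟩
  by_cases l : V ≤ O₂(P)
  · obtain ⟨A, hA, a0⟩ : ∃ A, MaxA 2 T A ∧ ¬ A ≤ O₂(P) := by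
      by_contra k
      push Not at k
      exact hn ((le_norm_Op_self P).trans ((nJ le_rfl).trans
        (J_eq_of_le (CfsgH9.J_le_iff.2 k) QT ▸ hJ)))
    obtain ⟨R, a, y, r, k, r1, r2, r3, r4, a1, y1, y2, y3, i, r5, r6, o⟩ := m.dihedral t' s' hA.ea hA.le a0
    have b : ∀ g ∈ zpowers y, cj g V ≤ O₂(P) ∧ O₂(P) ≤ N(cj g V) := fun g hg => by
      have := le_norm_Op_self (p := 2) P (zpowers_le.2 y1 hg)
      refine ⟨cj_le_of_norm this l, ?_⟩
      rw [← cj_normalizer, e]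
      exact (cj_eq_of_norm this).ge.trans (cj_mono g (QT.trans t.le))
    have b1 : ∀ g ∈ zpowers y, cj g V ≤ C(ncl (zpowers y) V) := fun g hg =>
      cent_symm (ncl_le_iff.2 fun g' hg' => (q.cj g).comm (q.cj g') (ea_cj p.ea g) (ea_cj p.ea g')
        ((b g hg).1.trans (b g' hg').2) ((b g' hg').1.trans (b g hg).2))
    exact y2 ⟨y1, e.le (cent_le_norm _ (q.case2 hA (CfsgH2.ea_mono (oz_ea _) (ncl_le_iff.2 fun g hg =>
      le_oz (ea_cj p.ea g) (cj_le_ncl V hg) (b1 g hg))) (ncl_le_iff.2 fun g hg => (b g hg).1.trans QT)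
      (q.maxA hA p.ea VT (t.le.trans e.ge)) (r2.trans (t.le.trans e.ge)) y3 r4 a1 i
      (k2 (t'.le (hA.le a1)) ((ea_iff.1 hA.ea).2 a a1) y1 y2 i r5 r6 o)))⟩
  · obtain ⟨R, a, y, r, k, r1, r2, r3, r4, a1, y1, y2, y3, i, r5, r6, o⟩ := m.dihedral t' s' p.ea VT l
    exact y2 (k1 y y1 (cent_anti r1 (q.case1 p.ea (t.pgroup.to_le r2) (r2.trans (t.le.trans e.ge)) r3 y3
      r4 a1 i (k2 (t'.le (VT a1)) ((ea_iff.1 p.ea).2 a a1) y1 y2 i r5 r6 o))))

theorem F4.main (h : F4 G) (hl : ∀ M : Subgroup G, MxL 2 M → Group.IsSolvable M ∧ ChP 2 M)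
    (hM : MxL 2 M) (hg : g ∉ M) : ¬ 2 ∣ Nat.card (M ⊓ cj g M : Subgroup G) := fun hd => by
  obtain ⟨S, hS⟩ := IsSylowIn.exists_sylowIn 2 (M ⊓ cj g M)
  obtain ⟨T, -, ⟨t0, tp, M₁, M₂, a1, a2, a3, a4⟩, mx⟩ := exists_maximal_subgroup
    (Φ := fun T : Subgroup G => T ≠ ⊥ ∧ IsPGroup 2 T ∧ ∃ M₁ M₂, MxL 2 M₁ ∧ MxL 2 M₂ ∧ M₁ ≠ M₂ ∧
      T ≤ M₁ ⊓ M₂) ⟨fun e => hS.eq_bot_iff.1 e hd, hS.pgroup, M, _, hM, hM.cj g,
      fun e => hg (hM.norm (mem_norm_iff_cj.2 e.symm)), hS.le⟩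
  have f : ∀ A B : Subgroup G, MxL 2 A → MxL 2 B → A ≠ B → T ≤ A → N(T) ≤ B → IsSylowIn 2 T A :=
    fun A B a b ne l n => IsSylowIn.of_maximal l tp fun Q q1 q2 q3 => by_contra fun d =>
      have e := lt_inf_normalizer q1 (lt_of_le_not_ge q2 d)
      e.ne' (mx _ ⟨ne_bot_of_le t0 e.le, q1.to_le inf_le_left, A, B, a, b, ne, inf_le_inf q3 n⟩ e.le)
  obtain ⟨L, b1, b2⟩ := exists_mxl (pJ tp) (CfsgH9.J_ne_bot dvd_rfl tp t0)
  have b3 := (nJ le_rfl).trans b2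
  obtain ⟨H, c1, c2, c3⟩ : ∃ H, MxL 2 H ∧ H ≠ L ∧ T ≤ H := by
    by_cases e : M₁ = L
    · exact ⟨M₂, a2, e ▸ a3.symm, a4.trans inf_le_right⟩
    · exact ⟨M₁, a1, e, a4.trans inf_le_left⟩
  have s := f _ _ c1 b1 c2 c3 b3
  refine c2 (c1.2 L b1.1 ?_).symm
  obtain ⟨L', d1, d2⟩ := exists_mxl (ea_isPGroup (oz_ea (p := 2) T)) (oz_ne_bot tp t0)
  by_cases e : L = L'
  · obtain ⟨n, q⟩ := h.yl c1 (hl H c1).1 (hl H c1).2
    have p := pred_YL (p := 2) H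
    refine (le_sup_left.trans (p.frattini s).ge).trans (sup_le (inf_le_right.trans ((nJ le_rfl).trans ?_))
      ((cent_anti (oz_le_YL (hl H c1).2 s)).trans ((cent_le_norm _).trans (e ▸ d2))))
    rwa [J_eq_of_le (le_inf J_le (CfsgH9.J_le_iff.2 fun A hA => q.maxA hA p.ea
      (p.le_Op.trans (Op_le_sylow s)) (c3.trans n.ge))) inf_le_left]
  · exact h.final b1 (hl L b1).1 (hl L b1).2 (f _ _ b1 d1 e (le_normalizer.trans b3)
      ((le_norm_oz le_rfl).trans d2)) b2 (hl H c1).1 (hl H c1).2 s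

end CfsgH2
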