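import Cfsg.Agent.H2.Sig1

/-! Signalizer functors: the family of `θ`-subgroups and the transitivity theorem. -/

set_option autoImplicit false
set_option linter.unusedSectionVars false
set_option linter.style.haveILetI false

namespace CfsgH2

open Subgroup Cfsg CfsgFT
open CfsgH1 (IsPiNum exists_centralizer_mul exists_invariant_sylow_le
  invariant_sylow_inf_centralizer)
open scoped commutatorElement Pointwise

variable {G : Type*} [Group G]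

/-- solvable signalizer functor on an elementary abelian `p`-group -/
structure SF (p : ℕ) (A : Subgroup G) (θ : G → Subgroup G) : Prop where
  ea : IsElementaryAbelian p A
  cent : ∀ a ∈ A, a ≠ 1 → θ a ≤ C1(a)
  cop : ∀ a ∈ A, a ≠ 1 → ¬ p ∣ Nat.card (θ a)
  inv : ∀ a ∈ A, a ≠ 1 → A ≤ N(θ a)
  bal : ∀ a ∈ A, a ≠ 1 → ∀ b ∈ A, b ≠ 1 → θ a ⊓ C1(b) ≤ θ b
  solv : ∀ a ∈ A, a ≠ 1 → Group.IsSolvable (θ a)

/-- `θ`-subgroups -/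
structure Fam (p : ℕ) (A : Subgroup G) (θ : G → Subgroup G) (U : Subgroup G) : Prop where
  solv : Group.IsSolvable U
  cop : ¬ p ∣ Nat.card U
  inv : A ≤ N(U)
  le : ∀ a ∈ A, a ≠ 1 → U ⊓ C1(a) ≤ θ a

/-- `θ(C(B))` -/
abbrev CB (θ : G → Subgroup G) (B : Subgroup G) : Subgroup G := signalizerInf B θ

variable [Finite G] {p : ℕ} [hp : Fact p.Prime] {A B : Subgroup G} {θ : G → Subgroup G}
  {U V X Y H : Subgroup G}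

theorem le_norm_of_forall_conj (h : ∀ b ∈ A, ∀ x ∈ U, b * x * b⁻¹ ∈ U) : A ≤ N(U) :=
  fun b hb => CfsgH2.mem_normalizer_of_conj_mem (h b hb)

theorem sf_iff (hA : IsElementaryAbelian p A) :
    IsSolvableSignalizerFunctor p A θ ↔ SF p A θ :=
  ⟨fun h => ⟨hA, h.1.1, h.1.2.1, fun a ha h1 => le_norm_of_forall_conj (h.1.2.2.1 a ha h1),
    h.1.2.2.2, h.2⟩, fun h => ⟨⟨h.cent, h.cop, fun a ha h1 _ hb _ hx =>
      CfsgH2.conj_mem_of_mem_normalizer (h.inv a ha h1 hb) hx, h.bal⟩, h.solv⟩⟩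

theorem fam_iff : U ∈ signalizerFamily p A θ ↔ Fam p A θ U :=
  ⟨fun h => ⟨h.1, h.2.1, le_norm_of_forall_conj h.2.2.1, h.2.2.2⟩, fun h => ⟨h.solv, h.cop,
    fun _ hb _ hx => CfsgH2.conj_mem_of_mem_normalizer (h.inv hb) hx, h.le⟩⟩

theorem mem_CB {x : G} : x ∈ CB θ B ↔ ∀ b ∈ B, b ≠ 1 → x ∈ θ b := by
  simp only [CB, signalizerInf, mem_iInf, Subtype.forall, and_imp]

theorem CB_le {b : G} (hb : b ∈ B) (h1 : b ≠ 1) : CB θ B ≤ θ b := fun _ hx => mem_CB.1 hx b hb h1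

theorem CB_anti {B' : Subgroup G} (h : B ≤ B') : CB θ B' ≤ CB θ B :=
  fun _ hx => mem_CB.2 fun b hb h1 => mem_CB.1 hx b (h hb) h1

theorem solv_of_le (h : Group.IsSolvable U) (hle : V ≤ U) : Group.IsSolvable V :=
  Group.isSolvable_of_isSolvable_injective (inclusion_injective hle)

theorem ndvd_of_le {q : ℕ} (h : ¬ q ∣ Nat.card U) (hle : V ≤ U) : ¬ q ∣ Nat.card V :=
  fun hd => h (hd.trans (card_dvd_of_le hle))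

theorem Fam.mono (h : Fam p A θ U) (hle : V ≤ U) (hA : A ≤ N(V)) : Fam p A θ V :=
  ⟨solv_of_le h.solv hle, ndvd_of_le h.cop hle, hA,
    fun a ha h1 => (inf_le_inf_right _ hle).trans (h.le a ha h1)⟩

theorem fam_bot : Fam p A θ ⊥ :=
  ⟨inferInstance, by simpa using hp.out.ne_one, le_norm_bot _, fun _ _ _ => by simp⟩

theorem Fam.inf (h : Fam p A θ U) (hA : A ≤ N(V)) : Fam p A θ (U ⊓ V) :=
  h.mono inf_le_left (nI h.inv hA)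

theorem Fam.Opi (h : Fam p A θ U) (π : Set ℕ) : Fam p A θ (Opi π U) :=
  h.mono (Opi_le _ _) (nO π h.inv)

theorem Fam.inf_cent_le (h : Fam p A θ U) (hB : B ≤ A) : U ⊓ C(B) ≤ CB θ B :=
  fun _ hx => mem_CB.2 fun b hb h1 => h.le b (hB hb) h1 ⟨hx.1, cent_le_cent1 hb hx.2⟩

theorem solv_sup (hX : Group.IsSolvable X) (hY : Group.IsSolvable Y) (hn : Y ≤ N(X)) :
    Group.IsSolvable ↥(X ⊔ Y) := by
  refine solvable_of_quo (K := X) (sup_le le_normalizer hn) hX ?_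
  rw [quo_sup_self hn]
  exact solvable_quo hY X

namespace SF

theorem fam (h : SF p A θ) {a : G} (ha : a ∈ A) (h1 : a ≠ 1) : Fam p A θ (θ a) :=
  ⟨h.solv a ha h1, h.cop a ha h1, h.inv a ha h1, h.bal a ha h1⟩

theorem cp (h : SF p A θ) (hU : Fam p A θ U) : (Nat.card A).Coprime (Nat.card U) :=
  ea_cop h.ea hU.cop

theorem cpB (h : SF p A θ) (hU : Fam p A θ U) (hB : B ≤ A) : (Nat.card B).Coprime (Nat.card U) :=
  coprime_mono (h.cp hU) hB le_rfl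

theorem sA (h : SF p A θ) (L : Subgroup G) : Group.IsSolvable A ∨ Group.IsSolvable L :=
  Or.inl (ea_solv h.ea)

theorem nc1 (h : SF p A θ) {a : G} (ha : a ∈ A) : A ≤ N(C1(a)) := ea_norm_cent1 h.ea ha

theorem nc (h : SF p A θ) (hB : B ≤ A) : A ≤ N(C(B)) := ea_norm_cent h.ea hB

theorem CB_le_cent (h : SF p A θ) (hB : B ≤ A) : CB θ B ≤ C(B) := fun x hx => by
  rw [mem_cent]
  intro b hb
  by_cases h1 : b = 1
  · simp [h1]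
  · exact mem_cent1.1 (h.cent b (hB hb) h1 (mem_CB.1 hx b hb h1))

theorem CB_eq (h : SF p A θ) (hB : B ≤ A) {c : G} (hc : c ∈ B) (h1 : c ≠ 1) :
    CB θ B = θ c ⊓ C(B) :=
  le_antisymm (le_inf (CB_le hc h1) (h.CB_le_cent hB)) ((h.fam (hB hc) h1).inf_cent_le hB)

theorem famCB (h : SF p A θ) (hB : B ≤ A) (h0 : B ≠ ⊥) : Fam p A θ (CB θ B) := by
  obtain ⟨c, hc, h1⟩ := exists_ne_one_of_ne_bot h0
  rw [h.CB_eq hB hc h1]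
  exact (h.fam (hB hc) h1).inf (h.nc hB)

theorem CA_le (_h : SF p A θ) {a : G} (ha : a ∈ A) (h1 : a ≠ 1) : CB θ A ≤ θ a := CB_le ha h1

theorem sup (h : SF p A θ) (hX : Fam p A θ X) (hY : Fam p A θ Y) (hn : Y ≤ N(X)) :
    Fam p A θ (X ⊔ Y) := by
  refine ⟨solv_sup hX.solv hY.solv hn, isPi_compl_singleton_iff.1
    ((isPi_compl_singleton_iff.2 hX.cop).sup (isPi_compl_singleton_iff.2 hY.cop) hn),
    nS hX.inv hY.inv, fun a ha h1 => ?_⟩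
  have hz : zpowers a ≤ A := (zpowers_le (G := G)).2 ha
  rw [← cent_zpowers, sup_inf_cent (hz.trans hX.inv) (hz.trans hY.inv) hn (h.cpB hX hz) hX.solv,
    cent_zpowers]
  exact sup_le (hX.le a ha h1) (hY.le a ha h1)

theorem sup' (h : SF p A θ) (hX : Fam p A θ X) (hY : Fam p A θ Y) (hn : X ≤ N(Y)) :
    Fam p A θ (X ⊔ Y) := sup_comm Y X ▸ h.sup hY hX hn

theorem norm_cj (h : SF p A θ) {c : G} (hc : c ∈ CB θ A) (hU : A ≤ N(U)) : A ≤ N(cj c U) :=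
  le_norm_cj_of_norm hU (cent_le_norm _ (h.CB_le_cent le_rfl hc))

theorem cj_cent1 (h : SF p A θ) {c a : G} (hc : c ∈ CB θ A) (ha : a ∈ A) : cj c C1(a) = C1(a) :=
  cj_eq_of_mem (cent_le_cent1 ha (h.CB_le_cent le_rfl hc))

theorem cj (h : SF p A θ) {c : G} (hc : c ∈ CB θ A) (hU : Fam p A θ U) : Fam p A θ (cj c U) := by
  haveI := hU.solv
  refine ⟨Group.isSolvable_of_surjective (f := (cjEquiv c U).toMonoidHom) (cjEquiv c U).surjective,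
    card_cj c U ▸ hU.cop, h.norm_cj hc hU.inv, fun a ha h1 => ?_⟩
  rw [← h.cj_cent1 hc ha, ← cj_inf]
  exact cj_le_of_mem (h.CA_le ha h1 hc) (hU.le a ha h1)

theorem le_of_hyp (h : SF p A θ) (h0 : A ≠ ⊥) (hU : Fam p A θ U)
    (hX : ∀ B, Hyp p A B → U ⊓ C(B) ≤ X) : U ≤ X :=
  CfsgH2.le_of_hyp h.ea h0 hU.inv hU.cop hX

end SF

/-- maximal `θ`-`q`-subgroups -/
structure Mx (p : ℕ) (A : Subgroup G) (θ : G → Subgroup G) (q : ℕ) (Q : Subgroup G) : Prop where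
  fam : Fam p A θ Q
  pg : IsPGroup q Q
  max : ∀ R, Fam p A θ R → IsPGroup q R → Q ≤ R → R = Q

variable {q : ℕ} [hq : Fact q.Prime] {Q : Subgroup G}

theorem exists_mxS (hU : Fam p A θ U) (hUq : IsPGroup q U) : ∃ Q, Mx p A θ q Q ∧ U ≤ Q := by
  obtain ⟨Q, hle, ⟨h1, h2⟩, hmax⟩ := (Set.toFinite {R : Subgroup G | Fam p A θ R ∧
    IsPGroup q R}).exists_le_maximal (a := U) ⟨hU, hUq⟩
  exact ⟨Q, ⟨h1, h2, fun R a b c => le_antisymm (hmax ⟨a, b⟩ c) c⟩, hle⟩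

theorem SF.mx_cj (h : SF p A θ) {c : G} (hc : c ∈ CB θ A) (hQ : Mx p A θ q Q) :
    Mx p A θ q (CfsgH2.cj c Q) := by
  refine ⟨h.cj hc hQ.fam, IsPGroup_cj hQ.pg c, fun R h1 h2 h3 => ?_⟩
  have := hQ.max _ (h.cj ((CB θ A).inv_mem hc) h1) (IsPGroup_cj h2 _) (by
    rw [← cj_le_iff_le_cj_inv]; exact h3)
  rw [← this, cj_cj_inv]

theorem trans_aux (hA : IsElementaryAbelian p A) (hA3 : p ^ 3 ≤ Nat.card A) {Q₁ Q₂ D : Subgroup G}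
    (h₁ : IsPGroup q Q₁) (h₂ : IsPGroup q Q₂) (c₁ : ¬ p ∣ Nat.card Q₁) (c₂ : ¬ p ∣ Nat.card Q₂)
    (hA₁ : A ≤ N(Q₁)) (hA₂ : A ≤ N(Q₂)) (hAD : A ≤ N(D)) (hD₁ : D < Q₁) (hD₂ : D < Q₂) :
    ∃ a ∈ A, a ≠ 1 ∧ ¬ (N(D) ⊓ Q₁ ⊓ C1(a) ≤ D) ∧ ¬ (N(D) ⊓ Q₂ ⊓ C1(a) ≤ D) := by
  have key : ∀ Q : Subgroup G, IsPGroup q Q → ¬ p ∣ Nat.card Q → A ≤ N(Q) → D < Q →
      ∃ B, Hyp p A B ∧ ¬ N(D) ⊓ Q ⊓ C(B) ≤ D := fun Q h c hn hD => by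
    by_contra hc
    push Not at hc
    have := le_of_hyp hA (ne_bot_of_pow_le hA3) (nI (le_norm_norm hAD) hn)
      (ndvd_of_le c inf_le_right) hc
    rw [inf_comm] at this
    exact not_le_of_gt (lt_inf_normalizer h hD) this
  obtain ⟨B₁, a₁, b₁⟩ := key Q₁ h₁ c₁ hA₁ hD₁
  obtain ⟨B₂, a₂, b₂⟩ := key Q₂ h₂ c₂ hA₂ hD₂
  obtain ⟨a, h1, h2, h3⟩ := a₁.meet2 a₂ hA3
  exact ⟨a, a₁.1 h1, h3, fun h => b₁ ((inf_le_inf_left _ (cent_le_cent1 h1)).trans h),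
    fun h => b₂ ((inf_le_inf_left _ (cent_le_cent1 h2)).trans h)⟩

/-- Transitivity theorem. -/
theorem SF.trans (h : SF p A θ) (hA3 : p ^ 3 ≤ Nat.card A) {Q₁ Q₂ : Subgroup G}
    (h₁ : Mx p A θ q Q₁) (h₂ : Mx p A θ q Q₂) : ∃ c ∈ CB θ A, CfsgH2.cj c Q₁ = Q₂ := by
  suffices H : ∀ D Q₁ Q₂ : Subgroup G, Mx p A θ q Q₁ → Mx p A θ q Q₂ → D ≤ Q₁ → D ≤ Q₂ →
      A ≤ N(D) → ∃ c ∈ CB θ A, CfsgH2.cj c Q₁ = Q₂ from
    H ⊥ Q₁ Q₂ h₁ h₂ bot_le bot_le (le_norm_bot _)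
  intro D
  induction D using subgroup_induction_down with
  | _ D ih =>
  intro Q₁ Q₂ h₁ h₂ d₁ d₂ hAD
  by_cases e₁ : D = Q₁
  · exact ⟨1, one_mem _, by rw [cj_one, h₁.max Q₂ h₂.fam h₂.pg (e₁ ▸ d₂)]⟩
  by_cases e₂ : D = Q₂
  · exact ⟨1, one_mem _, by rw [cj_one, h₂.max Q₁ h₁.fam h₁.pg (e₂ ▸ d₁)]⟩
  obtain ⟨a, ha, h1, n₁, n₂⟩ := trans_aux h.ea hA3 h₁.pg h₂.pg h₁.fam.cop h₂.fam.cop h₁.fam.inv
    h₂.fam.inv hAD (lt_of_le_of_ne d₁ e₁) (lt_of_le_of_ne d₂ e₂)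
  have hD : Fam p A θ D := h₁.fam.mono d₁ hAD
  have hH : Fam p A θ (D ⊔ (θ a ⊓ N(D))) :=
    h.sup hD ((h.fam ha h1).inf (le_norm_norm hAD)) inf_le_right
  have key : ∀ Q : Subgroup G, Mx p A θ q Q → D ≤ Q → ¬ (N(D) ⊓ Q ⊓ C1(a) ≤ D) →
      ∃ R Q', IsSylowIn q R (D ⊔ (θ a ⊓ N(D))) ∧ A ≤ N(R) ∧ D < R ∧ Mx p A θ q Q' ∧ R ≤ Q' ∧
        ∃ c ∈ CB θ A, CfsgH2.cj c Q = Q' := fun Q hQ d n => by
    have hP : D ⊔ (N(D) ⊓ Q ⊓ C1(a)) ≤ Q := sup_le d (inf_le_left.trans inf_le_right)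
    have hAP : A ≤ N(D ⊔ (N(D) ⊓ Q ⊓ C1(a))) :=
      nS hAD (nI (nI (le_norm_norm hAD) hQ.fam.inv) (h.nc1 ha))
    have hlt : D < D ⊔ (N(D) ⊓ Q ⊓ C1(a)) :=
      lt_of_le_of_ne le_sup_left fun e => n (le_sup_right.trans e.ge)
    obtain ⟨R, hR, hPR, hAR⟩ := exists_invariant_sylow_le hH.inv (h.cp hH) (h.sA _)
      (sup_le_sup_left (le_inf ((inf_le_inf_right _ inf_le_right).trans (hQ.fam.le a ha h1))
        (inf_le_left.trans inf_le_left)) D) (hQ.pg.to_le hP) hAP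
    obtain ⟨Q', hQ', hRQ⟩ := exists_mxS (hH.mono hR.le hAR) hR.pgroup
    exact ⟨R, Q', hR, hAR, hlt.trans_le hPR, hQ', hRQ,
      ih _ (CfsgH2.card_lt_of_lt hlt) Q Q' hQ hQ' hP (hPR.trans hRQ) hAP⟩
  obtain ⟨R₁, Q₁', s₁, i₁, -, m₁, l₁, c₁, hc₁, rfl⟩ := key Q₁ h₁ d₁ n₁
  obtain ⟨R₂, Q₂', s₂, i₂, t₂, m₂, l₂, c₂, hc₂, rfl⟩ := key Q₂ h₂ d₂ n₂
  obtain ⟨c, hc, e⟩ := inv_sylow_conj hH.inv (h.cp hH) (h.sA _) s₁ s₂ i₁ i₂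
  have hc' := hH.inf_cent_le le_rfl hc
  obtain ⟨c₃, hc₃, e₃⟩ := ih _ (CfsgH2.card_lt_of_lt t₂) _ _ (h.mx_cj hc' m₁) m₂
    (e ▸ cj_mono c l₁) l₂ i₂
  refine ⟨c₂⁻¹ * (c₃ * (c * c₁)), mul_mem (inv_mem hc₂) (mul_mem hc₃ (mul_mem hc' hc₁)), ?_⟩
  rw [← cj_cj, ← cj_cj, ← cj_cj, e₃, cj_inv_cj]

theorem SF.exists_le_cj (h : SF p A θ) (hA3 : p ^ 3 ≤ Nat.card A) (hQ : Mx p A θ q Q)
    (hU : Fam p A θ U) (hUq : IsPGroup q U) : ∃ c ∈ CB θ A, U ≤ CfsgH2.cj c Q := by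
  obtain ⟨Q', h1, h2⟩ := exists_mxS hU hUq
  obtain ⟨c, hc, e⟩ := h.trans hA3 hQ h1
  exact ⟨c, hc, e ▸ h2⟩

theorem SF.exists_syl_ge (h : SF p A θ) (hA3 : p ^ 3 ≤ Nat.card A) (hQ : Mx p A θ q Q)
    (hH : Fam p A θ H) (hU : U ≤ H) (hUq : IsPGroup q U) (hAU : A ≤ N(U)) :
    ∃ c ∈ CB θ A, IsSylowIn q (CfsgH2.cj c Q ⊓ H) H ∧ U ≤ CfsgH2.cj c Q := by
  obtain ⟨R, hR, hUR, hAR⟩ := exists_invariant_sylow_le hH.inv (h.cp hH) (h.sA _) hU hUq hAU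
  obtain ⟨c, hc, e⟩ := h.exists_le_cj hA3 hQ (hH.mono hR.le hAR) hR.pgroup
  refine ⟨c, hc, ?_, hUR.trans e⟩
  rw [hR.eq_of_le ((IsPGroup_cj hQ.pg c).to_le inf_le_left) (le_inf e hR.le) inf_le_right]
  exact hR

theorem SF.exists_syl (h : SF p A θ) (hA3 : p ^ 3 ≤ Nat.card A) (hQ : Mx p A θ q Q)
    (hH : Fam p A θ H) : ∃ c ∈ CB θ A, IsSylowIn q (CfsgH2.cj c Q ⊓ H) H := by
  obtain ⟨c, hc, h1, -⟩ := h.exists_syl_ge hA3 hQ hH bot_le IsPGroup.of_bot (le_norm_bot _)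
  exact ⟨c, hc, h1⟩

theorem syl_cj_back {c : G} (hc : c ∈ N(H)) (h : IsSylowIn q (cj c Q ⊓ H) H) :
    IsSylowIn q (Q ⊓ H) H := by
  have := h.cj_of_mem_normalizer (inv_mem hc)
  rwa [cj_inf, cj_inv_cj, cj_eq_of_norm (inv_mem hc)] at this

theorem SF.syl (h : SF p A θ) (hA3 : p ^ 3 ≤ Nat.card A) (hQ : Mx p A θ q Q)
    (hH : Fam p A θ H) (hC : CB θ A ≤ N(H)) : IsSylowIn q (Q ⊓ H) H := by
  obtain ⟨c, hc, h1⟩ := h.exists_syl hA3 hQ hH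
  exact syl_cj_back (hC hc) h1

theorem SF.le_mx (h : SF p A θ) (hA3 : p ^ 3 ≤ Nat.card A) (hQ : Mx p A θ q Q)
    (hU : Fam p A θ U) (hUq : IsPGroup q U) (hC : CB θ A ≤ N(U)) : U ≤ Q :=
  ((h.syl hA3 hQ hU hC).eq_of_isPGroup hUq).ge.trans inf_le_left

theorem SF.card_le_mx (h : SF p A θ) (hA3 : p ^ 3 ≤ Nat.card A) (hQ : Mx p A θ q Q)
    (hU : Fam p A θ U) (hUq : IsPGroup q U) : Nat.card U ≤ Nat.card Q := by
  obtain ⟨c, -, h1⟩ := h.exists_le_cj hA3 hQ hU hUq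
  exact (card_le_of_le h1).trans (card_cj c Q).le

/-- completeness -/
def Comp (p : ℕ) (A : Subgroup G) (θ : G → Subgroup G) : Prop :=
  ∃ X, Fam p A θ X ∧ ∀ a ∈ A, a ≠ 1 → θ a ≤ X

theorem SF.complete (h : SF p A θ) (hc : Comp p A θ) : IsCompleteSignalizerFunctor p A θ := by
  obtain ⟨X, hX, h1⟩ := hc
  exact ⟨((sf_iff h.ea).2 h).1, X, fun _ hb _ hx => CfsgH2.conj_mem_of_mem_normalizer (hX.inv hb) hx,
    hX.cop, fun a ha a1 => le_antisymm (hX.le a ha a1) (le_inf (h1 a ha a1) (h.cent a ha a1))⟩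

theorem SF.fam_le (h : SF p A θ) (h2 : p ^ 2 ≤ Nat.card A) (hX : ∀ B, Hyp p A B → CB θ B ≤ X)
    (hU : Fam p A θ U) : U ≤ X :=
  h.le_of_hyp (ne_bot_of_pow_le h2) hU fun B hB => (hU.inf_cent_le hB.1).trans (hX B hB)

theorem SF.fam_le' (h : SF p A θ) (h2 : p ^ 2 ≤ Nat.card A) (hX : ∀ a ∈ A, a ≠ 1 → θ a ≤ X)
    (hU : Fam p A θ U) : U ≤ X :=
  h.fam_le h2 (fun B hB => by
    obtain ⟨c, hc, h1⟩ := exists_ne_one_of_ne_bot (ne_bot_of_pow_le (k := 0) (hB.pow_le h2))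
    exact (CB_le hc h1).trans (hX c (hB.1 hc) h1)) hU

theorem pow3_le2 (h : p ^ 3 ≤ Nat.card A) : p ^ 2 ≤ Nat.card A :=
  (Nat.pow_le_pow_right hp.out.pos (by norm_num)).trans h

theorem SF.comp_of_hyp (h : SF p A θ) (h3 : p ^ 3 ≤ Nat.card A) (hX : Fam p A θ X)
    (hB : ∀ B, Hyp p A B → CB θ B ≤ X) : Comp p A θ :=
  ⟨X, hX, fun _ ha h1 => h.fam_le (pow3_le2 h3) hB (h.fam ha h1)⟩

theorem SF.comp_of_sub (h : SF p A θ) (h3 : p ^ 3 ≤ Nat.card A) (hX : Fam p A θ X) (hB : B ≤ A)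
    (hB2 : p ^ 2 ≤ Nat.card B) (hb : ∀ b ∈ B, b ≠ 1 → θ b ≤ X) : Comp p A θ :=
  h.comp_of_hyp h3 hX fun B' hB' => by
    obtain ⟨c, h1, h2, h3⟩ := hB'.meet hB hB2
    exact (CB_le h1 h3).trans (hb c h2 h3)

end CfsgH2
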