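import Cfsg.Agent.H2.SG2
import Cfsg.Agent.S0109
import Cfsg.Agent.H9.KS2
import Cfsg.Agent.H9.ZJ

/-! Coprime action lemmas and factorizations used for the signalizer functor theorem. -/

set_option autoImplicit false
set_option linter.unusedSectionVars false
set_option linter.style.haveILetI false

namespace CfsgH2

open Subgroup Cfsg CfsgFT
open CfsgH1 (IsPiNum exists_centralizer_mul exists_invariant_sylow_le
  invariant_sylow_inf_centralizer odd_prime_action le_cent_of_frobenius ea_induction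
  cent_of_quo_cent inverts_of_fpf solvable_ea)
open scoped commutatorElement Pointwise

universe u

variable {G : Type u} [Group G] [Finite G]

theorem zp_le {H : Subgroup G} {x : G} (h : x ∈ H) : zpowers x ≤ H := (zpowers_le (G := G)).2 h

theorem eq_zpowers_of_prime {R : Subgroup G} (hr : (Nat.card R).Prime) {x : G} (hx : x ∈ R)
    (h1 : x ≠ 1) : zpowers x = R := by
  haveI := Fact.mk hr
  exact CfsgH9.eq_zpowers_of_card rfl hx h1

theorem prime_action {H K R : Subgroup G} (hH : Group.IsSolvable H) (hKH : K ≤ N(H))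
    (hRH : R ≤ N(H)) (hRK : R ≤ N(K)) (hr : (Nat.card R).Prime)
    (hcop : (Nat.card R).Coprime (Nat.card K)) (hs : Group.IsSolvable K)
    (hcK : (Nat.card K).Coprime (Nat.card H)) (hcR : (Nat.card R).Coprime (Nat.card H))
    (hK : Odd (Nat.card K) ∨ K ≤ C(K)) (hC : H ⊓ C(R) = ⊥) : ⁅K, R⁆ ≤ C(H) := by
  rcases hK with hK | hK
  · rcases hr.eq_two_or_odd' with h2 | h2
    · have key : ∀ s ∈ R, s ≠ 1 → ∀ h ∈ H, s * h * s⁻¹ = h⁻¹ := fun s hs h1 =>
        inverts_of_fpf (hRH hs) (by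
          have := pow_card_eq_one' (G := R) (x := ⟨s, hs⟩)
          rw [h2, pow_two] at this
          exact congrArg Subtype.val this)
          (by rwa [← cent_zpowers, eq_zpowers_of_prime hr hs h1])
      rw [commutator_le]
      intro k hk s hs
      by_cases h1 : s = 1
      · simp [h1]
      rw [mem_cent]
      intro h hh
      have e1 := key s hs h1 _ (CfsgH2.conj_mem_of_mem_normalizer' (hRH hs) hh)
      have e2 := key s hs h1 _ (CfsgH2.conj_mem_of_mem_normalizer' (hKH hk) (H.inv_mem hh))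
      have e3 : s⁻¹ * h * s = h⁻¹ := by
        have : (s⁻¹ * h * s)⁻¹ = h := by rw [← e1]; group
        rw [← inv_inj, this, inv_inv]
      rw [commutatorElement_def]
      calc h * (k * s * k⁻¹ * s⁻¹) = k * (k⁻¹ * h⁻¹ * k)⁻¹ * s * k⁻¹ * s⁻¹ := by group
        _ = k * s * k⁻¹ * h⁻¹ * s⁻¹ := by rw [← e2]; group
        _ = k * s * k⁻¹ * s⁻¹ * h := by rw [← e3]; group
    · exact odd_prime_action hH hKH hRH hRK hr hcop hs hcK hcR hK h2 hC
  · have hle := comm_le_left hRK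
    refine le_cent_of_frobenius hH (hle.trans hKH) hRH (normalizer_commutator_ge_right _ _)
      (solv_of_le hs hle) (coprime_mono hcK hle le_rfl) hcR (fun x hx h1 => ?_) hC
    rw [← cent_zpowers, eq_zpowers_of_prime hr hx h1]
    exact coprime_comm_inf_cent hK hRK hcop

theorem comm_cent_of_fix {H K R : Subgroup G} (hH : Group.IsSolvable H) (hKH : K ≤ N(H))
    (hRH : R ≤ N(H)) (hRK : R ≤ N(K)) (hr : (Nat.card R).Prime)
    (hcop : (Nat.card R).Coprime (Nat.card K)) (hs : Group.IsSolvable K)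
    (hcK : (Nat.card K).Coprime (Nat.card H)) (hcR : (Nat.card R).Coprime (Nat.card H))
    (hK : Odd (Nat.card K) ∨ K ≤ C(K)) (hC : H ⊓ C(R) ≤ C(K)) : ⁅K, R⁆ ≤ C(H) := by
  revert hKH hRH hRK hr hcop hs hcK hcR hK hC
  refine ea_induction (P := fun X _ _ H K R => K ≤ N(H) → R ≤ N(H) → R ≤ N(K) →
    (Nat.card R).Prime → (Nat.card R).Coprime (Nat.card K) →
    Group.IsSolvable K → (Nat.card K).Coprime (Nat.card H) → (Nat.card R).Coprime (Nat.card H) →
    (Odd (Nat.card K) ∨ K ≤ C(K)) → H ⊓ C(R) ≤ C(K) → ⁅K, R⁆ ≤ C(H))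
    (fun X _ _ K R _ _ _ _ _ _ _ _ _ _ => le_cent_bot _) ?_ G H K R hH
  intro X _ _ H K R V l _ hVH hV0 hV hn _ ih hKH hRH hRK hr hcop hs hcK hcR hK hC
  have hKV := hKH.trans hn
  have hRV := hRH.trans hn
  have hHV : H ≤ N(V) := le_normalizer.trans hn
  have cK := coprime_mono hcK le_rfl hVH
  have cR := coprime_mono hcR le_rfl hVH
  have h1 := ih (quo_le_norm hKH) (quo_le_norm hRH) (quo_le_norm hRK)
    (by rwa [card_quo_of_disjoint hRV (inf_eq_bot_of_coprime' cR)]) (coprime_quo hcop V)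
    (solvable_quo hs V) (coprime_quo hcK V) (coprime_quo hcR V)
    (hK.imp (fun h => odd_quo h V) (fun h => comm_quo h V))
    (by rw [← quo_inf_cent hRV hHV hRH cR (Or.inr (solvable_ea hV))]; exact quo_le_cent hC)
  rw [← quo_comm hKV hRV] at h1
  have hle := comm_le_left hRK
  refine cent_of_quo_cent hHV (hle.trans hKV) (coprime_mono cK hle le_rfl) ?_ h1
  have hVc := comm_iff.1 hV.1
  have hle1 : ⁅V, K⁆ ≤ V := comm_le_left hKV
  have h2 := prime_action (solv_of_le (solvable_ea hV) hle1) (normalizer_commutator_ge_right V K)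
    (nK hRV hRK) hRK hr hcop hs (coprime_mono cK le_rfl hle1) (coprime_mono cR le_rfl hle1) hK
    (eq_bot_iff.2 ((le_inf inf_le_left ((inf_le_inf_right _ (hle1.trans hVH)).trans hC)).trans
      (coprime_comm_inf_cent hVc hKV cK).le))
  rw [← coprime_comm_sup_cent hKV cK (solvable_ea hV)]
  exact le_cent_sup h2 (cent_symm (inf_le_right.trans (cent_anti hle)))

variable {q : ℕ} [hq : Fact q.Prime]

theorem fit_pi_of_Opi_eq_bot {H : Subgroup G} (h : Opi {q} H = ⊥) : IsPi {q}ᶜ (fittingOf H) := by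
  rw [isPi_compl_singleton_iff, ← (sylow_Opi_of_nilpotent (p := q) (fit_nilpotent H)).eq_bot_iff,
    Opi_p_fit, h]

/-- key lemma (K) -/
theorem comm_le_Opi {H Y R : Subgroup G} (hH : Group.IsSolvable H) (hRH : R ≤ N(H))
    (hr : (Nat.card R).Prime) (hcR : (Nat.card R).Coprime (Nat.card H)) (hY : Y ≤ H)
    (hYq : IsPGroup q Y) (hRY : R ≤ N(Y)) (hC : H ⊓ C(R) ≤ N(Y))
    (hK : Odd (Nat.card Y) ∨ Y ≤ C(Y)) : ⁅Y, R⁆ ≤ Opi {q} H := by
  set O := Opi {q} H with hO
  have hHO : H ≤ N(O) := le_normalizer_Opi _ _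
  have hRO : R ≤ N(O) := nO _ hRH
  have cO := coprime_mono hcR le_rfl (Opi_le {q} H)
  have h0 : Opi {q} (quo O H) = ⊥ := Opi_quo_Opi _ _
  have hF := fit_pi_of_Opi_eq_bot h0
  have hY' := isPi_singleton_iff.2 (pgroup_quo hYq O)
  have hs := solvable_quo hH O
  have key : ⁅quo O Y, quo O R⁆ ≤ C(fittingOf (quo O H)) := by
    refine comm_cent_of_fix (isSolvable_of_nilpotent (fit_nilpotent _))
      ((quo_mono hY).trans (le_normalizer_fit _)) (le_norm_fit (quo_le_norm hRH)) (quo_le_norm hRY)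
      (by rwa [card_quo_of_disjoint hRO (inf_eq_bot_of_coprime' cO)])
      (coprime_quo (coprime_mono hcR le_rfl hY) O) (solvable_quo (solv_of_le hH hY) O)
      (hY'.coprime hF) (coprime_mono (coprime_quo hcR O) le_rfl (fit_le _))
      (hK.imp (fun h => odd_quo h O) (fun h => comm_quo h O)) ?_
    refine cent_of_comm_eq_bot (eq_bot_iff.2 (le_trans (le_inf ?_ ?_) (hY'.inf_eq_bot hF).le))
    · refine comm_le_right ((inf_le_inf_right _ (fit_le _)).trans ?_)
      rw [← quo_inf_cent hRO hHO hRH cO (Or.inr (solv_of_le hH (Opi_le _ _)))]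
      exact quo_le_norm hC
    · exact (commutator_mono inf_le_left le_rfl).trans
        (comm_le_left ((quo_mono hY).trans (le_normalizer_fit _)))
  have hle := comm_le_left (quo_le_norm (K := O) hRY)
  have h2 := (le_inf (hle.trans (quo_mono hY)) key).trans (inf_centralizer_fit_le hs)
  rw [← quo_eq_bot_iff (((comm_le_left hRY).trans hY).trans hHO), quo_comm (hY.trans hHO) hRO]
  exact (hY'.mono hle).eq_bot (hF.mono h2)

theorem comm_le_of_syl_cent {K E T : Subgroup G} (hK : Group.IsSolvable K) (hE : E ≤ N(K))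
    (hc : (Nat.card E).Coprime (Nat.card K)) (hT : IsSylowIn q T K) (h : E ≤ C(T)) :
    ⁅K, E⁆ ≤ Opi {q}ᶜ K := by
  have hKO : K ≤ N(Opi {q}ᶜ K) := le_normalizer_Opi _ _
  have hEO : E ≤ N(Opi {q}ᶜ K) := nO _ hE
  rw [← quo_le_cent_iff hKO hEO]
  refine cent_symm (centralizes_of_centralizes_fit (solvable_quo hK _) (quo_le_norm hE)
    (coprime_quo hc _) ?_)
  rw [fit_eq_Op (Opi_quo_Opi _ _)]
  exact (quo_le_cent h).trans (cent_anti (Opi_le_sylow (sylow_quo hT hKO)))

theorem cent_nilpotent {F E : Subgroup G} (hF : Group.IsNilpotent F)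
    (h : ∀ (t : ℕ) [Fact t.Prime], t ∣ Nat.card F → E ≤ C(Opi {t} F)) : E ≤ C(F) :=
  cent_symm (le_of_nilpotent_of_forall_Opi hF fun t _ ht => cent_symm (h t ht))

theorem cent_of_forall_Opi {K E : Subgroup G} (hK : Group.IsSolvable K) (hE : E ≤ N(K))
    (hc : (Nat.card E).Coprime (Nat.card K))
    (h : ∀ (t : ℕ) [Fact t.Prime], t ∣ Nat.card K → E ≤ C(Opi {t} K)) : E ≤ C(K) :=
  centralizes_of_centralizes_fit hK hE hc (cent_nilpotent (fit_nilpotent _) fun t _ ht => by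
    rw [Opi_p_fit]; exact h t (ht.trans (card_dvd_of_le (fit_le _))))

/-- a `q`-subgroup centralizing `O_q(H)` and `O_{q'}(H)` lies in `O_q(H)` -/
theorem le_Opi_of_cent {H W : Subgroup G} (hH : Group.IsSolvable H) (hW : W ≤ H)
    (hq' : IsPGroup q W) (h1 : W ≤ C(Opi {q} H)) (h2 : W ≤ C(Opi {q}ᶜ H)) : W ≤ Opi {q} H := by
  refine le_Opi_of_le_fit ((le_inf hW ?_).trans (inf_centralizer_fit_le hH))
    (isPi_singleton_iff.2 hq')
  rw [← Opi_sup_Opi_compl (fit_nilpotent H) {q}, Opi_p_fit, Opi_fit]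
  exact le_cent_sup h1 (h2.trans (cent_anti (fit_le _)))

variable {p : ℕ} [hp : Fact p.Prime] {A : Subgroup G}

theorem comm_le_of_hyp (hA : IsElementaryAbelian p A) (h0 : A ≠ ⊥) {K W X : Subgroup G}
    (hK : ¬ p ∣ Nat.card K) (hs : Group.IsSolvable K) (hAK : A ≤ N(K)) (hWK : W ≤ N(K))
    (hAW : A ≤ C(W)) (hc : (Nat.card W).Coprime (Nat.card K))
    (hX : ∀ B, Hyp p A B → ⁅K ⊓ C(B), W⁆ ≤ X) : ⁅K, W⁆ ≤ X := by
  set L := ⨆ B : {B // Hyp p A B}, ⁅K ⊓ C(B.1), W⁆ with hL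
  have hn : ∀ B, Hyp p A B → W ≤ N(K ⊓ C(B)) := fun B hB =>
    nI hWK (nC (le_norm_of_cent' (hB.1.trans hAW)))
  have hLK : L ≤ K := iSup_le fun B => (comm_le_left (hn B.1 B.2)).trans inf_le_left
  have hWL : W ≤ N(L) := le_norm_iSup fun B => normalizer_commutator_ge_right _ _
  have key := fac (X := L) (Y := K ⊓ C(W)) hA h0 hK hAK hLK inf_le_left
    (le_norm_iSup fun B => nK (nI hAK (ea_norm_cent hA B.2.1)) (le_norm_of_cent hAW))
    (nI hAK (nC (le_norm_of_cent hAW)))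
    (le_norm_iSup fun B => (inf_le_inf_left _ (cent_anti B.2.1)).trans
      (normalizer_commutator_ge_left _ _)) fun B hB x hx => by
      obtain ⟨n, h1, c, h2, e⟩ := CfsgH1.exists_commutator_mul_centralizer (hn B hB)
        (coprime_mono hc le_rfl inf_le_left) (Or.inr (solv_of_le hs inf_le_left)) hx
      exact ⟨n, ⟨le_iSup (fun B : {B // Hyp p A B} => ⁅K ⊓ C(B.1), W⁆) ⟨B, hB⟩ h1,
        (comm_le_left (hn B hB) h1).2⟩, c, ⟨⟨h2.1.1, h2.2⟩, h2.1.2⟩, e.symm⟩
  refine (CfsgH1.commutator_le_of_forall_mul (N := L) fun k hk => ?_).trans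
    ((comm_le_left hWL).trans (iSup_le fun B => hX B.1 B.2))
  obtain ⟨u, hu, v, hv, e⟩ := key k hk
  exact ⟨u, hu, v, hv.2, e.symm⟩

/-! ### factorizations -/

/-- Thompson subgroup -/
abbrev JJ (r : ℕ) (T : Subgroup G) : Subgroup G := thompsonSubgroupOf r T
/-- centre of the Thompson subgroup -/
abbrev ZJ (r : ℕ) (T : Subgroup G) : Subgroup G := centerThompsonOf r T
/-- `Ω₁(Z(T))` -/
abbrev OZ (r : ℕ) (T : Subgroup G) : Subgroup G := omegaOne r Z(T)

theorem pst_of {Γ : Type u} [Group Γ] [Finite Γ] [Group.IsSolvable Γ] (h2 : q ≠ 2)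
    (h : Odd (Nat.card Γ) ∨ q ≠ 3) : CfsgH9.PSt q Γ := by
  rcases h with h | h
  · exact CfsgH9.pst_of_odd h2 h
  · exact CfsgH9.pst_of_not_sec h2 (CfsgH9.not_sec_qd_of_not_sec_sl2 fun k => h
      (CfsgH9.eq_three_of_isPSolvable_sl2 h2 (k.isPSolvable
        (CfsgH1.IsPSolvable.subgroup CfsgH1.isPSolvable_of_isSolvable ⊤))))

theorem zj_fact {H T : Subgroup G} (hH : Group.IsSolvable H) (h2 : q ≠ 2)
    (h : Odd (Nat.card H) ∨ q ≠ 3) (hT : IsSylowIn q T H) :
    Opi {q}ᶜ H ⊔ (H ⊓ N(ZJ q T)) = H := by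
  have h1 := CfsgH9.sup_normalizer_eq_top_of_map_normal
    ((hT.toSylow.isPGroup').to_le CfsgH9.ZJ_le)
    (CfsgH9.sup_normalizer_ZJ h2 (pst_of h2 (h.imp_left fun h => CfsgH9.odd_card_quotient h _))
    (CfsgH9.centralizer_pCore_quotient_le CfsgH1.isPSolvable_of_isSolvable) hT.toSylow
    (CfsgH9.isStronglyClosed_self _) (Or.inr rfl))
  have h3 := congrArg (Subgroup.map H.subtype) h1
  rw [Subgroup.map_sup, ← Opi_compl_singleton_eq, map_subtype_norm,
    CfsgH9.map_ZJ H.subtype_injective, hT.toSylow_map, ← MonoidHom.range_eq_map, range_subtype] at h3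
  exact h3

theorem thompson_fact {H T : Subgroup G} (hH : Group.IsSolvable H) (h2 : q ≠ 2)
    (h : Odd (Nat.card H) ∨ q ≠ 3) (hT : IsSylowIn q T H) :
    PM (Opi {q}ᶜ H ⊔ (H ⊓ C(OZ q T))) (H ⊓ N(JJ q T)) H := by
  have hf : IsThompsonFactorizable q H := by
    rw [CfsgH9.fact_quotient_iff]
    intro S g
    obtain ⟨a, ha, c, hc, e⟩ := Cfsg.Agent.S0109.result h2
      (inferInstance : Group.IsSolvable (H ⧸ pPrimeCore q H)) (fun h3 T => by
        have ho := CfsgH9.odd_card_quotient (h.resolve_right (not_not.2 h3)) (pPrimeCore q H)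
        have : (T : Subgroup (H ⧸ pPrimeCore q H)) = ⊥ := (IsSylowIn.of_sylow_top T).eq_bot_iff.2 (by
          rw [Subgroup.card_top, ← even_iff_two_dvd]; exact Nat.not_even_iff_odd.2 ho)
        rw [this]; infer_instance)
      (CfsgH1.pPrimeCore_eq_bot_iff.1 (CfsgH1.pPrimeCore_quotient_pPrimeCore _ _)) S g⁻¹
    refine ⟨1, one_mem _, c⁻¹, inv_mem ?_, a⁻¹, inv_mem ha, by rw [one_mul, ← mul_inv_rev, ← e, inv_inv]⟩
    refine le_cent1_iff.1 (om_le_iff.2 fun x hx hxp => ?_)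
    exact mem_cent1.2 (hc x ⟨hx.1, fun y hy => (hx.2 y hy).symm, hxp⟩).symm
  intro g hg
  obtain ⟨x, hx, c, hc, n, hn, e⟩ := hf hT.toSylow ⟨g, hg⟩
  refine ⟨x * c, mul_mem (mem_sup_left ?_) (mem_sup_right ?_), n, ?_, congrArg Subtype.val e⟩
  · rw [Opi_compl_singleton_eq]; exact mem_map_of_mem _ hx
  · have := mem_map_of_mem H.subtype hc
    rw [map_subtype_cent, ← om_map_injective H.subtype_injective,
      Subgroup.map_inf _ _ _ H.subtype_injective, map_subtype_cent, hT.toSylow_map,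
      ← inf_assoc, inf_eq_left.2 hT.le] at this
    exact this
  · have := mem_map_of_mem H.subtype hn
    rw [map_subtype_norm, CfsgH9.map_J H.subtype_injective, hT.toSylow_map] at this
    exact this

end CfsgH2
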