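import Cfsg.Agent.H2.SG4

/-! Locally complete signalizer functors: the factorization argument. -/

set_option autoImplicit false
set_option linter.unusedSectionVars false
set_option linter.style.haveILetI false

namespace CfsgH2

open Subgroup Cfsg CfsgFT
open CfsgH1 (IsPiNum exists_centralizer_mul exists_invariant_sylow_le
  invariant_sylow_inf_centralizer thompson_A_times_B)
open scoped commutatorElement Pointwise

universe u

variable {G : Type u} [Group G] [Finite G] {p : ℕ} [hp : Fact p.Prime] {A B : Subgroup G}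
  {θ : G → Subgroup G} {U V X Y H M : Subgroup G} {q r : ℕ} [hq : Fact q.Prime] [hr : Fact r.Prime]

theorem PM.mono {U' V' H' : Subgroup G} (h : PM U V H) (h1 : U ≤ U') (h2 : V ≤ V') (h3 : H' ≤ H) :
    PM U' V' H' := fun x hx =>
  let ⟨u, hu, v, hv, e⟩ := h x (h3 hx); ⟨u, h1 hu, v, h2 hv, e⟩

theorem PM.trans {W : Subgroup G} (h : PM U V H) (h' : PM U W V) : PM U W H := fun x hx => by
  obtain ⟨u, hu, v, hv, rfl⟩ := h x hx
  obtain ⟨u', hu', w, hw, rfl⟩ := h' v hv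
  exact ⟨u * u', U.mul_mem hu hu', w, hw, (mul_assoc _ _ _).symm⟩

theorem PM.symm (h : PM U V H) : PM V U H := fun x hx => by
  obtain ⟨u, hu, v, hv, e⟩ := h x⁻¹ (H.inv_mem hx)
  exact ⟨v⁻¹, V.inv_mem hv, u⁻¹, U.inv_mem hu, by rw [← mul_inv_rev, ← e, inv_inv]⟩

theorem pm_of_le (h : H ≤ U) : PM U V H := fun x hx => ⟨x, h hx, 1, V.one_mem, (mul_one x).symm⟩

theorem pm_of_le' (h : H ≤ V) : PM U V H := (pm_of_le h).symm

theorem pm_sup (h : V ≤ N(U)) : PM U V (U ⊔ V) := fun x hx => by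
  obtain ⟨u, hu, v, hv, e⟩ := (mem_sup_of_normalizer h).1 hx
  exact ⟨u, hu, v, hv, e.symm⟩

theorem PM.cj (h : PM U V H) (g : G) : PM (cj g U) (cj g V) (cj g H) := fun x hx => by
  obtain ⟨u, hu, v, hv, e⟩ := h _ (mem_cj.1 hx)
  exact ⟨_, conj_mem_cj g hu, _, conj_mem_cj g hv, by
    rw [show x = g * (g⁻¹ * x * g) * g⁻¹ by group, e]; group⟩

theorem SF.pm_cent (h : SF p A θ) (hB : B ≤ A) (hU : Fam p A θ U) (hV : A ≤ N(V))
    (hh : PM U V H) : PM (U ⊓ C(B)) (V ⊓ C(B)) (H ⊓ C(B)) := fun x hx => by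
  obtain ⟨u, hu, v, hv, rfl⟩ := hh x hx.1
  exact exists_centralizer_mul (hB.trans hU.inv) (hB.trans hV)
    (coprime_mono (h.cpB hU hB) le_rfl inf_le_left) (Or.inr (solv_of_le hU.solv inf_le_left))
    hu hv hx.2

theorem nJS {T : Subgroup G} (h : X ≤ N(T)) : X ≤ N(JJ r T) :=
  h.trans (CfsgH9.normalizer_le_normalizer_J T)
theorem nZJ {T : Subgroup G} (h : X ≤ N(T)) : X ≤ N(ZJ r T) :=
  h.trans (CfsgH9.normalizer_le_normalizer_ZJ T)
theorem nZ {T : Subgroup G} (h : X ≤ N(T)) : X ≤ N(Z(T)) := nI h (nC h)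
theorem nOZ {T : Subgroup G} (h : X ≤ N(T)) : X ≤ N(OZ r T) := le_norm_om (nZ h)
theorem OZ_le {T : Subgroup G} : OZ r T ≤ T := (om_le _ _).trans inf_le_left
theorem OZ_cent {T : Subgroup G} : OZ r T ≤ C(T) := (om_le _ _).trans inf_le_right
theorem OZ_cj {T : Subgroup G} (g : G) : OZ r (cj g T) = cj g (OZ r T) := by
  rw [← om_cj, cj_inf, cj_centralizer]
theorem OZ_ne_bot {T : Subgroup G} (hT : IsPGroup r T) (h : T ≠ ⊥) : OZ r T ≠ ⊥ :=
  om_ne_bot (dvd_card_of_isPGroup (hT.to_le inf_le_left) (center_ne_bot hT.isNilpotent h))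

/-- the final step -/
theorem LC.finish (h : LC p A θ) {S H₁ : Subgroup G} (hS : Mx p A θ r S) (S0 : S ≠ ⊥)
    (hH : Fam p A θ H₁) (hSH : JJ r S ≤ H₁)
    (hB : ∀ B, Hyp p A B → PM (H₁ ⊓ CB θ B) (N(JJ r S) ⊓ CB θ B) (CB θ B)) : False := by
  set J := JJ r S with hJ
  have AJ : A ≤ N(J) := nJS hS.fam.inv
  let X : Subgroup G → Subgroup G := fun K => ⨆ g : K, cj (g : G) J
  have nX : ∀ K, K ≤ N(X K) := fun K c hc => by
    refine mem_normalizer_of_cj_le ?_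
    rw [cj, Subgroup.map_iSup]
    refine iSup_le fun d => ?_
    rw [cj_def, cj_cj]
    exact le_iSup (fun c : K => cj (c : G) J) (⟨c, hc⟩ * d)
  have JX : ∀ K, J ≤ X K := fun K => le_trans (cj_one _).ge (le_iSup (fun c : K => cj (c : G) J) 1)
  have mX : ∀ K K', K ≤ K' → X K ≤ X K' := fun K K' hK => iSup_le fun g =>
    le_iSup (fun c : K' => cj (c : G) J) ⟨g, hK g.2⟩
  have AX : ∀ K, A ≤ N(K) → A ≤ N(X K) := fun K hK a ha => by
    refine mem_normalizer_of_cj_le ?_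
    rw [cj, Subgroup.map_iSup]
    refine iSup_le fun d => ?_
    rw [cj_def, cj_cj, show a * (d : G) = (a * d * a⁻¹) * a by group, ← cj_cj, cj_eq_of_norm (AJ ha)]
    exact le_iSup (fun c : K => cj (c : G) J) ⟨_, CfsgH2.conj_mem_of_mem_normalizer (hK ha) d.2⟩
  have XL : ∀ K L : Subgroup G, J ≤ L → PM L N(J) K → X K ≤ L := fun K L hL hK => iSup_le fun g => by
    obtain ⟨u, hu, v, hv, e⟩ := hK g g.2
    rw [e, ← cj_cj, cj_eq_of_norm hv]
    exact cj_le_of_mem hu hL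
  set L := ⨆ B : {B // Hyp p A B}, X (CB θ B.1) with hL
  have XBL : ∀ B, Hyp p A B → X (CB θ B) ≤ L := fun B hB' =>
    le_iSup (fun B : {B // Hyp p A B} => X (CB θ B.1)) ⟨B, hB'⟩
  have XH : ∀ B, Hyp p A B → X (CB θ B) ≤ H₁ := fun B hB' =>
    XL _ _ hSH ((hB B hB').mono inf_le_left inf_le_left le_rfl)
  have AL : A ≤ N(L) := le_norm_iSup fun B => AX _ (h.famH B.2).inv
  have fL : Fam p A θ L := hH.mono (iSup_le fun B => XH B.1 B.2) AL
  obtain ⟨B₀, hB₀, -⟩ := exists_hyp_ge h.sf.ea (bot_lt_iff_ne_bot.2 h.ne)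
  have JL : J ≤ L := (JX _).trans (XBL B₀ hB₀)
  have CL : CB θ A ≤ N(L) := le_norm_iSup fun B => (CB_anti B.2.1).trans (nX _)
  have F1 : ∀ B, Hyp p A B → PM (L ⊓ C(B)) (N(J) ⊓ CB θ B) (CB θ B) := fun B hB' => by
    have fB := h.famH hB'
    have fX : Fam p A θ (X (CB θ B)) := hH.mono (XH B hB') (AX _ fB.inv)
    have fK := h.sf.sup fX fB (nX _)
    have s1 := h.sf.syl h.rk hS fX ((CB_anti hB'.1).trans (nX _))
    have e1 : JJ r (S ⊓ X (CB θ B)) = J := CfsgH9.J_eq_of_le (le_inf CfsgH9.J_le (JX _)) inf_le_left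
    have e2 := sylow_frattini_sup s1 (le_sup_left : _ ≤ X (CB θ B) ⊔ CB θ B)
      (sup_le le_normalizer (nX _))
    have p1 : PM (X (CB θ B)) ((X (CB θ B) ⊔ CB θ B) ⊓ N(J)) (X (CB θ B) ⊔ CB θ B) := by
      refine (pm_sup (inf_le_left.trans (sup_le le_normalizer (nX _)))).mono le_rfl ?_ e2.ge
      exact inf_le_inf_left _ (e1 ▸ nJS le_rfl)
    refine (h.sf.pm_cent hB'.1 fX (nI fK.inv (le_norm_norm AJ)) p1).mono
      (inf_le_inf_right _ (XBL B hB')) (le_inf (inf_le_left.trans inf_le_right)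
        ((inf_le_inf_right _ inf_le_left).trans (fK.inf_cent_le hB'.1)))
      (le_inf le_sup_right (h.sf.CB_le_cent hB'.1))
  have F2 : ∀ c ∈ A, c ≠ 1 → X (θ c) ≤ L := fun c hc c1 => by
    have fc := h.sf.fam hc c1
    refine XL _ _ JL ((fac (X := L ⊓ θ c) (Y := N(J) ⊓ θ c) h.sf.ea h.ne fc.cop fc.inv inf_le_right
      inf_le_right (nI AL fc.inv) (nI (le_norm_norm AJ) fc.inv)
      ((h.CA_eq hc c1).le.trans (nI CL (le_norm_of_le (h.sf.CA_le hc c1)))) fun B hB' => ?_).mono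
      inf_le_left inf_le_left le_rfl)
    by_cases hcB : c ∈ B
    · refine (F1 B hB').mono (le_inf (le_inf inf_le_left ((fL.inf_cent_le hB'.1).trans
        (CB_le hcB c1))) inf_le_right) (le_inf (inf_le_inf_left _ (CB_le hcB c1))
        (inf_le_right.trans (h.sf.CB_le_cent hB'.1))) (fc.inf_cent_le hB'.1)
    · have e : θ c ⊓ C(B) ≤ CB θ B ⊓ C(A) := le_inf (fc.inf_cent_le hB'.1) (by
        rw [← hB'.sup_zpowers hc hcB]
        exact le_cent_sup inf_le_right (inf_le_left.trans (h.theta_cz hc c1)))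
      refine (h.sf.pm_cent le_rfl (fL.inf (h.sf.nc hB'.1)) (nI (le_norm_norm AJ) (h.famH hB').inv)
        (F1 B hB')).mono ?_ ?_ e
      · exact le_inf (le_inf (inf_le_left.trans inf_le_left) (((inf_le_inf_right _ inf_le_left).trans
          (fL.inf_cent_le le_rfl)).trans (h.sf.CA_le hc c1))) (inf_le_left.trans inf_le_right)
      · exact le_inf (le_inf (inf_le_left.trans inf_le_left) (((inf_le_inf_right _ inf_le_right).trans
          ((h.famH hB').inf_cent_le le_rfl)).trans (h.sf.CA_le hc c1)))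
          (inf_le_right.trans (cent_anti hB'.1))
  have L0 : L ≠ ⊥ := fun e => CfsgH9.J_ne_bot (dvd_refl r) hS.pg S0 (eq_bot_iff.2 (JL.trans e.le))
  refine h.not_all_hyp (h.famNT fL L0) fun B hB' => le_NT (h.famH hB') fun g hg => ?_
  refine mem_normalizer_of_cj_le ?_
  rw [hL, cj, Subgroup.map_iSup]
  refine iSup_le fun B' => ?_
  obtain ⟨c, c1, c2, c3⟩ := hB'.meet2 B'.2 h.rk
  rw [cj_def]
  exact (cj_le_of_norm (nX (θ c) (CB_le c1 c3 hg)) (mX _ _ (CB_le c2 c3))).trans (F2 c (hB'.1 c1) c3)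

/-- the climbing argument -/
theorem LC.climb (h : LC p A θ) (r2 : r ≠ 2)
    (hst : ∀ H, Fam p A θ H → Odd (Nat.card H) ∨ r ≠ 3) {S H₀ H₁ W : Subgroup G}
    (hS : Mx p A θ r S) (f0 : Fam p A θ H₀) (f1 : Fam p A θ H₁) (h01 : H₀ ≤ H₁)
    (hZ : ∀ U, Fam p A θ U → U ≤ C(OZ r S) → U ≤ H₁) (hW : W ≤ S) (hCW : H₀ ⊓ CB θ A ≤ N(W))
    (hO : ∀ H, Fam p A θ H → W ≤ H → PM (H₀ ⊓ CB θ A) (H ⊓ CB θ A) (CB θ A) → Opi {r}ᶜ H ≤ H₀)
    (n : ℕ) : ∀ H T, Fam p A θ H → W ≤ H → PM (H₀ ⊓ CB θ A) (H ⊓ CB θ A) (CB θ A) →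
      IsSylowIn r T H → Nat.card S ≤ Nat.card T + n → ∃ c ∈ H₀ ⊓ CB θ A, ∀ B, B ≤ A →
        PM (H₁ ⊓ CB θ B) (N(JJ r (cj c S)) ⊓ CB θ B) (H ⊓ C(B)) := by
  induction n using Nat.strong_induction_on with
  | _ n ih =>
  intro H T₀ fH WH pH hT₀ hn
  obtain ⟨c', hc', s'⟩ := h.sf.exists_syl h.rk hS fH
  obtain ⟨v, hv, c, hc, rfl⟩ := pH.symm c' hc'
  rw [← cj_cj] at s'
  have s := syl_cj_back (le_normalizer hv.1) s'
  have mS := h.sf.mx_cj hc.2 hS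
  set T := cj c S ⊓ H with hT
  have AT : A ≤ N(T) := nI mS.fam.inv fH.inv
  have WT : W ≤ T := le_inf (le_cj_of_norm (hCW hc) hW) WH
  have OH := hO H fH WH pH
  by_cases T0 : T = ⊥
  · refine ⟨c, hc, fun B hB => pm_of_le (le_inf ?_ (fH.inf_cent_le hB))⟩
    rw [← Opi_eq_self (isPi_compl_singleton_iff.2 (s.eq_bot_iff.1 T0))]
    exact inf_le_left.trans (OH.trans h01)
  by_cases e : T = cj c S
  · refine ⟨c, hc, fun B hB => ?_⟩
    have p1 := thompson_fact fH.solv r2 (hst H fH) s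
    rw [e] at p1
    have f2 : Fam p A θ (H ⊓ C(OZ r (cj c S))) := fH.inf (nC (nOZ mS.fam.inv))
    have l1 : H ⊓ C(OZ r (cj c S)) ≤ H₁ := by
      have := hZ _ (h.sf.cj (inv_mem hc.2) f2) (by
        rw [cj_le_iff_le_cj_inv, inv_inv, cj_centralizer, ← OZ_cj]; exact inf_le_right)
      rw [cj_le_iff_le_cj_inv, inv_inv, cj_eq_of_mem (h01 hc.1)] at this
      exact this
    have p2 : PM (H₁ ⊓ H) (H ⊓ N(JJ r (cj c S))) H :=
      p1.mono (le_inf (sup_le (OH.trans h01) l1) (sup_le (Opi_le _ _) inf_le_left)) le_rfl le_rfl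
    exact (h.sf.pm_cent hB (f1.inf fH.inv) (nI fH.inv (le_norm_norm (nJS mS.fam.inv))) p2).mono
      (le_inf (inf_le_left.trans inf_le_left) ((inf_le_inf_right _ inf_le_left).trans
        (f1.inf_cent_le hB))) (le_inf (inf_le_left.trans inf_le_right)
        ((inf_le_inf_right _ inf_le_left).trans (fH.inf_cent_le hB))) le_rfl
  have fZ : Fam p A θ (ZJ r T) := fH.mono (CfsgH9.ZJ_le.trans inf_le_right) (nZJ AT)
  have fH' := h.famNT fZ (CfsgH9.ZJ_ne_bot (dvd_refl r) s.pgroup T0)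
  set H' := NT p A θ (ZJ r T) with hH'
  have fN : Fam p A θ (H ⊓ N(ZJ r T)) := fH.inf (le_norm_norm (nZJ AT))
  have p1 : PM (Opi {r}ᶜ H) (H ⊓ N(ZJ r T)) H :=
    (pm_sup (inf_le_left.trans (le_normalizer_Opi _ _))).mono le_rfl le_rfl
      (zj_fact fH.solv r2 (hst H fH) s).ge
  have p2 : ∀ B, B ≤ A → PM (H₀ ⊓ CB θ B) (H' ⊓ C(B)) (H ⊓ C(B)) := fun B hB =>
    (h.sf.pm_cent hB (fH.Opi _) fN.inv p1).mono (le_inf (inf_le_left.trans OH)
      ((fH.Opi _).inf_cent_le hB)) (inf_le_inf_right _ (le_NT fN inf_le_right)) le_rfl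
  have hlt := lt_inf_normalizer mS.pg (lt_of_le_of_ne inf_le_left e)
  have l2 : cj c S ⊓ N(T) ≤ H' := le_NT (mS.fam.inf (le_norm_norm AT)) (nZJ inf_le_right)
  obtain ⟨T', hT'⟩ := IsSylowIn.exists_sylowIn r H'
  have c1 : Nat.card T₀ < Nat.card T' := by
    rw [hT₀.card_eq_card s]
    exact (CfsgH2.card_lt_of_lt hlt).trans_le (hT'.card_le (mS.pg.to_le inf_le_left) l2)
  have c2 : Nat.card T₀ < Nat.card S := by
    rw [hT₀.card_eq_card s, ← card_cj c S]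
    exact CfsgH2.card_lt_of_lt (lt_of_le_of_ne inf_le_left e)
  obtain ⟨d, hd, p3⟩ := ih (n - 1) (by omega) H' T' fH' (WT.trans (hlt.le.trans l2))
    (pH.trans ((p2 A le_rfl).mono le_rfl (le_inf inf_le_left (fH'.inf_cent_le le_rfl))
      (inf_le_inf_left _ (h.sf.CB_le_cent le_rfl)))) hT' (by omega)
  exact ⟨d, hd, fun B hB => ((p2 B hB).mono (inf_le_inf_right _ h01) le_rfl le_rfl).trans (p3 B hB)⟩

theorem LC.final (h : LC p A θ) (r2 : r ≠ 2)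
    (hst : ∀ H, Fam p A θ H → Odd (Nat.card H) ∨ r ≠ 3) {S H₀ H₁ W : Subgroup G}
    (hS : Mx p A θ r S) (S0 : S ≠ ⊥) (f0 : Fam p A θ H₀) (f1 : Fam p A θ H₁) (h01 : H₀ ≤ H₁)
    (hZ : ∀ U, Fam p A θ U → U ≤ C(OZ r S) → U ≤ H₁) (hW : W ≤ S) (hCW : H₀ ⊓ CB θ A ≤ N(W))
    (hO : ∀ H, Fam p A θ H → W ≤ H → PM (H₀ ⊓ CB θ A) (H ⊓ CB θ A) (CB θ A) → Opi {r}ᶜ H ≤ H₀)
    (hx : ∀ B, Hyp p A B → ∃ x ∈ B, x ≠ 1 ∧ W ≤ θ x) : False := by
  refine h.finish hS S0 f1 (CfsgH9.J_le.trans (hZ S hS.fam (cent_symm OZ_cent))) fun B hB => ?_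
  obtain ⟨x, hxB, x1, hWx⟩ := hx B hB
  have fx := h.sf.fam (hB.1 hxB) x1
  obtain ⟨T, hT⟩ := IsSylowIn.exists_sylowIn r (θ x)
  obtain ⟨c, hc, p1⟩ := h.climb r2 hst hS f0 f1 h01 hZ hW hCW hO (Nat.card S) (θ x) T fx hWx
    (pm_of_le' (le_inf (h.sf.CA_le (hB.1 hxB) x1) le_rfl)) hT (by omega)
  have p2 := (p1 B hB.1).cj c⁻¹
  have hcB : c⁻¹ ∈ CB θ B := inv_mem (CB_anti hB.1 hc.2)
  rw [← h.sf.CB_eq hB.1 hxB x1, cj_inf, cj_inf, cj_eq_of_mem hcB, cj_eq_of_mem (inv_mem (h01 hc.1)),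
    cj_normalizer, CfsgH9.cj_J, cj_inv_cj] at p2
  exact p2

end CfsgH2
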