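import Cfsg.Agent.H2.SG5

/-! The solvable signalizer functor theorem for functors of odd order. -/

set_option autoImplicit false
set_option linter.unusedSectionVars false
set_option linter.style.haveILetI false

namespace CfsgH2

open Subgroup Cfsg CfsgFT
open CfsgH1 (IsPiNum exists_centralizer_mul exists_invariant_sylow_le
  invariant_sylow_inf_centralizer thompson_A_times_B)
open scoped commutatorElement Pointwise

universe u

variable {G : Type u} [Group G] [Finite G] {p : ℕ} [hp : Fact p.Prime] {A B : Subgroup G}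
  {θ : G → Subgroup G} {U V X Y H M R : Subgroup G} {q r : ℕ} [hq : Fact q.Prime]
  [hr : Fact r.Prime] {x y b : G}

/-- `θ(x)`-invariant `θ`-`q`-subgroups with `R = [R, x]` -/
structure Good (p : ℕ) (A : Subgroup G) (θ : G → Subgroup G) (q : ℕ) (x : G) (R : Subgroup G) :
    Prop where
  fam : Fam p A θ R
  pg : IsPGroup q R
  inv : θ x ≤ N(R)
  eq : ⁅R, zpowers x⁆ = R

namespace LC

theorem an_of (h : LC p A θ) (hx : x ∈ A) (x1 : x ≠ 1) (hY : Fam p A θ Y) (hYq : IsPGroup q Y)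
    (hi : θ x ≤ N(Y)) (ho : Odd (Nat.card Y) ∨ Y ≤ C(Y)) (hU : U ≤ Y) (hA : A ≤ N(U))
    (e : ⁅U, zpowers x⁆ = U) : AN p A θ q U := by
  refine ⟨hY.mono hU hA, hYq.to_le hU, fun H hH hUH => ?_⟩
  rw [← e]
  refine (commutator_mono (le_inf hU hUH) le_rfl).trans (comm_le_Opi hH.solv
    ((zp_le hx).trans hH.inv) (h.zcard hx x1) (h.sf.cpB hH (zp_le hx)) inf_le_right
    (hYq.to_le inf_le_left) ((zp_le hx).trans (nI hY.inv hH.inv)) (nI ?_ (le_norm_of_le inf_le_left))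
    (ho.imp (fun h => h.of_dvd_nat (card_dvd_of_le inf_le_left))
      fun h => cent_mono h inf_le_left inf_le_left))
  rw [cent_zpowers]
  exact (hH.le x hx x1).trans hi

theorem cc (h : LC p A θ) (hx : x ∈ A) (hY : Fam p A θ Y) :
    ⁅⁅Y, zpowers x⁆, zpowers x⁆ = ⁅Y, zpowers x⁆ :=
  coprime_comm_comm ((zp_le hx).trans hY.inv) (h.sf.cpB hY (zp_le hx))

theorem cle (_h : LC p A θ) (hx : x ∈ A) (hY : A ≤ N(Y)) : ⁅Y, zpowers x⁆ ≤ Y :=
  comm_le_left ((zp_le hx).trans hY)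

theorem good_comm (h : LC p A θ) (hx : x ∈ A) (x1 : x ≠ 1) (hY : Fam p A θ Y) (hYq : IsPGroup q Y)
    (hi : θ x ≤ N(Y)) : Good p A θ q x ⁅Y, zpowers x⁆ :=
  ⟨hY.mono (h.cle hx hY.inv) (nK hY.inv (h.zn hx)), hYq.to_le (h.cle hx hY.inv),
    nK hi (le_norm_of_cent (h.theta_cz hx x1)), h.cc hx hY⟩

theorem good_an (h : LC p A θ) (hx : x ∈ A) (x1 : x ≠ 1) (hR : Good p A θ q x R)
    (ho : Odd (Nat.card R) ∨ R ≤ C(R)) : AN p A θ q R :=
  h.an_of hx x1 hR.fam hR.pg hR.inv ho le_rfl hR.fam.inv hR.eq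

theorem good_cent (h : LC p A θ) (hqr : q ≠ r) (hx : x ∈ A) (x1 : x ≠ 1) (hy : y ∈ A) (y1 : y ≠ 1)
    (hR : Good p A θ q x R) (hU : Good p A θ r y U) (ho : Odd (Nat.card R) ∨ R ≤ C(R))
    (ho' : Odd (Nat.card U) ∨ U ≤ C(U)) : U ≤ C(R) := by
  have key : ∀ (q : ℕ) [Fact q.Prime] (x : G) (R : Subgroup G), x ∈ A → x ≠ 1 → Good p A θ q x R →
      (Odd (Nat.card R) ∨ R ≤ C(R)) → ∀ B, Hyp p A B → ∀ c ∈ B, c ≠ 1 →
        ⁅R ⊓ C(B), zpowers x⁆ ≤ Opi {q} (θ c) := fun q _ x R hx x1 hR ho B hB c hc c1 => by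
    have f := hR.fam.inf (h.sf.nc hB.1)
    exact (h.an_of hx x1 hR.fam hR.pg hR.inv ho ((h.cle hx f.inv).trans inf_le_left)
      (nK f.inv (h.zn hx)) (h.cc hx f)).le _ (h.sf.fam (hB.1 hc) c1)
      ((h.cle hx f.inv).trans ((hR.fam.inf_cent_le hB.1).trans (CB_le hc c1)))
  have gen : ∀ (q : ℕ) [Fact q.Prime] (x : G) (R X : Subgroup G), x ∈ A → Good p A θ q x R →
      (∀ B, Hyp p A B → ⁅R ⊓ C(B), zpowers x⁆ ≤ X) → R ≤ X := fun q _ x R X hx hR hh => by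
    rw [← hR.eq]
    exact comm_le_of_hyp h.sf.ea h.ne hR.fam.cop hR.fam.solv hR.fam.inv ((zp_le hx).trans hR.fam.inv)
      (h.zc hx) (h.sf.cpB hR.fam (zp_le hx)) hh
  refine gen r y U _ hy hU fun B' hB' => cent_symm (gen q x R _ hx hR fun B hB => ?_)
  obtain ⟨c, c1, c2, c3⟩ := hB.meet2 hB' h.rk
  exact cent_mono (Opi_commute (θ c) fun _ _ h1 h2 => hqr (h1.symm.trans h2))
    (key q x R hx x1 hR ho B hB c c1 c3) (key r y U hy y1 hU ho' B' hB' c c2 c3)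

/-- `θ(b)` is never maximal -/
theorem not_max (h : LC p A θ) (hb : b ∈ A) (b1 : b ≠ 1) (hM : MaxF p A θ M) (hbM : θ b ≤ M) :
    ¬ zpowers b ≤ C(M) := fun hc => by
  by_cases M0 : M = ⊥
  · exact h.not_all hM.fam fun a ha a1 => (hM.max _ (h.sf.fam ha a1) (M0 ▸ bot_le)).le
  obtain ⟨t, ht, hd⟩ := exists_prime_dvd_card (fit_ne_bot hM.fam.solv M0)
  haveI := Fact.mk ht
  have O0 : Opi {t} M ≠ ⊥ := fun e => isPi_compl_singleton_iff.1 (fit_pi_of_Opi_eq_bot e) hd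
  obtain ⟨S, hS, hOS⟩ := exists_mxS (hM.fam.Opi {t}) (isPGroup_Opi M)
  have hd' := h.dvd_of_fam hM.fam (hd.trans (card_dvd_of_le (fit_le _)))
  have cS : zpowers b ≤ C(S) := by
    refine thompson_A_times_B (isPGroup_Opi M) ((h.sf.cpB hM.fam (zp_le hb)).coprime_dvd_right
      (hd.trans (card_dvd_of_le (fit_le _)))) hS.pg (cent_symm (hc.trans (cent_anti (Opi_le _ _))))
      (le_norm_of_le hOS) ((zp_le hb).trans hS.fam.inv) (le_trans ?_ (cent_symm hc))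
    exact h.le_max_Opi hM O0 (hS.fam.inf (nC (hM.fam.Opi _).inv))
      (inf_le_right.trans (cent_le_norm _))
  refine h.lemX hb b1 (h.DD_aux hd').1 fun B hB => ?_
  have f := h.famH hB
  have n1 : CB θ A ≤ N(CB θ B) := le_norm_of_le (CB_anti hB.1)
  exact (comm_le_of_syl_cent f.solv ((zp_le hb).trans f.inv) (h.sf.cpB f (zp_le hb))
    (h.sf.syl h.rk hS f n1) (cS.trans (cent_anti inf_le_left))).trans
    (le_DD (f.Opi _) (isPi_Opi _ _) (nO _ n1))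

theorem exists_good (h : LC p A θ) (hb : b ∈ A) (b1 : b ≠ 1) :
    ∃ (t : ℕ) (_ : Fact t.Prime) (R : Subgroup G), Good p A θ t b R ∧ R ≠ ⊥ := by
  by_contra hc
  push Not at hc
  obtain ⟨M, hM, hbM⟩ := exists_maxF (h.sf.fam hb b1)
  refine h.not_max hb b1 hM hbM (cent_of_forall_Opi hM.fam.solv ((zp_le hb).trans hM.fam.inv)
    (h.sf.cpB hM.fam (zp_le hb)) fun t _ _ => cent_symm (cent_of_comm_eq_bot (hc t inferInstance _
      (h.good_comm hb b1 (hM.fam.Opi _) (isPGroup_Opi M) (hbM.trans (le_normalizer_Opi _ _))))))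

theorem famCT (h : LC p A θ) (hX : Fam p A θ X) (h0 : X ≠ ⊥) : Fam p A θ (NT p A θ X ⊓ C(X)) :=
  (h.famNT hX h0).inf (nC hX.inv)

theorem le_CT (hU : Fam p A θ U) (hc : U ≤ C(X)) : U ≤ NT p A θ X ⊓ C(X) :=
  le_inf (le_NT hU (le_norm_of_cent hc)) hc

theorem le_Opp_of_central (h : LC p A θ) {S W : Subgroup G} (hS : Mx p A θ r S) (hH : Fam p A θ H)
    (hC : CB θ A ≤ N(H)) (hW : W ≤ H) (hc : W ≤ C(S)) : W ≤ Opp r H :=
  (le_inf hW (hc.trans (cent_anti (inf_le_left.trans inf_le_left)))).trans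
    (inf_cent_le_Opp hH.solv (sylow_inf_Opp (h.sf.syl h.rk hS hH hC)))

/-- the centre of a maximal `θ`-`r`-subgroup has no `A`-fixed points -/
theorem caseB (h : LC p A θ) (r2 : r ≠ 2) (hst : ∀ H, Fam p A θ H → Odd (Nat.card H) ∨ r ≠ 3)
    {S : Subgroup G} (hS : Mx p A θ r S) (S0 : S ≠ ⊥) : OZ r S ⊓ C(A) = ⊥ := by
  by_contra W0
  set W := OZ r S ⊓ C(A) with hW
  have fW : Fam p A θ W := hS.fam.mono (inf_le_left.trans OZ_le) (le_norm_of_cent' inf_le_right)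
  have WC : W ≤ CB θ A := (le_inf le_rfl inf_le_right).trans (fW.inf_cent_le le_rfl)
  have Wr : IsPGroup r W := hS.pg.to_le (inf_le_left.trans OZ_le)
  have hd := h.dvd_of_fam hS.fam (dvd_card_of_isPGroup hS.pg S0)
  obtain ⟨fD, pD⟩ := h.DD_aux hd
  set D := DD p A θ r with hD
  have WD : W ≤ N(D) := WC.trans CA_norm_DD
  have cop : (Nat.card W).Coprime (Nat.card D) := coprime_pgroup_p' Wr pD
  have fY : Fam p A θ ⁅D, W⁆ := fD.mono (comm_le_left WD) (nK fD.inv fW.inv)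
  have fH := h.famCT fW W0
  have hn : NT p A θ W ⊓ C(W) ≤ N(⁅D, W⁆) := h.sf.le_of_hyp h.ne fH fun B' hB' g hg => by
    refine mem_normalizer_of_cj_le ?_
    rw [cj_le_iff_le_cj_inv]
    refine comm_le_of_hyp h.sf.ea h.ne fD.cop fD.solv fD.inv WD (cent_symm inf_le_right) cop
      fun B hB => ?_
    obtain ⟨c, c1, c2, c3⟩ := hB.meet2 hB' h.rk
    have hc := hB.1 c1
    have fc := h.sf.fam hc c3
    have Cc := h.sf.CA_le hc c3
    have gc : g ∈ θ c := CB_le c2 c3 (fH.inf_cent_le hB'.1 hg)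
    have nE : W ≤ N(D ⊓ θ c) := nI WD (le_norm_of_le (WC.trans Cc))
    have e1 : ⁅D ⊓ θ c, W⁆ ≤ Opi {r}ᶜ (θ c) := by
      rw [← Opi_Opp]
      refine npc_le_Opi (npc_Opp _) (pD.mono ((comm_le_left nE).trans inf_le_left))
        ((commutator_mono le_rfl (h.le_Opp_of_central hS fc (le_norm_of_le Cc) (WC.trans Cc)
          (inf_le_left.trans OZ_cent))).trans (comm_le_right (inf_le_right.trans (le_norm_Opp_self _ _))))
    have e2 : ⁅D ⊓ C(B), W⁆ ≤ ⁅Opi {r}ᶜ (θ c), W⁆ := by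
      refine (commutator_mono (le_inf inf_le_left ((fD.inf_cent_le hB.1).trans (CB_le c1 c3)))
        le_rfl).trans ?_
      rw [← coprime_comm_comm nE (coprime_mono cop le_rfl inf_le_left)]
      exact commutator_mono e1 le_rfl
    refine e2.trans (le_cj_of_norm (inv_mem (nK (A := zpowers g) ((zp_le gc).trans
      (le_normalizer_Opi _ _)) (le_norm_of_cent (zp_le hg.1.2)) (mem_zpowers g)))
      (commutator_mono (le_DD (fc.Opi _) (isPi_Opi _ _) (nO _ (le_norm_of_le Cc))) le_rfl))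
  refine h.final r2 hst (W := ⊥) hS S0 fD (h.sf.sup fY fH hn) ?_ (fun U hU hc => (le_CT hU
    (hc.trans (cent_anti inf_le_left))).trans le_sup_right) bot_le (le_norm_bot _)
    (fun H hH _ hp => h.le_DD' hd (hH.Opi _) (isPi_Opi _ _) (hp.mono le_rfl
      (inf_le_inf_right _ (le_normalizer_Opi _ _)) le_rfl)) fun B hB => ?_
  · conv_lhs => rw [← coprime_comm_sup_cent WD cop fD.solv]
    exact sup_le_sup_left (le_CT (fD.inf (nC fW.inv)) inf_le_right) _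
  · obtain ⟨x, h1, h2⟩ := hB.exists_mem h.r2
    exact ⟨x, h1, h2, bot_le⟩

theorem caseA (h : LC p A θ) (r2 : r ≠ 2) (hst : ∀ H, Fam p A θ H → Odd (Nat.card H) ∨ r ≠ 3)
    {S W : Subgroup G} (hS : Mx p A θ r S) (hW : W ≤ OZ r S) (W0 : W ≠ ⊥) (hB : Hyp p A B)
    (hWB : W ≤ C(B)) (an : AN p A θ r W) : False := by
  have fH := h.famCT an.fam W0
  refine h.final r2 hst (W := W) hS (fun e => W0 (eq_bot_iff.2 ((hW.trans OZ_le).trans e.le))) fH fH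
    le_rfl (fun U hU hc => le_CT hU (hc.trans (cent_anti hW))) (hW.trans OZ_le)
    (inf_le_left.trans (inf_le_left.trans NT_le))
    (fun H hH hWH _ => le_CT (hH.Opi _) (an.cent hH hWH)) fun B' hB' => ?_
  obtain ⟨c, c1, c2, c3⟩ := hB'.meet2 hB h.rk
  exact ⟨c, c1, c3, (le_inf le_rfl hWB).trans ((an.fam.inf_cent_le hB.1).trans (CB_le c2 c3))⟩

theorem caseI (h : LC p A θ) (hqr : q ≠ r) (hx : x ∈ A) (x1 : x ≠ 1) (hy : y ∈ A) (y1 : y ≠ 1)
    (hR : Good p A θ q x R) (hU : Good p A θ r y U) (R0 : R ≠ ⊥) (U0 : U ≠ ⊥)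
    (ho : Odd (Nat.card R) ∨ R ≤ C(R)) (ho' : Odd (Nat.card U) ∨ U ≤ C(U)) {L : Subgroup G}
    (hM : MaxF p A θ M) (hL : MaxF p A θ L) (hRM : NT p A θ R ≤ M) (hUL : NT p A θ U ≤ L) : M = L :=
  h.lemU hqr (h.good_an hx x1 hR ho) (h.good_an hy y1 hU ho') R0 U0
    (h.good_cent hqr hx x1 hy y1 hR hU ho ho') hM hL hRM hUL

theorem odd_false (h : LC p A θ) (hodd : ∀ U, Fam p A θ U → Odd (Nat.card U)) : False := by
  by_cases hI : ∃ (q r : ℕ) (_ : Fact q.Prime) (_ : Fact r.Prime) (x y : G) (R U : Subgroup G),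
      q ≠ r ∧ x ∈ A ∧ x ≠ 1 ∧ y ∈ A ∧ y ≠ 1 ∧ Good p A θ q x R ∧ Good p A θ r y U ∧ R ≠ ⊥ ∧ U ≠ ⊥
  · obtain ⟨q, r, _, _, x, y, R, U, hqr, hx, x1, hy, y1, hR, hU, R0, U0⟩ := hI
    obtain ⟨M, hM, hRM⟩ := exists_maxF (h.famNT hR.fam R0)
    obtain ⟨L, hL, hUL⟩ := exists_maxF (h.famNT hU.fam U0)
    have e := h.caseI hqr hx x1 hy y1 hR hU R0 U0 (Or.inl (hodd _ hR.fam)) (Or.inl (hodd _ hU.fam))
      hM hL hRM hUL
    refine h.not_all hL.fam fun z hz z1 => ?_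
    obtain ⟨t, _, V, hV, V0⟩ := h.exists_good hz z1
    obtain ⟨K, hK, hVK⟩ := exists_maxF (h.famNT hV.fam V0)
    refine (le_NT (h.sf.fam hz z1) hV.inv).trans (hVK.trans (le_of_eq ?_))
    by_cases htr : t = r
    · exact (h.caseI (htr ▸ hqr.symm) hz z1 hx x1 hV hR V0 R0 (Or.inl (hodd _ hV.fam))
        (Or.inl (hodd _ hR.fam)) hK hM hVK hRM).trans e
    · exact h.caseI htr hz z1 hy y1 hV hU V0 U0 (Or.inl (hodd _ hV.fam))
        (Or.inl (hodd _ hU.fam)) hK hL hVK hUL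
  push Not at hI
  obtain ⟨y, hy, y1⟩ := exists_ne_one_of_ne_bot h.ne
  obtain ⟨r, _, U, hU, U0⟩ := h.exists_good hy y1
  have other : ∀ (q : ℕ) [Fact q.Prime] (x : G) (R : Subgroup G), q ≠ r → x ∈ A → x ≠ 1 →
      Good p A θ q x R → R = ⊥ := fun q _ x R hqr hx x1 hR => by
    by_contra R0
    exact U0 (hI q r inferInstance inferInstance x y R U hqr hx x1 hy y1 hR hU R0)
  have r2 : r ≠ 2 := by
    rintro rfl
    exact Nat.not_even_iff_odd.2 (hodd U hU.fam) (even_iff_two_dvd.2 (dvd_card_of_isPGroup hU.pg U0))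
  have hst : ∀ H, Fam p A θ H → Odd (Nat.card H) ∨ r ≠ 3 := fun H hH => Or.inl (hodd H hH)
  obtain ⟨S, hS, hUS⟩ := exists_mxS hU.fam hU.pg
  have S0 : S ≠ ⊥ := fun e => U0 (eq_bot_iff.2 (hUS.trans e.le))
  have hZ := h.caseB r2 hst hS S0
  have fZ : Fam p A θ (OZ r S) := hS.fam.mono OZ_le (nOZ hS.fam.inv)
  obtain ⟨B, hB, W0⟩ : ∃ B, Hyp p A B ∧ OZ r S ⊓ C(B) ≠ ⊥ := by
    by_contra hc
    push Not at hc
    exact OZ_ne_bot hS.pg S0 (eq_bot_iff.2 (h.sf.le_of_hyp h.ne fZ fun B hB => (hc B hB).le))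
  set W := OZ r S ⊓ C(B) with hW
  have fW : Fam p A θ W := fZ.inf (h.sf.nc hB.1)
  obtain ⟨d, hd, dB⟩ := SetLike.exists_of_lt hB.lt
  have d1 : d ≠ 1 := fun e => dB (e ▸ B.one_mem)
  have eW : ⁅W, zpowers d⁆ = W := comm_eq_of_inf_cent_eq_bot ((zp_le hd).trans fW.inv)
    (h.sf.cpB fW (zp_le hd)) fW.solv (by
      rw [eq_bot_iff, ← hZ, ← hB.sup_zpowers hd dB, cent_sup, inf_assoc])
  obtain ⟨t, _, R, hR, R0⟩ := h.exists_good hd d1
  obtain rfl : t = r := by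
    by_contra e
    exact R0 (other t d R e hd d1 hR)
  have fN := h.famNT hR.fam R0
  set N := NT p A θ R with hN
  have dN : θ d ≤ N := le_NT (h.sf.fam hd d1) hR.inv
  have CN : CB θ A ≤ N := (h.sf.CA_le hd d1).trans dN
  have WS : W ≤ C(S) := inf_le_left.trans OZ_cent
  have WN : W ≤ N := le_NT fW (le_norm_of_cent (WS.trans (cent_anti (h.sf.le_mx h.rk hS hR.fam hR.pg
    ((h.sf.CA_le hd d1).trans hR.inv)))))
  have fO := fN.Opi {t}ᶜ
  have c1 : zpowers d ≤ C(Opi {t}ᶜ N) := cent_of_forall_Opi fO.solv ((zp_le hd).trans fO.inv)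
    (h.sf.cpB fO (zp_le hd)) fun s _ hs => cent_symm (cent_of_comm_eq_bot (other s d _
      (fun e => isPi_compl_singleton_iff.1 (isPi_Opi {t}ᶜ N) (e ▸ hs)) hd d1
      (h.good_comm hd d1 (fO.Opi _) (isPGroup_Opi _) (nO _ (dN.trans (le_normalizer_Opi _ _))))))
  have c2 : W ≤ C(Opi {t}ᶜ N) := by
    rw [← eW]
    exact (commutator_mono le_rfl c1).trans (comm_le_right (nC (WN.trans (le_normalizer_Opi _ _))))
  have OS : Opi {t} N ≤ S := h.sf.le_mx h.rk hS (fN.Opi _) (isPGroup_Opi _)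
    (CN.trans (le_normalizer_Opi _ _))
  have c3 : W ≤ Opi {t} N := le_Opi_of_cent fN.solv WN (hS.pg.to_le (inf_le_left.trans OZ_le))
    (WS.trans (cent_anti OS)) c2
  exact h.caseA r2 hst hS inf_le_left W0 hB inf_le_right (h.an_of hd d1 (fN.Opi _) (isPGroup_Opi _)
    (dN.trans (le_normalizer_Opi _ _)) (Or.inl (hodd _ (fN.Opi _))) c3 fW.inv eW)

end LC

theorem SF.comp_of_quo (h : SF p A θ) (hX : Fam p A θ X) (hn : ∀ a ∈ A, a ≠ 1 → θ a ≤ N(X))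
    (hc : ∀ θ' : Quo X → Subgroup (Quo X), SF p (quo X A) θ' →
      (∀ y ∈ quo X A, y ≠ 1 → ∃ a ∈ A, a ≠ 1 ∧ θ' y = quo X (θ a)) → Comp p (quo X A) θ') :
    Comp p A θ := by
  have dis : A ⊓ X = ⊥ := inf_eq_bot_of_coprime' (h.cp hX)
  let θ' : Quo X → Subgroup (Quo X) := fun y =>
    ⨆ a : {a : N(X) // (a : G) ∈ A ∧ qm X a = y}, quo X (θ a.1)
  have e : ∀ a : N(X), (a : G) ∈ A → θ' (qm X a) = quo X (θ a) := fun a ha => by
    refine le_antisymm (iSup_le fun b => ?_)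
      (le_iSup (fun b : {b : N(X) // (b : G) ∈ A ∧ qm X b = qm X a} => quo X (θ b.1)) ⟨a, ha, rfl⟩)
    have h1 : qm X (b.1 * a⁻¹) = 1 := by rw [map_mul, map_inv, b.2.2, mul_inv_cancel]
    have h2 : ((b.1 * a⁻¹ : N(X)) : G) ∈ A ⊓ X := ⟨A.mul_mem b.2.1 (A.inv_mem ha), qm_eq_one.1 h1⟩
    rw [dis, mem_bot] at h2
    have h3 : (b.1 : G) = a := mul_inv_eq_one.1 h2
    rw [h3]
  have lift : ∀ y ∈ quo X A, y ≠ 1 → ∃ a : N(X), (a : G) ∈ A ∧ (a : G) ≠ 1 ∧ qm X a = y :=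
    fun y hy y1 => by
      obtain ⟨a, ha, rfl⟩ := mem_quo.1 hy
      exact ⟨a, ha, fun e => y1 (by rw [show a = 1 from Subtype.ext e, map_one]), rfl⟩
  have ne1 : ∀ a : N(X), (a : G) ∈ A → (a : G) ≠ 1 → qm X a ≠ 1 := fun a ha a1 e => by
    have h2 : (a : G) ∈ A ⊓ X := ⟨ha, qm_eq_one.1 e⟩
    rw [dis, mem_bot] at h2
    exact a1 h2
  have qc : ∀ (K : Subgroup G) (a : N(X)), (a : G) ∈ A → K ≤ N(X) → A ≤ N(K) →
      quo X (K ⊓ C1((a : G))) = quo X K ⊓ C1(qm X a) := fun K a ha h1 h2 => by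
    rw [← cent_zpowers, ← cent_zpowers, ← quo_zpowers]
    exact quo_inf_cent ((zp_le ha).trans hX.inv) h1 ((zp_le ha).trans h2) (h.cpB hX (zp_le ha))
      (Or.inr hX.solv)
  have hs : SF p (quo X A) θ' := by
    refine ⟨ea_quo h.ea X, fun y hy y1 => ?_, fun y hy y1 => ?_, fun y hy y1 => ?_,
      fun y hy y1 z hz z1 => ?_, fun y hy y1 => ?_⟩ <;> obtain ⟨a, ha, a1, rfl⟩ := lift y hy y1 <;>
      rw [e a ha]
    · rw [← inf_eq_left.2 (h.cent a ha a1), qc _ a ha (hn a ha a1) (h.inv a ha a1)]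
      exact inf_le_right
    · exact fun hd => h.cop a ha a1 (hd.trans (card_quo_dvd _ _))
    · exact quo_le_norm (h.inv a ha a1)
    · obtain ⟨b, hb, b1, rfl⟩ := lift z hz z1
      rw [e b hb, ← qc _ b hb (hn a ha a1) (h.inv a ha a1)]
      exact quo_mono (h.bal a ha a1 b hb b1)
    · exact solvable_quo (h.solv a ha a1) X
  obtain ⟨Y, hY, hle⟩ := hc θ' hs fun y hy y1 => by
    obtain ⟨a, ha, a1, rfl⟩ := lift y hy y1
    exact ⟨a, ha, a1, e a ha⟩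
  have AY : A ≤ N(unq X Y) := le_norm_unq hX.inv hY.inv
  refine ⟨unq X Y, ⟨solvable_unq hX.solv hY.solv, isPi_compl_singleton_iff.1
    ((isPi_compl_singleton_iff.2 hX.cop).unq (isPi_compl_singleton_iff.2 hY.cop)), AY,
    fun a ha a1 => ?_⟩, fun a ha a1 => ?_⟩
  · have h1 := hY.le _ (qm_mem_quo (x := ⟨a, hX.inv ha⟩) ha) (ne1 _ ha a1)
    rw [e _ ha, ← quo_unq Y, ← qc _ _ ha (unq_le_norm Y) AY, quo_le_quo_iff
      (inf_le_left.trans (unq_le_norm Y)) (hn a ha a1)] at h1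
    exact (le_inf h1 inf_le_right).trans ((h.sup hX (h.fam ha a1) (hn a ha a1)).le a ha a1)
  · rw [← quo_le_iff (hn a ha a1), ← e ⟨a, hX.inv ha⟩ ha]
    exact hle _ (qm_mem_quo (x := ⟨a, hX.inv ha⟩) ha) (ne1 _ ha a1)

theorem comp_induction {P : ℕ → Prop} (hP : ∀ m n, m ∣ n → P n → P m)
    (hLC : ∀ (G : Type u) [Group G] [Finite G] (A : Subgroup G) (θ : G → Subgroup G), LC p A θ →
      (∀ a ∈ A, a ≠ 1 → P (Nat.card (θ a))) → False)
    (h : SF p A θ) (h3 : p ^ 3 ≤ Nat.card A) (hθ : ∀ a ∈ A, a ≠ 1 → P (Nat.card (θ a))) :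
    Comp p A θ := by
  induction hn : Nat.card G using Nat.strong_induction_on generalizing G with
  | _ n ih =>
  induction hm : {x : G × G | x.1 ∈ A ∧ x.1 ≠ 1 ∧ x.2 ∈ θ x.1}.ncard using Nat.strong_induction_on
    generalizing θ with
  | _ m ih2 =>
  by_contra nc
  refine hLC G A θ ⟨h, h3, fun θ' h' hle ⟨a, ha, a1, hne⟩ => ?_, fun X hX X0 hN => ?_, nc⟩ hθ
  · refine ih2 _ ?_ h' (fun a ha a1 => hP _ _ (card_dvd_of_le (hle a ha a1)) (hθ a ha a1)) rfl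
    rw [← hm]
    refine Set.ncard_lt_ncard ⟨fun x hx => ⟨hx.1, hx.2.1, hle _ hx.1 hx.2.1 hx.2.2⟩, fun hs => hne
      (le_antisymm (hle a ha a1) fun x hx => (@hs (a, x) ⟨ha, a1, hx⟩).2.2)⟩ (Set.toFinite _)
  · refine h.comp_of_quo hX hN fun θ' h' he => ih _ ?_ h' ?_ (fun y hy y1 => ?_) rfl
    · rw [← hn]
      have h1 := CfsgH1.card_quo_lt' (le_normalizer : X ≤ N(X)) le_rfl X0
      have h2 : quo X N(X) = ⊤ := eq_top_iff.2 fun y _ => by
        obtain ⟨x, rfl⟩ := qm_surj X y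
        exact qm_mem_quo x.2
      rw [h2, Subgroup.card_top] at h1
      exact h1.trans_le (card_le_card_group _)
    · rwa [card_quo_of_disjoint hX.inv (inf_eq_bot_of_coprime' (h.cp hX))]
    · obtain ⟨a, ha, a1, e⟩ := he y hy y1
      rw [e]
      exact hP _ _ (card_quo_dvd _ _) (hθ a ha a1)

/-- Solvable signalizer functor theorem, odd order values. -/
theorem SF.comp_odd (h : SF p A θ) (h3 : p ^ 3 ≤ Nat.card A)
    (hθ : ∀ a ∈ A, a ≠ 1 → Odd (Nat.card (θ a))) : Comp p A θ := by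
  refine comp_induction (P := Odd) (fun m n h1 h2 => h2.of_dvd_nat h1) (fun G _ _ A θ h ho => ?_)
    h h3 hθ
  refine h.odd_false fun U hU => ?_
  rw [← Nat.not_even_iff_odd, even_iff_two_dvd]
  exact h.sf.fam_ndvd h.r2 hU fun a ha a1 hd =>
    Nat.not_even_iff_odd.2 (ho a ha a1) (even_iff_two_dvd.2 hd)

/-- Solvable 2-signalizer functor theorem. -/
theorem SF.comp_two {A : Subgroup G} {θ : G → Subgroup G} (h : SF 2 A θ) (h3 : 2 ^ 3 ≤ Nat.card A) :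
    Comp 2 A θ :=
  h.comp_odd h3 fun a ha a1 => by
    rw [← Nat.not_even_iff_odd, even_iff_two_dvd]; exact h.cop a ha a1

end CfsgH2
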