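import Cfsg.Agent.H2.SG7
import Cfsg.Agent.H2.SPE
import Cfsg.Agent.H2.GL2
import Cfsg.Agent.S0256

/-! Action on the Frattini quotient of `O_p(X)`; groups with `O₂(X)` of sectional rank at most four. -/

set_option autoImplicit false

namespace CfsgH2
open Subgroup Cfsg CfsgFT
open scoped commutatorElement Pointwise

/-- Automorphisms act on the quotient by a characteristic subgroup. -/
def quoAut {X : Type*} [Group X] (K : Subgroup X) [K.Characteristic] : MulAut X →* MulAut (X ⧸ K) where
  toFun e := QuotientGroup.congr _ _ e ((characteristic_iff_map_eq.1 inferInstance) e)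
  map_one' := by ext x; induction x using QuotientGroup.induction_on; rfl
  map_mul' a b := by ext x; induction x using QuotientGroup.induction_on; rfl

variable {X : Type*} [Group X] [Finite X] {p : ℕ} [hp : Fact p.Prime]

theorem frat_ker (h : centralizer (pCore p X : Set X) ≤ pCore p X) :
    ((quoAut (frattini (pCore p X))).comp (MulAut.conjNormal (H := pCore p X))).ker = pCore p X := by
  have hQ := CfsgH1.isPGroup_pCore p X
  refine le_antisymm (CfsgH1.le_pCore ((chP_top.2 h).pg le_top ?_)) fun x hx => MulEquiv.ext fun v => ?_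
  · rw [Op_top]
    refine res_le_cent_of_comm_le_frattini hQ le_normalizer_of_normal (commutator_le.2 fun q hq x hx => ?_)
    have := QuotientGroup.eq.1 (DFunLike.congr_fun hx (QuotientGroup.mk ⟨q⁻¹, inv_mem hq⟩)).symm
    exact ⟨_, this, by simp [commutatorElement_def, mul_assoc]⟩
  · induction v using QuotientGroup.induction_on with | _ v =>
    refine QuotientGroup.eq.2 (commutator_le_frattini hQ ?_)
    show (MulAut.conjNormal x v)⁻¹ * v ∈ _
    rw [show (MulAut.conjNormal x v)⁻¹ * v = ⁅(⟨x, hx⟩ : pCore p X), v⁻¹⁆ from Subtype.ext (by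
      show (x * v * x⁻¹)⁻¹ * v = x * (v : X)⁻¹ * x⁻¹ * (v : X)⁻¹⁻¹
      group)]
    exact commutator_mem_commutator (mem_top _) (mem_top _)

theorem exists_mat_of_sec {n : ℕ} (h : centralizer (pCore p X : Set X) ≤ pCore p X)
    (h4 : SectionalPRankLE p n (pCore p X)) :
    ∃ ρ : X →* Matrix (Fin n) (Fin n) (ZMod p), ∀ x, ρ x = 1 ↔ x ∈ pCore p X := by
  have hQ := CfsgH1.isPGroup_pCore p X
  have he : ∀ v : pCore p X ⧸ frattini (pCore p X), v ^ p = 1 := fun v => by
    induction v using QuotientGroup.induction_on with | _ v =>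
    exact (QuotientGroup.eq_one_iff (v ^ p)).2 (pow_mem_frattini hQ v)
  letI : CommGroup (pCore p X ⧸ frattini (pCore p X)) := { (inferInstance : Group _) with
    mul_comm := (Normal.quotient_commutative_iff_commutator_le.2 (commutator_le_frattini hQ)).1.1 }
  obtain ⟨k, hk⟩ := (hQ.to_quotient (frattini _)).exists_card_eq
  have h1 : k ≤ n := by
    let f := (QuotientGroup.mk' (frattini (pCore p X))).comp (⊤ : Subgroup (pCore p X)).subtype
    have e := QuotientGroup.quotientKerEquivOfSurjective f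
      ((QuotientGroup.mk'_surjective _).comp topEquiv.surjective)
    have := h4 ⊤ f.ker ⊤ ⟨⟨fun a b => Subtype.ext (e.injective (by simp only [coe_mul, map_mul, mul_comm]))⟩⟩
      fun a _ => e.injective (by rw [map_pow, he, map_one])
    rw [card_top, Nat.card_congr e.toEquiv, hk] at this
    exact (Nat.pow_le_pow_iff_right hp.out.one_lt).1 this
  let φ := (quoAut (frattini (pCore p X))).comp (MulAut.conjNormal (H := pCore p X))
  let ψ : X →* MulAut ((pCore p X ⧸ frattini (pCore p X)) × Multiplicative (Fin (n - k) → ZMod p)) :=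
    { toFun := fun a => (φ a).prodCongr (MulEquiv.refl _)
      map_one' := by rw [map_one]; rfl
      map_mul' := fun a b => by rw [map_mul]; rfl }
  obtain ⟨ρ, hρ⟩ := exists_matrix_rep (p := p) (n := n) (fun v => Prod.ext (he v.1) (by
    show Multiplicative.ofAdd (p • v.2.toAdd) = 1
    rw [← Nat.cast_smul_eq_nsmul (ZMod p), ZMod.natCast_self, zero_smul]; rfl)) (by
      rw [Nat.card_prod, hk, Nat.card_congr Multiplicative.toAdd, Nat.card_fun, Nat.card_zmod, Nat.card_fin,
        ← pow_add, Nat.add_sub_cancel' h1]) ψ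
  refine ⟨ρ, fun x => (hρ x).trans (Iff.trans ?_ (SetLike.ext_iff.1 (frat_ker h) x))⟩
  exact ⟨fun e => MulEquiv.ext fun v => congrArg Prod.fst (DFunLike.congr_fun e (v, 1)), fun e => by
    show (φ x).prodCongr _ = 1
    rw [show φ x = 1 from e]; rfl⟩

theorem exists_A8 (h : centralizer (pCore 2 X : Set X) ≤ pCore 2 X) (h4 : SectionalPRankLE 2 4 (pCore 2 X)) :
    ∃ f : X →* alternatingGroup (Fin 8), f.ker = pCore 2 X := by
  obtain ⟨ρ, hρ⟩ := exists_mat_of_sec h h4
  obtain ⟨e⟩ := Cfsg.Agent.S0256.result (F := ZMod 2) (ZMod.card 2)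
  have h1 : ∀ a : ZMod 2, IsUnit a → a = 1 := by decide
  let σ : X →* Matrix.SpecialLinearGroup (Fin 4) (ZMod 2) := MonoidHom.mk'
    (fun x => ⟨ρ x, h1 _ (((Group.isUnit x).map ρ).map Matrix.detMonoidHom)⟩) fun a b => Subtype.ext (map_mul ρ a b)
  refine ⟨e.toMonoidHom.comp ((QuotientGroup.mk' _).comp σ), Subgroup.ext fun x => ?_⟩
  rw [← hρ, MonoidHom.mem_ker]
  refine (MulEquiv.map_eq_one_iff e).trans ((QuotientGroup.eq_one_iff (σ x)).trans
    ⟨fun hx => ?_, fun hx => (show σ x = 1 from Subtype.ext hx) ▸ one_mem _⟩)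
  obtain ⟨r, a, b⟩ := Matrix.SpecialLinearGroup.mem_center_iff.1 hx
  rw [h1 r (IsUnit.of_pow_eq_one a (by simp)), map_one] at b
  exact b.symm

theorem cent_le_of_constrained (h : IsPConstrained p X) (h0 : pPrimeCore p X = ⊥) :
    centralizer (pCore p X : Set X) ≤ pCore p X :=
  char_of_equiv (QuotientGroup.quotientBot.symm.trans (QuotientGroup.quotientMulEquivOfEq h0.symm))
    (CfsgH9.constrained_iff.1 h)

end CfsgH2
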