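import Cfsg.Agent.H2.Sig3

/-! Locally complete signalizer functors. -/

set_option autoImplicit false
set_option linter.unusedSectionVars false
set_option linter.style.haveILetI false

namespace CfsgH2

open Subgroup Cfsg CfsgFT
open CfsgH1 (IsPiNum exists_centralizer_mul exists_invariant_sylow_le
  invariant_sylow_inf_centralizer thompson_A_times_B)
open scoped commutatorElement Pointwise

universe u

variable {G : Type u} [Group G] [Finite G] {p : ℕ} [hp : Fact p.Prime] {A B : Subgroup G}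
  {θ θ' : G → Subgroup G} {U V X Y H M : Subgroup G} {q : ℕ} [hq : Fact q.Prime]

theorem SF.fam_pi (h : SF p A θ) (h0 : A ≠ ⊥) (hU : Fam p A θ U)
    (hB : ∀ B, Hyp p A B → ¬ q ∣ Nat.card (U ⊓ C(B) : Subgroup G)) : ¬ q ∣ Nat.card U := by
  obtain ⟨T, hT, -, hAT⟩ := exists_invariant_sylow_le hU.inv (h.cp hU) (h.sA _) (p := q) bot_le
    IsPGroup.of_bot (le_norm_bot _)
  rw [← hT.eq_bot_iff, eq_bot_iff]
  refine h.le_of_hyp h0 (hU.mono hT.le hAT) fun B hB' => ?_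
  exact ((isPi_singleton_iff.2 (hT.pgroup.to_le inf_le_left)).eq_bot
    ((isPi_compl_singleton_iff.2 (hB B hB')).mono (inf_le_inf_right _ hT.le))).le

theorem Hyp.exists_mem (hB : Hyp p A B) (h2 : p ^ 2 ≤ Nat.card A) : ∃ c ∈ B, c ≠ 1 :=
  exists_ne_one_of_ne_bot (ne_bot_of_pow_le (k := 0) (hB.pow_le h2))

theorem SF.fam_ndvd (h : SF p A θ) (h2 : p ^ 2 ≤ Nat.card A) (hU : Fam p A θ U)
    (hθ : ∀ a ∈ A, a ≠ 1 → ¬ q ∣ Nat.card (θ a)) : ¬ q ∣ Nat.card U :=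
  h.fam_pi (ne_bot_of_pow_le h2) hU fun B hB => by
    obtain ⟨c, hc, h1⟩ := hB.exists_mem h2
    exact ndvd_of_le (hθ c (hB.1 hc) h1) ((hU.inf_cent_le hB.1).trans (CB_le hc h1))

theorem Fam.of_sub (hU : Fam p A θ' U) (hle : ∀ a ∈ A, a ≠ 1 → θ' a ≤ θ a) : Fam p A θ U :=
  ⟨hU.solv, hU.cop, hU.inv, fun a ha h1 => (hU.le a ha h1).trans (hle a ha h1)⟩

theorem SF.sub (h : SF p A θ) (hle : ∀ a ∈ A, a ≠ 1 → θ' a ≤ θ a)
    (hinv : ∀ a ∈ A, a ≠ 1 → A ≤ N(θ' a))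
    (hbal : ∀ a ∈ A, a ≠ 1 → ∀ b ∈ A, b ≠ 1 → θ' a ⊓ C1(b) ≤ θ' b) : SF p A θ' :=
  ⟨h.ea, fun a ha h1 => (hle a ha h1).trans (h.cent a ha h1),
    fun a ha h1 => ndvd_of_le (h.cop a ha h1) (hle a ha h1), hinv, hbal,
    fun a ha h1 => solv_of_le (h.solv a ha h1) (hle a ha h1)⟩

/-- locally complete but not complete -/
structure LC (p : ℕ) (A : Subgroup G) (θ : G → Subgroup G) : Prop where
  sf : SF p A θ
  rk : p ^ 3 ≤ Nat.card A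
  sub : ∀ θ', SF p A θ' → (∀ a ∈ A, a ≠ 1 → θ' a ≤ θ a) → (∃ a ∈ A, a ≠ 1 ∧ θ' a ≠ θ a) →
    Comp p A θ'
  quo : ∀ X, Fam p A θ X → X ≠ ⊥ → (∀ a ∈ A, a ≠ 1 → θ a ≤ N(X)) → Comp p A θ
  nc : ¬ Comp p A θ

/-- `θ(N(X))` -/
def NT (p : ℕ) (A : Subgroup G) (θ : G → Subgroup G) (X : Subgroup G) : Subgroup G :=
  sSup {U | Fam p A θ U ∧ U ≤ N(X)}

theorem NT_le : NT p A θ X ≤ N(X) := sSup_le fun _ h => h.2

theorem le_NT (hU : Fam p A θ U) (h : U ≤ N(X)) : U ≤ NT p A θ X := le_sSup ⟨hU, h⟩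

/-- the largest `θ(C(A))`-invariant `θ`-`q'`-subgroup -/
def DD (p : ℕ) (A : Subgroup G) (θ : G → Subgroup G) (q : ℕ) : Subgroup G :=
  sSup {U | Fam p A θ U ∧ IsPi {q}ᶜ U ∧ CB θ A ≤ N(U)}

theorem le_DD (hU : Fam p A θ U) (h1 : IsPi {q}ᶜ U) (h : CB θ A ≤ N(U)) : U ≤ DD p A θ q :=
  le_sSup ⟨hU, h1, h⟩

theorem le_norm_sSup' {S : Set (Subgroup G)} (h : ∀ X ∈ S, A ≤ N(X)) : A ≤ N(sSup S) :=
  le_norm_sSup fun _ ha X hX => (cj_eq_of_norm (h X hX ha)).symm ▸ hX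

theorem norm_DD : A ≤ N(DD p A θ q) := le_norm_sSup' fun _ h => h.1.inv

theorem CA_norm_DD : CB θ A ≤ N(DD p A θ q) := le_norm_sSup' fun _ h => h.2.2

/-- maximal `θ`-subgroups -/
structure MaxF (p : ℕ) (A : Subgroup G) (θ : G → Subgroup G) (M : Subgroup G) : Prop where
  fam : Fam p A θ M
  max : ∀ H, Fam p A θ H → M ≤ H → H = M

theorem exists_maxF (hU : Fam p A θ U) : ∃ M, MaxF p A θ M ∧ U ≤ M := by
  obtain ⟨Q, hle, h1, hmax⟩ := (Set.toFinite {R : Subgroup G | Fam p A θ R}).exists_le_maximal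
    (a := U) hU
  exact ⟨Q, ⟨h1, fun R a c => le_antisymm (hmax a c) c⟩, hle⟩

theorem SF.le_hall (h : SF p A θ) {K P : Subgroup G} {π : Set ℕ} (hK : Fam p A θ K)
    (hP : Hall π P K) (hAP : A ≤ N(P)) (hU : U ≤ K) (hπ : IsPi π U) (hAU : A ≤ N(U))
    (hC : K ⊓ C(A) ≤ N(U)) : U ≤ P := by
  obtain ⟨P', h1, h2, h3⟩ := exists_inv_hall_ge hK.inv (h.cp hK) hK.solv hπ hU hAU
  obtain ⟨c, hc, e⟩ := inv_hall_conj hK.inv (h.cp hK) hK.solv h1 hP h3 hAP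
  rw [← e]
  exact le_cj_of_norm (hC hc) h2

namespace LC

theorem r2 (h : LC p A θ) : p ^ 2 ≤ Nat.card A := pow3_le2 h.rk
theorem ne (h : LC p A θ) : A ≠ ⊥ := ne_bot_of_pow_le h.rk

theorem famCA (h : LC p A θ) : Fam p A θ (CB θ A) := h.sf.famCB le_rfl h.ne

theorem famH (h : LC p A θ) (hB : Hyp p A B) : Fam p A θ (CB θ B) :=
  h.sf.famCB hB.1 (ne_bot_of_pow_le (k := 1) (hB.pow_le h.rk))

theorem CA_eq (h : LC p A θ) {a : G} (ha : a ∈ A) (h1 : a ≠ 1) : θ a ⊓ C(A) = CB θ A :=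
  (h.sf.CB_eq le_rfl ha h1).symm

theorem famNT (h : LC p A θ) (hX : Fam p A θ X) (h0 : X ≠ ⊥) : Fam p A θ (NT p A θ X) := by
  have hs : SF p A (fun a => θ a ⊓ N(X)) := h.sf.sub (fun _ _ _ => inf_le_left)
    (fun a ha h1 => nI (h.sf.inv a ha h1) (le_norm_norm hX.inv))
    (fun a ha h1 b hb h2 => le_inf ((inf_le_inf_right _ inf_le_left).trans (h.sf.bal a ha h1 b hb h2))
      (inf_le_left.trans inf_le_right))
  obtain ⟨Y, hY, hle⟩ := h.sub _ hs (fun _ _ _ => inf_le_left) (by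
    by_contra hc
    push Not at hc
    exact h.nc (h.quo X hX h0 fun a ha h1 => (hc a ha h1).ge.trans inf_le_right))
  refine (hY.of_sub fun _ _ _ => inf_le_left).mono (sSup_le fun U hU => ?_)
    (le_norm_sSup' fun _ h => h.1.inv)
  exact h.sf.le_of_hyp h.ne hU.1 fun B hB => by
    obtain ⟨c, hc, h1⟩ := hB.exists_mem h.r2
    exact (le_inf ((hU.1.inf_cent_le hB.1).trans (CB_le hc h1)) (inf_le_left.trans hU.2)).trans
      (hle c (hB.1 hc) h1)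

theorem NT_eq (h : LC p A θ) (hM : MaxF p A θ M) (hX : X ≤ M) (hA : A ≤ N(X)) (h0 : X ≠ ⊥)
    (hn : M ≤ N(X)) : NT p A θ X = M :=
  hM.max _ (h.famNT (hM.fam.mono hX hA) h0) (le_NT hM.fam hn)

theorem le_max (h : LC p A θ) (hM : MaxF p A θ M) (hX : X ≤ M) (hA : A ≤ N(X)) (h0 : X ≠ ⊥)
    (hn : M ≤ N(X)) (hU : Fam p A θ U) (hUX : U ≤ N(X)) : U ≤ M :=
  h.NT_eq hM hX hA h0 hn ▸ le_NT hU hUX

theorem le_max_Opi (h : LC p A θ) (hM : MaxF p A θ M) {π : Set ℕ} (h0 : Opi π M ≠ ⊥)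
    (hU : Fam p A θ U) (hUX : U ≤ N(Opi π M)) : U ≤ M :=
  h.le_max hM (Opi_le _ _) (nO _ hM.fam.inv) h0 (le_normalizer_Opi _ _) hU hUX

theorem not_all (h : LC p A θ) (hX : Fam p A θ X) : ¬ ∀ a ∈ A, a ≠ 1 → θ a ≤ X :=
  fun hh => h.nc ⟨X, hX, hh⟩

theorem not_all_hyp (h : LC p A θ) (hX : Fam p A θ X) : ¬ ∀ B, Hyp p A B → CB θ B ≤ X :=
  fun hh => h.nc (h.sf.comp_of_hyp h.rk hX hh)

theorem DD_aux (h : LC p A θ) (hd : ∃ a ∈ A, a ≠ 1 ∧ q ∣ Nat.card (θ a)) :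
    Fam p A θ (DD p A θ q) ∧ IsPi {q}ᶜ (DD p A θ q) := by
  let θ' : G → Subgroup G := fun a =>
    sSup {U | U ≤ θ a ∧ IsPi {q}ᶜ U ∧ A ≤ N(U) ∧ CB θ A ≤ N(U)}
  have hle : ∀ a, θ' a ≤ θ a := fun a => sSup_le fun _ h => h.1
  have hA : ∀ a, A ≤ N(θ' a) := fun a => le_norm_sSup' fun _ h => h.2.2.1
  have hC : ∀ a, CB θ A ≤ N(θ' a) := fun a => le_norm_sSup' fun _ h => h.2.2.2
  have hpi : ∀ a ∈ A, a ≠ 1 → IsPi {q}ᶜ (θ' a) := fun a ha h1 => by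
    have hf := h.sf.fam ha h1
    obtain ⟨P, hP, hAP⟩ := exists_inv_hall hf.inv (h.sf.cp hf) hf.solv {q}ᶜ
    exact hP.isPi.mono (sSup_le fun U hU => h.sf.le_hall hf hP hAP hU.1 hU.2.1 hU.2.2.1
      ((h.CA_eq ha h1).le.trans hU.2.2.2))
  have nc : ∀ a ∈ A, CB θ A ≤ N(C1(a)) := fun a ha =>
    le_norm_of_le ((h.sf.CB_le_cent le_rfl).trans (cent_le_cent1 ha))
  have hs : SF p A θ' := h.sf.sub (fun a _ _ => hle a) (fun a _ _ => hA a)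
    (fun a ha h1 b hb h2 => le_sSup ⟨(inf_le_inf_right _ (hle a)).trans (h.sf.bal a ha h1 b hb h2),
      (hpi a ha h1).mono inf_le_left, nI (hA a) (h.sf.nc1 hb), nI (hC a) (nc b hb)⟩)
  obtain ⟨Y, hY, hY2⟩ := h.sub _ hs (fun a _ _ => hle a) (by
    obtain ⟨a, ha, h1, h2⟩ := hd
    exact ⟨a, ha, h1, fun e => isPi_compl_singleton_iff.1 (hpi a ha h1) (e ▸ h2)⟩)
  have hDY : DD p A θ q ≤ Y := sSup_le fun U hU => h.sf.le_of_hyp h.ne hU.1 fun B hB => by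
    obtain ⟨c, hc, h1⟩ := hB.exists_mem h.r2
    refine (inf_le_inf_left _ (cent_le_cent1 hc)).trans (le_trans ?_ (hY2 c (hB.1 hc) h1))
    exact le_sSup ⟨hU.1.le c (hB.1 hc) h1, hU.2.1.mono inf_le_left,
      nI hU.1.inv (h.sf.nc1 (hB.1 hc)), nI hU.2.2 (nc c (hB.1 hc))⟩
  exact ⟨(hY.of_sub fun a _ _ => hle a).mono hDY norm_DD, (isPi_compl_singleton_iff.2
    (hs.fam_ndvd h.r2 hY fun a ha h1 => isPi_compl_singleton_iff.1 (hpi a ha h1))).mono hDY⟩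

theorem dvd_of_fam (h : LC p A θ) (hU : Fam p A θ U) (hd : q ∣ Nat.card U) :
    ∃ a ∈ A, a ≠ 1 ∧ q ∣ Nat.card (θ a) := by
  by_contra hc
  push Not at hc
  exact h.sf.fam_ndvd h.r2 hU hc hd

theorem le_DD' (h : LC p A θ) (hd : ∃ a ∈ A, a ≠ 1 ∧ q ∣ Nat.card (θ a)) (hU : Fam p A θ U)
    (hπ : IsPi {q}ᶜ U) (hC : PM (DD p A θ q ⊓ CB θ A) (N(U) ⊓ CB θ A) (CB θ A)) :
    U ≤ DD p A θ q := by
  obtain ⟨hD, hDq⟩ := h.DD_aux hd
  refine h.sf.le_of_hyp h.ne hU fun B hB => ?_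
  obtain ⟨a, ha', h1⟩ := hB.exists_mem h.r2
  have ha := hB.1 ha'
  refine (inf_le_inf_left _ (cent_le_cent1 ha')).trans ?_
  have hf := h.sf.fam ha h1
  have hAU : A ≤ N(U ⊓ C1(a)) := nI hU.inv (h.sf.nc1 ha)
  obtain ⟨P, hP, h2, hAP⟩ := exists_inv_hall_ge hf.inv (h.sf.cp hf) hf.solv (hπ.mono inf_le_left)
    (hU.le a ha h1) hAU
  have hDP : DD p A θ q ⊓ CB θ A ≤ P := h.sf.le_hall hf hP hAP
    (inf_le_right.trans (h.sf.CA_le ha h1)) (hDq.mono inf_le_left) (nI norm_DD h.famCA.inv)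
    ((h.CA_eq ha h1).le.trans (nI CA_norm_DD le_normalizer))
  have hW : (⨆ c : CB θ A, cj (c : G) (U ⊓ C1(a))) ≤ P := iSup_le fun c => by
    obtain ⟨d, hd, n, hn, e⟩ := hC c c.2
    rw [e, ← cj_cj, cj_inf n, cj_eq_of_norm hn.1, h.sf.cj_cent1 hn.2 ha]
    exact cj_le_of_mem (hDP hd) h2
  have hAW : A ≤ N(⨆ c : CB θ A, cj (c : G) (U ⊓ C1(a))) := le_norm_iSup fun c => h.sf.norm_cj c.2 hAU
  refine le_trans ?_ (le_DD (hf.mono (hW.trans hP.le) hAW) (hP.isPi.mono hW) fun c hc => ?_)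
  · exact le_trans (cj_one _).ge (le_iSup (fun c : CB θ A => cj (c : G) (U ⊓ C1(a))) 1)
  · refine mem_normalizer_of_cj_le ?_
    rw [cj, Subgroup.map_iSup]
    refine iSup_le fun d => ?_
    rw [cj_def, cj_cj]
    exact le_iSup (fun c : CB θ A => cj (c : G) (U ⊓ C1(a))) (⟨c, hc⟩ * d)

theorem comm_theta_le (h : LC p A θ) {W : Subgroup G} {c : G} (hc : c ∈ A) (h1 : c ≠ 1)
    (hW : W ≤ N(θ c)) (hAW : A ≤ C(W)) (hcop : (Nat.card W).Coprime (Nat.card (θ c)))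
    (hX : ∀ B, Hyp p A B → ⁅CB θ B, W⁆ ≤ X) : ⁅θ c, W⁆ ≤ X :=
  comm_le_of_hyp h.sf.ea h.ne (h.sf.cop c hc h1) (h.sf.solv c hc h1) (h.sf.inv c hc h1) hW hAW hcop
    fun B hB => (commutator_mono ((h.sf.fam hc h1).inf_cent_le hB.1) le_rfl).trans (hX B hB)

theorem zc (h : LC p A θ) {b : G} (hb : b ∈ A) : A ≤ C(zpowers b) :=
  cent_symm (zp_le (ea_comm h.sf.ea hb))

theorem zn (h : LC p A θ) {b : G} (hb : b ∈ A) : A ≤ N(zpowers b) := le_norm_of_cent (h.zc hb)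

theorem zcard (h : LC p A θ) {b : G} (hb : b ∈ A) (h1 : b ≠ 1) : (Nat.card (zpowers b)).Prime := by
  rw [Nat.card_zpowers, ea_orderOf h.sf.ea hb h1]; exact hp.out

theorem theta_cz (h : LC p A θ) {b : G} (hb : b ∈ A) (h1 : b ≠ 1) : θ b ≤ C(zpowers b) :=
  cent_zpowers b ▸ h.sf.cent b hb h1

/-- Lemma X -/
theorem lemX (h : LC p A θ) {b : G} (hb : b ∈ A) (h1 : b ≠ 1) {L : Subgroup G} (hL : Fam p A θ L) :
    ¬ ∀ B, Hyp p A B → ⁅CB θ B, zpowers b⁆ ≤ L := fun hh => by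
  set Ψ := ⨆ B : {B // Hyp p A B}, ⁅CB θ B.1, zpowers b⁆ with hΨ
  have hle : ∀ B, Hyp p A B → ⁅CB θ B, zpowers b⁆ ≤ Ψ := fun B hB =>
    le_iSup (fun B : {B // Hyp p A B} => ⁅CB θ B.1, zpowers b⁆) ⟨B, hB⟩
  have hΨf : Fam p A θ Ψ := hL.mono (iSup_le fun B => hh B.1 B.2)
    (le_norm_iSup fun B => nK (h.famH B.2).inv (h.zn hb))
  have hn : θ b ≤ N(Ψ) := h.sf.le_of_hyp h.ne (h.sf.fam hb h1) fun B' hB' g hg => by
    refine mem_normalizer_of_cj_le ?_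
    rw [hΨ, cj, Subgroup.map_iSup]
    refine iSup_le fun B => ?_
    obtain ⟨c, c1, c2, c3⟩ := B.2.meet2 hB' h.rk
    have hc := B.2.1 c1
    rw [cj_def]
    refine (cj_le_of_norm (K := ⁅θ c, zpowers b⁆) ?_ (commutator_mono (CB_le c1 c3) le_rfl)).trans ?_
    · exact normalizer_commutator_ge_left _ _
        (h.sf.bal b hb h1 c hc c3 ⟨hg.1, cent_le_cent1 c2 hg.2⟩)
    · exact h.comm_theta_le hc c3 ((zp_le hb).trans (h.sf.inv c hc c3)) (h.zc hb)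
        (h.sf.cpB (h.sf.fam hc c3) (zp_le hb)) hle
  refine h.not_all_hyp (h.sf.sup hΨf (h.sf.fam hb h1) hn) fun B hB => ?_
  have hf := h.famH hB
  rw [← coprime_comm_sup_cent ((zp_le hb).trans hf.inv) (h.sf.cpB hf (zp_le hb)) hf.solv,
    cent_zpowers]
  exact sup_le_sup (hle B hB) (hf.le b hb h1)

/-- Lemma E -/
theorem lemE (h : LC p A θ) (hM : MaxF p A θ M) {R : Subgroup G} (hR : R ≤ Opi {q} M)
    (hA : A ≤ N(R)) (h0 : R ≠ ⊥) : Opi {q}ᶜ M ≤ Opi {q}ᶜ (NT p A θ R) := by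
  induction R using subgroup_induction_down with
  | _ R ih =>
  by_cases e : R = Opi {q} M
  · rw [h.NT_eq hM (hR.trans (Opi_le _ _)) hA h0 (e ▸ le_normalizer_Opi _ _)]
  have hlt := lt_inf_normalizer (isPGroup_Opi M) (lt_of_le_of_ne hR e)
  have hf := hM.fam.Opi {q}
  have hA1 : A ≤ N(Opi {q} M ⊓ N(R)) := nI hf.inv (le_norm_norm hA)
  have h1 := ih _ (CfsgH2.card_lt_of_lt hlt) inf_le_left hA1 (ne_bot_of_gt hlt)
  have hN := h.famNT (hf.mono hR hA) h0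
  have hc : Opi {q}ᶜ M ≤ C(Opi {q} M) := Opi_commute _ fun _ _ h => h
  refine le_trans ?_ (Opi_norm_le hN.solv ((isPGroup_Opi M).to_le inf_le_left)
    (le_NT (hf.mono inf_le_left hA1) inf_le_right))
  have h2 : NT p A θ R ⊓ N(Opi {q} M ⊓ N(R)) ≤ NT p A θ (Opi {q} M ⊓ N(R)) :=
    le_NT (hN.inf (le_norm_norm hA1)) inf_le_right
  exact (le_inf h1 (le_inf (le_NT (hM.fam.Opi _) (le_norm_of_cent (hc.trans (cent_anti hR))))
    (le_norm_of_cent (hc.trans (cent_anti inf_le_left))))).trans (Opi_inf_le h2)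

theorem lemE' (hH : Fam p A θ H) {R : Subgroup G} (hR : R ≤ H) (hRq : IsPGroup q R)
    (hA : A ≤ N(R)) : Opi {q}ᶜ (NT p A θ R) ⊓ H ≤ Opi {q}ᶜ H := by
  refine le_trans ?_ (Opi_norm_le hH.solv hRq hR)
  exact (le_inf inf_le_left (le_inf inf_le_right (inf_le_left.trans ((Opi_le _ _).trans NT_le)))).trans
      (Opi_inf_le (le_NT (hH.inf (le_norm_norm hA)) inf_le_right))

end LC

/-- absolutely normal `q`-subgroups -/
structure AN (p : ℕ) (A : Subgroup G) (θ : G → Subgroup G) (q : ℕ) (U : Subgroup G) : Prop where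
  fam : Fam p A θ U
  pg : IsPGroup q U
  le : ∀ H, Fam p A θ H → U ≤ H → U ≤ Opi {q} H

theorem Opi_cc (H : Subgroup G) : Opi {q}ᶜ H ≤ C(Opi {q} H) := Opi_commute _ fun _ _ h => h

theorem AN.cent (hU : AN p A θ q U) (hH : Fam p A θ H) (h : U ≤ H) : Opi {q}ᶜ H ≤ C(U) :=
  (Opi_cc H).trans (cent_anti (hU.le H hH h))

theorem Opi_le_compl {r : ℕ} (hqr : q ≠ r) (H : Subgroup G) : Opi {q} H ≤ Opi {r}ᶜ H :=
  Opi_sub H fun _ _ h e => hqr (h.symm.trans e)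

theorem Opi_Opi_le (π σ : Set ℕ) (H : Subgroup G) : Opi π (Opi σ H) ≤ Opi π H :=
  Opi_le_Opi_of_normal (Opi_le _ _) (le_normalizer_Opi _ _)

theorem pq_inf {r : ℕ} [Fact r.Prime] (hqr : q ≠ r) (hX : IsPGroup q X) (hY : IsPGroup r Y) :
    X ⊓ Y = ⊥ :=
  (isPi_singleton_iff.2 hX).inf_eq_bot (isPi_compl_of_isPGroup hY fun e => hqr e.symm)

theorem pq_cop {r : ℕ} [Fact r.Prime] (hqr : q ≠ r) (hY : IsPGroup r Y) : (Nat.card Y).Coprime q :=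
  isPi_compl_singleton_iff_coprime.1 (isPi_compl_of_isPGroup hY fun e => hqr e.symm)

theorem cent_of_comm_le {K L : Subgroup G} (h1 : ⁅X, Y⁆ ≤ K) (h2 : ⁅X, Y⁆ ≤ L) (h : K ⊓ L = ⊥) :
    X ≤ C(Y) := cent_of_comm_eq_bot (eq_bot_iff.2 ((le_inf h1 h2).trans h.le))

/-- Lemma U -/
theorem LC.lemU (h : LC p A θ) {r : ℕ} [Fact r.Prime] (hqr : q ≠ r) {R L : Subgroup G}
    (hR : AN p A θ q R) (hU : AN p A θ r U) (R0 : R ≠ ⊥) (U0 : U ≠ ⊥) (hc : U ≤ C(R))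
    (hM : MaxF p A θ M) (hL : MaxF p A θ L) (hRM : NT p A θ R ≤ M) (hUL : NT p A θ U ≤ L) :
    M = L := by
  have RM : R ≤ M := (le_NT hR.fam le_normalizer).trans hRM
  have UL : U ≤ L := (le_NT hU.fam le_normalizer).trans hUL
  have UM : U ≤ M := (le_NT hU.fam (le_norm_of_cent hc)).trans hRM
  have RL : R ≤ L := (le_NT hR.fam (le_norm_of_cent' hc)).trans hUL
  have a1 : Opi {q}ᶜ M ⊓ L ≤ Opi {q}ᶜ L :=
    (inf_le_inf_right _ (h.lemE hM (hR.le M hM.fam RM) hR.fam.inv R0)).trans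
      (LC.lemE' hL.fam RL hR.pg hR.fam.inv)
  have a2 : Opi {q}ᶜ L ≤ M :=
    (h.lemE hL (hR.le L hL.fam RL) hR.fam.inv R0).trans ((Opi_le _ _).trans hRM)
  have b1 : Opi {r}ᶜ L ⊓ M ≤ Opi {r}ᶜ M :=
    (inf_le_inf_right _ (h.lemE hL (hU.le L hL.fam UL) hU.fam.inv U0)).trans
      (LC.lemE' hM.fam UM hU.pg hU.fam.inv)
  have b2 : Opi {r}ᶜ M ≤ Opi {r}ᶜ L :=
    (le_inf (h.lemE hM (hU.le M hM.fam UM) hU.fam.inv U0)
      ((h.lemE hM (hU.le M hM.fam UM) hU.fam.inv U0).trans ((Opi_le _ _).trans hUL))).trans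
      (LC.lemE' hL.fam UL hU.pg hU.fam.inv)
  have UO := hU.le M hM.fam UM
  have RO := hR.le L hL.fam RL
  have fO := hM.fam.Opi {r}
  have T1 : Opi {r} M ⊓ L ≤ Opi {r} L := by
    have h1 : Opi {r} M ⊓ L ≤ Opi {q}ᶜ L :=
      (inf_le_inf_right _ (Opi_le_compl hqr.symm M)).trans a1
    exact (le_Opi_p h1 (nI (a2.trans (le_normalizer_Opi _ _)) (le_norm_of_le (Opi_le _ _)))
      ((isPGroup_Opi M).to_le inf_le_left)).trans (Opi_Opi_le _ _ _)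
  have T2 : Opi {r} M ≤ L := by
    by_contra hn
    have hlt := lt_inf_normalizer (isPGroup_Opi (p := r) M)
      (lt_of_le_of_ne (inf_le_left : Opi {r} M ⊓ L ≤ _) fun e => hn (e.ge.trans inf_le_right))
    set T := Opi {r} M ⊓ L with hT
    have AT : A ≤ N(T) := nI fO.inv hL.fam.inv
    have T0 : T ≠ ⊥ := fun e => U0 (eq_bot_iff.2 ((le_inf UO UL).trans e.le))
    have fH := h.famNT (fO.mono inf_le_left AT) T0
    set H := NT p A θ T with hH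
    have fT1 : Fam p A θ (Opi {r} M ⊓ N(T)) := fO.inf (le_norm_norm AT)
    have T1H : Opi {r} M ⊓ N(T) ≤ H := le_NT fT1 inf_le_right
    have UH : U ≤ H := ((le_inf UO UL).trans hlt.le).trans T1H
    have c1 : Opi {r}ᶜ L ≤ Opi {r}ᶜ H := h.lemE hL T1 AT T0
    have c2 : Opi {r}ᶜ H ≤ L := (le_NT (fH.Opi _) (le_norm_of_cent (hU.cent fH UH))).trans hUL
    have c3 : Opi {q} L ≤ Opi {q} H := (le_Opi_p ((Opi_le_compl hqr L).trans c1)
      (c2.trans (le_normalizer_Opi _ _)) (isPGroup_Opi L)).trans (Opi_Opi_le _ _ _)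
    have c4 : Opi {r} M ⊓ N(T) ≤ C(Opi {q} H) := by
      refine thompson_A_times_B hR.pg (pq_cop hqr ((isPGroup_Opi M).to_le inf_le_left))
        (isPGroup_Opi H) (cent_symm (inf_le_left.trans ((Opi_le_compl hqr.symm M).trans
          (hR.cent hM.fam RM)))) (le_norm_of_le (RO.trans c3)) (T1H.trans (le_normalizer_Opi _ _)) ?_
      have d1 : Opi {q} H ⊓ C(R) ≤ M := (le_NT ((fH.Opi _).inf (nC hR.fam.inv))
        (inf_le_right.trans (cent_le_norm _))).trans hRM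
      exact cent_of_comm_le ((commutator_mono inf_le_left le_rfl).trans
        (comm_le_left (T1H.trans (le_normalizer_Opi _ _))))
        ((commutator_mono le_rfl inf_le_left).trans (comm_le_right (d1.trans (le_normalizer_Opi _ _))))
        (pq_inf hqr (isPGroup_Opi H) (isPGroup_Opi M))
    have c5 := h.le_max_Opi hL (fun e => R0 (eq_bot_iff.2 (RO.trans e.le))) fT1
      (le_norm_of_cent (c4.trans (cent_anti c3)))
    exact not_le_of_gt hlt (le_inf inf_le_left c5)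
  have T3 : Opi {r} M ≤ Opi {r} L := (le_inf le_rfl T2).trans T1
  have e1 : Opi {r}ᶜ L ≤ M := h.le_max_Opi hM (fun e => U0 (eq_bot_iff.2 (UO.trans e.le)))
    (hL.fam.Opi _) (le_norm_of_cent ((Opi_cc L).trans (cent_anti T3)))
  have e2 : Opi {r}ᶜ M = Opi {r}ᶜ L := le_antisymm b2 ((le_inf le_rfl e1).trans b1)
  have e3 : Opi {r}ᶜ L ≠ ⊥ := fun e => R0 (eq_bot_iff.2 ((RO.trans (Opi_le_compl hqr L)).trans e.le))
  exact (hM.max L hL.fam (h.le_max_Opi hL e3 hM.fam (e2 ▸ le_normalizer_Opi _ _))).symm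

end CfsgH2
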