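import Cfsg.Agent.H2.Sig6
import Cfsg.Agent.H2.CharP
import Cfsg.Agent.H9.KS1
import Cfsg.Agent.FT.PF14c
import Cfsg.Agent.H1.Frob

/-! Cores of centralizers as signalizer functors. -/

set_option autoImplicit false
set_option linter.unusedSectionVars false
set_option linter.style.haveILetI false

namespace CfsgH2

open Subgroup Cfsg CfsgFT
open CfsgH1 (IsPiNum exists_centralizer_mul thompson_A_times_B)
open scoped commutatorElement Pointwise

universe u

variable {G : Type u} [Group G] [Finite G] {p : ℕ} [hp : Fact p.Prime] {A B : Subgroup G}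
  {H K R : Subgroup G} {x y b : G}

theorem Op_eq_Opi (H : Subgroup G) : pCoreOf p H = Opi {p} H := (Opi_singleton_eq H).symm

theorem chP_quo_of_constrained (h : IsPConstrained p H) : ChP p (quo (Opi {p}ᶜ H) H) := by
  have hn : H ≤ N(Opi {p}ᶜ H) := le_normalizer_Opi _ H
  have e : (Opi {p}ᶜ H).subgroupOf H = pPrimeCore p H := by
    rw [Opi_compl_singleton_eq, subgroupOf_map_subtype_self]
  haveI : ((Opi {p}ᶜ H).subgroupOf H).Normal := normal_subgroupOf hn
  have h1 := CfsgH9.constrained_iff.1 h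
  exact chP_iff.1 (char_of_equiv
    ((quotEquivQuo hn).symm.trans (QuotientGroup.quotientMulEquivOfEq e)) h1)

theorem constrained_of_quo (hH : H ≤ N(K)) (hK : IsPi {p}ᶜ K) (h : ChP p (quo K H)) :
    IsPConstrained p H := by
  refine CfsgH9.constrained_of_surjective (quoHom_surj hH) ?_ (chP_iff.2 h)
  rw [ker_quoHom]
  exact isPi_compl_singleton_iff_coprime.1 (hK.subgroupOf H)

theorem ChP.Opi_eq_bot (h : ChP p H) : Opi {p}ᶜ H = ⊥ := by
  have h1 : Opi {p}ᶜ H ≤ pCoreOf p H := h.le_Op_of_cent (Opi_le _ _) (by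
    rw [Op_eq_Opi]; exact Opi_commute H fun q _ h1 h2 => h1 h2)
  exact ((isPi_singleton_iff.2 (Op_pg H)).mono h1).eq_bot (isPi_Opi _ _)

theorem ChP.constrained (h : ChP p H) : IsPConstrained p H :=
  CfsgH9.constrained_of_surjective (f := MonoidHom.id H) Function.surjective_id
    (by rw [MonoidHom.ker_id]; simp) (chP_iff.2 h)

theorem chP_of_constrained (h : IsPConstrained p H) (h0 : pPrimeCore p H = ⊥) : ChP p H := by
  have h1 := CfsgH9.constrained_iff.1 h
  exact chP_iff.1 (char_of_equiv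
    (QuotientGroup.quotientBot.symm.trans (QuotientGroup.quotientMulEquivOfEq h0.symm)) h1)

theorem con_inf_norm (h : IsPConstrained p H) (hR : IsPGroup p R) (hRH : R ≤ H) :
    IsPConstrained p ↥(H ⊓ N(R)) := by
  have hn : H ≤ N(Opi {p}ᶜ H) := le_normalizer_Opi _ H
  refine constrained_of_quo (inf_le_left.trans hn) (isPi_Opi _ H) ?_
  rw [quo_inf_norm (hRH.trans hn) (Opi_le _ H) (coprime_pgroup_p' hR (isPi_Opi _ H))
    (Or.inl (solvable_of_pgroup hR))]
  exact (chP_quo_of_constrained h).inf_norm (pgroup_quo hR _) (quo_mono hRH)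

theorem con_inf_cent (h : IsPConstrained p H) (hR : IsPGroup p R) (hRH : R ≤ H) :
    IsPConstrained p ↥(H ⊓ C(R)) := by
  have hn : H ≤ N(Opi {p}ᶜ H) := le_normalizer_Opi _ H
  refine constrained_of_quo (inf_le_left.trans hn) (isPi_Opi _ H) ?_
  rw [quo_inf_cent' (hRH.trans hn) (Opi_le _ H) (coprime_pgroup_p' hR (isPi_Opi _ H))
    (Or.inl (solvable_of_pgroup hR))]
  exact (chP_quo_of_constrained h).inf_cent (pgroup_quo hR _) (quo_mono hRH)

theorem con_norm_of_cent (h : IsPConstrained p C(R)) (hR : IsPGroup p R) :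
    IsPConstrained p N(R) := by
  set K := Opi {p}ᶜ C(R)
  have hn : N(R) ≤ N(K) := nO _ (nC le_rfl)
  have hRK : R ≤ N(K) := le_normalizer.trans hn
  have hc := coprime_pgroup_p' hR (isPi_Opi {p}ᶜ C(R))
  have hs : Group.IsSolvable R ∨ Group.IsSolvable K := Or.inl (solvable_of_pgroup hR)
  refine constrained_of_quo hn (isPi_Opi _ _) ?_
  have h1 := chP_quo_of_constrained h
  rw [quo_cent hRK hc hs, ← top_inf_eq C(quo K R)] at h1
  rw [quo_norm hRK hc hs, ← top_inf_eq N(quo K R)]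
  exact h1.norm_of_cent (pgroup_quo hR _) le_top

theorem con_cent_of_norm (h : IsPConstrained p N(R)) (hR : IsPGroup p R) :
    IsPConstrained p C(R) := by
  have := con_inf_cent h hR le_normalizer
  rwa [inf_eq_right.2 (cent_le_norm R)] at this

theorem con_Opi_cent_le (h : IsPConstrained p H) (hR : IsPGroup p R) (hRH : R ≤ H) :
    Opi {p}ᶜ (H ⊓ C(R)) ≤ Opi {p}ᶜ H := by
  set K := Opi {p}ᶜ H
  have hn : H ≤ N(K) := le_normalizer_Opi _ H
  rw [← quo_eq_bot_iff ((Opi_le _ _).trans (inf_le_left.trans hn)), eq_bot_iff]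
  refine (quo_Opi_le (inf_le_left.trans hn)).trans ?_
  rw [quo_inf_cent' (hRH.trans hn) (Opi_le _ H) (coprime_pgroup_p' hR (isPi_Opi _ H))
    (Or.inl (solvable_of_pgroup hR))]
  exact ((chP_quo_of_constrained h).inf_cent (pgroup_quo hR _) (quo_mono hRH)).Opi_eq_bot.le

/-- the core functor -/
abbrev th (p : ℕ) (x : G) : Subgroup G := Opi {p}ᶜ C1(x)

omit [Finite G] in
theorem th_eq (x : G) : centralizerPPrimeCore p x = th p x := (Opi_compl_singleton_eq _).symm

theorem th_bal (h : IsPConstrained p C1(y)) (hx : IsPGroup p (zpowers x)) (hxy : x ∈ C1(y)) :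
    th p x ⊓ C1(y) ≤ th p y := by
  have h1 : th p x ⊓ C1(y) ≤ Opi {p}ᶜ (C1(y) ⊓ C(zpowers x)) := by
    rw [cent_zpowers]
    refine le_trans ?_ (Opi_inf_le (H := C1(x)) inf_le_right)
    exact le_inf inf_le_left (le_inf inf_le_right (inf_le_left.trans (Opi_le _ _)))
  exact h1.trans (con_Opi_cent_le h hx (zpowers_le.2 hxy))

omit [Finite G] hp in
theorem cj_th (g x : G) : cj g (th p x) = th p (g * x * g⁻¹) := by
  rw [← Opi_cj, cj_centralizer_singleton]

/-- the subgroup generated by the cores -/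
def WW (p : ℕ) (B : Subgroup G) : Subgroup G := ⨆ b : {b : G // b ∈ B ∧ b ≠ 1}, th p (b : G)

omit [Finite G] hp in
theorem th_le_WW (hb : b ∈ B) (h1 : b ≠ 1) : th p b ≤ WW p B :=
  le_iSup (fun b : {b : G // b ∈ B ∧ b ≠ 1} => th p (b : G)) ⟨b, hb, h1⟩

omit [Finite G] hp in
theorem WW_le (h : ∀ b ∈ B, b ≠ 1 → th p b ≤ H) : WW p B ≤ H := iSup_le fun b => h b b.2.1 b.2.2

omit [Finite G] hp in
theorem WW_mono (h : A ≤ B) : WW p A ≤ WW p B := WW_le fun _ hb h1 => th_le_WW (h hb) h1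

omit hp in
theorem norm_le_norm_WW (B : Subgroup G) : N(B) ≤ N(WW p B) := by
  intro g hg
  refine CfsgH2.mem_normalizer_of_cj_le ?_
  rw [cj_le_iff_le_cj_inv]
  refine WW_le fun b hb h1 => ?_
  rw [← cj_le_iff_le_cj_inv, cj_th]
  exact th_le_WW (CfsgH2.conj_mem_of_mem_normalizer hg hb) (by simpa using h1)

theorem solv_of_odd' (h : IsPi {2}ᶜ H) : Group.IsSolvable H :=
  CfsgPF.feit_thompson (by
    rw [← Nat.not_even_iff_odd, even_iff_two_dvd]; exact isPi_compl_singleton_iff.1 h)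

theorem sf_th (hA : IsElementaryAbelian 2 A)
    (hb : ∀ a ∈ A, a ≠ 1 → ∀ b ∈ A, b ≠ 1 → th 2 a ⊓ C1(b) ≤ th 2 b) : SF 2 A (th 2) where
  ea := hA
  cent := fun _ _ _ => Opi_le _ _
  cop := fun _ _ _ => isPi_compl_singleton_iff.1 (isPi_Opi _ _)
  inv := fun _ ha _ => nO _ (ea_norm_cent1 hA ha)
  bal := hb
  solv := fun _ _ _ => solv_of_odd' (isPi_Opi _ _)

theorem SF.res {θ : G → Subgroup G} (h : SF p A θ) (hB : B ≤ A) : SF p B θ where
  ea := CfsgH2.ea_mono h.ea hB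
  cent := fun a ha => h.cent a (hB ha)
  cop := fun a ha => h.cop a (hB ha)
  inv := fun a ha h1 => hB.trans (h.inv a (hB ha) h1)
  bal := fun a ha h1 b hb => h.bal a (hB ha) h1 b (hB hb)
  solv := fun a ha => h.solv a (hB ha)

omit [Finite G] hp in
theorem Fam.res {θ : G → Subgroup G} (h : Fam p A θ H) (hB : B ≤ A) : Fam p B θ H where
  solv := h.solv
  cop := h.cop
  inv := hB.trans h.inv
  le := fun a ha => h.le a (hB ha)

theorem fam_WW (h : SF 2 A (th 2)) (h3 : 2 ^ 3 ≤ Nat.card A) : Fam 2 A (th 2) (WW 2 A) := by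
  obtain ⟨X, hX, hX2⟩ := h.comp_two h3
  have : WW 2 A = X := le_antisymm (WW_le hX2)
    (h.fam_le' (pow3_le2 h3) (fun a ha h1 => th_le_WW ha h1) hX)
  exact this ▸ hX

theorem WW_eq (h : SF 2 A (th 2)) (h3 : 2 ^ 3 ≤ Nat.card A) (hB : B ≤ A) (h2 : 2 ^ 2 ≤ Nat.card B) :
    WW 2 B = WW 2 A :=
  le_antisymm (WW_mono hB) ((h.res hB).fam_le' h2 (fun _ ha h1 => th_le_WW ha h1)
    ((fam_WW h h3).res hB))

theorem odd_of_fam {θ : G → Subgroup G} (h : Fam 2 A θ H) : Odd (Nat.card H) := by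
  rw [← Nat.not_even_iff_odd, even_iff_two_dvd]; exact h.cop

/-- Balance when some involution of `A` has centralizer of characteristic two. -/
theorem bal_of_char {z : G} (hA : IsElementaryAbelian 2 A) (hz : z ∈ A) (hc : ChP 2 C1(z))
    (hx : x ∈ A) (hy : y ∈ A) (hE : layer C1(y) = ⊥) : th 2 x ⊓ C1(y) ≤ th 2 y := by
  have hAc := ea_comm hA
  have z2 : z * z = 1 := by rw [← pow_two]; exact hA.2 z hz
  have pz : ∀ a ∈ A, IsPGroup 2 (zpowers a) := fun a ha =>
    (ea_pgroup hA).to_le (zpowers_le.2 ha)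
  have inv : ∀ a ∈ A, ∀ k ∈ th 2 a, z * k * z⁻¹ = k⁻¹ := fun a ha => by
    refine CfsgH1.inverts_of_fpf (nO _ (ea_norm_cent1 hA ha) hz) z2 ?_
    rw [eq_bot_iff, ← hc.Opi_eq_bot]
    exact th_bal hc.constrained (pz a ha) (cent_le_cent1 hz (hAc ha))
  set D := th 2 x ⊓ C1(y) with hD
  have hDo : IsPi {2}ᶜ D := (isPi_Opi _ _).mono inf_le_left
  have hD1 : D ≤ C(th 2 y) := by
    intro d hd u hu
    have h1 := inv y hy _ (CfsgH2.conj_mem_of_mem_normalizer (le_normalizer_Opi _ _ hd.2) hu)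
    rw [show z * (d * u * d⁻¹) * z⁻¹ = (z * d * z⁻¹) * (z * u * z⁻¹) * (z * d * z⁻¹)⁻¹ by group,
      inv x hx d hd.1, inv y hy u hu] at h1
    have h2 : Commute u (d ^ 2) := by
      rw [Commute, SemiconjBy]
      have h5 : d⁻¹ * u * d = d * u * d⁻¹ := by rw [← inv_inj, ← h1]; group
      calc u * d ^ 2 = d * (d⁻¹ * u * d) * d := by rw [pow_two]; group
        _ = d ^ 2 * u := by rw [h5, pow_two]; group
    have h3 : (orderOf d).Coprime 2 := by
      have := isPi_compl_singleton_iff_coprime.1 (hDo.mono (zpowers_le.2 hd))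
      rwa [Nat.card_zpowers] at this
    obtain ⟨m, hm⟩ := exists_pow_eq_self_of_coprime h3.symm
    have h4 := h2.pow_right m
    rw [hm] at h4
    exact h4
  set P := Opi {2} C1(y)
  have hP : P ≤ C1(y) := Opi_le _ _
  have hPn : C1(y) ≤ N(P) := le_normalizer_Opi _ _
  have hD2 : D ≤ C(P) := by
    refine thompson_A_times_B (pz x hx) (isPi_compl_singleton_iff_coprime.1 hDo) (isPGroup_Opi _)
      ?_ ((zpowers_le.2 (cent_le_cent1 hy (hAc hx))).trans hPn) (inf_le_right.trans hPn) ?_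
    · refine cent_symm ?_
      rw [cent_zpowers]; exact inf_le_left.trans (Opi_le _ _)
    · rw [cent_zpowers]
      refine le_centralizer_of_normalize (nI (inf_le_right.trans (le_normalizer_Opi _ _))
        ((inf_le_left.trans hP).trans le_normalizer)) (nI (inf_le_right.trans hPn)
        ((inf_le_left.trans (Opi_le _ _)).trans le_normalizer)) ?_
      exact ((isPi_Opi {2} _).mono inf_le_left).inf_eq_bot hDo
  have hF : CfsgLead.fstarOf C1(y) = fittingOf C1(y) := by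
    rw [CfsgLead.fstarOf, generalizedFittingSubgroup, hE, bot_sup_eq]; rfl
  have hD3 : D ≤ C(fittingOf C1(y)) := by
    rw [← Opi_sup_Opi_compl (fit_nilpotent C1(y)) {2}]
    refine le_cent_sup ?_ (cent_mono hD1 le_rfl (Opi_le_Opi_of_sn (fit_sn _)))
    rw [Opi_p_fit]; exact hD2
  refine le_Opi_of_le_fit ?_ hDo
  rw [← hF] at hD3 ⊢
  exact (le_inf inf_le_right hD3).trans (CfsgLead.inf_centralizer_fstarOf_le _)

theorem pz_of_inv (h : y * y = 1) : IsPGroup 2 (zpowers y) := by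
  refine isPGroup_of_orderOf fun a ha => ?_
  have : orderOf a ∣ 2 := by
    rw [orderOf_dvd_iff_pow_eq_one]
    obtain ⟨k, rfl⟩ := mem_zpowers_iff.1 ha
    rw [← zpow_natCast, ← zpow_mul, mul_comm, zpow_mul, zpow_natCast, pow_two, h, one_zpow]
  rcases (Nat.dvd_prime Nat.prime_two).1 this with e | e
  exacts [⟨0, by simpa using e⟩, ⟨1, by simpa using e⟩]

/-- fixed points of an involution on an elementary abelian group of order at least 8 -/
theorem four_le_cent {E : Subgroup G} (hE : IsElementaryAbelian 2 E) (h8 : 2 ^ 3 ≤ Nat.card E)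
    (hb : b ∈ N(E)) (h2 : b * b = 1) : 2 ^ 2 ≤ Nat.card (E ⊓ C1(b) : Subgroup G) := by
  have hc := ea_comm hE
  have h1 := CfsgH9.card_eq_commHom hc hb
  rw [cent_zpowers] at h1
  have h3 : (CfsgH9.commHom hc hb).range ≤ E ⊓ C1(b) := by
    rintro _ ⟨v, rfl⟩
    change b * v * b⁻¹ * (v : G)⁻¹ ∈ _
    have h5 : b * v * b⁻¹ * (v : G)⁻¹ ∈ E :=
      mul_mem (CfsgH2.conj_mem_of_mem_normalizer hb v.2) (inv_mem v.2)
    refine ⟨h5, mem_cent1.2 ?_⟩
    have h6 : (b * v * b⁻¹ * (v : G)⁻¹)⁻¹ = b * v * b⁻¹ * (v : G)⁻¹ := by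
      rw [inv_eq_iff_mul_eq_one, ← pow_two]; exact hE.2 _ h5
    rw [← mul_inv_eq_iff_eq_mul, ← h6]
    calc b * (b * v * b⁻¹ * (v : G)⁻¹)⁻¹ * b⁻¹ = b * v * b⁻¹ * ((b * b) * (v : G)⁻¹ * (b * b)⁻¹) := by
          group
      _ = _ := by rw [h2, h6]; group
  have h4 := card_le_of_le h3
  obtain ⟨k, hk⟩ := ((ea_pgroup hE).to_le (inf_le_left : E ⊓ C1(b) ≤ E)).exists_card_eq
  rw [hk] at h1 h4 ⊢
  by_contra hlt
  have hk1 : k ≤ 1 := by
    by_contra h5
    exact hlt (Nat.pow_le_pow_right two_pos (by omega))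
  have h6 : 2 ^ k ≤ 2 ^ 1 := Nat.pow_le_pow_right two_pos hk1
  nlinarith

theorem exists_ea_of_not_rank {k : ℕ} (h : ¬ PRankLE p k B) :
    ∃ V ≤ B, IsElementaryAbelian p V ∧ p ^ (k + 1) ≤ Nat.card V := by
  unfold PRankLE at h
  push Not at h
  obtain ⟨V, h1, h2, h3⟩ := h
  have hV : IsElementaryAbelian p (V.map B.subtype) := by
    refine ⟨inferInstance, ?_⟩
    rintro _ ⟨v, hv, rfl⟩
    exact congrArg Subtype.val (h2 v hv)
  refine ⟨V.map B.subtype, map_subtype_le _, hV, ?_⟩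
  rw [← card_map_of_injective B.subtype_injective] at h3
  obtain ⟨j, hj⟩ := (ea_pgroup hV).exists_card_eq
  rw [hj] at h3 ⊢
  exact Nat.pow_le_pow_right hp.out.pos ((Nat.pow_lt_pow_iff_right hp.out.one_lt).1 h3)

theorem ea_sup_zpowers {V : Subgroup G} (hV : IsElementaryAbelian p V) (hb : b ∈ C(V))
    (h2 : b ^ p = 1) : IsElementaryAbelian p (V ⊔ zpowers b) := by
  have hc : V ⊔ zpowers b ≤ C(V ⊔ zpowers b) :=
    le_cent_sup (sup_le (ea_comm hV) (zpowers_le.2 hb))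
      (sup_le (cent_symm (zpowers_le.2 hb)) (comm_of_cyclic inferInstance))
  have : V ⊔ zpowers b = omegaOne p (V ⊔ zpowers b) :=
    le_antisymm (sup_le (ea_le_om hV le_sup_left)
      (zpowers_le.2 (mem_om (mem_sup_right (mem_zpowers b)) h2))) (om_le _ _)
  rw [this]; exact ea_om_of_comm hc

theorem cores_odd (h2c : ∀ t : G, t * t = 1 → t ≠ 1 → IsPConstrained 2 C1(t)) {S E : Subgroup G}
    (hS : IsPGroup 2 S) (hE : IsElementaryAbelian 2 E) (h8 : 2 ^ 3 ≤ Nat.card E) (hn : S ≤ N(E)) :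
    Odd (Nat.card (WW 2 E)) ∧ ∀ B ≤ S, ¬ PRankLE 2 1 B → WW 2 E = WW 2 B := by
  have sq : ∀ {V : Subgroup G}, IsElementaryAbelian 2 V → ∀ v ∈ V, v * v = 1 :=
    fun hV v hv => by rw [← pow_two]; exact hV.2 v hv
  have sf : ∀ V : Subgroup G, IsElementaryAbelian 2 V → SF 2 V (th 2) := fun V hV =>
    sf_th hV fun a ha _ b hb b1 => th_bal (h2c b (sq hV b hb) b1) (pz_of_inv (sq hV a ha))
      (cent_le_cent1 hb (ea_comm hV ha))
  have hW := fam_WW (sf E hE) h8
  refine ⟨odd_of_fam hW, fun B hB hr => ?_⟩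
  have k1 : ∀ b ∈ S, b * b = 1 → b ≠ 1 → th 2 b ≤ WW 2 E ∧ WW 2 E ⊓ C1(b) ≤ th 2 b := by
    intro b hb b2 b1
    by_cases hbE : b ∈ E
    · exact ⟨th_le_WW hbE b1, hW.le b hbE b1⟩
    have h4 := four_le_cent hE h8 (hn hb) b2
    have hV : IsElementaryAbelian 2 (E ⊓ C1(b)) := CfsgH2.ea_mono hE inf_le_left
    have hbc : b ∈ C(E ⊓ C1(b)) := le_cent1_iff.1 inf_le_right
    have hE1 := ea_sup_zpowers hV hbc (by rw [pow_two, b2])
    have h81 : 2 ^ 3 ≤ Nat.card ↥((E ⊓ C1(b)) ⊔ zpowers b) := by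
      rw [card_sup_zpowers (p := 2) (cent_le_norm _ hbc) (fun h => hbE h.1)
        (by rw [pow_two, b2]; exact one_mem _)]
      omega
    have e : WW 2 E = WW 2 ((E ⊓ C1(b)) ⊔ zpowers b) :=
      (WW_eq (sf E hE) h8 inf_le_left h4).symm.trans (WW_eq (sf _ hE1) h81 le_sup_left h4)
    have hb1 : b ∈ (E ⊓ C1(b)) ⊔ zpowers b := mem_sup_right (mem_zpowers b)
    rw [e]
    exact ⟨th_le_WW hb1 b1, (fam_WW (sf _ hE1) h81).le b hb1 b1⟩
  refine le_antisymm ?_ (WW_le fun b hb b1 => ?_)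
  · obtain ⟨V, hVB, hV, h4⟩ := exists_ea_of_not_rank hr
    refine le_trans ?_ (WW_mono hVB)
    refine (sf V hV).fam_le' h4 (fun _ ha h1 => th_le_WW ha h1) ⟨hW.solv, hW.cop, ?_, ?_⟩
    · exact hVB.trans (hB.trans (hn.trans (norm_le_norm_WW E)))
    · exact fun v hv v1 => (k1 v (hB (hVB hv)) (sq hV v hv) v1).2
  · have hz : IsPGroup 2 (zpowers b) := hS.to_le (zpowers_le.2 (hB hb))
    obtain ⟨c, hc, hc2⟩ := exists_orderOf_eq_prime Nat.prime_two
      (dvd_card_of_isPGroup hz (by rwa [Ne, zpowers_eq_bot]))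
    have c2 : c * c = 1 := by rw [← pow_two, ← hc2, pow_orderOf_eq_one]
    have c1 : c ≠ 1 := fun e => by rw [e, orderOf_one] at hc2; omega
    have hbc : C1(b) ≤ C1(c) := by rw [← cent_zpowers b]; exact cent_le_cent1 hc
    refine le_trans (le_inf le_rfl ((Opi_le _ _).trans hbc)) ?_
    exact (th_bal (h2c c c2 c1) hz (hbc (self_mem_cent1 b))).trans
      (k1 c (zpowers_le.2 (hB hb) hc) c2 c1).1

/-- If the involutions of a normal four-subgroup have centralizers of characteristic two, then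
a Sylow 2-subgroup normalizes no odd order subgroup. -/
theorem odd_eq_bot {S V X : Subgroup G} (hS : IsSylowIn 2 S ⊤) (hV : IsElementaryAbelian 2 V)
    (h4 : Nat.card V = 2 ^ 2) (hVS : V ≤ S) (hn : S ≤ N(V))
    (hc : ∀ v ∈ V, v ≠ 1 → ChP 2 C1(v)) (hX : Odd (Nat.card X)) (hSX : S ≤ N(X)) : X = ⊥ := by
  have hX2 : ¬ 2 ∣ Nat.card X := by rwa [← even_iff_two_dvd, Nat.not_even_iff_odd]
  have hXo : IsPi {2}ᶜ X := isPi_compl_singleton_iff.2 hX2
  rw [eq_bot_iff]
  refine le_of_hyp hV (ne_bot_of_pow_le (k := 1) h4.ge) (hVS.trans hSX) hX2 fun B hB => ?_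
  obtain ⟨v, hv, v1⟩ := exists_ne_one_of_ne_bot
    (ne_bot_of_pow_le (k := 0) (hB.pow_le (k := 1) h4.ge))
  have hvV := hB.lt.le hv
  refine le_trans (inf_le_inf_left _ (cent_le_cent1 hv)) ?_
  set Y := X ⊓ C1(v)
  set P := pCoreOf 2 C1(v)
  set T := S ⊓ C(V)
  have hYo : IsPi {2}ᶜ Y := hXo.mono inf_le_left
  have hP : IsPGroup 2 P := Op_pg (p := 2) C1(v)
  have hPn : C1(v) ≤ N(P) := le_norm_Op_self _
  have hTv : T ≤ C1(v) := inf_le_right.trans (cent_le_cent1 hvV)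
  have hT : C(V).relIndex S ≤ 2 := relIndex_centralizer_le_pow hS.pgroup 2 V hVS hn h4
  have h1 : P ⊓ T ≤ C(Y) := by
    refine cent_of_comm_eq_bot (eq_bot_iff.2 ?_)
    rw [← (isPi_singleton_iff.2 hP).inf_eq_bot hYo]
    refine le_inf ((commutator_mono inf_le_left le_rfl).trans
      (comm_le_left (inf_le_right.trans hPn))) (comm_le_right (inf_le_right.trans ?_))
    exact nI (inf_le_left.trans hSX) (hTv.trans le_normalizer)
  have hPT : (P ⊓ C(Y)).relIndex P ≤ 2 := by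
    have a1 := card_mul_le (H := P ⊔ T) (U := P) (V := T) le_sup_left le_sup_right
    have a2 := hS.card_le (pg_sup hP (hS.pgroup.to_le inf_le_left) (hTv.trans hPn)) le_top
    have a3 := CfsgH2.card_mul_relIndex (inf_le_left : T ≤ S)
    rw [inf_relIndex_left] at a3
    have a4 := card_le_of_le (le_inf inf_le_left h1 : P ⊓ T ≤ P ⊓ C(Y))
    have a5 := CfsgH2.card_mul_relIndex (inf_le_left : P ⊓ C(Y) ≤ P)
    have a6 : 0 < Nat.card T := Nat.card_pos
    have a7 : 0 < Nat.card (P ⊓ C(Y) : Subgroup G) := Nat.card_pos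
    have a8 : Nat.card P * Nat.card T ≤ (2 * Nat.card (P ⊓ C(Y) : Subgroup G)) * Nat.card T := by
      calc _ ≤ _ := a1
        _ ≤ (Nat.card T * 2) * Nat.card (P ⊓ C(Y) : Subgroup G) :=
          Nat.mul_le_mul (a2.trans (a3 ▸ Nat.mul_le_mul_left _ hT)) a4
        _ = _ := by ring
    have a9 := Nat.le_of_mul_le_mul_right a8 a6
    rw [← a5, mul_comm] at a9
    exact Nat.le_of_mul_le_mul_right a9 a7
  have h2 : Y ≤ C(P) := by
    refine cent_symm ?_
    have hYP : Y ≤ N(P) := inf_le_right.trans hPn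
    have h0 := CfsgH2.relIndex_ne_zero (P ⊓ C(Y)) P
    by_cases e1 : (P ⊓ C(Y)).relIndex P = 1
    · exact (relIndex_eq_one.1 e1).trans inf_le_right
    have e2 : ((P ⊓ C(Y)).subgroupOf P).index = 2 := by
      change (P ⊓ C(Y)).relIndex P = 2; omega
    refine CfsgH1.le_centralizer_of_commutator_le (N := P ⊓ C(Y))
      ((coprime_pgroup_p' (hP.to_le inf_le_left) hYo).symm) ?_ inf_le_right
    rw [commutator_le]
    intro a ha y hy
    have b1 : y * a⁻¹ * y⁻¹ ∈ P := CfsgH2.conj_mem_of_mem_normalizer (hYP hy) (inv_mem ha)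
    have b2 := (mul_mem_iff_of_index_two e2 (a := ⟨a, ha⟩) (b := ⟨_, b1⟩)).2 (by
      simp only [mem_subgroupOf]
      have hn2 : y ∈ N(P ⊓ C(Y)) := nI hYP (nC le_normalizer) hy
      rw [← mem_normalizer_iff.1 hn2, inv_mem_iff])
    rw [mem_subgroupOf] at b2
    simpa [commutatorElement_def, mul_assoc] using b2
  have h3 := (hc v hvV v1).le_Op_of_cent inf_le_right h2
  exact (((isPi_singleton_iff.2 hP).mono h3).eq_bot hYo).le

end CfsgH2
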