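import Cfsg.Agent.H2.SecFour
import Cfsg.Agent.H1.Fitting
import Cfsg.Agent.H8.Small1
import Cfsg.Agent.S0713
import Cfsg.Agent.S0678
import Cfsg.Agent.S0494
import Cfsg.Agent.S0495
import Cfsg.Agent.S2119
import Cfsg.Agent.S0249

/-! Subgroups of `GL₄(2) ≅ A₈` without nontrivial solvable normal subgroups. -/

set_option autoImplicit false

namespace CfsgH2
open Subgroup Cfsg CfsgFT MulAction
open CfsgH3 (isSolvable_of_card_dvd_pow_mul_pow)
open scoped commutatorElement Pointwise

/-- no nontrivial solvable normal subgroup -/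
def NS (H : Type*) [Group H] : Prop := ∀ N : Subgroup H, N.Normal → Group.IsSolvable N → N = ⊥

variable {H K : Type*} [Group H] [Group K] [Finite H]

theorem solv_of_dvd (h : Nat.card H ∣ 360) (h2 : Nat.card H < 60) : Group.IsSolvable H := by
  rcases (by decide : ∀ d < 60, d ∣ 360 → d ∣ 2 ^ 3 * 3 ^ 2 ∨ d ∣ 2 ^ 3 * 5 ^ 1 ∨ d ∣ 3 ^ 2 * 5 ^ 1 ∨ d = 30) _ h2 h
    with e | e | e | e
  · exact isSolvable_of_card_dvd_pow_mul_pow Nat.prime_two Nat.prime_three e
  · exact isSolvable_of_card_dvd_pow_mul_pow Nat.prime_two Nat.prime_five e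
  · exact isSolvable_of_card_dvd_pow_mul_pow Nat.prime_three Nat.prime_five e
  · haveI := IsZGroup.of_squarefree (G := H) (by rw [e]; decide +kernel); infer_instance

theorem nas_alt {α : Type*} [Fintype α] [DecidableEq α] (h : 5 ≤ Fintype.card α) : CfsgH8.NAS (alternatingGroup α) := by
  haveI := alternatingGroup.isSimpleGroup (α := α) (by rwa [Nat.card_eq_fintype_card])
  haveI : Nontrivial α := Fintype.one_lt_card_iff_nontrivial.1 (by omega)
  refine CfsgH8.NAS.of_card fun hp => ?_
  have h1 := two_mul_nat_card_alternatingGroup (α := α)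
  have h2 := Nat.factorial_dvd_factorial h
  rw [← Nat.card_eq_fintype_card, ← Nat.card_perm, ← h1, show Nat.factorial 5 = 2 * 60 from rfl] at h2
  rcases (Nat.dvd_prime hp).1 (Nat.dvd_of_mul_dvd_mul_left two_pos h2) with e | e
  · omega
  · rw [← e] at hp; exact absurd hp (by decide)

noncomputable def glPsl (n : ℕ) [NeZero n] :
    GL (Fin n) (ZMod 2) ≃* Matrix.ProjectiveSpecialLinearGroup (Fin n) (ZMod 2) :=
  have h1 : ∀ a : ZMod 2, IsUnit a → a = 1 := by decide
  MulEquiv.ofBijective ((QuotientGroup.mk' _).comp (MonoidHom.mk' (fun x => ⟨x.1, h1 _ (x.isUnit.map Matrix.detMonoidHom)⟩)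
    fun _ _ => rfl)) ⟨(injective_iff_map_eq_one _).2 fun x hx => by
      obtain ⟨r, a, b⟩ := Matrix.SpecialLinearGroup.mem_center_iff.1 ((QuotientGroup.eq_one_iff _).1 hx)
      rw [h1 r (IsUnit.of_pow_eq_one a (by simpa using NeZero.ne n)), map_one] at b
      exact Units.ext b.symm, fun y => by
      induction y using QuotientGroup.induction_on with | _ y => exact ⟨Matrix.SpecialLinearGroup.toGL y, rfl⟩⟩

theorem card_gl3 : Nat.card (GL (Fin 3) (ZMod 2)) = 168 := by rw [Matrix.card_GL_field]; decide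

theorem nas_gl3 : CfsgH8.NAS (GL (Fin 3) (ZMod 2)) := by
  haveI := Cfsg.Agent.S0249.result (F := ZMod 2) 3 le_rfl
  haveI := (glPsl 3).isSimpleGroup
  exact CfsgH8.NAS.of_card (by rw [card_gl3]; norm_num)

theorem equiv_gl3 [IsSimpleGroup H] (h : Nat.card H = 168) : Nonempty (H ≃* GL (Fin 3) (ZMod 2)) := by
  haveI : Fact (Nat.Prime 7) := ⟨by decide⟩
  haveI := nas_gl3.simple
  exact ⟨(Cfsg.Agent.S0495.result h (ZMod.card 7)).some.trans (Cfsg.Agent.S0495.result card_gl3 (ZMod.card 7)).some.symm⟩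

namespace NS
variable (h : NS H)
include h

omit [Finite H] in
theorem of_equiv (e : H ≃* K) : NS K := fun N _ _ => by
  haveI : Group.IsSolvable (N.comap e.toMonoidHom) := Group.isSolvable_of_isSolvable_injective
    (f := (e.toMonoidHom.subgroupComap N)) fun a b hab => Subtype.ext (e.injective (congrArg Subtype.val hab))
  rw [← map_comap_eq_self_of_surjective (f := e.toMonoidHom) e.surjective N, h _ inferInstance this, Subgroup.map_bot]

omit [Finite H] in
theorem inj (f : H →* K) (hs : Group.IsSolvable f.ker) : Function.Injective f :=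
  (MonoidHom.ker_eq_bot_iff f).1 (h _ inferInstance hs)

omit [Finite H] in
theorem not_solv [Nontrivial H] : ¬ Group.IsSolvable H := fun _ => top_ne_bot (h ⊤ inferInstance inferInstance)

theorem normal (N : Subgroup H) [N.Normal] : NS N := fun M _ hs => by
  by_contra h0
  haveI := CfsgH1.isNilpotent_map_fitting N
  have := (Subgroup.map_eq_bot_iff_of_injective _ (subtype_injective N)).1
    (h ((fittingSubgroup N).map N.subtype) inferInstance inferInstance)
  exact CfsgH1.fitting_ne_bot_of_solvable_normal M hs h0 (by rw [this, bot_inf_eq])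

theorem a5 (hc : Nat.card H = 60) : Nonempty (H ≃* alternatingGroup (Fin 5)) := by
  haveI : Nontrivial H := Finite.one_lt_card_iff_nontrivial.1 (by omega)
  haveI : IsSimpleGroup H := ⟨fun N hN => by
    have h1 := hc ▸ N.card_subgroup_dvd_card
    rcases (Nat.le_of_dvd (by norm_num) h1).lt_or_eq with e | e
    · exact .inl (h N hN (solv_of_dvd (h1.trans (by norm_num)) e))
    · exact .inr (eq_top_of_card_eq N (e.trans hc.symm))⟩
  exact Cfsg.Agent.S0494.result hc

theorem s5 {L : Subgroup H} (hi : L.index = 2) (hc : Nat.card L = 60) : Nonempty (H ≃* Equiv.Perm (Fin 5)) := by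
  haveI := normal_of_index_eq_two hi
  obtain ⟨e⟩ := (h.normal L).a5 hc
  let φ : H →* MulAut L := MulAut.conjNormal
  have h1 : φ.ker ⊓ L = ⊥ := h _ inferInstance (by
    haveI : IsMulCommutative (φ.ker ⊓ L : Subgroup H) := ⟨⟨fun a b => Subtype.ext
      (mul_inv_eq_iff_eq_mul.1 (congrArg Subtype.val (DFunLike.congr_fun a.2.1 (⟨b, b.2.2⟩ : L))))⟩⟩
    exact CfsgH1.isSolvable_of_isMulCommutative)
  have h2 : Nat.card φ.ker ∣ 2 ^ 1 * 3 ^ 0 := by
    rw [← relIndex_bot_left, ← h1, inf_relIndex_left]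
    exact (relIndex_dvd_index_of_normal L _).trans hi.dvd
  have h3 := h.inj φ (isSolvable_of_card_dvd_pow_mul_pow Nat.prime_two Nat.prime_three h2)
  let e2 := (MulAut.congr e).trans (MulEquiv.ofBijective _ (Cfsg.Agent.S2119.result 5 (by decide) (by decide))).symm
  refine ⟨MulEquiv.ofBijective (e2.toMonoidHom.comp φ) ((e2.injective.comp h3).bijective_of_nat_card_le ?_)⟩
  rw [← L.card_mul_index, hi, hc, Nat.card_perm, Nat.card_fin]; decide

theorem perm {α : Type*} [Fintype α] [DecidableEq α] {n : ℕ} (hn : Fintype.card α = n) (n5 : 5 ≤ n) (n8 : n ≤ 8)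
    (ψ : H →* Equiv.Perm α) (hψ : Function.Injective ψ) (ht : IsPretransitive ψ.range α) (h5 : 5 ∣ Nat.card H)
    (f : H →* alternatingGroup (Fin 8)) (hf : Function.Injective f) :
    (∃ n : ℕ, 5 ≤ n ∧ n ≤ 8 ∧ Nonempty (H ≃* alternatingGroup (Fin n))) ∨
      Nonempty (H ≃* Equiv.Perm (Fin 5)) ∨ Nonempty (H ≃* Equiv.Perm (Fin 6)) := by
  have e := MonoidHom.ofInjective hψ
  have hG := h.of_equiv e
  have hc := Nat.card_congr e.toEquiv
  generalize ψ.range = G at e hG hc ht
  haveI : Nontrivial α := Fintype.one_lt_card_iff_nontrivial.1 (by omega)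
  haveI : Fact (Nat.Prime 5) := ⟨Nat.prime_five⟩
  obtain ⟨g, hg⟩ := exists_prime_orderOf_dvd_card' 5 (hc ▸ h5)
  haveI : Nontrivial G := ⟨⟨g, 1, fun e => by rw [e, orderOf_one] at hg; omega⟩⟩
  by_cases hA : alternatingGroup α ≤ G
  · have e' := Fintype.equivFinOfCardEq hn
    rcases (Nat.dvd_prime Nat.prime_two).1 (alternatingGroup.index_eq_two (α := α) ▸ index_dvd_of_le hA) with i | i
    · have e2 := (e.trans (MulEquiv.subgroupCongr (index_eq_one.1 i))).trans (topEquiv.trans e'.permCongrHom)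
      have h1 := f.range.card_mul_index
      rw [← Nat.card_congr (MonoidHom.ofInjective hf).toEquiv, Nat.card_congr e2.toEquiv, Nat.card_perm, Nat.card_fin,
        nat_card_alternatingGroup, Nat.card_fin] at h1
      interval_cases n
      · exact .inr (.inl ⟨e2⟩)
      · exact .inr (.inr ⟨e2⟩)
      · have h2 : f.range.index = 4 := by simp [Nat.factorial] at h1; omega
        have := (nas_alt (by simp)).dvd_fact (H := f.range) fun e => by rw [e, index_top] at h2; omega
        rw [h2, nat_card_alternatingGroup, Nat.card_fin] at this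
        exact absurd this (by decide)
      · simp [Nat.factorial] at h1; omega
    · exact .inl ⟨n, n5, n8, ⟨(e.trans (MulEquiv.subgroupCongr (Equiv.Perm.eq_alternatingGroup_of_index_eq_two i))).trans
        e'.altCongrHom⟩⟩
  rcases n8.lt_or_eq with n8 | rfl
  swap
  · have h1 : orderOf (g : Equiv.Perm α) = 5 := (Subgroup.orderOf_coe g).trans hg
    have h2 := Equiv.Perm.isCycle_of_prime_order' (h1 ▸ Nat.prime_five) (by omega)
    have h3 := h2.orderOf.symm.trans h1
    haveI := Equiv.Perm.isPretransitive_of_isCycle_mem h2 g.2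
    have h4 : Nat.card (SubMulAction.ofFixingSubgroup G ((g : Equiv.Perm α).support : Set α)ᶜ) = 5 := by
      rw [← h3, ← Set.ncard_coe_finset]; exact congrArg Set.ncard (compl_compl ((g : Equiv.Perm α).support : Set α))
    haveI := IsPreprimitive.of_prime_card (G := fixingSubgroup G ((g : Equiv.Perm α).support : Set α)ᶜ) (h4 ▸ Nat.prime_five)
    exact absurd (Cfsg.Agent.S0713.result G (IsPreprimitive.of_card_lt
      (f := SubMulAction.ofFixingSubgroup_equivariantMap G ((g : Equiv.Perm α).support : Set α)ᶜ) (by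
        rw [← Set.image_univ, Set.ncard_image_of_injective _ SubMulAction.ofFixingSubgroup_equivariantMap_injective,
          Set.ncard_univ, h4, Nat.card_eq_fintype_card, hn]; decide)) Nat.prime_five (by omega) (by omega) h2 h3 g.2) hA
  rcases (Nat.le_of_lt_succ n8).lt_or_eq with n7 | rfl
  swap
  · have := (Cfsg.Agent.S0678.result hn G hG.not_solv hA).1
    omega
  have i1 := relIndex_dvd_index_of_normal (alternatingGroup α) G
  rw [alternatingGroup.index_eq_two] at i1
  have c1 := ((alternatingGroup α).subgroupOf G).card_mul_index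
  have c2 := (G.subgroupOf (alternatingGroup α)).card_mul_index
  have c3 : Nat.card (G.subgroupOf (alternatingGroup α)) = Nat.card ((alternatingGroup α).subgroupOf G) := by
    rw [← inf_subgroupOf_left, ← inf_subgroupOf_right (alternatingGroup α), CfsgH1.card_subgroupOf_of_le inf_le_left,
      CfsgH1.card_subgroupOf_of_le inf_le_right]
  have c4 := (nas_alt (hn ▸ n5)).dvd_fact (H := G.subgroupOf (alternatingGroup α)) fun e => hA (subgroupOf_eq_top.1 e)
  rw [c3] at c2
  rw [nat_card_alternatingGroup, Nat.card_eq_fintype_card (α := α), hn] at c2 c4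
  have c5 : 60 ≤ Nat.card ((alternatingGroup α).subgroupOf G) := not_lt.1 fun c => by
    have := hG _ inferInstance (solv_of_dvd ((Dvd.intro _ c2).trans (by interval_cases n <;> decide)) c)
    rw [this, card_bot, one_mul] at c1
    exact hG.not_solv (isSolvable_of_card_dvd_pow_mul_pow (a := 1) (b := 0) Nat.prime_two Nat.prime_three
      (by rw [← c1, ← this]; exact i1))
  have c6 : Nat.card ((alternatingGroup α).subgroupOf G) = 60 := by
    generalize (G.subgroupOf (alternatingGroup α)).index = k at c2 c4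
    have : k ≤ 6 := by interval_cases n <;> simp [Nat.factorial] at c2 <;> nlinarith
    interval_cases n <;> interval_cases k <;> simp [Nat.factorial] at c2 c4 <;> omega
  rcases (Nat.dvd_prime Nat.prime_two).1 i1 with i | i
  · exact .inl ⟨5, le_rfl, by decide, h.a5 (by rw [hc, ← c1, c6]; exact congrArg (60 * ·) i)⟩
  · exact .inr (.inl ⟨e.trans (hG.s5 i c6).some⟩)

theorem five (h5 : 5 ∣ Nat.card H) (f : H →* alternatingGroup (Fin 8)) (hf : Function.Injective f) :
    (∃ n : ℕ, 5 ≤ n ∧ n ≤ 8 ∧ Nonempty (H ≃* alternatingGroup (Fin n))) ∨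
      Nonempty (H ≃* Equiv.Perm (Fin 5)) ∨ Nonempty (H ≃* Equiv.Perm (Fin 6)) := by
  classical
  haveI : Fact (Nat.Prime 5) := ⟨Nat.prime_five⟩
  letI : MulAction H (Fin 8) := MulAction.compHom _ f
  have fa : ∀ g : H, (∀ a : Fin 8, g • a = a) → g = 1 := fun g hg =>
    hf (by rw [map_one]; exact Subtype.ext (Equiv.ext hg))
  obtain ⟨x, hx⟩ := exists_prime_orderOf_dvd_card' 5 h5
  obtain ⟨a, ha⟩ := not_forall.1 fun e => by rw [fa x e, orderOf_one] at hx; omega
  have h1 : 5 ≤ Fintype.card (orbit H a) := by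
    have h2 : orderOf (toPermHom H (orbit H a) x) = 5 := orderOf_eq_prime (by rw [← map_pow, ← hx, pow_orderOf_eq_one, map_one])
      fun e => ha (congrArg Subtype.val (DFunLike.congr_fun e (⟨a, mem_orbit_self a⟩ : orbit H a)))
    have := Nat.prime_five.dvd_factorial.1 ((h2.symm.dvd.trans (_root_.orderOf_dvd_natCard _)).trans Nat.card_perm.dvd)
    rwa [Nat.card_eq_fintype_card] at this
  have h2 := Fintype.card_subtype_compl (· ∈ orbit H a)
  let S : SubMulAction H (Fin 8) := ⟨(orbit H a)ᶜ, fun g b hb e => hb (by simpa using mem_orbit_of_mem_orbit g⁻¹ e)⟩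
  refine h.perm rfl h1 ((Fintype.card_subtype_le _).trans (by simp)) (toPermHom H (orbit H a)) (h.inj _
    (isSolvable_of_card_dvd_pow_mul_pow (a := 1) (b := 1) Nat.prime_two Nat.prime_three ?_))
    ⟨fun b c => (exists_smul_eq H b c).elim fun g hg => ⟨⟨_, g, rfl⟩, hg⟩⟩ h5 f hf
  refine (card_dvd_of_injective ((toPermHom H S).comp (Subgroup.subtype _)) ((injective_iff_map_eq_one _).2
    fun g hg => Subtype.ext (fa g fun b => ?_))).trans (Nat.card_perm.dvd.trans (Nat.factorial_dvd_factorial (n := 3) ?_))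
  · by_cases e : b ∈ orbit H a
    · exact congrArg Subtype.val (DFunLike.congr_fun g.2 ⟨b, e⟩)
    · exact congrArg Subtype.val (DFunLike.congr_fun hg (⟨b, e⟩ : S))
  · rw [show Nat.card S = Nat.card {b // b ∉ orbit H a} from rfl, Nat.card_eq_fintype_card, h2, Fintype.card_fin]
    exact Nat.sub_le_iff_le_add.2 (Nat.add_le_add_left (by convert h1) 3)

theorem seven [Nontrivial H] (h5 : ¬ 5 ∣ Nat.card H) (hd : Nat.card H ∣ 20160) {W : Type*} [CommGroup W] [Finite W]
    (hW : Nat.card W = 16) (he : ∀ w : W, w ^ 2 = 1) (φ : H →* MulAut W) (hφ : Function.Injective φ) :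
    Nonempty (H ≃* GL (Fin 3) (ZMod 2)) := by
  classical
  haveI : Fact (Nat.Prime 7) := ⟨by decide⟩
  have s7 : ∀ N : Subgroup H, ¬ 7 ∣ Nat.card N → Group.IsSolvable N := fun N hN =>
    isSolvable_of_card_dvd_pow_mul_pow (a := 6) (b := 2) Nat.prime_two Nat.prime_three
      (((Nat.Prime.coprime_iff_not_dvd Fact.out).2 hN).symm.dvd_of_dvd_mul_right
        (((Nat.prime_five.coprime_iff_not_dvd.2 fun e => h5 (e.trans N.card_subgroup_dvd_card)).symm.dvd_of_dvd_mul_right
          (m := 2 ^ 6 * 3 ^ 2 * 7) (N.card_subgroup_dvd_card.trans hd))))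
  have h7 : 7 ∣ Nat.card H := by
    by_contra e
    exact top_ne_bot (h ⊤ inferInstance (s7 ⊤ (by rwa [card_top])))
  letI : MulAction H W := MulAction.compHom _ φ
  by_cases hv : ∃ v : W, v ≠ 1 ∧ ∀ g : H, φ g v = v
  · obtain ⟨v, v1, hv⟩ := hv
    have m : ∀ g : H, (zpowers v).map (φ g : W →* W) = zpowers v := fun g => by
      rw [MonoidHom.map_zpowers]; exact congrArg zpowers (hv g)
    let ψ : H →* MulAut (W ⧸ zpowers v) :=
      { toFun := fun g => QuotientGroup.congr _ _ (φ g) (m g)
        map_one' := by ext x; induction x using QuotientGroup.induction_on; simp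
        map_mul' := fun a b => by ext x; induction x using QuotientGroup.induction_on; simp }
    have c1 : Nat.card (W ⧸ zpowers v) = 2 ^ 3 := by
      have := card_eq_card_quotient_mul_card_subgroup (zpowers v)
      rw [Nat.card_zpowers, orderOf_eq_prime (he v) v1] at this
      omega
    obtain ⟨ρ, hρ⟩ := exists_matrix_rep (p := 2) (fun w => by
      induction w using QuotientGroup.induction_on with | _ w => exact congrArg _ (he w)) c1 ψ
    have h1 := h.inj ρ.toHomUnits (by
      haveI := IsPGroup.isNilpotent (p := 2) (G := ρ.toHomUnits.ker) fun g => ⟨1, Subtype.ext (hφ (by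
        have h2 := (hρ g).1 (congrArg Units.val g.2)
        ext w
        obtain ⟨k, hk⟩ := mem_zpowers_iff.1 (QuotientGroup.eq.1 (DFunLike.congr_fun h2 (QuotientGroup.mk w)).symm)
        have h3 : φ g w = w * v ^ k := eq_mul_of_inv_mul_eq hk.symm
        simp only [pow_one, pow_two, coe_mul, map_mul, MulAut.mul_apply, h3, map_zpow, hv, coe_one, map_one,
          MulAut.one_apply]
        rw [mul_assoc, ← pow_two, he, mul_one]))⟩
      infer_instance)
    refine ⟨MulEquiv.ofBijective _ ⟨h1, MonoidHom.range_eq_top.1 (by_contra fun e => ?_)⟩⟩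
    have h2 := nas_gl3.dvd_fact e
    have h3 := ρ.toHomUnits.range.card_mul_index
    rw [← Nat.card_congr (MonoidHom.ofInjective h1).toEquiv, card_gl3] at h3
    rw [card_gl3] at h2
    have h4 := (Nat.Prime.dvd_factorial Fact.out).1 ((by decide : 7 ∣ 2 * 168).trans h2)
    refine h.not_solv ?_
    rcases (by decide : ∀ d ≤ 24, d ∣ 168 → 7 ∣ d → d ∣ 2 ^ 1 * 7 ^ 1 ∨ d ∣ 3 ^ 1 * 7 ^ 1) _ (by nlinarith)
      (Dvd.intro _ h3) h7 with e | e
    · exact isSolvable_of_card_dvd_pow_mul_pow Nat.prime_two Fact.out e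
    · exact isSolvable_of_card_dvd_pow_mul_pow Nat.prime_three Fact.out e
  push Not at hv
  have fa : ∀ v : W, v ≠ 1 → Function.Injective (toPermHom H (orbit H v)) := fun v v1 => h.inj _ (s7 _ fun e => by
    obtain ⟨x, hx⟩ := exists_prime_orderOf_dvd_card' 7 e
    let F : Subgroup W := (φ x).toMonoidHom.eqLocus (MonoidHom.id W)
    have h1 := (IsPGroup.of_card (G := zpowers x.1) (p := 7) (n := 1) (by
      rw [Nat.card_zpowers, Subgroup.orderOf_coe, hx]; rfl)).card_modEq_card_fixedPoints W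
    rw [show fixedPoints (zpowers x.1) W = F from Set.ext fun w => ⟨fun a => a ⟨x, mem_zpowers _⟩, fun a g =>
      (zpowers_le_of_mem (H := stabilizer H w) a) g.2⟩, hW] at h1
    have h2 : Nat.card F ≠ 16 := fun e => by
      have : x = 1 := Subtype.ext (hφ (by
        rw [coe_one, map_one]; exact MulEquiv.ext fun w => (eq_top_of_card_eq F (e.trans hW.symm)).ge (mem_top w)))
      rw [this, orderOf_one] at hx; omega
    have h3 : Nat.card F = 2 := (by decide : ∀ d ≤ 16, d ∣ 16 → 16 % 7 = d % 7 → d ≠ 16 → d = 2) _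
      (hW ▸ card_le_card_group F) (hW ▸ F.card_subgroup_dvd_card) h1 h2
    have h4 : ∀ w ∈ orbit H v, w ∈ F := fun w hw => congrArg Subtype.val (DFunLike.congr_fun x.2 (⟨w, hw⟩ : orbit H v))
    obtain ⟨g, hg⟩ := hv v v1
    obtain ⟨y, -, hy⟩ := (Nat.card_eq_two_iff' (1 : F)).1 h3
    exact hg (congrArg Subtype.val ((hy ⟨_, h4 _ (mem_orbit v g)⟩ fun e => v1 ((MulEquiv.map_eq_one_iff _).1
      (congrArg Subtype.val e))).trans (hy ⟨v, h4 v (mem_orbit_self v)⟩ fun e => v1 (congrArg Subtype.val e)).symm)))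
  have ge : ∀ v : W, v ≠ 1 → 7 ≤ (orbit H v).ncard := fun v v1 =>
    (Nat.Prime.dvd_factorial Fact.out).1 ((h7.trans (card_dvd_of_injective _ (fa v v1))).trans Nat.card_perm.dvd)
  have sub : ∀ v : W, v ≠ 1 → orbit H v ⊆ {1}ᶜ := by
    rintro v v1 _ ⟨g, rfl⟩ e
    exact v1 ((MulEquiv.map_eq_one_iff (φ g)).1 e)
  have c1 : ({1}ᶜ : Set W).ncard = 15 := by rw [Set.ncard_compl, Set.ncard_singleton, hW]
  obtain ⟨v, v1, hv⟩ : ∃ v : W, v ≠ 1 ∧ (orbit H v).ncard = 7 := by
    haveI : Nontrivial W := Finite.one_lt_card_iff_nontrivial.1 (by omega)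
    obtain ⟨v, v1⟩ := exists_ne (1 : W)
    obtain ⟨w, w1, hw⟩ := Set.exists_of_ssubset ((sub v v1).ssubset_of_ne fun e => h5 (by
      have := (stabilizer H v).index_dvd_card
      rw [index_stabilizer, e, c1] at this
      exact (by decide : 5 ∣ 15).trans this))
    have h1 := Set.ncard_le_ncard (Set.union_subset (sub v v1) (sub w w1))
    rw [Set.ncard_union_eq ((orbit.eq_or_disjoint v w).resolve_left fun e => hw (e ▸ mem_orbit_self w)), c1] at h1
    have := ge v v1
    have := ge w w1
    by_cases e : (orbit H v).ncard = 7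
    exacts [⟨v, v1, e⟩, ⟨w, w1, by omega⟩]
  haveI := Fintype.ofFinite (orbit H v)
  have e := MonoidHom.ofInjective (fa v v1)
  have c2 : Fintype.card (orbit H v) = 7 := by rw [← Nat.card_eq_fintype_card]; exact hv
  haveI : IsPretransitive (toPermHom H (orbit H v)).range (orbit H v) :=
    ⟨fun b c => (exists_smul_eq H b c).elim fun g hg => ⟨⟨_, g, rfl⟩, hg⟩⟩
  haveI := e.injective.nontrivial
  obtain ⟨a, b⟩ := Cfsg.Agent.S0678.result c2 _ (h.of_equiv e).not_solv fun hA => h5 (by
    haveI : Nontrivial (orbit H v) := Fintype.one_lt_card_iff_nontrivial.1 (by omega)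
    have := card_dvd_of_le hA
    rw [nat_card_alternatingGroup, Nat.card_eq_fintype_card (α := orbit H v), c2, ← Nat.card_congr e.toEquiv] at this
    exact (by decide : 5 ∣ Nat.factorial 7 / 2).trans this)
  exact ⟨e.trans (equiv_gl3 a).some⟩

theorem gl4 [Nontrivial H] (ρ : H →* GL (Fin 4) (ZMod 2)) (hρ : Function.Injective ρ) :
    (∃ n : ℕ, 5 ≤ n ∧ n ≤ 8 ∧ Nonempty (H ≃* alternatingGroup (Fin n))) ∨ Nonempty (H ≃* Equiv.Perm (Fin 5)) ∨
      Nonempty (H ≃* Equiv.Perm (Fin 6)) ∨ Nonempty (H ≃* GL (Fin 3) (ZMod 2)) := by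
  by_cases h5 : 5 ∣ Nat.card H
  · let e := (glPsl 4).trans (Cfsg.Agent.S0256.result (F := ZMod 2) (ZMod.card 2)).some
    exact (h.five h5 (e.toMonoidHom.comp ρ) (e.injective.comp hρ)).imp_right (Or.imp_right .inl)
  let φ : GL (Fin 4) (ZMod 2) →* MulAut (Multiplicative (Fin 4 → ZMod 2)) :=
    { toFun := fun g => (DistribMulAction.toAddEquiv _ g).toMultiplicative
      map_one' := by ext x; simp
      map_mul' := fun a b => by ext x; simp [mul_smul] }
  refine .inr (.inr (.inr (h.seven h5 ((card_dvd_of_injective ρ hρ).trans (by rw [Matrix.card_GL_field]; decide))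
    (by simp) (by decide) (φ.comp ρ) (Function.Injective.comp (g := φ) (fun a b e => Units.ext ?_) hρ))))
  exact Matrix.ext_iff_smul.2 fun v => DFunLike.congr_fun e (Multiplicative.ofAdd v)

end NS

theorem ns_of_cores (h1 : pPrimeCore 2 H = ⊥) (h2 : pCore 2 H = ⊥) : NS H := fun N _ hs => by
  by_contra h0
  obtain ⟨M, p, hp, a1, a2, -, -, a3, -⟩ := CfsgH1.exists_minNormal_elementary N hs h0
  haveI := Fact.mk hp
  by_cases e : p = 2
  · exact a2 (le_bot_iff.1 (h2 ▸ CfsgH1.le_pCore (e ▸ a3)))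
  · obtain ⟨k, hk⟩ := a3.exists_card_eq
    exact a2 (le_bot_iff.1 (h1 ▸ CfsgH1.le_pPrimeCore (by
      rw [hk]; exact Nat.Coprime.pow_left k ((Nat.coprime_primes hp Nat.prime_two).2 e))))

end CfsgH2
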