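import Cfsg.Agent.H2.CycSCN
import Cfsg.Agent.H2.Large2

/-! P. Hall's theorem on `p`-groups of symplectic type. -/

set_option autoImplicit false

namespace CfsgH2
open Subgroup Cfsg CfsgFT
open scoped commutatorElement

variable {G : Type*} [Group G] [Finite G] {p : ℕ} [hp : Fact p.Prime]

theorem PES.exists_es {Y : Subgroup G} {z : G} (h : PES p Y z) :
    ∃ E ≤ Y, ES p E z ∧ IsMulCommutative ↥(Y ⊓ centralizer (E : Set G)) := by
  obtain ⟨E, -, ⟨hE, hEY⟩, hm⟩ := exists_maximal_subgroup (Φ := fun E => ES p E z ∧ E ≤ Y)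
    ⟨ES.of_zpowers h.ord, h.zle⟩
  refine ⟨E, hEY, hE, ?_⟩
  by_contra hn
  obtain ⟨x, hx, y, hy, hxy⟩ := (h.mono (B := Y ⊓ centralizer (E : Set G))
    ⟨h.mem, hE.zle_cent (mem_zpowers z)⟩ inf_le_left).exists_pair hn
  have hle : E ⊔ zpowers x ⊔ zpowers y ≤ Y :=
    sup_le (sup_le hEY (zpowers_le_of_mem hx.1)) (zpowers_le_of_mem hy.1)
  have h1 : E ≤ E ⊔ zpowers x ⊔ zpowers y := le_sup_left.trans le_sup_left
  have h2 := h.mono (h1 hE.mem) hle
  have hx' : x ∈ E ⊔ zpowers x ⊔ zpowers y := mem_sup_left (mem_sup_right (mem_zpowers x))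
  have hy' : y ∈ E ⊔ zpowers x ⊔ zpowers y := mem_sup_right (mem_zpowers y)
  have h3 := h2.card_cc hx' hy' hxy
  have h4 := card_sup_zpowers_le (p := p) (centralizer_le_normalizer _ hx.2) (hE.zle (h.pow x hx.1))
  have h5 := card_sup_zpowers_le (p := p) (h2.le_normalizer (mem_sup_left hE.mem) le_sup_left hy')
    (mem_sup_left (hE.zle (h.pow y hy.1)))
  have h6 : E = cc (E ⊔ zpowers x ⊔ zpowers y) x y := eq_of_le_of_card_le
    (fun e he => mem_cc.2 ⟨h1 he, hx.2 e he, hy.2 e he⟩) (by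
      have : Nat.card (cc (E ⊔ zpowers x ⊔ zpowers y) x y) * p ^ 2 ≤ Nat.card E * p ^ 2 := by
        rw [← h3, sq, ← mul_assoc]; exact h5.trans (Nat.mul_le_mul_right _ h4)
      exact Nat.le_of_mul_le_mul_right this (pow_pos hp.out.pos _))
  have h7 := hm _ ⟨⟨h2, fun w hw a => hE.nondeg w (h6 ▸ mem_cc.2 ⟨hw, a x hx', a y hy'⟩)
    fun e he => a e (h1 he)⟩, hle⟩ h1
  rw [h7] at hx' hy'
  exact h.not_commute hxy (hy.2 x hx')

theorem cyclic_or_mc (hG : IsPGroup p G)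
    (h : ∀ A : Subgroup G, A.Normal → IsElementaryAbelian p A → Nat.card A ≠ p ^ 2) :
    IsCyclic G ∨ (p = 2 ∧ IsMC (⊤ : Subgroup G)) := by
  have hT : IsPGroup p (⊤ : Subgroup G) := hG.to_subgroup _
  obtain ⟨A, -, -, h1, h2, h3⟩ := exists_scn hT le_rfl le_normalizer (bot_le : ⊥ ≤ ⊤)
    (by rw [normalizer_eq_top]) (isMulCommutative_of_forall fun a ha b _ => by simp [mem_bot.1 ha])
  have h4 : IsCyclic A := isCyclic_of_comm_of_omegaOne (hG.to_subgroup _) h2 (by
    by_contra hn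
    obtain ⟨k, hk⟩ := (hG.to_subgroup (omegaOne p A)).exists_card_eq
    obtain ⟨K, a1, a2, a3⟩ := exists_normal_card' hT le_top (h1.trans (normalizer_le_normalizer_omegaOne A))
      (k := 2) (by
        rw [hk] at hn ⊢
        refine Nat.pow_le_pow_right hp.out.pos ?_
        by_contra hk2
        exact hn ((Nat.pow_le_pow_right hp.out.pos (by omega : k ≤ 1)).trans (pow_one p).le))
    exact h K (normalizer_eq_top_iff.1 (top_le_iff.1 a2)) (ea_mono (omegaOne_ea_of_comm h2) a1) a3)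
  obtain ⟨u, rfl⟩ := isCyclic_iff_zpowers.1 h4
  rw [top_inf_eq, centralizer_zpowers'] at h3
  by_cases hc : IsMulCommutative G
  · refine Or.inl (isCyclic_iff_exists_zpowers_eq_top.2 ⟨u, eq_top_iff.2 fun x _ => h3 ?_⟩)
    exact mem_centralizer_singleton_iff.2 (hc.1.1 x u)
  haveI := normalizer_eq_top_iff.1 (top_le_iff.1 h1)
  rcases cyc_scn hG hc u (le_antisymm h3 (zpowers_le_of_mem
    (mem_centralizer_singleton_iff'.2 (Commute.refl u)))) with ⟨a1, -, a2⟩ | ⟨-, a1, a2, a3⟩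
  · exact Or.inr ⟨a1, a2⟩
  · exact (h _ inferInstance a1 a2).elim

theorem hall_sympl (hG : IsPGroup p G)
    (hs : ∀ A : Subgroup G, A.Characteristic → IsMulCommutative A → IsCyclic A) {z : G}
    (hz : orderOf z = p) (hc : z ∈ center G) :
    ∃ E : Subgroup G, ES p E z ∧ E ⊔ centralizer (E : Set G) = ⊤ ∧
      (IsCyclic (centralizer (E : Set G)) ∨ (p = 2 ∧ ∃ r, 1 ≤ r ∧
        Nat.card (centralizer (E : Set G)) = 2 ^ (r + 3) ∧ IsMC (⊤ : Subgroup (centralizer (E : Set G))))) := by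
  have zp : z ^ p = 1 := hz ▸ pow_orderOf_eq_one z
  have h1 : zpowers z = omegaOne p (center G) := eq_of_le_of_card_le
    (zpowers_le_of_mem (mem_omegaOne hc zp)) (by
      rw [Nat.card_zpowers, hz]; exact card_omegaOne_le_of_isCyclic (hs _ inferInstance inferInstance))
  haveI hch : (zpowers z).Characteristic := h1 ▸ omegaOne_characteristic inferInstance
  have hzc : ∀ x, Commute z x := fun x => (mem_center_iff.1 hc x).symm
  have mY : ∀ x, (∀ g, g * x * g⁻¹ * x⁻¹ ∈ zpowers z) → x ^ p ∈ zpowers z → x ∈ critOf p (zpowers z) :=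
    fun x a b => ⟨by rw [centralizer_zpowers']; exact mem_centralizer_singleton_iff'.2 (hzc x).symm, a, b⟩
  have hY : PES p (critOf p (zpowers z)) z := ⟨⟨mY z (fun g => by
      rw [comm_eq_one_of_commute (hzc g).symm]; exact one_mem _) (zp ▸ one_mem _), hz, fun x _ => hzc x,
    fun x _ y hy => hy.2.1 x⟩, fun x hx => hx.2.2⟩
  obtain ⟨E, hEY, hE, hab⟩ := hY.exists_es
  have dec : ∀ g, ∃ e ∈ E, e⁻¹ * g ∈ centralizer (E : Set G) := fun g =>
    hE.inner (hzc g).symm fun e he => (hEY he).2.1 g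
  have mY' : ∀ x ∈ centralizer (E : Set G), (∀ g ∈ centralizer (E : Set G), g * x * g⁻¹ * x⁻¹ ∈ zpowers z) →
      x ^ p ∈ zpowers z → x ∈ critOf p (zpowers z) := fun x hx a b => mY x (fun g => by
    obtain ⟨e, he, h2⟩ := dec g
    have h3 := a _ h2
    have h4 : g * x * g⁻¹ * x⁻¹ = e * (e⁻¹ * g * x * (e⁻¹ * g)⁻¹ * x⁻¹) * e⁻¹ := by
      rw [show e * (e⁻¹ * g * x * (e⁻¹ * g)⁻¹ * x⁻¹) * e⁻¹ = g * x * g⁻¹ * (e * x⁻¹ * e⁻¹) by group,
        inv_mem hx e he, mul_inv_cancel_right]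
    rw [h4, ← (hE.zcomm h3 he).eq, mul_inv_cancel_right]
    exact h3) b
  have h2 : critOf p (zpowers z) ⊓ centralizer (E : Set G) =
      critOf p (zpowers z) ⊓ centralizer (critOf p (zpowers z) : Set G) := by
    refine le_antisymm (fun x hx => ⟨hx.1, mem_centralizer_iff'.2 fun y hy => ?_⟩)
      (inf_le_inf_left _ (centralizer_le (by exact_mod_cast hEY)))
    obtain ⟨e, he, h3⟩ := dec y
    have h4 : Commute x (e⁻¹ * y) := mul_comm_of_isMulCommutative hab hx
      (mem_inf.2 ⟨mul_mem (inv_mem (hEY he)) hy, h3⟩)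
    simpa using (Commute.symm (hx.2 e he)).mul_right h4
  have h3 : IsCyclic ↥(critOf p (zpowers z) ⊓ centralizer (E : Set G)) := hs _ (by
    haveI := critOf_characteristic (p := p) (zpowers z)
    rw [h2]; exact characteristic_inf inferInstance inferInstance) hab
  have hzR : z ∈ centralizer (E : Set G) := hE.zle_cent (mem_zpowers z)
  refine ⟨E, hE, eq_top_iff.2 fun g _ => ?_, ?_⟩
  · obtain ⟨e, he, h4⟩ := dec g
    simpa using mul_mem (mem_sup_left he : e ∈ E ⊔ centralizer (E : Set G)) (mem_sup_right h4)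
  set R := centralizer (E : Set G) with hR
  have hRp : IsPGroup p R := hG.to_subgroup R
  refine (cyclic_or_mc hRp fun A hA hea hcard => ?_).imp_right fun ⟨a1, a2⟩ => ⟨a1, ?_⟩
  · have b1 : A.map R.subtype ≤ R := map_subtype_le _
    have b2 : R ≤ normalizer (A.map R.subtype : Set G) := by
      rw [← normal_subgroupOf_iff_le_normalizer b1, subgroupOf_map_subtype_self]; exact hA
    have b3 : IsElementaryAbelian p (A.map R.subtype) := ea_map hea _
    have b4 : Nat.card (A.map R.subtype) = p ^ 2 := by rw [card_map_of_injective R.subtype_injective, hcard]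
    generalize A.map R.subtype = B at b1 b2 b3 b4
    have b5 : zpowers z ≤ B := by
      obtain ⟨w, w1, w2, w3, w4⟩ := exists_central_of_ne_bot hRp b1 b2 fun e => by
        rw [e, card_bot] at b4
        exact (Nat.one_lt_pow two_ne_zero hp.out.one_lt).ne b4
      have w5 : w ∈ zpowers z := h1 ▸ mem_omegaOne (mem_center_iff.2 fun g => by
        obtain ⟨e, he, h4⟩ := dec g
        have : Commute e w := b1 w1 e he
        simpa using (this.mul_left (w4 _ h4 : Commute _ w)).eq) w3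
      rw [← zpowers_eq_of_prime hz w5 w2]
      exact zpowers_le_of_mem w1
    have b6 := commutator_le_of_card_succ hRp b1 b2 (by rw [normalizer_eq_top]; exact le_top) b5
      (by rw [b4, hE.card_z, sq])
    have b7 : B ≤ critOf p (zpowers z) ⊓ R := fun x hx => ⟨mY' x (b1 hx) (fun g hg =>
      comm_mem_symm (b6 (commutator_mem_commutator hx hg))) (b3.2 x hx ▸ one_mem _), b1 hx⟩
    have b8 := card_le_prime_of_cyclic_of_exponent (isCyclic_of_le' h3 b7) b3.2
    rw [b4] at b8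
    have := hp.out.one_lt
    nlinarith
  · subst a1
    obtain ⟨a, b, k, m, r, h4⟩ := a2.exists
    refine ⟨r, Nat.one_le_iff_ne_zero.2 ?_, by rw [← card_top, h4.card_eq], a2⟩
    rintro rfl
    have b0 := h4.z_central
    have b1 : ((a ^ (2 : ℤ) ^ (0 + 1) : R) : G) ∈ zpowers z := h1 ▸ mem_omegaOne (mem_center_iff.2 fun g => by
        obtain ⟨e, he, h5⟩ := dec g
        have h6 : Commute e ((a ^ (2 : ℤ) ^ (0 + 1) : R) : G) := (a ^ (2 : ℤ) ^ (0 + 1)).2 e he
        have h7 : Commute (e⁻¹ * g) ((a ^ (2 : ℤ) ^ (0 + 1) : R) : G) := congrArg Subtype.val (b0 ⟨_, h5⟩ trivial)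
        simpa using (h6.mul_left h7).eq) (by rw [sq]; exact congrArg Subtype.val h4.z_mul_self)
    have b2 : ∀ x : R, x ∈ zpowers (a ^ (2 : ℤ) ^ (0 + 1)) → (x : G) ∈ zpowers z := fun x hx => by
      rcases h4.mem_z.1 hx with e | e <;> rw [e]
      exacts [one_mem _, b1]
    have b3 : ∀ x : R, (x : G) ∈ critOf 2 (zpowers z) ⊓ R := fun x => ⟨mY' x x.2 (fun g hg =>
      b2 ⁅(⟨g, hg⟩ : R), x⁆ (by simpa using h4.commutator_eq'.le (commutator_mem_commutator trivial trivial)))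
      (b2 (x ^ 2) (by
        obtain ⟨i, e | e⟩ := (h4.mem x).1 trivial <;> rw [e]
        · exact ⟨i, by simp only [← zpow_natCast, ← zpow_mul]; rw [mul_comm]; rfl⟩
        · rw [sq]; exact h4.sq_out i)), x.2⟩
    exact h4.not_comm (isMulCommutative_of_forall fun x _ y _ =>
      Subtype.ext (mul_comm_of_isMulCommutative hab (b3 x) (b3 y)))

theorem pes_of_sympl (hG : IsPGroup 2 G)
    (hs : ∀ A : Subgroup G, A.Characteristic → IsMulCommutative A → IsCyclic A) {z : G}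
    (hz : orderOf z = 2) (hc : z ∈ center G) (h4 : ∀ x : G, x ^ 4 = 1) : PES 2 ⊤ z := by
  obtain ⟨E, hE, h1, h2⟩ := hall_sympl hG hs hz hc
  have h3 : IsCyclic (centralizer (E : Set G)) := h2.resolve_right fun ⟨_, r, hr, hk, h5⟩ => by
    obtain ⟨a, b, k, m, r', h6⟩ := h5.exists
    have h7 := h6.card_eq
    rw [card_top, hk] at h7
    have h8 := orderOf_dvd_of_pow_eq_one (show a ^ 4 = 1 from Subtype.ext (h4 a))
    rw [h6.ord, show 4 = 2 ^ 2 from rfl, Nat.pow_dvd_pow_iff_le_right one_lt_two] at h8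
    have := Nat.pow_right_injective le_rfl h7
    omega
  have dec : ∀ g, ∃ e ∈ E, ∃ r ∈ centralizer (E : Set G), e * r = g := fun g =>
    (mem_sup_of_normalizer (centralizer_le_normalizer _)).1 (h1 ▸ mem_top g)
  have hcomm : ∀ r ∈ centralizer (E : Set G), ∀ g, Commute r g := fun r hr g => by
    obtain ⟨e, he, s, hs, rfl⟩ := dec g
    haveI := h3.isMulCommutative
    exact (Commute.symm (hr e he)).mul_right (mul_comm_of_isMulCommutative inferInstance hr hs)
  refine ⟨⟨trivial, hz, fun x _ => (mem_center_iff.1 hc x).symm, fun x _ y _ => ?_⟩, fun x _ => ?_⟩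
  · obtain ⟨e, he, r, hr, rfl⟩ := dec x
    obtain ⟨f, hf, s, hs, rfl⟩ := dec y
    have : e * r * (f * s) * (e * r)⁻¹ * (f * s)⁻¹ = e * f * e⁻¹ * f⁻¹ := by
      rw [show e * r * (f * s) * (e * r)⁻¹ * (f * s)⁻¹ = e * (r * (f * s) * r⁻¹) * e⁻¹ * (f * s)⁻¹ by group,
        (hcomm r hr _).eq, mul_inv_cancel_right, ← mul_assoc, mul_assoc _ s, (hcomm s hs _).eq]
      group
    rw [this]; exact hE.comm e he f hf
  · obtain ⟨e, he, r, hr, rfl⟩ := dec x
    rw [(hcomm r hr e).symm.mul_pow]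
    refine mul_mem (hE.pow e he) ((mem_zpowers_two hz).2 ((em _).imp_right fun h5 => ?_))
    exact uniqInv_of_isCyclic h3 _ (pow_mem hr 2) _ (hE.zle_cent (mem_zpowers z))
      (orderOf_eq_prime (by rw [← pow_mul]; exact h4 r) h5) hz

omit [Finite G] in
theorem s3_on_klein {X : Subgroup G} {z a q y : G} (zz : z * z = 1) (aa : a * a = 1) (hza : Commute z a)
    (hq : q ∈ X) (hy : y ∈ X) (q1 : q * z * q⁻¹ = z) (q2 : q * a * q⁻¹ = a * z) (y1 : y * a * y⁻¹ = a)
    (y2 : y * z * y⁻¹ = z * a) {u v : G} (hu : u ∈ closure ({z, a} : Set G)) (hv : v ∈ closure ({z, a} : Set G))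
    (u1 : u ≠ 1) (v1 : v ≠ 1) (huv : u ≠ v) : ∃ x ∈ X, x * z * x⁻¹ = u ∧ x * a * x⁻¹ = v := by
  have c : ∀ g h x : G, g * h * x * (g * h)⁻¹ = g * (h * x * h⁻¹) * g⁻¹ := fun g h x => by group
  have d : ∀ g x x' : G, g * (x * x') * g⁻¹ = g * x * g⁻¹ * (g * x' * g⁻¹) := fun g x x' => by group
  have e1 : z * (a * z) = a := by rw [← hza.eq, ← mul_assoc, zz, one_mul]
  have e2 : a * (z * a) = z := by rw [hza.eq, ← mul_assoc, aa, one_mul]
  rw [mem_closure_of_commute zz aa hza] at hu hv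
  rcases hu with rfl | rfl | rfl | rfl <;> rcases hv with rfl | rfl | rfl | rfl <;>
    first | exact (u1 rfl).elim | exact (v1 rfl).elim | exact (huv rfl).elim | skip
  · exact ⟨1, one_mem _, by simp, by simp⟩
  · exact ⟨q, hq, q1, by rw [q2, hza.eq]⟩
  · exact ⟨q * (y * q), mul_mem hq (mul_mem hy hq), by rw [c, c, q1, y2, d, q1, q2, e1],
      by rw [c, c, q2, d y, y1, y2, e2, q1]⟩
  · exact ⟨q * y, mul_mem hq hy, by rw [c, y2, d, q1, q2, e1], by rw [c, y1, q2, hza.eq]⟩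
  · exact ⟨y * q, mul_mem hy hq, by rw [c, q1, y2], by rw [c, q2, d, y1, y2, e2]⟩
  · exact ⟨y, hy, y2, y1⟩

/-- The symmetry `z^g ∈ Q → z ∈ Q^g` when `Z(Q)` is cyclic of order four. -/
theorem PES.sym_four {Q : Subgroup G} {z g i q : G} (h : PES 2 Q z) (hC : centralizer (Q : Set G) ≤ Q)
    (hN : centralizer {z} ≤ normalizer (Q : Set G)) (hu : UniqInv (centralizer (Q : Set G)))
    (hi : i ∈ centralizer (Q : Set G)) (i2 : i ^ 2 = z) (ha : g * z * g⁻¹ ∈ Q) (hq : q ∈ Q)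
    (eq : q * (g * z * g⁻¹) * q⁻¹ = g * z * g⁻¹ * z) : z ∈ cj g Q := by
  have hP : PES 2 (cj g Q) (g * z * g⁻¹) := h.map (MulAut.conj g).toMonoidHom (by simpa using h.z_ne_one)
  have hPC : centralizer (cj g Q : Set G) ≤ cj g Q := by rw [← cj_centralizer]; exact cj_mono g hC
  have hPN : centralizer {g * z * g⁻¹} ≤ normalizer (cj g Q : Set G) := by
    rw [← cj_centralizer_singleton, ← cj_normalizer]; exact cj_mono g hN
  by_contra hz
  have hiP : i ∈ normalizer (cj g Q : Set G) := hPN (mem_centralizer_singleton_iff.2 (hi _ ha).symm)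
  have hPA : ¬ cj g Q ≤ cj g Q ⊓ centralizer {z} := fun h1 => hz (hPC (mem_centralizer_iff'.2 fun x hx =>
    (mem_centralizer_singleton_iff'.1 (h1 hx).2).symm))
  obtain ⟨y, hyP, hyA, -, hyc⟩ := exists_central_mod (V := zpowers i ⊔ cj g Q)
    (pg_sup' (h.isPGroup.to_le (zpowers_le_of_mem (hC hi))) hP.isPGroup (zpowers_le_of_mem hiP)) le_sup_right
    (sup_le (zpowers_le_of_mem hiP) le_normalizer) hPA
  have h1 := hyc i (mem_sup_left (mem_zpowers i))
  obtain ⟨α, eα⟩ : ∃ α, α = i * y * i⁻¹ * y⁻¹ := ⟨_, rfl⟩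
  rw [← eα] at h1
  have h2 : Commute i α := by
    have a1 : i * α * i⁻¹ * α⁻¹ ∈ cj g Q := mul_mem (CfsgH2.conj_mem_of_mem_normalizer hiP h1.1) (inv_mem h1.1)
    have a2 : i * α * i⁻¹ * α⁻¹ ∈ centralizer (Q : Set G) := by
      have := mul_mem hi (CfsgH2.conj_mem_of_mem_normalizer
        (normalizer_le_normalizer_centralizer Q (hN h1.2)) (inv_mem hi))
      simpa only [mul_assoc] using this
    refine commute_of_comm_eq_one (by_contra fun a3 => hz ?_)
    rcases h.sq_cases (hC a2) with e | e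
    · exact hu _ a2 _ (h.zle_cent (mem_zpowers z)) (orderOf_eq_prime e a3) h.ord ▸ a1
    · exact e ▸ pow_mem a1 2
  have h3 : z * y * z⁻¹ * y⁻¹ = α ^ 2 := by
    rw [← i2, show i ^ 2 * y * (i ^ 2)⁻¹ * y⁻¹ = i * (i * y * i⁻¹ * y⁻¹) * i⁻¹ * (i * y * i⁻¹ * y⁻¹) by
      simp only [sq]; group, ← eα, h2.eq, mul_inv_cancel_right, sq]
  rcases hP.sq_cases h1.1 with e | e <;> rw [e] at h3
  · exact hyA ⟨hyP, mem_centralizer_singleton_iff'.2 (commute_of_comm_eq_one h3).symm⟩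
  have y2 : y * z * y⁻¹ = z * (g * z * g⁻¹) := by
    rw [← h3, h.z_inv, ← mul_assoc, ← mul_assoc, ← mul_assoc, h.zz, one_mul]
  obtain ⟨k, -, k1, k2⟩ := s3_on_klein (X := ⊤) h.zz hP.zz (h.cent _ ha) trivial trivial
    (mul_inv_eq_iff_eq_mul.2 (h.cent q hq).symm.eq) eq (mul_inv_eq_iff_eq_mul.2 (hP.cent y hyP).symm.eq) y2
    (u := g * z * g⁻¹) (v := z) (subset_closure (by simp)) (subset_closure (by simp)) hP.z_ne_one h.z_ne_one
    fun e => hz (e ▸ hP.mem)
  have h4 : cj (g⁻¹ * k) Q = Q := cj_eq_iff_mem_normalizer.2 (hN (mem_centralizer_singleton_iff.2 (by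
    rw [mul_assoc, eq_mul_of_mul_inv_eq k1]; group)))
  apply hz
  rw [← h4, cj_cj, mul_inv_cancel_left, ← k2]
  exact conj_mem_cj _ ha

end CfsgH2
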