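import Cfsg.Agent.H2.TW1
import Cfsg.Agent.H2.SPE
import Cfsg.Agent.H9.Bend

/-! The Thompson–Wielandt theorem. -/

set_option autoImplicit false
set_option linter.unusedSectionVars false
set_option linter.style.haveILetI false

namespace CfsgH2

open Subgroup Cfsg CfsgFT MulAction
open CfsgLead (SN fstarOf layerOf)
open CfsgH9 (Ld lay_cent)
open scoped commutatorElement Pointwise

universe u

variable {G : Type u} [Group G] [Finite G] {M M' B X A A' L S Y R : Subgroup G} {g : G} {p : ℕ}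

theorem Op_Opi [Fact p.Prime] (H : Subgroup G) : Opi {p} H = pCoreOf p H := Opi_singleton_eq H

theorem fit_le_of (h : ∀ (q : ℕ) [Fact q.Prime], pCoreOf q L ≤ X) : fittingOf L ≤ X :=
  le_of_nilpotent_of_forall_Opi (fit_nilpotent L) fun q _ _ => by rw [Opi_p_fit, Op_Opi]; exact h q

theorem Op_le_fit [Fact p.Prime] (L : Subgroup G) : pCoreOf p L ≤ fittingOf L := Op_Opi (p := p) L ▸ Opi_p_le_fit L

theorem pg_inf_eq_bot {q : ℕ} [Fact p.Prime] [Fact q.Prime] (h : IsPGroup p A) (h' : IsPGroup q B)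
    (ne : q ≠ p) : A ⊓ B = ⊥ := (isPi_singleton_iff.2 h).inf_eq_bot (isPi_compl_of_isPGroup h' ne)

theorem nNN (h : A ≤ N(B)) : A ≤ N(N(B)) := h.trans le_normalizer

theorem core_bot [Fact p.Prime] (hO : pCoreOf p L = ⊥) (hS : IsPGroup p S) (SL : S ≤ L) (hY : SN Y L)
    (nY : S ≤ N(Y)) (hn : L ⊓ N(Y) ≤ N(S))
    (hq : ∀ (q : ℕ) [Fact q.Prime], q ≠ p → resIn q Y = Y ∨ IsPGroup q Y) : S = ⊥ := by
  refine eq_bot_of_cent_fstar hO hS SL ?_
  rw [fstar_eq]
  refine le_cent_sup (cent_symm (lay_cent (solvable_of_pgroup hS) SL ((le_inf (CfsgLead.layerOf_le L)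
    (CfsgLead.layerOf_le_normalizer hY)).trans hn))) (cent_symm (fit_le_of fun q _ => ?_))
  by_cases e : q = p
  · subst e; exact hO.le.trans bot_le
  have nR := SL.trans (le_norm_Op_self (p := q) L)
  have c : pCoreOf q L ⊓ N(Y) ≤ C(S) := le_centralizer_of_normalize
    ((inf_le_inf_right _ (Op_le L)).trans hn) (nI nR (nNN nY))
    (pg_inf_eq_bot ((Op_pg L).to_le inf_le_left) hS (Ne.symm e))
  refine cent_symm (centralizes_of_nilpotent (Op_pg L).isNilpotent nR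
    (coprime_pgroup_p' hS (isPi_compl_of_isPGroup (Op_pg L) e)) (le_trans (le_inf inf_le_left ?_) c))
  rcases hq q e with k | k
  · exact inf_le_left.trans (k ▸ Op_le_norm_res hY)
  · exact inf_le_right.trans ((cent_anti ((le_inf (le_Op_of_sn hY k) le_normalizer).trans
      (le_inf inf_le_left c))).trans (cent_le_norm _))

/-- a primitive subgroup -/
def PrS (M : Subgroup G) : Prop := ∀ X, X ≠ ⊥ → X ≤ M → M ≤ N(X) → N(X) = M

theorem CFM.prs (h : CFM M) : PrS M := fun _ => h.norm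

theorem PrS.Op_inf_le [Fact p.Prime] (h : PrS M) (hA : A ≤ M) (hn : M ≤ N(A)) (hs : SN A M')
    (hp : ¬ IsPGroup p A) : pCoreOf p (M ⊓ M' : Subgroup G) ≤ pCoreOf p M' := by
  obtain ⟨Y, -, ⟨y1, y2, y3, y4⟩, y5⟩ := exists_minimal_subgroup
    (Φ := fun Y => Y ≤ A ∧ M ≤ N(Y) ∧ resIn p Y = Y ∧ Y ≠ ⊥) ⟨resIn_le A, le_norm_resIn hn,
      resIn_resIn A, fun e => hp (resIn_eq_bot_iff.1 e)⟩
  have s : SN Y M' := (SN.of_normal y1 (hA.trans y2)).trans hs
  have nQ : M' ≤ N(pCoreOf p M') := le_norm_Op_self M'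
  have l : pCoreOf p (M ⊓ M' : Subgroup G) ≤ M ⊓ M' := Op_le _
  refine (quo_eq_bot_iff (l.trans (inf_le_right.trans nQ))).1 (core_bot (Red.Op_quo (red_of_normal nQ
    fun R h1 h2 h3 => le_Op h1 h2 (pg_of_res_le (Op_pg _) h3)) nQ) (pgroup_quo (Op_pg _) _)
    (quo_mono (l.trans inf_le_right)) (CfsgH1.sn_quo s _) (quo_le_norm (l.trans
    (inf_le_left.trans y2))) ?_ fun q _ e => ?_)
  · rw [← quo_unq (quo _ M' ⊓ _)]
    have a := unq_le_of_le_quo nQ (Op_le M') (inf_le_left : quo _ M' ⊓ N(quo (pCoreOf p M') Y) ≤ _)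
    have b := le_norm_resIn (p := p) (le_norm_of_quo (a.trans nQ) (s.le.trans nQ)
      ((quo_unq _).le.trans inf_le_right))
    rw [res_sup_of_sn (s.mono le_sup_right (sup_le (Op_le _) s.le)) (Op_pg _) (s.le.trans nQ), y3,
      h Y y4 (y1.trans hA) y2] at b
    exact quo_le_norm ((le_inf b a).trans (le_norm_Op_self _))
  · by_cases k : resIn p (resIn q Y) = ⊥
    · exact Or.inr ((pg_quo_iff (s.le.trans nQ)).2 (le_Op_of_sn ((SN.of_normal (resIn_le Y)
        (le_normalizer_resIn Y)).trans s) (resIn_eq_bot_iff.1 k)))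
    · have l2 := (resIn_le (p := p) (resIn q Y)).trans (resIn_le Y)
      have := y5 _ ⟨l2.trans y1, le_norm_resIn (le_norm_resIn y2), resIn_resIn _, k⟩ l2
      left
      rw [← quo_res (s.le.trans nQ), le_antisymm (resIn_le Y) (this.ge.trans (resIn_le _))]

theorem Op_le_of_norm [Fact p.Prime] (hR : IsPGroup p R) (h1 : R ≤ M) (h2 : N(R) = M')
    (h3 : pCoreOf p (M ⊓ M' : Subgroup G) ≤ R) : pCoreOf p M ≤ R := by
  by_contra c
  have pT := pg_sup (Op_pg M) hR (h1.trans (le_norm_Op_self M))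
  refine (lt_inf_normalizer pT (right_lt_sup.2 c)).not_ge (le_trans (le_Op (inf_le_inf
    (sup_le (Op_le M) h1) h2.le) ?_ (pT.to_le inf_le_left)) h3)
  have n : M ⊓ M' ≤ N(R) := inf_le_right.trans h2.ge
  exact nI (nS (inf_le_left.trans (le_norm_Op_self M)) n) (nNN n)

/-- two distinct conjugate primitive subgroups -/
structure CjP (M M' : Subgroup G) : Prop where
  ps : PrS M
  ps' : PrS M'
  ne : M ≠ M'
  cj : ∃ g, cj g M = M'

namespace CjP

theorem symm (h : CjP M M') : CjP M' M :=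
  ⟨h.ps', h.ps, h.ne.symm, let ⟨g, e⟩ := h.cj; ⟨g⁻¹, by rw [← e, cj_inv_cj]⟩⟩

theorem bot (h : CjP M M') (h1 : X ≤ M) (h2 : X ≤ M') (h3 : M ≤ N(X)) (h4 : M' ≤ N(X)) : X = ⊥ :=
  by_contra fun c => h.ne ((h.ps X c h1 h3).symm.trans (h.ps' X c h2 h4))

theorem card_Op (h : CjP M M') : Nat.card (pCoreOf p M') = Nat.card (pCoreOf p M) := by
  obtain ⟨g, rfl⟩ := h.cj
  rw [Op_cj, card_cj]

theorem Op_bot (h : CjP M M') (e : pCoreOf p M = ⊥) : pCoreOf p M' = ⊥ := by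
  rw [← card_eq_one, h.card_Op, e, card_bot]

theorem Op_bot_of_le [Fact p.Prime] (h : CjP M M') (e : pCoreOf p M ≤ pCoreOf p M') : pCoreOf p M = ⊥ :=
  h.bot (Op_le M) (e.trans (Op_le M')) (le_norm_Op_self M)
    (eq_of_le_of_card_le e h.card_Op.le ▸ le_norm_Op_self M')

theorem pg_or [Fact p.Prime] (h : CjP M M') (hA : A ≤ M) (hn : M ≤ N(A)) (hs : SN A M') :
    IsPGroup p A ∨ pCoreOf p M = ⊥ := by
  refine or_iff_not_imp_left.2 fun c => by_contra fun e => e (h.Op_bot_of_le (Op_le_of_norm (Op_pg M')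
    ?_ (h.ps' _ (fun k => e (h.symm.Op_bot k)) (Op_le M') (le_norm_Op_self M'))
    (h.ps.Op_inf_le hA hn hs c)))
  exact (Op_le_norm_res hs).trans (h.ps _ (fun k => c (resIn_eq_bot_iff.1 k))
    ((resIn_le A).trans hA) (le_norm_resIn hn)).le

theorem lay_le (h : CjP M M') (hA : A ≤ M) (hn : M ≤ N(A)) (hs : SN A M') (h0 : A ≠ ⊥) :
    layerOf M' ≤ M := (CfsgLead.layerOf_le_normalizer hs).trans (h.ps A h0 hA hn).le

theorem lay_bot (h : CjP M M') (a : Ld M M') (b : Ld M' M) (c : layerOf M ≤ C(fittingOf M'))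
    (d : layerOf M' ≤ C(fittingOf M)) : layerOf M = ⊥ :=
  have e := le_antisymm (a.lay_le b c) (b.lay_le a d)
  h.bot (CfsgLead.layerOf_le M) a.lay (CfsgLead.le_normalizer_layerOf M)
    (e ▸ CfsgLead.le_normalizer_layerOf M')

theorem fit_le [Fact p.Prime] (h : CjP M M') (hA : A ≤ M) (hn : M ≤ N(A)) (hs : SN A M') (h0 : A ≠ ⊥)
    (hp : IsPGroup p A) : fittingOf M ≤ pCoreOf p M := fit_le_of fun q _ => by
  by_cases e : q = p
  · rw [e]
  · exact ((h.pg_or hA hn hs).resolve_left fun k => h0 (by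
      simpa using pg_inf_eq_bot hp k e)).le.trans bot_le

theorem ld [Fact p.Prime] (h : CjP M M') (hA : A ≤ M) (hn : M ≤ N(A)) (hs : SN A M') (h0 : A ≠ ⊥)
    (hp : IsPGroup p A) : Ld M' M :=
  ⟨⟨fittingOf M' ⊓ N(A), inf_le_left, inf_le_right.trans (h.ps A h0 hA hn).le, inf_le_inf_left _
    ((cent_anti (le_inf ((le_Op_of_sn hs hp).trans (Op_le_fit M')) le_normalizer)).trans
    (cent_le_norm _))⟩, h.lay_le hA hn hs h0⟩

theorem lay_cent' [Fact p.Prime] (h : CjP M M') (hA : A ≤ M) (hn : M ≤ N(A)) (hs : SN A M')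
    (h0 : A ≠ ⊥) (hp : IsPGroup p A) (l : layerOf M ≤ M') : layerOf M ≤ C(pCoreOf p M') := by
  have lM := CfsgLead.layerOf_le M
  have c := lay_cent (solvable_of_pgroup hp) hA (lM.trans hn)
  have n := l.trans (le_norm_Op_self (p := p) M')
  rw [← CfsgH1.resIn_of_perfect (p := p) (CfsgLead.layerOf_perfect M)]
  exact CfsgH9.axb_res hp (Op_pg M') c (hs.le.trans (le_norm_Op_self M')) n (lay_cent
    (solvable_of_pgroup ((Op_pg M').to_le inf_le_left)) (inf_le_right.trans ((cent_le_norm _).trans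
    (h.ps A h0 hA hn).le)) (nI n (nC (lM.trans hn))))

theorem main (h : CjP M M') (hA : A ≤ M) (hn : M ≤ N(A)) (hs : SN A M') (h0 : A ≠ ⊥)
    (hA' : A' ≤ M') (hn' : M' ≤ N(A')) (hs' : SN A' M) (h0' : A' ≠ ⊥) :
    ∃ p, p.Prime ∧ IsPGroup p A ∧ IsPGroup p A' ∧ fstarOf M = pCoreOf p M := by
  by_cases c : ∀ (q : ℕ) [Fact q.Prime], pCoreOf q M = ⊥
  · have e : fittingOf M = ⊥ := le_bot_iff.1 (fit_le_of fun q _ => (c q).le)
    have e' : fittingOf M' = ⊥ := le_bot_iff.1 (fit_le_of fun q _ => (h.Op_bot (c q)).le)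
    have := CfsgLead.inf_centralizer_fstarOf_le M
    rw [fstar_eq, e, h.lay_bot ⟨⟨⊥, bot_le, bot_le, inf_le_left.trans e.le⟩, h.symm.lay_le hA' hn' hs' h0'⟩
      ⟨⟨⊥, bot_le, bot_le, inf_le_left.trans e'.le⟩, h.lay_le hA hn hs h0⟩ (by rw [e', cent_bot]; exact le_top)
      (by rw [e, cent_bot]; exact le_top), bot_sup_eq, cent_bot, inf_top_eq] at this
    exact absurd (le_bot_iff.1 (hA.trans this)) h0
  push Not at c
  obtain ⟨p, hp, c⟩ := c
  have a := (h.pg_or hA hn hs).resolve_right c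
  have a' := (h.symm.pg_or hA' hn' hs').resolve_right fun k => c (h.symm.Op_bot k)
  have f := h.fit_le hA hn hs h0 a
  have f' := h.symm.fit_le hA' hn' hs' h0' a'
  have l := h.ld hA hn hs h0 a
  have l' := h.symm.ld hA' hn' hs' h0' a'
  refine ⟨p, hp.out, a, a', ?_⟩
  rw [fstar_eq, h.lay_bot l' l ((h.lay_cent' hA hn hs h0 a l'.lay).trans (cent_anti f'))
    ((h.symm.lay_cent' hA' hn' hs' h0' a' l.lay).trans (cent_anti f)), bot_sup_eq]
  exact le_antisymm f (Op_le_fit M)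

theorem Op_inf_bot [Fact p.Prime] (h : CjP M M') (h1 : X ≤ M ⊓ M') (h2 : M ≤ N(X))
    (h3 : pCoreOf p (M ⊓ M' : Subgroup G) ≤ X) : pCoreOf p (M ⊓ M' : Subgroup G) = ⊥ := by
  by_contra c
  have l := Op_le (p := p) (M ⊓ M')
  have e : pCoreOf p X = pCoreOf p (M ⊓ M' : Subgroup G) := le_antisymm (Op_le_Op_of_normal h1
    (inf_le_left.trans h2)) (le_Op h3 (h1.trans (le_norm_Op_self _)) (Op_pg _))
  have n : M ≤ N(pCoreOf p (M ⊓ M' : Subgroup G)) := e ▸ le_norm_Op h2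
  have a := le_Op (l.trans inf_le_left) n (Op_pg _)
  exact c (le_bot_iff.1 (a.trans (h.symm.Op_bot (h.symm.Op_bot_of_le ((Op_le_of_norm (Op_pg _)
    (l.trans inf_le_right) (h.ps _ c (l.trans inf_le_left) n) (inf_comm M M' ▸ le_rfl)).trans a))).le))

theorem Op_inf_bot' [Fact p.Prime] (h : CjP M M') {Z : Type*} [Group Z] [Finite Z] (f : M →* Z)
    (hk : ∀ x : M, f x = 1 → (x : G) ∈ M') (hF : fittingSubgroup ((M'.subgroupOf M).map f) = ⊥) :
    pCoreOf p (M ⊓ M' : Subgroup G) = ⊥ := by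
  refine h.Op_inf_bot (X := f.ker.map M.subtype) ?_ (le_norm_map_subtype _) ?_
  · rintro _ ⟨x, hx, rfl⟩
    exact ⟨x.2, hk x hx⟩
  · have l := Op_le (p := p) (M ⊓ M')
    rw [← map_subgroupOf_eq_of_le (l.trans inf_le_left)]
    refine map_mono ((Subgroup.map_eq_bot_iff _).1 (le_bot_iff.1 (le_trans (le_fit (H := (M'.subgroupOf M).map f)
      (map_mono (comap_mono (l.trans inf_le_right))) (map_le_norm _ fun x hx =>
      CfsgH2.mem_normalizer_of_conj_mem fun y hy => ?_) (((Op_pg _).comap_subtype.map _).isNilpotent)) ?_)))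
    · exact mem_subgroupOf.2 (CfsgH2.conj_mem_of_mem_normalizer (le_norm_Op_self (M ⊓ M') ⟨x.2, hx⟩)
        (mem_subgroupOf.1 hy))
    · rw [fittingOf, hF, Subgroup.map_bot]

end CjP

theorem relIndex_iInf_dvd {ι : Type*} [Fintype ι] (f : ι → Subgroup G) (h : ∀ i, L ≤ N(f i)) :
    (⨅ i, f i).relIndex L ∣ ∏ i, (f i).relIndex L := by
  classical
  have : ∀ s : Finset ι, (⨅ i ∈ s, f i).relIndex L ∣ ∏ i ∈ s, (f i).relIndex L := fun s => by
    induction s using Finset.induction_on with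
    | empty => simp
    | insert a s ha ih =>
      rw [Finset.iInf_insert, Finset.prod_insert ha, ← relIndex_inf_mul_relIndex]
      exact Nat.mul_dvd_mul (relIndex_dvd_of_normal (h a) inf_le_right) ih
  simpa using this Finset.univ

/-- the second kernel -/
def cor2 (M M' : Subgroup G) : Subgroup G := cor M (cor M (M ⊓ M') ⊓ cor M' (M ⊓ M'))

theorem cor2_le (M M' : Subgroup G) : cor2 M M' ≤ M ⊓ M' := (cor_le _ _).trans (inf_le_left.trans (cor_le _ _))

theorem cor2_sn (M M' : Subgroup G) : SN (cor2 M M') M' :=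
  (SN.of_normal ((cor_le _ _).trans inf_le_right) ((cor_le _ _).trans (inf_le_left.trans
    (le_norm_cor _ _)))).trans (.of_normal (cor_le_left _ _) (le_norm_cor _ _))

theorem relIndex_cor2_dvd {d : ℕ} (h1 : (M ⊓ M').relIndex M = d) (h2 : (M ⊓ M').relIndex M' = d) :
    (cor2 M M').relIndex M ∣ d.factorial * (d - 1).factorial ^ d := by
  rw [← relIndex_mul_relIndex (cor2 M M') (cor M (M ⊓ M')) M ((cor_le _ _).trans inf_le_left)
    (cor_le_left _ _), mul_comm]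
  refine Nat.mul_dvd_mul (h1 ▸ relIndex_cor_dvd _ _) ?_
  have a := relIndex_cor_dvd' (inf_le_right : M ⊓ M' ≤ M')
  have n : M ⊓ M' ≤ N(cor M' (M ⊓ M')) := inf_le_right.trans (le_norm_cor _ _)
  have l := cor_le M (M ⊓ M')
  have n2 := le_norm_cor M (M ⊓ M')
  replace a := (relIndex_dvd_of_normal n l).trans (h2 ▸ a)
  rw [cor2]
  generalize cor M' (M ⊓ M') = K' at *
  generalize cor M (M ⊓ M') = K at *
  haveI := Fintype.ofFinite (M ⧸ (M ⊓ M').subgroupOf M)
  have b := relIndex_iInf_dvd (L := K) (fun x : M ⧸ (M ⊓ M').subgroupOf M => cj (x.out : G) K')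
    fun x => by rw [← cj_eq_of_norm (n2 x.out.2), ← cj_normalizer]; exact cj_mono _ (l.trans n)
  have c : ∀ x : M ⧸ (M ⊓ M').subgroupOf M, (cj (x.out : G) K').relIndex K = K'.relIndex K :=
    fun x => by conv_lhs => rw [← cj_eq_of_norm (n2 x.out.2), relIndex_cj]
  rw [Finset.prod_congr rfl fun x _ => c x, Finset.prod_const, Finset.card_univ,
    ← Nat.card_eq_fintype_card, ← index, ← relIndex, h1, ← inf_relIndex_right] at b
  refine Dvd.dvd.trans ?_ (b.trans (pow_dvd_pow_of_dvd a d))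
  refine relIndex_dvd_of_le_left _ fun y hy => mem_cor.2 ⟨(l hy.2).1, fun m hm =>
    ⟨CfsgH2.conj_mem_of_mem_normalizer (n2 hm) hy.2, ?_⟩⟩
  have k := mem_cj.1 (mem_iInf.1 hy.1 ((⟨m, hm⟩⁻¹ : M) : M ⧸ (M ⊓ M').subgroupOf M))
  have k2 := (QuotientGroup.eq (s := (M ⊓ M').subgroupOf M)).1
    (QuotientGroup.out_eq' ((⟨m, hm⟩⁻¹ : M) : M ⧸ (M ⊓ M').subgroupOf M))
  have k3 := conj_mem_of_mem_normalizer' (n k2) k
  simp only [coe_subtype, coe_mul, coe_inv] at k3
  rwa [show ∀ o : G, (o⁻¹ * m⁻¹)⁻¹ * (o⁻¹ * y * o) * (o⁻¹ * m⁻¹) = m * y * m⁻¹ from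
    fun o => by group] at k3

theorem tw_setup {Ω : Type*} [MulAction G Ω] [FaithfulSMul G Ω] (h : IsPreprimitive G Ω) {a b : Ω}
    {d : ℕ} (hd : Nat.card (orbit (stabilizer G a) b) = d) (h2 : 2 ≤ d) :
    CjP (stabilizer G a) (stabilizer G b) ∧ (cor2 (stabilizer G a) (stabilizer G b)).relIndex
      (stabilizer G a) ∣ d.factorial * (d - 1).factorial ^ d ∧
      (Nat.card (stabilizer G a) ∣ d.factorial * (d - 1).factorial ^ d ∨
      ∃ p, p.Prime ∧ cor2 (stabilizer G a) (stabilizer G b) ≠ ⊥ ∧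
        IsPGroup p (cor2 (stabilizer G a) (stabilizer G b)) ∧
        fstarOf (stabilizer G a) = pCoreOf p (stabilizer G a)) := by
  obtain ⟨a1, ⟨g, a2⟩, a3⟩ := prim_setup h hd h2
  generalize stabilizer G b = M' at *
  clear hd
  generalize stabilizer G a = M at *
  subst a2
  have a4 := (relIndex_inf_cj g M).trans a3
  have k : CjP M (cj g M) := ⟨a1.prs, (a1.conj g).prs, fun e => by
    rw [← e, inf_idem, relIndex_self] at a3; omega, g, rfl⟩
  have b1 := relIndex_cor2_dvd a3 a4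
  have b2 := relIndex_cor2_dvd (inf_comm M _ ▸ a4) (inf_comm M _ ▸ a3)
  refine ⟨k, b1, ?_⟩
  by_cases e : cor2 M (cj g M) = ⊥
  · rw [e, relIndex_bot_left] at b1
    exact Or.inl b1
  by_cases e' : cor2 (cj g M) M = ⊥
  · rw [e', relIndex_bot_left, card_cj] at b2
    exact Or.inl b2
  obtain ⟨p, p1, p2, -, p3⟩ := k.main (cor_le_left _ _) (le_norm_cor _ _) (cor2_sn _ _) e
    (cor_le_left _ _) (le_norm_cor _ _) (cor2_sn _ _) e'
  exact Or.inr ⟨p, p1, e, p2, p3⟩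

end CfsgH2
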