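import Cfsg.Agent.H2.TW3
import Cfsg.Agent.H9.NPC

/-! Primitive pairs of characteristic `p` are not `p`-stable. -/

set_option autoImplicit false
set_option linter.unusedSectionVars false
set_option linter.style.haveILetI false

namespace CfsgH2

open Subgroup Cfsg CfsgFT MulAction
open CfsgLead (SN)
open scoped commutatorElement Pointwise

universe u

variable {G : Type u} [Group G] [Finite G] {M A B B' D X P : Subgroup G} {g : G} {p : ℕ}
  [hp : Fact p.Prime]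

/-- abelian Sylow `2`-subgroups -/
def Ab2 (M : Subgroup G) : Prop := ∀ S, IsSylowIn 2 S M → S ≤ C(S)

theorem Ab2.cj (h : Ab2 M) (g : G) : Ab2 (cj g M) := fun S s => by
  have := h _ (cj_inv_cj g M ▸ s.cj g⁻¹)
  rwa [← cj_centralizer, cj_le_cj_iff] at this

theorem Ab2.st (h : Ab2 M) (p2 : p ≠ 2) (h1 : P ≤ M) (h2 : M ≤ N(P)) (h3 : IsPGroup p P) (hA : A ≤ M)
    (hc : A ≤ C(A)) (hn : P ≤ N(A)) : ∃ R, A ≤ R ∧ R ≤ M ∧ M ≤ N(R) ∧ resIn p R ≤ C(P) := by
  have s : CfsgH9.PSt p M := CfsgH9.pst_of_not_sec p2 (CfsgH9.not_sec_qd_of_not_sec_sl2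
    (CfsgH9.not_sec_sl2_of_comm p2 fun T => comm_iff.2 ((CfsgH9.le_centralizer_map
    M.subtype_injective).1 (h _ (IsSylowIn.of_sylow_map T)))))
  haveI := normal_subgroupOf h2
  have k := CfsgH9.IsPStableOn.le (s (P.subgroupOf M) h3.comap_subtype) (A := A.subgroupOf M) (by
    rw [← map_eq_bot_iff_of_injective _ M.subtype_injective, map_commutator, map_commutator,
      map_subgroupOf_eq_of_le h1, map_subgroupOf_eq_of_le hA]
    exact comm_eq_bot ((comm_le_right hn).trans hc))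
  refine ⟨((pCore p _).comap (QuotientGroup.mk' C(P.subgroupOf M))).map M.subtype,
    (map_subgroupOf_eq_of_le hA).ge.trans (map_mono (map_le_iff_le_comap.1 k)), map_subtype_le _,
    le_norm_map_subtype _, resIn_le_iff.2 ?_⟩
  rintro _ ⟨x, hx, rfl⟩ c
  have := (QuotientGroup.eq_one_iff x).1 (eq_one_of_mem_pgroup_of_coprime (CfsgH1.isPGroup_pCore p _)
    (mem_comap.1 hx) (c.coprime_dvd_left (by
      rw [coe_subtype, Subgroup.orderOf_coe]; exact orderOf_map_dvd (QuotientGroup.mk' _) x)))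
  exact fun y hy => congrArg Subtype.val (this ⟨y, h1 hy⟩ hy)

theorem Ab2.le_Op (h : Ab2 M) (p2 : p ≠ 2) (c : ChP p M) (hA : A ≤ M) (hc : A ≤ C(A))
    (hn : pCoreOf p M ≤ N(A)) : A ≤ pCoreOf p M := by
  obtain ⟨R, r1, r2, r3, r4⟩ := h.st p2 (Op_le M) (le_norm_Op_self M) (Op_pg M) hA hc hn
  exact r1.trans (CfsgH2.le_Op r2 r3 (pg_of_res_le (Op_pg M) ((le_inf ((resIn_le R).trans r2) r4).trans c)))

theorem PrP.cj (h : PrP A B) (g : G) : PrP (cj g A) (cj g B) := by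
  have k : ∀ {A B : Subgroup G}, (∀ X, X ≠ ⊥ → X ≤ A ⊓ B → A ≤ N(X) → B ⊓ N(X) ≤ A) → ∀ X, X ≠ ⊥ →
      X ≤ CfsgH2.cj g A ⊓ CfsgH2.cj g B → CfsgH2.cj g A ≤ N(X) → CfsgH2.cj g B ⊓ N(X) ≤ CfsgH2.cj g A :=
    fun {A B} h X a b c => by
      obtain ⟨X, rfl⟩ : ∃ Y, CfsgH2.cj g Y = X := ⟨_, cj_cj_inv g X⟩
      rw [← cj_inf, cj_le_cj_iff] at b
      rw [← cj_normalizer, cj_le_cj_iff] at c
      rw [← cj_normalizer, ← cj_inf, cj_le_cj_iff]
      exact h X (fun e => a (cj_eq_bot_iff.2 e)) b c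
  exact ⟨fun e => h.ne (by rw [← cj_inv_cj g A, e, cj_inv_cj]), k h.h1, fun X a b =>
    k h.symm.h1 X a (inf_comm (CfsgH2.cj g A) _ ▸ b)⟩

/-- a primitive pair of characteristic `p` with abelian Sylow `2`-subgroups -/
structure PA (p : ℕ) (A B : Subgroup G) : Prop where
  pp : PrP A B
  c1 : ChP p A
  c2 : ChP p B
  l1 : pCoreOf p A ≤ B
  l2 : pCoreOf p B ≤ A
  a1 : Ab2 A
  a2 : Ab2 B

/-- the join of the neighbouring reduced subgroups -/
def pW (p : ℕ) (A : Subgroup G) : Subgroup G := sSup {X | ∃ B, PA p A B ∧ X = largestPReducedOf p B}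

namespace PA

theorem symm (h : PA p A B) : PA p B A := ⟨h.pp.symm, h.c2, h.c1, h.l2, h.l1, h.a2, h.a1⟩

theorem cj (h : PA p A B) (g : G) : PA p (cj g A) (cj g B) :=
  ⟨h.pp.cj g, h.c1.cj g, h.c2.cj g, Op_cj g A ▸ cj_mono g h.l1, Op_cj g B ▸ cj_mono g h.l2,
    h.a1.cj g, h.a2.cj g⟩

theorem ne_bot (h : PA p A B) : A ≠ ⊥ := fun e => h.pp.ne (by
  by_contra c
  exact h.c2.Op_ne_bot (fun k => c (e.trans k.symm)) (le_bot_iff.1 (h.l2.trans e.le)))

theorem Y_ne (h : PA p A B) : largestPReducedOf p A ≠ ⊥ := YL_ne_bot h.c1 h.ne_bot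

theorem Y_le (h : PA p A B) (p2 : p ≠ 2) : largestPReducedOf p B ≤ pCoreOf p A :=
  h.a1.le_Op p2 h.c1 ((pred_YL B).le_Op.trans h.l2) (pred_YL B).comm (h.l1.trans (pred_YL B).norm)

theorem Y_cent (h : PA p A B) (h' : PA p A B') (p2 : p ≠ 2) :
    largestPReducedOf p B' ≤ C(largestPReducedOf p B) := by
  obtain ⟨R, r1, r2, r3, r4⟩ := h.a2.st p2 (pred_YL B).le (pred_YL B).norm (pred_YL B).pg
    ((h'.Y_le p2).trans h.l1) (pred_YL B').comm ((h.Y_le p2).trans (h'.l1.trans (pred_YL B').norm))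
  exact r1.trans ((pred_YL B).red.normal r2 r3 r4)

theorem le_W (h : PA p A B) : largestPReducedOf p B ≤ pW p A := le_sSup ⟨B, h, rfl⟩

theorem le_Op (h : PA p B D) (p2 : p ≠ 2) (h1 : X ≤ pCoreOf p D) {R : Subgroup G} (r1 : X ≤ R)
    (r2 : R ≤ B) (r3 : B ≤ N(R)) (r4 : resIn p R ≤ C(pW p B)) : X ≤ pCoreOf p B := by
  have nQ := le_norm_Op_self (p := p) B
  have eB := (resIn_le (p := p) R).trans r2
  have eD : resIn p R ≤ D := (le_inf eB (r4.trans ((cent_anti h.le_W).trans (cent_le_norm _)))).trans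
    (h.pp.h2 _ h.symm.Y_ne (le_inf ((h.Y_le p2).trans (Op_le B)) (pred_YL D).le) (pred_YL D).norm)
  have c : ⁅X, resIn p R⁆ ≤ pCoreOf p B := (CfsgH2.le_Op (comm_le_right (r1.trans
    (le_normalizer_resIn R))) (normalizer_commutator_ge_right _ _) ((Op_pg D).to_le
    ((commutator_mono h1 le_rfl).trans (comm_le_left (eD.trans (le_norm_Op_self D)))))).trans
    (Op_le_Op_of_normal eB (le_norm_resIn r3))
  have n : resIn p R ≤ N(X ⊔ pCoreOf p B) := le_norm_of_comm_le (comm_sup_left_le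
    (c.trans le_sup_right) ((comm_le_left (eB.trans nQ)).trans le_sup_right)
    (le_norm_of_le le_sup_left) (le_norm_of_le le_sup_right))
  refine le_sup_left.trans (le_Op_of_sn (((SN.of_normal le_sup_left (sup_le le_normalizer n)).trans
    (sn_of_res_le (p := p) (X := pCoreOf p B ⊔ R) ?_ (sup_le (sup_le (r1.trans le_sup_right) le_sup_left)
    ((resIn_le R).trans le_sup_right)))).trans (.of_normal (sup_le (Op_le B) r2) (nS nQ r3)))
    (pg_sup' ((Op_pg D).to_le h1) (Op_pg B) (r1.trans (r2.trans nQ))))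
  rw [resIn_sup_of_isPGroup (Op_pg B) ((Op_le B).trans r3)]
  exact le_sup_right

end PA

theorem cj_pW (g : G) (A : Subgroup G) : cj g (pW p A) ≤ pW p (cj g A) :=
  cj_le_iff_le_cj_inv.2 (sSup_le (by
    rintro _ ⟨B, h, rfl⟩
    rw [← cj_le_iff_le_cj_inv, ← YL_cj]
    exact (h.cj g).le_W))

theorem pW_le (p2 : p ≠ 2) (A : Subgroup G) : pW p A ≤ pCoreOf p A :=
  sSup_le (by rintro _ ⟨B, h, rfl⟩; exact h.Y_le p2)

theorem pW_comm (p2 : p ≠ 2) (A : Subgroup G) : pW p A ≤ C(pW p A) :=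
  sSup_le (by
    rintro _ ⟨B, h, rfl⟩
    exact cent_symm (sSup_le (by rintro _ ⟨B', h', rfl⟩; exact h.Y_cent h' p2)))

theorem le_norm_pW (A : Subgroup G) : A ≤ N(pW p A) := fun a ha =>
  CfsgH2.mem_normalizer_of_cj_le ((cj_pW a A).trans (by rw [cj_eq_of_mem ha]))

/-- the graph of primitive pairs -/
def paG (p : ℕ) (G : Type u) [Group G] [Finite G] [Fact p.Prime] : SimpleGraph (Subgroup G) where
  Adj := PA p
  symm := ⟨fun _ _ h => h.symm⟩
  loopless := ⟨fun _ h => h.pp.ne rfl⟩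

theorem pW_walk (p2 : p ≠ 2) (n : ℕ) : ∀ (A B : Subgroup G) (w : (paG p G).Walk A B), w.length = n →
    pW p A ≤ pCoreOf p B := by
  induction n with
  | zero => exact fun A B w e => w.eq_of_length_eq_zero e ▸ pW_le p2 A
  | succ n ih =>
    have k : ∀ (A B : Subgroup G) (w : (paG p G).Walk A B), w.length = n + 1 →
        ∃ D, PA p A D ∧ pW p B ≤ pCoreOf p D := fun A B w e => by
      cases w with
      | nil => simp at e
      | cons h w => exact ⟨_, h, ih _ _ w.reverse (by simpa using e)⟩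
    intro A B w e
    obtain ⟨C, c1, c2⟩ := k A B w e
    obtain ⟨D, d1, d2⟩ := k B A w.reverse (by simpa using e)
    obtain ⟨R, r1, r2, r3, r4⟩ := d1.a1.st p2 ((pW_le p2 B).trans (Op_le B)) (le_norm_pW B)
      ((Op_pg B).to_le (pW_le p2 B)) (d2.trans d1.l2) (pW_comm p2 A)
      (c2.trans (c1.l2.trans (le_norm_pW A)))
    exact d1.le_Op p2 d2 r1 r2 r3 r4

theorem PA.false (h : PA p A B) : False := by
  by_cases p2 : p = 2
  · subst p2
    have k : ∀ {A B : Subgroup G}, PA 2 A B → pCoreOf 2 B ≤ pCoreOf 2 A := fun {A B} h => by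
      obtain ⟨S, s1, s2⟩ := IsSylowIn.exists_le (Op_pg B) h.l2
      exact s2.trans ((le_inf s1.le ((h.a1 S s1).trans (cent_anti (Op_le_sylow s1)))).trans h.c1)
    exact h.c1.Op_ne_bot h.ne_bot (h.pp.bot (Op_le A) h.l1 (le_norm_Op_self A)
      (le_antisymm (k h) (k h.symm) ▸ le_norm_Op_self B))
  have r : ∀ g : G, ∀ {X Y : Subgroup G}, (paG p G).Reachable X Y →
      (paG p G).Reachable (CfsgH2.cj g X) (CfsgH2.cj g Y) := fun g _ _ k =>
    k.map (⟨CfsgH2.cj g, fun k => PA.cj k g⟩ : paG p G →g paG p G)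
  have n : ∀ Y, (paG p G).Reachable Y A → Y ≤ N(sSup {X | ∃ Y, (paG p G).Reachable Y A ∧ X = pW p Y}) :=
    fun Y y g hg => CfsgH2.mem_normalizer_of_cj_le (cj_le_iff_le_cj_inv.2 (sSup_le (by
      rintro _ ⟨Z, z, rfl⟩
      refine cj_le_iff_le_cj_inv.1 ((cj_pW g Z).trans (le_sSup ⟨_, ?_, rfl⟩))
      have := r g (z.trans y.symm)
      rw [cj_eq_of_mem hg] at this
      exact this.trans y)))
  have l : sSup {X | ∃ Y, (paG p G).Reachable Y A ∧ X = pW p Y} ≤ pCoreOf p A := sSup_le (by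
    rintro _ ⟨Y, ⟨w⟩, rfl⟩
    exact pW_walk p2 _ _ _ w rfl)
  have z := h.pp.bot (l.trans (Op_le A)) (l.trans h.l1) (n A (.refl _))
    (n B (SimpleGraph.Adj.reachable (G := paG p G) h.symm))
  exact h.symm.Y_ne (le_bot_iff.1 (h.le_W.trans (z ▸ le_sSup ⟨A, .refl _, rfl⟩)))

end CfsgH2
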