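import Cfsg.Agent.H2.JC9
import Cfsg.Agent.H2.SG7
import Cfsg.Agent.H2.StrEmb
import Cfsg.Agent.H8.BSW7

/-! ZC-groups (Kurzweil-Stellmacher 12.4). -/

set_option autoImplicit false
set_option linter.unusedSectionVars false
set_option linter.style.haveILetI false

namespace CfsgH2

open Subgroup Cfsg CfsgFT
open scoped commutatorElement Pointwise

universe u

variable {G : Type u} [Group G] [Finite G] {M P S S' T B E H U V W X Y : Subgroup G} {d g t z z' : G}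

theorem exists_inv (hU : IsPGroup 2 U) (h : U ≠ ⊥) : ∃ u ∈ U, u * u = 1 ∧ u ≠ 1 := by
  obtain ⟨u, h1, h2⟩ := exists_orderOf_eq_prime Nat.prime_two (dvd_card_of_isPGroup hU h)
  exact ⟨u, h1, mul_self_of_orderOf_two h2, fun e => by rw [e, orderOf_one] at h2; omega⟩

theorem cj_WW (g : G) (B : Subgroup G) : cj g (WW 2 B) = WW 2 (cj g B) := by
  have k : ∀ (g : G) (B : Subgroup G), cj g (WW 2 B) ≤ WW 2 (cj g B) := fun g B => by
    rw [cj_le_iff_le_cj_inv]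
    refine WW_le fun b hb h1 => ?_
    rw [← cj_le_iff_le_cj_inv, cj_th]
    exact th_le_WW (conj_mem_cj g hb) (by simpa using h1)
  refine le_antisymm (k g B) ?_
  have := cj_mono g (k g⁻¹ (cj g B))
  rwa [cj_cj_inv, cj_inv_cj] at this

theorem conj_sq (h : t * t = 1) (g : G) : g * t * g⁻¹ * (g * t * g⁻¹) = 1 := by
  rw [← sq, conj_pow, sq, h]; simp

structure ZC (S : Subgroup G) : Prop where
  syl : IsSylowIn 2 S ⊤
  sol : ∀ t : G, t * t = 1 → t ≠ 1 → Group.IsSolvable C1(t)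
  cz : C(Ω₂(S)) ≤ N(S)

theorem card_le_four (hU : IsPGroup 2 U) (h : ¬ 2 ^ 3 ≤ Nat.card U) : Nat.card U ≤ 4 := by
  obtain ⟨k, hk⟩ := IsPGroup.iff_card.1 hU
  rw [hk] at h ⊢
  exact Nat.pow_le_pow_right (by norm_num) (show k ≤ 2 by
    by_contra c; exact h (Nat.pow_le_pow_right (by norm_num) (by omega)))

/-- The conclusion of the reduction theorem. -/
def ZCc (S : Subgroup G) : Prop :=
  (∃ M : Subgroup (pResidual 2 G), IsStronglyEmbedded M) ∨
    (Nat.card (Ω₂(S) ⊓ pResidual 2 G : Subgroup G) = 2 ∧ ∀ h ∈ pResidual 2 G,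
      ∀ z ∈ Ω₂(S) ⊓ pResidual 2 G, h * z * h⁻¹ ∈ S → h * z * h⁻¹ ∈ Ω₂(S)) ∨
    (Nat.card Ω₂(S) = 4 ∧ omegaOne 2 (S ⊓ pResidual 2 G) = Ω₂(S)) ∨
    IsCharacteristicTwoType ↥(pResidual 2 G ⊔ Ω₂(S))

namespace ZC

theorem conj (h : ZC S) (g : G) : ZC (cj g S) :=
  ⟨cj_top g ▸ h.syl.cj g, h.sol, by rw [← cj_oz, ← cj_centralizer, ← cj_normalizer]; exact cj_mono g h.cz⟩

theorem con (h : ZC S) (t2 : t * t = 1) (t1 : t ≠ 1) : IsPConstrained 2 C1(t) :=
  haveI := h.sol t t2 t1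
  CfsgH1.IsPSolvable.isPConstrained CfsgH1.isPSolvable_of_isSolvable

theorem bal (h : ZC S) (t2 : t * t = 1) (d2 : d * d = 1) (d1 : d ≠ 1) (h1 : t ∈ C1(d))
    (h2 : th 2 t ≤ C1(d)) : th 2 t ≤ th 2 d :=
  (le_inf le_rfl h2).trans (th_bal (h.con d2 d1) (pz_of_inv t2) h1)

theorem sf (h : ZC S) (hV : IsElementaryAbelian 2 V) : SF 2 V (th 2) :=
  sf_th hV fun a ha _ b hb b1 => th_bal (h.con ((sq b).symm.trans (hV.2 b hb)) b1)
    (pz_of_inv ((sq a).symm.trans (hV.2 a ha))) (cent_le_cent1 hb (ea_comm hV ha))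

theorem cent_le (h : ZC S) (h1 : ∀ g, cj g Ω₂(S) ≤ S → g ∈ M) (tS : t ∈ S) (t2 : t * t = 1) (t1 : t ≠ 1)
    (h2 : ∀ g, g * t * g⁻¹ ∈ S → th 2 (g * t * g⁻¹) ≤ M) : C1(t) ≤ M := by
  have SM : S ≤ M := fun s hs => h1 s (cj_le_of_norm (le_normalizer hs) (oz_le S))
  obtain ⟨T, hT, l⟩ := IsSylowIn.exists_le
    (h.syl.pgroup.to_le inf_le_left : IsPGroup 2 (S ⊓ C1(t) : Subgroup G)) inf_le_right
  obtain ⟨g, -, hg⟩ := h.syl.exists_cj_le hT.pgroup le_top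
  have gM : g ∈ M := h1 g ((cj_mono g ((le_inf (oz_le S) ((oz_le_cent S).trans
    (cent_le_cent1 tS))).trans l)).trans hg)
  have hT' : IsSylowIn 2 (cj g T) C1(g * t * g⁻¹) := cj_centralizer_singleton g t ▸ hT.cj g
  have t'S := hg (conj_mem_cj g (l ⟨tS, self_mem_cent1 t⟩))
  have c := chP_quo_of_constrained (h.con (conj_sq t2 g) (by simpa using t1))
  have θM := h2 g t'S
  have ZC := (oz_le_cent (p := 2) S).trans (cent_le_cent1 t'S)
  rw [← cj_le_cj_iff g, cj_centralizer_singleton, cj_eq_of_norm (le_normalizer gM)]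
  have nθ := le_normalizer_Opi {2}ᶜ C1(g * t * g⁻¹)
  have KC := unq_le_of_le_quo nθ (Opi_le _ _) (Op_le (p := 2) _)
  have nK := le_norm_unq nθ (le_norm_Op_self (p := 2) _)
  have ZK : Ω₂(S) ≤ _ := (quo_le_iff (ZC.trans nθ)).1 (le_trans (le_inf (quo_mono ZC)
    ((quo_le_cent ((oz_le_cent S).trans (cent_anti hg))).trans
      (cent_anti (Op_le_sylow (sylow_quo hT' nθ))))) c)
  have sK := hT'.inf_of_normalizer' KC nK
  have KM := ((quo_le_quo_iff (KC.trans nθ) (inf_le_right.trans (KC.trans nθ))).1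
    ((sylow_quo sK (KC.trans nθ)).eq_of_isPGroup (by rw [quo_unq]; exact Op_pg _)).ge).trans
    (sup_le θM (inf_le_left.trans (hg.trans SM)))
  intro x hx
  obtain ⟨k, k1, k2⟩ := sK.exists_cj_le (IsPGroup_cj (ea_isPGroup (oz_ea S)) x) (cj_le_of_norm (nK hx) ZK)
  rw [cj_cj] at k2
  exact (M.mul_mem_cancel_left (KM k1)).1 (h1 _ (k2.trans (inf_le_left.trans hg)))

theorem se (h : ZC S) (h1 : ∀ g, cj g Ω₂(S) ≤ S → g ∈ M) [H.Normal]
    (h2 : ∀ t ∈ S ⊓ H, t * t = 1 → t ≠ 1 → th 2 t ≤ M) (ht : orderOf t = 2) (tH : t ∈ H) (tM : t ∈ M)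
    (hg : g * t * g⁻¹ ∈ M) : g ∈ M := by
  have SM : S ≤ M := fun s hs => h1 s (cj_le_of_norm (le_normalizer hs) (oz_le S))
  have s := h.syl.mono SM le_top
  obtain ⟨m, m1, m2⟩ := exists_conj_mem_sylowIn s tM (k := 1) ht
  obtain ⟨n, n1, n2⟩ := exists_conj_mem_sylowIn s hg (k := 1) (by rw [orderOf_conj', ht, pow_one])
  have t2 := mul_self_of_orderOf_two ht
  have t1 : t ≠ 1 := fun e => by rw [e, orderOf_one] at ht; omega
  have c := h.cent_le h1 n2 (conj_sq (conj_sq t2 g) n) (by simpa using t1) fun x hx =>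
    h2 _ ⟨hx, Normal.conj_mem ‹_› _ (Normal.conj_mem ‹_› _ (Normal.conj_mem ‹_› _ tH g) n) x⟩
      (conj_sq (conj_sq (conj_sq t2 g) n) x) (by simpa using t1)
  have e : n * (g * t * g⁻¹) * n⁻¹ = n * g * m⁻¹ * (m * t * m⁻¹) * (n * g * m⁻¹)⁻¹ := by group
  rw [e, ← cj_centralizer_singleton] at c
  obtain ⟨k, k1, k2⟩ := s.exists_cj_le (IsPGroup_cj (ea_isPGroup (oz_ea S)) _)
    ((cj_mono _ ((oz_le_cent S).trans (cent_le_cent1 m2))).trans c)
  rw [cj_cj] at k2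
  simpa [M.mul_mem_cancel_left k1, M.mul_mem_cancel_right (M.inv_mem m1), M.mul_mem_cancel_left n1]
    using h1 _ k2

theorem R_ne (h : ZC S) (e : Even (Nat.card G)) (o' : pPrimeCore 2 G = ⊥) (o : pCore 2 G = ⊥) :
    S ⊓ pResidual 2 G ≠ ⊥ := fun c => by
  have s := h.syl.inf_of_normalizer' (N := pResidual 2 G) le_top
    (by rw [← resIn_top]; exact le_normalizer_resIn ⊤)
  have a := le_Opi le_top (by rw [← resIn_top]; exact le_normalizer_resIn ⊤)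
    (isPi_compl_singleton_iff.2 (s.eq_bot_iff.1 c))
  rw [Opi_top, CfsgH1.piCore_compl_singleton Nat.prime_two, o', ← resIn_top, le_bot_iff,
    resIn_eq_bot_iff] at a
  have b := CfsgH2.le_Op le_rfl le_normalizer a
  rw [Op_top, o, le_bot_iff] at b
  rw [← card_top, b, card_bot] at e
  exact absurd e (by decide)

theorem G0_norm (h : ZC S) : ⊤ ≤ N(pResidual 2 G ⊔ Ω₂(S)) :=
  le_of_sylow_res h.syl (nS (le_top.trans (normalizer_eq_top _).ge) (le_norm_oz le_normalizer))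
    (resIn_top.le.trans (le_sup_left.trans le_normalizer))

theorem concl (h : ZC S) (e : Even (Nat.card G)) (o' : pPrimeCore 2 G = ⊥) (o : pCore 2 G = ⊥)
    (W0 : Odd (Nat.card W)) (h1 : ∀ g, cj g Ω₂(S) ≤ S → g ∈ N(W))
    (h2 : ∀ t ∈ S ⊓ (pResidual 2 G ⊔ Ω₂(S)), t * t = 1 → t ≠ 1 → th 2 t ≤ W) :
    (∃ M : Subgroup (pResidual 2 G), IsStronglyEmbedded M) ∨
      IsCharacteristicTwoType ↥(pResidual 2 G ⊔ Ω₂(S)) := by
  obtain ⟨u, ⟨uS, uH⟩, u2, u1⟩ := exists_inv (h.syl.pgroup.to_le inf_le_left) (h.R_ne e o' o)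
  have SM : S ≤ N(W) := fun s hs => h1 s (cj_le_of_norm (le_normalizer hs) (oz_le S))
  have ev : ∀ K : Subgroup G, u ∈ K → Even (Nat.card K) := fun K hK =>
    even_iff_two_dvd.2 (orderOf_eq_prime ((sq u).trans u2) u1 ▸ K.orderOf_dvd_natCard hK)
  by_cases c : W = ⊥
  · refine Or.inr ⟨ev _ (mem_sup_left uH), fun T hT T0 => chP_iff.2 ?_⟩
    have n := h.G0_norm
    generalize pResidual 2 G ⊔ Ω₂(S) = G₀ at *
    rw [← chP_map_injective G₀.subtype_injective, map_subtype_norm]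
    have T1 := hT.map G₀.subtype
    have T2 := mt (map_eq_bot_iff_of_injective _ G₀.subtype_injective).1 T0
    have T3 := map_subtype_le T
    generalize T.map G₀.subtype = T at *
    obtain ⟨t, ⟨t3, t4⟩, t2, t1⟩ := exists_inv (T1.to_le (inf_le_left : Z(T) ≤ T))
      (inf_cent_ne_bot_of_pgroup T1 T1 le_normalizer T2)
    obtain ⟨g, -, hg⟩ := exists_conj_mem_sylowIn h.syl (mem_top t) (k := 1)
      (orderOf_eq_prime (p := 2) ((sq t).trans t2) t1)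
    have a := h2 _ ⟨hg, CfsgH2.conj_mem_of_mem_normalizer (n (mem_top g)) (T3 t3)⟩ (conj_sq t2 g)
      (by simpa using t1)
    rw [c, ← cj_th, le_bot_iff, cj_eq_bot_iff, th, Opi_compl_singleton_eq,
      map_eq_bot_iff_of_injective _ (subtype_injective _)] at a
    have b := (chP_of_constrained (h.con t2 t1) a).inf_cent T1 (le_cent1_iff.2 t4)
    rw [inf_eq_right.2 (cent_le_cent1 t3), ← top_inf_eq C(T)] at b
    exact (b.norm_of_cent T1 le_top).of_normal (le_inf le_top inf_le_right)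
      (nI (inf_le_left.trans n) (inf_le_right.trans le_normalizer))
  · refine Or.inl ⟨N(W).subgroupOf _, se_iff.2 ⟨fun k => c ?_, ?_, fun t g ht tM hg => ?_⟩⟩
    · have a := le_Opi le_top (le_of_sylow_res h.syl SM (resIn_top.le.trans (subgroupOf_eq_top.1 k)))
        (isPi_compl_singleton_iff.2 W0.not_two_dvd_nat)
      rwa [Opi_top, CfsgH1.piCore_compl_singleton Nat.prime_two, o', le_bot_iff] at a
    · rw [← inf_subgroupOf_right, Nat.card_congr (subgroupOfEquivOfLe inf_le_right).toEquiv]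
      exact ev _ ⟨SM uS, uH⟩
    · exact h.se h1 (fun t ht t2 t1 => (h2 t ⟨ht.1, mem_sup_left ht.2⟩ t2 t1).trans le_normalizer)
        ((orderOf_coe t).trans ht) t.2 tM hg

theorem WW_big (h : ZC S) (h4 : 2 ^ 2 ≤ Nat.card Ω₂(S)) (hB : IsElementaryAbelian 2 B) (BS : B ≤ S)
    (B4 : 2 ^ 2 ≤ Nat.card B) : WW 2 B = WW 2 Ω₂(S) := by
  have e := ea_sup hB (oz_ea S) ((oz_le_cent S).trans (cent_anti BS))
  by_cases c : 2 ^ 3 ≤ Nat.card (B ⊔ Ω₂(S) : Subgroup G)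
  · rw [WW_eq (h.sf e) c le_sup_left B4, WW_eq (h.sf e) c le_sup_right h4]
  · have := card_le_four (ea_pgroup e) c
    rw [eq_of_le_of_card_le le_sup_left (this.trans B4), ← eq_of_le_of_card_le le_sup_right (this.trans h4)]

theorem big (h : ZC S) (e : Even (Nat.card G)) (o' : pPrimeCore 2 G = ⊥) (o : pCore 2 G = ⊥)
    (h4 : 2 ^ 2 ≤ Nat.card Ω₂(S)) : ZCc S := by
  have k : ∀ t, t ∈ S → t * t = 1 → IsElementaryAbelian 2 (Ω₂(S) ⊔ zpowers t) ∧ Ω₂(S) ⊔ zpowers t ≤ S :=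
    fun t tS t2 => ⟨ea_sup_zpowers (oz_ea S) (le_cent_oz S tS) ((sq t).trans t2),
      sup_le (oz_le S) (zpowers_le.2 tS)⟩
  by_cases c : ∃ E ≤ S, IsElementaryAbelian 2 E ∧ 2 ^ 3 ≤ Nat.card E
  · obtain ⟨E, ES, hE, E8⟩ := c
    refine (h.concl e o' o (W := WW 2 Ω₂(S)) ?_ (fun g hg => ?_) fun t ht t2 t1 => ?_).imp_right
      fun a => Or.inr (Or.inr a)
    · rw [← h.WW_big h4 hE ES (le_trans (by norm_num) E8)]
      exact odd_of_fam (fam_WW (h.sf hE) E8)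
    · rw [← cj_eq_iff_mem_normalizer, cj_WW, h.WW_big h4 (ea_cj (oz_ea S) g) hg ((card_cj g _).symm ▸ h4)]
    · rw [← h.WW_big h4 (k t ht.1 t2).1 (k t ht.1 t2).2 (h4.trans (card_le_of_le le_sup_left))]
      exact th_le_WW (mem_sup_right (mem_zpowers t)) t1
  push Not at c
  have Z4 := card_le_four (ea_pgroup (oz_ea S)) (c _ (oz_le S) (oz_ea S)).not_ge
  have k' : ∀ t, t ∈ S → t * t = 1 → t ∈ Ω₂(S) := fun t tS t2 =>
    (eq_of_le_of_card_le le_sup_left ((card_le_four (ea_pgroup (k t tS t2).1)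
      (c _ (k t tS t2).2 (k t tS t2).1).not_ge).trans h4)).ge (mem_sup_right (mem_zpowers t))
  by_cases d : Ω₂(S) ≤ pResidual 2 G
  · exact Or.inr (Or.inr (Or.inl ⟨le_antisymm Z4 h4, le_antisymm
      (omegaOne_le_iff.2 fun x hx x2 => k' x hx.1 ((sq x).symm.trans x2))
      fun x hx => mem_omegaOne ⟨oz_le S hx, d hx⟩ ((oz_ea S).2 x hx)⟩))
  · obtain ⟨u, ⟨uS, uH⟩, u2, u1⟩ := exists_inv (h.syl.pgroup.to_le inf_le_left) (h.R_ne e o' o)
    refine Or.inr (Or.inl ⟨?_, fun g _ z hz gz => k' _ gz (conj_sq ((sq z).symm.trans ((oz_ea S).2 z hz.1)) g)⟩)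
    have l : Ω₂(S) ⊓ pResidual 2 G < Ω₂(S) := inf_lt_left.2 d
    have := card_lt_of_lt l
    rcases pow_two_cases ((ea_pgroup (oz_ea S)).to_le l.le) (by omega) with a | a | a
    · exact absurd (a.le ⟨k' u uS u2, uH⟩) u1
    · exact a
    · omega

end ZC

end CfsgH2
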