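import Cfsg.Agent.H2.ZC1

/-! ZC-groups with a centre of order two. -/

set_option autoImplicit false
set_option linter.unusedSectionVars false
set_option linter.style.haveILetI false

namespace CfsgH2

open Subgroup Cfsg CfsgFT
open scoped commutatorElement Pointwise

universe u

variable {G : Type u} [Group G] [Finite G] {M P S S' T B E H U V W X Y : Subgroup G} {d g t v z z' : G}

structure ZC2 (S : Subgroup G) (z : G) : Prop extends ZC S where
  z2 : z * z = 1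
  z1 : z ≠ 1
  eq : Ω₂(S) = zpowers z

def Gd (t : G) : Prop := ∀ T : Subgroup G, IsPGroup 2 T → T ≤ C1(t) → th 2 t ≤ C(T)

theorem Gd.of_conj (h : Gd (g * t * g⁻¹)) : Gd t := fun T hT l => by
  have := h _ (IsPGroup_cj hT g) (cj_centralizer_singleton g t ▸ cj_mono g l)
  rwa [← cj_th, ← cj_centralizer, cj_le_cj_iff] at this

theorem Gd.conj (h : Gd t) (g : G) : Gd (g * t * g⁻¹) :=
  Gd.of_conj (g := g⁻¹) (by simpa [mul_assoc] using h)

theorem nd_th (t : G) : ¬ 2 ∣ Nat.card (th 2 t) := isPi_compl_singleton_iff.1 (isPi_Opi _ _)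

theorem n_th (t : G) : C1(t) ≤ N(th 2 t) := le_normalizer_Opi _ _

namespace ZC2

theorem conj (h : ZC2 S z) (g : G) : ZC2 (cj g S) (g * z * g⁻¹) :=
  ⟨h.toZC.conj g, conj_sq h.z2 g, by simpa using h.z1, by
    rw [← cj_centralizer, ← cj_inf, ← cj_zpowers, ← h.eq, cj_oz, cj_inf, cj_centralizer]⟩

theorem zS (h : ZC2 S z) : z ∈ S := oz_le S (h.eq.ge (mem_zpowers z))

theorem zC (h : ZC2 S z) : z ∈ C(S) := oz_le_cent S (h.eq.ge (mem_zpowers z))

theorem le_C (h : ZC2 S z) : S ≤ C1(z) := le_cent1_iff.2 h.zC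

theorem uniq (h : ZC2 S z) (tS : t ∈ S) (tC : t ∈ C(S)) (t2 : t * t = 1) (t1 : t ≠ 1) : t = z :=
  ((mem_zpowers_of_mul_self h.z2).1 (h.eq.le (mem_oz.2 ⟨⟨tS, tC⟩, (sq t).trans t2⟩))).resolve_left t1

theorem mem_of (h : ZC2 S z) (l : X ≤ S) (n : S ≤ N(X)) (X0 : X ≠ ⊥) : z ∈ X := by
  have p := h.syl.pgroup.to_le l
  obtain ⟨t, ⟨a, b⟩, t2, t1⟩ := exists_inv (p.to_le inf_le_left)
    (inf_cent_ne_bot_of_pgroup h.syl.pgroup p n X0)
  exact h.uniq (l a) b t2 t1 ▸ a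

theorem C_le (h : ZC2 S z) : C1(z) ≤ N(S) := by
  have := h.cz
  rwa [h.eq, cent_zpowers] at this

theorem le_S (h : ZC2 S z) (hP : IsPGroup 2 P) (l : P ≤ C1(z)) : P ≤ S :=
  h.syl.le_of_le_normalizer hP le_top (l.trans h.C_le)

theorem b2 (h : ZC2 S z) (hP : IsPGroup 2 P) (l : P ≤ C1(z)) (hY : ¬ 2 ∣ Nat.card Y) (n : P ≤ N(Y)) :
    Y ⊓ C1(z) ≤ C(P) := by
  rw [← commutator_eq_bot_iff_le_centralizer, eq_bot_iff, ← inf_eq_bot_of_coprime'
    (coprime_pgroup_p' h.syl.pgroup (isPi_compl_singleton_iff.2 hY))]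
  exact le_inf ((commutator_mono le_rfl (h.le_S hP l)).trans (comm_le_right (inf_le_right.trans h.C_le)))
    ((commutator_mono inf_le_left le_rfl).trans (comm_le_left n))

theorem gd (h : ZC2 S d) (t2 : t * t = 1) (h1 : d ∈ C1(t)) (h2 : th 2 t ≤ C1(d)) : Gd t := fun T hT l => by
  obtain ⟨T₀, s, l0⟩ := IsSylowIn.exists_le (pz_of_inv h.z2) (zpowers_le.2 h1)
  have tT : t ∈ T₀ := s.le_of_normalizer (pz_of_inv t2) (zpowers_le.2 (self_mem_cent1 t))
    (cent1_le_norm_zpowers t) (mem_zpowers t)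
  obtain ⟨g, -, hg⟩ := h.syl.exists_cj_le s.pgroup le_top
  rw [cj_le_iff_le_cj_inv] at hg
  have h' := h.conj g⁻¹
  generalize g⁻¹ * d * g⁻¹⁻¹ = z at h'
  have zT := hg.trans h'.le_C
  have a := (le_inf le_rfl h2).trans (h.b2 (pz_of_inv h'.z2) (zpowers_le.2 (mem_cent1_symm (zT (l0
    (mem_zpowers d))))) (nd_th t) (zpowers_le.2 (n_th t (mem_cent1_symm (zT tT)))))
  rw [cent_zpowers] at a
  have b := (le_inf le_rfl a).trans (h'.b2 s.pgroup zT (nd_th t) (s.le.trans (n_th t)))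
  obtain ⟨k, k1, k2⟩ := s.exists_cj_le hT l
  have c := b.trans (cent_anti k2)
  rwa [← cj_eq_of_norm (n_th t k1), ← cj_centralizer, cj_le_cj_iff] at c

theorem gdz (h : ZC2 S z) : Gd z := h.gd h.z2 (self_mem_cent1 z) (Opi_le _ _)

theorem transfer (h : ZC2 S z) (l : M ≤ S) (i : M.relIndex S = 2)
    (a : ∀ t ∈ M, t * t = 1 → t ≠ 1 → Gd t) (ht : t ∈ S ⊓ pResidual 2 G) (t2 : t * t = 1) (t1 : t ≠ 1) :
    Gd t := by
  rcases thompson_transfer' h.syl l i (orderOf_two_of t2 t1) ht.1 with ⟨N, _, n2, n3⟩ | ⟨g, hg⟩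
  · exact absurd (pResidual_le_of_index (k := 1) n2 ht.2) n3
  · exact (a _ hg (conj_sq t2 g) (by simpa using t1)).of_conj

theorem mc (h : ZC2 S z) (m : IsMC S) (ht : t ∈ S ⊓ pResidual 2 G) (t2 : t * t = 1) (t1 : t ≠ 1) :
    Gd t := by
  obtain ⟨a, b, k, m, r, m⟩ := m.exists
  refine h.transfer m.zpowers_le m.relIndex (fun t ht t2 t1 => ?_) ht t2 t1
  rw [h.uniq (m.zpowers_le ht) (m.invol_eq_z ht (orderOf_two_of t2 t1) ▸ m.z_central) t2 t1]
  exact h.gdz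

theorem odd_le (h : ZC2 S z) (hg : g * z * g⁻¹ ∈ S) (ne : g * z * g⁻¹ ≠ z) (hX : ¬ 2 ∣ Nat.card X)
    (n : S ≤ N(X)) : X ≤ C1(z) := by
  have h' := h.conj g
  generalize g * z * g⁻¹ = y at *
  have c : Commute z y := (h.zC y hg).symm
  have k := isKleinFour_closure (orderOf_two_of h.z2 h.z1) (orderOf_two_of h'.z2 h'.z1) ne.symm c
  have l : closure {z, y} ≤ S := by
    rw [closure_le]; rintro _ (rfl | rfl)
    exacts [h.zS, hg]
  have a : X ≤ C1(z * y) := by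
    refine le_of_forall_cent1 (fun a ha => mem_cent.2 fun b hb => IsKleinFour_comm k hb ha)
      IsKleinFour.not_isCyclic (l.trans n) (coprime_pgroup_p' (h.syl.pgroup.to_le l)
        (isPi_compl_singleton_iff.2 hX)) fun b hb b1 => ?_
    rcases (mem_closure_of_commute h.z2 h'.z2 c).1 hb with e | e | e | e
    · exact absurd e b1
    · exact e ▸ (h.b2 h.syl.pgroup h.le_C hX n).trans (cent_le_cent1 (mul_mem h.zS hg))
    · intro x hx
      rw [e] at hx
      have := h'.b2 (pz_of_inv h.z2) (zpowers_le.2 (mem_cent1.2 c.symm)) hX (zpowers_le.2 (n h.zS)) hx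
      rw [cent_zpowers] at this
      exact mem_cent1_symm (mul_mem (mem_cent1_symm this) (mem_cent1_symm hx.2))
    · exact e ▸ inf_le_right
  refine le_cent1_iff.2 (h.mem_of inf_le_left (nI le_normalizer (nC n)) fun e => ne ?_).2
  have := e.le ⟨mul_mem h.zS hg, le_cent1_iff.1 a⟩
  rw [mem_bot] at this
  rw [eq_inv_of_mul_eq_one_right this, inv_eq_of_mul_self h.z2]

theorem klein (h : ZC2 S z) (hg : g * z * g⁻¹ ∈ S) (ne : g * z * g⁻¹ ≠ z) (VS : V ≤ S) (n : S ≤ N(V))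
    (k : IsKleinFour V) (ht : t ∈ S ⊓ pResidual 2 G) (t2 : t * t = 1) (t1 : t ≠ 1) : Gd t := by
  obtain ⟨V4, V2⟩ := isKleinFour_iff.1 k
  have zV := h.mem_of VS n fun e => by rw [e, card_bot] at V4; omega
  obtain ⟨v, vV, v1, vz⟩ := exists_of_kleinFour k zV
  have mV := fun x => mem_kleinFour k zV vV h.z1 v1 vz.symm (z := x)
  have eV : IsElementaryAbelian 2 V := ⟨comm_iff.2 fun a ha => mem_cent.2 fun b hb =>
    IsKleinFour_comm k hb ha, fun a ha => (sq a).trans (V2 a ha)⟩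
  have cz : ∀ s ∈ S, s * z * s⁻¹ = z := fun s hs => by rw [h.zC s hs]; group
  have cv : ∀ s ∈ S, s ∉ C1(v) → s * v * s⁻¹ = z * v := fun s hs c => by
    rcases (mV _).1 (CfsgH2.conj_mem_of_mem_normalizer (n hs) vV) with e | e | e | e
    · exact absurd (by simpa using e) v1
    · exact absurd (by simpa using e.trans (cz s hs).symm) vz
    · exact absurd (mem_cent1.2 (mul_inv_eq_iff_eq_mul.1 e).symm) c
    · exact e
  obtain ⟨s, sS, sv⟩ : ∃ s ∈ S, s ∉ C1(v) := by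
    by_contra c
    push Not at c
    exact vz (h.uniq (VS vV) (le_cent1_iff.1 c) (V2 v vV) v1)
  have i : (S ⊓ C1(v)).relIndex S = 2 := by
    refine relIndex_eq_two_iff_exists_notMem_and.2 ⟨s, sS, fun c => sv c.2, fun b hb => ?_⟩
    by_cases c : b ∈ C1(v)
    · exact Or.inr ⟨hb, c⟩
    refine Or.inl ⟨mul_mem hb sS, mem_cent1.2 ?_⟩
    have : b * s * v * (b * s)⁻¹ = v := by
      rw [show b * s * v * (b * s)⁻¹ = b * (s * v * s⁻¹) * b⁻¹ by group, cv s sS sv,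
        show b * (z * v) * b⁻¹ = b * z * b⁻¹ * (b * v * b⁻¹) by group, cz b hb, cv b hb c, ← mul_assoc,
        h.z2, one_mul]
    rw [mul_inv_eq_iff_eq_mul] at this
    exact this.symm
  have CV : S ⊓ C1(v) ≤ C(V) := fun x hx => mem_cent.2 fun a ha => by
    have h1 := (h.zC x hx.1).symm
    have h2 := mem_cent1.1 hx.2
    rcases (mV a).1 ha with e | e | e | e <;> rw [e]
    · simp
    · exact h1
    · exact h2
    · rw [mul_assoc, h2, ← mul_assoc, h1, mul_assoc]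
  by_cases c : ∃ e ∈ S ⊓ C1(v), e * e = 1 ∧ e ∉ V
  · obtain ⟨e, e1, e2, e3⟩ := c
    have q : ∀ e ∈ S ⊓ C1(v), e * e = 1 → e ∉ V → IsElementaryAbelian 2 (V ⊔ zpowers e) ∧
        2 ^ 3 ≤ Nat.card (V ⊔ zpowers e : Subgroup G) := fun e e1 e2 e3 => by
      have a := ea_sup_zpowers eV (CV e1) ((sq e).trans e2)
      refine ⟨a, by_contra fun c => e3 ?_⟩
      exact (eq_of_le_of_card_le le_sup_left ((card_le_four (ea_pgroup a) c).trans V4.ge)).ge
        (mem_sup_right (mem_zpowers e))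
    obtain ⟨q1, q2⟩ := q e e1 e2 e3
    have o := odd_of_fam (fam_WW (h.sf q1) q2)
    rw [← WW_eq (h.sf q1) q2 le_sup_left V4.ge] at o
    have w := h.odd_le hg ne o.not_two_dvd_nat (n.trans (norm_le_norm_WW V))
    refine h.transfer inf_le_left i (fun x hx x2 x1 => h.gd x2 (mem_cent1_symm (h.le_C hx.1))
      (le_trans ?_ w)) ht t2 t1
    by_cases xV : x ∈ V
    · exact th_le_WW xV x1
    · obtain ⟨q1, q2⟩ := q x hx x2 xV
      rw [WW_eq (h.sf q1) q2 le_sup_left V4.ge]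
      exact th_le_WW (mem_sup_right (mem_zpowers x)) x1
  push Not at c
  by_cases gv : Gd v
  · refine h.transfer inf_le_left i (fun x hx x2 x1 => ?_) ht t2 t1
    rcases (mV x).1 (c x hx x2) with e | e | e | e
    · exact absurd e x1
    · exact e ▸ h.gdz
    · exact e ▸ gv
    · exact e ▸ cv s sS sv ▸ gv.conj s
  have nd : ∀ g : G, g * z * g⁻¹ ∈ S ⊓ C1(v) → g * z * g⁻¹ = z := fun g hg => by
    rcases (mV _).1 (c _ hg (conj_sq h.z2 g)) with e | e | e | e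
    · exact absurd (by simpa using e) h.z1
    · exact e
    · exact absurd (e ▸ h.gdz.conj g) gv
    · exact absurd (Gd.of_conj (g := s) (by rw [cv s sS sv, ← e]; exact h.gdz.conj g)) gv
  have h' := h.conj g
  have yv : g * z * g⁻¹ ∉ C1(v) := fun a => ne (nd g ⟨hg, a⟩)
  have C2 : S ⊓ C1(v) ⊓ C1(g * z * g⁻¹) ≤ zpowers z := by
    have inv : ∀ y ∈ S ⊓ C1(v) ⊓ C1(g * z * g⁻¹), y * y = 1 → y ∈ zpowers z := fun y hy y2 => by
      have k : y = v ∨ y = z * v → False := fun e => yv (mem_cent1_symm (by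
        rcases e with e | e
        · exact e ▸ hy.2
        · exact (mul_mem_cancel_left (mem_cent1_symm (h.le_C hg))).1 (e ▸ hy.2)))
      rcases (mV _).1 (c y hy.1 y2) with e | e | e
      · exact e ▸ one_mem _
      · exact e ▸ mem_zpowers z
      · exact (k e).elim
    have stp : ∀ y ∈ S ⊓ C1(v) ⊓ C1(g * z * g⁻¹), y * y ∈ zpowers z → y ∈ zpowers z := fun y hy y2 => by
      rcases (mem_zpowers_of_mul_self h.z2).1 y2 with e | e
      · exact inv y hy e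
      have a := mem_cj.1 (h'.le_S ((h.syl.pgroup.to_le (zpowers_le.2 hy.1.1))) (zpowers_le.2 hy.2)
        (mem_zpowers y))
      have b : g⁻¹ * y * g * (g⁻¹ * y * g) ∈ S ⊓ C1(v) :=
        mul_self_mem_of_index_two (H := (S ⊓ C1(v)).subgroupOf S) i ⟨_, a⟩
      rw [show g⁻¹ * y * g * (g⁻¹ * y * g) = g⁻¹ * (y * y) * g⁻¹⁻¹ by group, e] at b
      refine absurd ?_ ne
      nth_rewrite 1 [← nd _ b]
      group
    intro y hy
    obtain ⟨k, hk⟩ := exists_orderOf_eq_pow h.syl.pgroup hy.1.1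
    have : ∀ k, ∀ y ∈ S ⊓ C1(v) ⊓ C1(g * z * g⁻¹), y ^ 2 ^ k = 1 → y ∈ zpowers z := fun k => by
      induction k with
      | zero => exact fun y _ e => (by simpa using e : y = 1) ▸ one_mem _
      | succ k ih => exact fun y hy e => stp y hy (ih _ (mul_mem hy hy) (by rw [← sq, ← pow_mul, ← pow_succ', e]))
    exact this k y hy (hk ▸ pow_orderOf_eq_one y)
  refine h.mc (CfsgH8.mc_of_cent4 h.syl.pgroup (V4 ▸ card_lt_of_lt (lt_of_le_of_ne VS fun e =>
    yv (cent_le_cent1 vV (ea_comm eV (e.ge hg))))) hg ?_) ht t2 t1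
  have a := card_le_of_le C2
  rw [Nat.card_zpowers, orderOf_two_of h.z2 h.z1] at a
  have b := CfsgH2.card_mul_relIndex (inf_le_inf_right C1(g * z * g⁻¹) (inf_le_left : S ⊓ C1(v) ≤ S))
  have d : (S ⊓ C1(v) ⊓ C1(g * z * g⁻¹)).relIndex (S ⊓ C1(g * z * g⁻¹)) ≤ 2 := by
    rw [← i, show S ⊓ C1(v) ⊓ C1(g * z * g⁻¹) = (S ⊓ C1(v)) ⊓ (S ⊓ C1(g * z * g⁻¹)) by
      rw [inf_inf_inf_comm, inf_idem, inf_assoc], inf_relIndex_right]
    exact relIndex_le_of_le_right inf_le_left (CfsgH2.relIndex_ne_zero _ _)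
  exact b ▸ Nat.mul_le_mul a d

end ZC2

theorem ZC.main (h : ZC S) (e : Even (Nat.card G)) (o' : pPrimeCore 2 G = ⊥) (o : pCore 2 G = ⊥) :
    ZCc S := by
  by_cases h4 : 2 ^ 2 ≤ Nat.card Ω₂(S)
  · exact h.big e o' o h4
  have R0 := h.R_ne e o' o
  obtain ⟨z, zZ, z2, z1⟩ := exists_inv (ea_pgroup (oz_ea (p := 2) S))
    (oz_ne_bot h.syl.pgroup (ne_bot_of_le R0 inf_le_left))
  have Z2 : Nat.card Ω₂(S) = 2 := by
    rcases pow_two_cases (ea_pgroup (oz_ea (p := 2) S)) (by omega) with a | a | a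
    · exact absurd (a.le zZ) z1
    · exact a
    · omega
  have h' : ZC2 S z := ⟨h, z2, z1, (eq_of_le_of_card_le (zpowers_le.2 zZ)
    (by rw [Z2, Nat.card_zpowers, orderOf_two_of z2 z1])).symm⟩
  have zH := (h'.mem_of inf_le_left (nI le_normalizer (le_top.trans (normalizer_eq_top _).ge)) R0).2
  have ZH : Ω₂(S) ≤ pResidual 2 G := h'.eq.le.trans (zpowers_le.2 zH)
  by_cases c : ∀ g : G, g * z * g⁻¹ ∈ S → g * z * g⁻¹ = z
  · refine Or.inr (Or.inl ⟨by rw [inf_eq_left.2 ZH, Z2], fun g _ y hy gy => ?_⟩)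
    rcases (mem_zpowers_of_mul_self z2).1 (h'.eq.le hy.1) with a | a
    · simp [a]
    · rw [a] at gy ⊢
      rwa [c g gy]
  push Not at c
  obtain ⟨g, hg, ne⟩ := c
  have gd : ∀ t ∈ S ⊓ pResidual 2 G, t * t = 1 → t ≠ 1 → Gd t := fun t ht t2 t1 => by
    rcases CfsgH8.klein_or_mc h.syl.pgroup (fun c => ne (h'.uniq hg (comm_iff.1 c hg) (conj_sq z2 g)
      (by simpa using z1))) with m | ⟨V, VS, n, k⟩
    · exact h'.mc m ht t2 t1
    · exact h'.klein hg ne VS n k ht t2 t1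
  refine (h.concl e o' o (W := th 2 z) (Nat.not_even_iff_odd.1 (mt even_iff_two_dvd.1 (nd_th z)))
    (fun g hg => ?_) fun t ht t2 t1 => ?_).imp_right fun a => Or.inr (Or.inr a)
  · have a := hg (conj_mem_cj g zZ)
    rw [← cj_eq_iff_mem_normalizer]
    refine (eq_of_le_of_card_le ?_ (card_cj g _).le).symm
    rw [cj_th]
    exact h.bal z2 (conj_sq z2 g) (by simpa using z1) (mem_cent1_symm (h'.le_C a))
      ((h'.gdz S h.syl.pgroup h'.le_C).trans (cent_le_cent1 a))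
  · rw [sup_eq_left.2 ZH] at ht
    have a := gd t ht t2 t1 _ (pz_of_inv z2) (zpowers_le.2 (mem_cent1_symm (h'.le_C ht.1)))
    rw [cent_zpowers] at a
    exact h.bal t2 z2 z1 (h'.le_C ht.1) a

end CfsgH2
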