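import Cfsg.Agent.H2.ZC2

/-! ZN-groups (Kurzweil-Stellmacher, Chapter 12, Theorem 2). -/

set_option autoImplicit false
set_option linter.unusedSectionVars false
set_option linter.style.haveILetI false

namespace CfsgH2

open Subgroup Cfsg CfsgFT
open scoped commutatorElement Pointwise

universe u

variable {G : Type u} [Group G] [Finite G] {M P S S' T R H : Subgroup G} {d g t v z z' : G}

open Equiv in
theorem s4_local (hT : IsPGroup 2 T) (T0 : T ≠ ⊥) (e : N(T) ≃* Perm (Fin 4)) :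
    IsKleinFour T ∧ C(T) ≤ T := by
  obtain ⟨a, b, d0, d1, d2, d3⟩ : ∃ a b : Perm (Fin 4), (a * a = 1 ∧ b * b = 1 ∧ a ≠ 1 ∧ b ≠ 1 ∧ a ≠ b ∧
      a * b = b * a) ∧ (∀ x : Perm (Fin 4), (∀ g, (x * (g * x * g⁻¹)) ^ 3 = 1 → x * (g * x * g⁻¹) = 1) →
        (x ^ 3 = 1 → x = 1) → x = 1 ∨ x = a ∨ x = b ∨ x = a * b) ∧
      (∀ x, x = a ∨ x = b ∨ x = a * b → (∃ g, g * x * g⁻¹ = a) ∧ ∃ g, g * x * g⁻¹ = b) ∧
      ∀ y, a * y = y * a → b * y = y * b → y = 1 ∨ y = a ∨ y = b ∨ y = a * b :=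
    ⟨swap 0 1 * swap 2 3, swap 0 2 * swap 1 3, by decide, by decide +kernel, by decide +kernel, by decide +kernel⟩
  have cb : ∀ x : N(T), x.1 ∈ T → e x ^ 3 = 1 → e x = 1 := fun x hx h3 => by
    rw [← map_pow, map_eq_one_iff _ e.injective] at h3
    rw [map_eq_one_iff _ e.injective]
    exact Subtype.ext (eq_one_of_mem_pgroup_of_coprime hT hx ((orderOf_coe x).symm ▸
      Nat.Coprime.coprime_dvd_left (orderOf_dvd_of_pow_eq_one h3) (by decide)))
  have k : ∀ x : N(T), x.1 ∈ T → e x = 1 ∨ e x = a ∨ e x = b ∨ e x = a * b := fun x hx =>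
    d1 _ (fun g => by
      obtain ⟨g, rfl⟩ := e.surjective g
      rw [← map_inv, ← map_mul, ← map_mul, ← map_mul]
      exact cb _ (mul_mem hx (CfsgH2.conj_mem_of_mem_normalizer g.2 hx))) (cb x hx)
  obtain ⟨x, hx, x1⟩ := exists_ne_one_of_ne_bot T0
  obtain ⟨⟨g, hg⟩, g', hg'⟩ := d2 _ ((k ⟨x, le_normalizer hx⟩ hx).resolve_left fun c => x1
    (congrArg Subtype.val ((map_eq_one_iff _ e.injective).1 c)))
  obtain ⟨A, rfl⟩ := e.surjective a
  obtain ⟨B, rfl⟩ := e.surjective b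
  obtain ⟨g, rfl⟩ := e.surjective g
  obtain ⟨g', rfl⟩ := e.surjective g'
  simp only [← map_inv, ← map_mul, e.injective.eq_iff, ne_eq, map_eq_one_iff _ e.injective,
    Subtype.ext_iff, Subgroup.coe_mul, Subgroup.coe_one, Subgroup.coe_inv] at d0 hg hg' k
  obtain ⟨a2, b2, a1, b1, ab, c⟩ := d0
  have AT : A.1 ∈ T := hg ▸ CfsgH2.conj_mem_of_mem_normalizer g.2 hx
  have BT : B.1 ∈ T := hg' ▸ CfsgH2.conj_mem_of_mem_normalizer g'.2 hx
  have E : T = closure {A.1, B.1} := le_antisymm (fun y hy => (mem_closure_of_commute a2 b2 c).2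
    (k ⟨y, le_normalizer hy⟩ hy)) (by rw [closure_le]; rintro _ (rfl | rfl) <;> assumption)
  refine ⟨E ▸ isKleinFour_closure (orderOf_two_of a2 a1) (orderOf_two_of b2 b1) ab c, fun y hy => ?_⟩
  have := d3 (e ⟨y, cent_le_norm _ hy⟩) (by rw [← map_mul, ← map_mul]; exact congrArg _ (Subtype.ext (hy _ AT)))
    (by rw [← map_mul, ← map_mul]; exact congrArg _ (Subtype.ext (hy _ BT)))
  simp only [← map_mul, e.injective.eq_iff, map_eq_one_iff _ e.injective,
    Subtype.ext_iff, Subgroup.coe_mul, Subgroup.coe_one] at this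
  exact E.ge ((mem_closure_of_commute a2 b2 c).2 this)

theorem dih_or_qd (hR : IsPGroup 2 R) (k : IsKleinFour T) (l : T ≤ R) (c : R ⊓ C(T) ≤ T) :
    (∃ n : ℕ, 2 ≤ n ∧ Nonempty (R ≃* DihedralGroup n)) ∨ IsQuasiDihedral R := by
  obtain ⟨V4, V2⟩ := isKleinFour_iff.1 k
  rcases l.eq_or_lt with e | e
  · subst e
    exact Or.inl ⟨2, le_rfl, IsKleinFour.nonempty_mulEquiv⟩
  obtain ⟨z, ⟨zR, zC⟩, z1⟩ := exists_ne_one_of_ne_bot (inf_cent_ne_bot_of_pgroup hR hR le_normalizer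
    (bot_lt_iff_ne_bot.1 (lt_of_le_of_lt bot_le e)))
  have zT := c ⟨zR, cent_anti l zC⟩
  obtain ⟨v, vT, v1, vz⟩ := exists_of_kleinFour k zT
  have m := CfsgH8.mc_of_cent4 hR (V4 ▸ card_lt_of_lt e) (l vT) (V4 ▸ card_le_of_le fun x hx =>
    c ⟨hx.1, mem_cent.2 fun a ha => by
      have h1 := (zC x hx.1).symm
      have h2 := mem_cent1.1 hx.2
      rcases (mem_kleinFour k zT vT z1 v1 vz.symm).1 ha with e | e | e | e <;> rw [e]
      · simp
      · exact h1
      · exact h2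
      · rw [mul_assoc, h2, ← mul_assoc, h1, mul_assoc]⟩)
  obtain ⟨a, b, r, m | m | ⟨hr, m⟩⟩ := m
  · exact Or.inl ⟨_, le_trans (by norm_num) (Nat.pow_le_pow_right (by norm_num) (Nat.le_add_left 2 r)),
      m.dihedral⟩
  · obtain ⟨j, hj, -⟩ := m.klein_eq l k
    exact absurd ((m.quat_sq j).symm.trans hj) (ne_one_of_orderOf_two m.orderOf_z)
  · exact Or.inr (m.isQD hr)

theorem zn_struct (e : Even (Nat.card G)) (hN : ∀ L : Subgroup G, IsTwoLocal L → Group.IsSolvable L)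
    (hS : IsSylowIn 2 S ⊤) (cz : C(Ω₂(S)) ≤ N(S)) (o' : pPrimeCore 2 G = ⊥) (o : pCore 2 G = ⊥)
    (ch : IsCharacteristicTwoType ↥(pResidual 2 G ⊔ Ω₂(S))) :
    (∃ M : Subgroup (pResidual 2 G), IsStronglyEmbedded M) ∨
    ((∃ n : ℕ, 2 ≤ n ∧ Nonempty ((S ⊓ pResidual 2 G : Subgroup G) ≃* DihedralGroup n)) ∨
      IsQuasiDihedral (S ⊓ pResidual 2 G : Subgroup G)) := by
  have h : ZC S := ⟨hS, fun t t2 t1 => solv_of_le (hN _ ⟨_, pz_of_inv t2, mt zpowers_eq_bot.1 t1, rfl⟩)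
    (cent1_le_norm_zpowers t), cz⟩
  obtain ⟨u, ⟨uS, uH⟩, u2, u1⟩ := exists_inv (h.syl.pgroup.to_le inf_le_left) (h.R_ne e o' o)
  have n := h.G0_norm
  have l1 : pResidual 2 G ≤ pResidual 2 G ⊔ Ω₂(S) := le_sup_left
  have l2 : Ω₂(S) ≤ pResidual 2 G ⊔ Ω₂(S) := le_sup_right
  generalize pResidual 2 G ⊔ Ω₂(S) = K at *
  have inj := K.subtype_injective
  have zn : ZN K := by
    refine ⟨ch, ?_, fun P => ?_⟩
    · rintro _ ⟨T, T1, T0, rfl⟩
      have := solv_of_le (hN _ ⟨_, T1.map K.subtype, mt (map_eq_bot_iff_of_injective _ inj).1 T0, rfl⟩)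
        ((map_subtype_norm T).le.trans inf_le_right)
      exact Group.isSolvable_of_isSolvable_injective (f := (N(T).equivMapOfInjective _ inj).toMonoidHom)
        (MulEquiv.injective _)
    · have s := IsSylowIn.of_sylow_map P
      obtain ⟨g, -, hg⟩ := hS.exists_cj_le s.pgroup le_top
      rw [cj_le_iff_le_cj_inv] at hg
      have h' := h.conj g⁻¹
      have l3 : Ω₂(cj g⁻¹ S) ≤ K := by
        rw [← cj_centralizer, ← cj_inf, ← cj_eq_of_norm (n (mem_top g⁻¹))]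
        refine le_trans ?_ (cj_mono _ l2)
        rw [cj_oz, cj_inf, cj_centralizer]
      generalize cj g⁻¹ S = S' at *
      have E := s.eq_of_le (h'.syl.pgroup.to_le inf_le_left) (le_inf hg s.le) inf_le_right
      intro x hx
      have a : x.1 ∈ N(S') := h'.cz (mem_cent.2 fun y hy => by
        obtain ⟨⟨y1, y2⟩, y3⟩ := mem_oz.1 hy
        obtain ⟨w, w1, rfl⟩ := E.le ⟨y1, l3 hy⟩
        exact congrArg Subtype.val (hx w (mem_oz.2 ⟨⟨w1, mem_cent.2 fun b hb => Subtype.ext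
          (y2 _ (hg (mem_map_of_mem _ hb)))⟩, Subtype.ext y3⟩)))
      have b : x.1 ∈ K ⊓ N((P : Subgroup K).map K.subtype) := ⟨x.2, E ▸ nI (A := zpowers x.1) (zpowers_le.2 a)
        (zpowers_le.2 (le_normalizer x.2)) (mem_zpowers _)⟩
      rw [← map_subtype_norm] at b
      obtain ⟨w, w1, w2⟩ := b
      exact Subtype.ext w2 ▸ w1
  rcases zn_main zn (Op_eq_bot_iff.1 (le_bot_iff.1
    ((Op_le_Op_of_normal le_top n).trans (Op_top.trans o).le))) with ⟨M, hM⟩ | ⟨M, -, -, ⟨⟨T, T1, T0, rfl⟩, -⟩, -, ⟨f⟩, -⟩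
  · refine Or.inl ⟨M.comap (inclusion l1), se_iff.2 ⟨fun c => hM.1 (eq_top_iff.2 fun g _ => ?_), ?_,
      fun t g ht tM hg => se_mem hM ((orderOf_injective _ (inclusion_injective l1) t).trans ht) tM hg⟩⟩
    · exact se_mem hM (t := ⟨u, l1 uH⟩) ((orderOf_coe _).symm.trans (orderOf_two_of u2 u1))
        (c.ge (x := ⟨u, uH⟩) trivial) (c.ge (x := ⟨_, Normal.conj_mem inferInstance u uH g⟩) trivial)
    · obtain ⟨t, tM, ht⟩ := se_exists_invol hM
      obtain ⟨g, hg⟩ := isConj_iff.1 (se_isConj hM (a := ⟨u, l1 uH⟩)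
        ((orderOf_coe _).symm.trans (orderOf_two_of u2 u1)) ht)
      have tH : t.1 ∈ pResidual 2 G := hg ▸ Normal.conj_mem inferInstance u uH g
      refine even_iff_two_dvd.2 (?_ : 2 ∣ _)
      have o2 : orderOf (⟨t.1, tH⟩ : pResidual 2 G) = 2 :=
        (orderOf_coe _).symm.trans ((orderOf_coe t).trans ht)
      exact o2.symm.dvd.trans (Subgroup.orderOf_dvd_natCard _ tM)
  · obtain ⟨k, c⟩ := s4_local T1 T0 f
    set φ := K.subtype.comp (resIn 2 (⊤ : Subgroup K)).subtype with hφ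
    have i : Function.Injective φ := inj.comp (subtype_injective _)
    have r : φ.range = pResidual 2 G := by
      rw [hφ, MonoidHom.range_comp, range_subtype, resIn_top, map_pResidual, ← resIn_top]
      exact resIn_eq_of_le_of_le (resIn_top.le.trans l1) le_top
    have k' := isKleinFour_of_equiv (T.equivMapOfInjective φ i) k
    have c' : pResidual 2 G ⊓ C(T.map φ) ≤ T.map φ := by
      rintro x ⟨x1, x2⟩
      obtain ⟨y, rfl⟩ := r.ge x1
      exact mem_map_of_mem _ (c (mem_cent.2 fun a ha => i (by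
        rw [map_mul, map_mul]; exact x2 _ (mem_map_of_mem _ ha))))
    have s := hS.inf_of_normalizer' (N := pResidual 2 G) le_top (normalizer_eq_top _).ge
    obtain ⟨g, g1, g2⟩ := s.exists_cj_le (T1.map φ) ((map_le_range _ _).trans r.le)
    refine Or.inr (dih_or_qd s.pgroup (isKleinFour_of_equiv (cjEquiv g _) k') g2 ?_)
    refine le_trans ?_ (cj_mono g c')
    rw [cj_inf, cj_eq_of_mem g1, cj_centralizer]
    exact inf_le_inf_right _ inf_le_right

end CfsgH2
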